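import Mathlib

/-!
# K-151-J (keystone 135512, pack K-151 of helper12, rows S1355 / S1364)

A nilpotent subgroup `N` normalized by `M` has, for each prime `q`, a Sylow `q`-subgroup normalized by `M`.
-/

set_option autoImplicit false
set_option linter.style.haveILetI false

namespace Cfsg.Agent.Lib.Helper85.BG151

/-- K-151-J -/
theorem exists_normal_sylow_of_nilpotent {G : Type*} [Group G] [Finite G] (M N : Subgroup G)
    (hN : M ≤ Subgroup.normalizer (N : Set G)) (hnil : Group.IsNilpotent N) (q : ℕ) (hq : q.Prime) :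
    ∃ S : Subgroup G, S ≤ N ∧ IsPGroup q S ∧ ¬ q ∣ S.relIndex N ∧
      M ≤ Subgroup.normalizer (S : Set G) := by
  haveI : Fact q.Prime := ⟨hq⟩
  obtain ⟨P⟩ : Nonempty (Sylow q ↥N) := inferInstance
  have htfae := (Group.isNilpotent_of_finite_tfae (G := ↥N)).out 0 3
  have hall : ∀ (p : ℕ) (_hp : Fact p.Prime) (P : Sylow p ↥N), (P : Subgroup ↥N).Normal :=
    htfae.mp hnil
  have hPn : (P : Subgroup ↥N).Normal := hall q ⟨hq⟩ P
  haveI := Sylow.unique_of_normal P hPn
  have hconj : ∀ m ∈ M, ∀ h ∈ (P : Subgroup ↥N).map N.subtype,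
      m * h * m⁻¹ ∈ (P : Subgroup ↥N).map N.subtype := by
    intro m hm h hh
    obtain ⟨x, hxP, rfl⟩ := hh
    have hmN := hN hm
    have hxN : m * (x : G) * m⁻¹ ∈ N := (Subgroup.mem_normalizer_iff.mp hmN (x : G)).mp x.2
    have hS' : IsPGroup q
        (((P : Subgroup ↥N).map N.subtype).map (MulAut.conj m).toMonoidHom) :=
      (P.isPGroup'.map N.subtype).map _
    have hT : IsPGroup q
        ((((P : Subgroup ↥N).map N.subtype).map (MulAut.conj m).toMonoidHom).subgroupOf N) :=
      hS'.comap_subtype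
    obtain ⟨Q, hQ⟩ := hT.exists_le_sylow
    have hQP : Q = P := Subsingleton.elim _ _
    rw [hQP] at hQ
    have hmem : (⟨m * (x : G) * m⁻¹, hxN⟩ : ↥N) ∈
        (((P : Subgroup ↥N).map N.subtype).map (MulAut.conj m).toMonoidHom).subgroupOf N := by
      rw [Subgroup.mem_subgroupOf]
      exact ⟨(x : G), ⟨x, hxP, rfl⟩, by simp [MulAut.conj_apply]⟩
    exact ⟨⟨m * (x : G) * m⁻¹, hxN⟩, hQ hmem, rfl⟩
  refine ⟨(P : Subgroup ↥N).map N.subtype, Subgroup.map_subtype_le _, P.isPGroup'.map _, ?_, ?_⟩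
  · have h : ((P : Subgroup ↥N).map N.subtype).relIndex N = (P : Subgroup ↥N).index := by
      rw [Subgroup.relIndex, Subgroup.subgroupOf,
        Subgroup.comap_map_eq_self_of_injective N.subtype_injective]
    rw [h]
    exact P.not_dvd_index
  · intro m hm
    rw [Subgroup.mem_normalizer_iff]
    intro h
    constructor
    · exact hconj m hm h
    · intro hh
      have := hconj m⁻¹ (M.inv_mem hm) _ hh
      simpa [mul_assoc] using this

end Cfsg.Agent.Lib.Helper85.BG151
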