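import Mathlib
import Cfsg.Agent.Lib.Helper83.SecondOrth
import Cfsg.Agent.Lib.Helper83.Decompose
import Cfsg.Agent.Lib.Helper34.GenChar
import Cfsg.Agent.Lib.Helper04.IndFun
import Cfsg.Agent.Lib.Helper84.NormalAction

set_option autoImplicit false

namespace Cfsg.Agent.Lib.Helper85

open scoped ComplexConjugate
open Cfsg Cfsg.Agent.Lib.Helper83

universe u
variable {G : Type u} [Group G]

/-- Conjugate of a function on a normal subgroup: `(conjFun hN χ g) n = χ (g n g⁻¹)`. -/
def conjFun {N : Subgroup G} (hN : N.Normal) (χ : N → ℂ) (g : G) : N → ℂ :=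
  fun n => χ ⟨g * n * g⁻¹, hN.conj_mem n n.2 g⟩

theorem conjFun_apply {N : Subgroup G} (hN : N.Normal) (χ : N → ℂ) (g : G) (n : N) :
    conjFun hN χ g n = χ ⟨g * n * g⁻¹, hN.conj_mem n n.2 g⟩ := rfl

theorem conjFun_eq_comp {N : Subgroup G} (hN : N.Normal) (χ : N → ℂ) (g : G) :
    conjFun hN χ g = fun n => χ ((haveI := hN; MulAut.conjNormal g : MulAut N) n) := by
  funext n
  rfl

theorem isIrrCharacter_conjFun [Finite G] {N : Subgroup G} (hN : N.Normal) {χ : N → ℂ}
    (hχ : IsIrrCharacter N χ) (g : G) : IsIrrCharacter N (conjFun hN χ g) := by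
  have := hN
  rw [conjFun_eq_comp]
  exact Cfsg.Agent.Lib.Helper84.isIrrCharacter_comp_mulEquiv (MulAut.conjNormal g : MulAut N) hχ

/-- The restriction of a class function of `G` to a normal subgroup has the same inner product
with all conjugates of a function. -/
theorem classInner_restrict_conjFun [Fintype G] {N : Subgroup G} [Fintype N] (hN : N.Normal)
    {θ : G → ℂ} (hθ : IsClassFunction G θ) (χ : N → ℂ) (g : G) :
    classInner (fun n : N => θ n) (conjFun hN χ g) = classInner (fun n : N => θ n) χ := by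
  have := hN
  rw [classInner_def, classInner_def]
  congr 1
  apply Fintype.sum_equiv (MulAut.conjNormal g : MulAut N).toEquiv
  intro n
  have h1 : θ ((MulAut.conjNormal g : MulAut N) n : G) = θ n := by
    rw [MulAut.conjNormal_apply]
    exact hθ n g
  change θ n * conj (χ ((MulAut.conjNormal g : MulAut N) n)) =
    θ ((MulAut.conjNormal g : MulAut N) n : G) * conj (χ ((MulAut.conjNormal g : MulAut N) n))
  rw [h1]

/-- Restriction to `N` of the function induced from the normal subgroup `N`. -/
theorem indFun_restrict_normal [Fintype G] {N : Subgroup G} (hN : N.Normal) (χ : N → ℂ) :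
    (fun n : N => indFun N χ n) = (Nat.card N : ℂ)⁻¹ • ∑ x : G, conjFun hN χ x := by
  funext n
  rw [Cfsg.Agent.Lib.Helper04.indFun_apply]
  simp only [Pi.smul_apply, Finset.sum_apply, smul_eq_mul]
  congr 1
  apply Fintype.sum_equiv (Equiv.inv G)
  intro x
  have hx : x⁻¹ * (n : G) * x ∈ N := by
    have := hN.conj_mem n n.2 x⁻¹
    rwa [inv_inv] at this
  rw [Cfsg.Agent.Lib.Helper04.extendByZero_apply_of_mem N χ _ hx]
  simp only [Equiv.inv_apply, conjFun_apply, inv_inv]

/-- Clifford, vanishing part: an irreducible character of `N` that is not conjugate to a given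
constituent `χ` of `θ|_N` is not a constituent of `θ|_N`. -/
theorem clifford_inner_eq_zero [Fintype G] {N : Subgroup G} [Fintype N] (hN : N.Normal)
    {θ : G → ℂ} (hθ : IsIrrCharacter G θ) {χ : N → ℂ} (hχ : IsIrrCharacter N χ)
    (hconst : classInner (fun n : N => θ n) χ ≠ 0) {φ : N → ℂ} (hφ : IsIrrCharacter N φ)
    (hne : ∀ g : G, φ ≠ conjFun hN χ g) : classInner (fun n : N => θ n) φ = 0 := by
  classical
  set F := indFun N χ with hFdef
  have hF : IsCharacter G F := Cfsg.Agent.Lib.Helper34.isCharacter_indFun N (isCharacter_of_irr hχ)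
  have hθc : IsCharacter G θ := isCharacter_of_irr hθ
  have h1 : classInner F θ = classInner χ (fun n : N => θ n) :=
    Cfsg.Agent.Lib.Helper04.frobenius_reciprocity N χ θ (char_isClassFunction hθc)
  have h2 : classInner F θ ≠ 0 := by
    rw [h1, ← classInner_conj_symm]
    simpa using hconst
  obtain ⟨a, ha⟩ := classInner_char_nat hF hθc
  have ha0 : a ≠ 0 := by
    rintro rfl
    rw [Nat.cast_zero] at ha
    exact h2 ha
  have hD : IsCharacter G (F - θ) := by
    apply isCharacter_of_classInner_nat
      (isClassFunction_sub (char_isClassFunction hF) (char_isClassFunction hθc))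
    intro ψ
    rw [classInner_sub_left]
    by_cases hψ : ψ = ⟨θ, hθ⟩
    · subst hψ
      refine ⟨a - 1, ?_⟩
      rw [ha, irr_inner_self ⟨θ, hθ⟩]
      have : 1 ≤ a := Nat.one_le_iff_ne_zero.2 ha0
      push_cast [this]
      ring
    · obtain ⟨b, hb⟩ := classInner_char_nat hF (IrrCharacter_isCharacter ψ)
      refine ⟨b, ?_⟩
      rw [hb, irr_inner_ne (χ := ⟨θ, hθ⟩) (ψ := ψ) (Ne.symm hψ), sub_zero]
  have hDN : IsCharacter N (fun n : N => (F - θ) n) := isCharacter_restrict N hD
  have hθN : IsCharacter N (fun n : N => θ n) := isCharacter_restrict N hθc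
  obtain ⟨c, hc⟩ := classInner_char_nat hDN (isCharacter_of_irr hφ)
  obtain ⟨d, hd⟩ := classInner_char_nat hθN (isCharacter_of_irr hφ)
  have h3 : classInner (fun n : N => F n) φ = 0 := by
    rw [hFdef, indFun_restrict_normal hN χ, classInner_smul_left, classInner_sum_left]
    rw [Finset.sum_eq_zero, mul_zero]
    intro x _
    exact irr_inner_ne (χ := ⟨_, isIrrCharacter_conjFun hN hχ x⟩) (ψ := ⟨φ, hφ⟩)
      (by intro h; exact hne x (congrArg Subtype.val h).symm)
  have h4 : (fun n : N => F n) = (fun n : N => (F - θ) n) + (fun n : N => θ n) := by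
    funext n
    simp
  rw [h4, classInner_add_left, hc, hd] at h3
  rw [hd]
  have h5 : c + d = 0 := by exact_mod_cast h3
  have h6 : d = 0 := by omega
  rw [h6, Nat.cast_zero]

/-- Clifford's theorem, finset form: the restriction of an irreducible character `θ` of `G` to a
normal subgroup `N` is `e` times the sum over the (finite) set of conjugates of a constituent. -/
theorem clifford_finset [Fintype G] {N : Subgroup G} [Fintype N] (hN : N.Normal)
    {θ : G → ℂ} (hθ : IsIrrCharacter G θ) {χ : N → ℂ} (hχ : IsIrrCharacter N χ)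
    (hconst : classInner (fun n : N => θ n) χ ≠ 0) [DecidableEq (N → ℂ)] :
    (fun n : N => θ n) = classInner (fun n : N => θ n) χ •
      ∑ ψ ∈ (Finset.univ.image (fun g : G => conjFun hN χ g)), ψ := by
  classical
  have : Fintype (IrrCharacter N) := Fintype.ofFinite _
  set S : Finset (N → ℂ) := Finset.univ.image (fun g : G => conjFun hN χ g) with hS
  have hθc : IsCharacter G θ := isCharacter_of_irr hθ
  have hθN : IsCharacter N (fun n : N => θ n) := isCharacter_restrict N hθc
  have h1 := classFunction_eq_sum_irr (char_isClassFunction hθN)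
  have h2 : ∀ ψ : IrrCharacter N, classInner (fun n : N => θ n) (ψ : N → ℂ) • (ψ : N → ℂ) =
      if (ψ : N → ℂ) ∈ S then classInner (fun n : N => θ n) χ • (ψ : N → ℂ) else 0 := by
    intro ψ
    split_ifs with hψ
    · rw [hS, Finset.mem_image] at hψ
      obtain ⟨g, -, hg⟩ := hψ
      rw [← hg, classInner_restrict_conjFun hN (char_isClassFunction hθc)]
    · rw [clifford_inner_eq_zero hN hθ hχ hconst ψ.2, zero_smul]
      intro g hg
      apply hψ
      rw [hS, Finset.mem_image]
      exact ⟨g, Finset.mem_univ _, hg.symm⟩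
  refine h1.trans ?_
  simp only [h2]
  rw [← Finset.sum_filter, ← Finset.smul_sum]
  congr 1
  have h3 : S = (Finset.univ.filter (fun ψ : IrrCharacter N => (ψ : N → ℂ) ∈ S)).image
      Subtype.val := by
    ext f
    simp only [Finset.mem_image, Finset.mem_filter, Finset.mem_univ, true_and]
    constructor
    · intro hf
      have hf' := hf
      rw [hS, Finset.mem_image] at hf'
      obtain ⟨g, -, hg⟩ := hf'
      exact ⟨⟨f, hg ▸ isIrrCharacter_conjFun hN hχ g⟩, hf, rfl⟩
    · rintro ⟨ψ, hψ, rfl⟩
      exact hψ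
  conv_rhs => rw [h3]
  rw [Finset.sum_image]
  intro x _ y _ hxy
  exact Subtype.ext hxy

end Cfsg.Agent.Lib.Helper85
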