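import Mathlib
import Cfsg.Agent.Lib.Helper85.Clifford
import Cfsg.Agent.Lib.Helper83.Linear
import Cfsg.Agent.Lib.Helper80.Eigen

set_option autoImplicit false

namespace Cfsg.Agent.Lib.Helper85

open scoped ComplexConjugate
open Cfsg Cfsg.Agent.Lib.Helper83

universe u
variable {G : Type u} [Group G]

/-- The conjugation action of `G` on functions on a normal subgroup:
`(g • f) n = f (g⁻¹ n g)`. -/
@[instance_reducible]
def conjFunAction {N : Subgroup G} (hN : N.Normal) : MulAction G (N → ℂ) where
  smul g f := conjFun hN f g⁻¹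
  one_smul f := by
    funext n
    change conjFun hN f (1 : G)⁻¹ n = f n
    simp [conjFun]
  mul_smul g h f := by
    funext n
    change conjFun hN f (g * h)⁻¹ n = conjFun hN (conjFun hN f h⁻¹) g⁻¹ n
    simp only [conjFun, mul_inv_rev, inv_inv]
    congr 1
    apply Subtype.ext
    simp [mul_assoc]

theorem conjFunAction_smul {N : Subgroup G} (hN : N.Normal) (g : G) (f : N → ℂ) :
    (letI := conjFunAction hN; g • f) = conjFun hN f g⁻¹ := rfl

/-- The number of conjugates of a function on an abelian normal subgroup `N` divides the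
index of `N`. -/
theorem card_conj_orbit_dvd_index [Fintype G] {N : Subgroup G} (hN : N.Normal)
    (hab : ∀ a ∈ N, ∀ b ∈ N, a * b = b * a) (f : N → ℂ) [DecidableEq (N → ℂ)] :
    (Finset.univ.image (fun g : G => conjFun hN f g)).card ∣ N.index := by
  let := conjFunAction hN
  have h1 : ((Finset.univ.image (fun g : G => conjFun hN f g) : Finset (N → ℂ)) : Set (N → ℂ)) =
      MulAction.orbit G f := by
    ext ψ
    simp only [Finset.coe_image, Finset.coe_univ, Set.image_univ, Set.mem_range,
      MulAction.mem_orbit_iff]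
    constructor
    · rintro ⟨g, rfl⟩
      refine ⟨g⁻¹, ?_⟩
      rw [conjFunAction_smul, inv_inv]
    · rintro ⟨g, rfl⟩
      exact ⟨g⁻¹, (conjFunAction_smul hN g f).symm⟩
  have h2 : (Finset.univ.image (fun g : G => conjFun hN f g)).card =
      (MulAction.stabilizer G f).index := by
    rw [MulAction.index_stabilizer, ← h1, Set.ncard_coe_finset]
  rw [h2]
  apply Subgroup.index_dvd_of_le
  intro u hu
  rw [MulAction.mem_stabilizer_iff, conjFunAction_smul]
  funext n
  rw [conjFun_apply]
  congr 1
  apply Subtype.ext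
  change u⁻¹ * (n : G) * u⁻¹⁻¹ = n
  rw [inv_inv, hab _ (N.inv_mem hu) _ n.2, mul_assoc, inv_mul_cancel, mul_one]

/-- A character with nonzero degree has an irreducible constituent. -/
theorem exists_irr_constituent [Fintype G] {θ : G → ℂ} (hθ : IsCharacter G θ) (h1 : θ 1 ≠ 0) :
    ∃ χ : G → ℂ, IsIrrCharacter G χ ∧ classInner θ χ ≠ 0 := by
  classical
  have : Fintype (IrrCharacter G) := Fintype.ofFinite _
  by_contra hcon
  push Not at hcon
  have h := classFunction_eq_sum_irr (char_isClassFunction hθ)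
  have h0 : θ = 0 := by
    rw [h]
    apply Finset.sum_eq_zero
    intro ψ _
    rw [hcon ψ.1 ψ.2, zero_smul]
  exact h1 (by rw [h0]; rfl)

/-- Irreducible characters of an abelian group have degree one. -/
theorem irr_apply_one_of_comm [Finite G] (hab : ∀ a b : G, a * b = b * a) {χ : G → ℂ}
    (hχ : IsIrrCharacter G χ) : χ 1 = 1 := by
  obtain ⟨n, ρ, hirr, rfl⟩ := hχ
  have : IsMulCommutative G := isMulCommutative_iff.mpr hab
  have := hirr
  have := Representation.IsIrreducible.finrank_eq_one_of_isMulCommutative ρ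
  simp only [Representation.char_one, this, Nat.cast_one]

/-- **Nonvanishing on an abelian normal Sylow subgroup.** If `N` is an abelian normal
`p`-subgroup of the finite group `G` of index prime to `p`, then no irreducible character of `G`
vanishes at an element of `N`. -/
theorem irr_apply_ne_zero_of_abelian_normal_sylow [Finite G] (p : ℕ) [Fact p.Prime]
    {N : Subgroup G} (hN : N.Normal) (hNp : IsPGroup p N) (hidx : ¬ p ∣ N.index)
    (hab : ∀ a ∈ N, ∀ b ∈ N, a * b = b * a) {θ : G → ℂ} (hθ : IsIrrCharacter G θ)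
    (v : G) (hv : v ∈ N) : θ v ≠ 0 := by
  classical
  have : Fintype G := Fintype.ofFinite G
  have : Fintype N := Fintype.ofFinite N
  have hθc : IsCharacter G θ := isCharacter_of_irr hθ
  have hθN : IsCharacter N (fun n : N => θ n) := isCharacter_restrict N hθc
  have h1 : (fun n : N => θ n) 1 ≠ 0 := irr_degree_ne_zero ⟨θ, hθ⟩
  obtain ⟨χ, hχ, hconst⟩ := exists_irr_constituent hθN h1
  have hcl := clifford_finset hN hθ hχ hconst
  set S : Finset (N → ℂ) := Finset.univ.image (fun g : G => conjFun hN χ g) with hS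
  have hval := congrFun hcl ⟨v, hv⟩
  simp only [Pi.smul_apply, Finset.sum_apply, smul_eq_mul] at hval
  intro h0
  rw [h0] at hval
  have hsum : ∑ ψ ∈ S, ψ ⟨v, hv⟩ = 0 := by
    rcases mul_eq_zero.1 hval.symm with h | h
    · exact absurd h hconst
    · exact h
  obtain ⟨j, hj⟩ := hNp.exists_card_eq
  have hcomm : ∀ a b : N, a * b = b * a := fun a b => Subtype.ext (hab a a.2 b b.2)
  have hroot : ∀ z ∈ S.val.map (fun ψ : N → ℂ => ψ ⟨v, hv⟩), z ^ (p ^ j) = 1 := by
    intro z hz
    rw [Multiset.mem_map] at hz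
    obtain ⟨ψ, hψ, rfl⟩ := hz
    have hψ' : ψ ∈ S := hψ
    rw [hS, Finset.mem_image] at hψ'
    obtain ⟨g, -, rfl⟩ := hψ'
    have hirr := isIrrCharacter_conjFun hN hχ g
    have hone := irr_apply_one_of_comm hcomm hirr
    have hc := isCharacter_of_irr hirr
    have hpow : (linCharHom hc hone) (⟨v, hv⟩ ^ (p ^ j)) = (linCharHom hc hone ⟨v, hv⟩) ^ (p ^ j) :=
      map_pow _ _ _
    have hvpow : (⟨v, hv⟩ : N) ^ (p ^ j) = 1 := by
      rw [← hj]
      exact pow_card_eq_one'
    rw [hvpow, map_one] at hpow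
    exact hpow.symm
  have hdvd := Cfsg.Agent.Lib.Helper80.dvd_card_of_sum_eq_zero j _ hroot (by
    rw [← hsum]; rfl)
  rw [Multiset.card_map] at hdvd
  exact hidx (hdvd.trans (card_conj_orbit_dvd_index hN hab χ))

end Cfsg.Agent.Lib.Helper85
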