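import Mathlib
import Cfsg.Agent.Lib.Helper85.CliffordAbelian

set_option autoImplicit false

namespace Cfsg.Agent.Lib.Helper85

open scoped ComplexConjugate
open Cfsg Cfsg.Agent.Lib.Helper83

universe u
variable {G : Type u} [Group G]

/-- If the irreducible character `θ` occurs in the character `F`, then `F - θ` is a character. -/
theorem isCharacter_sub_irr [Fintype G] {F θ : G → ℂ} (hF : IsCharacter G F)
    (hθ : IsIrrCharacter G θ) (h : classInner F θ ≠ 0) : IsCharacter G (F - θ) := by
  classical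
  have hθc : IsCharacter G θ := isCharacter_of_irr hθ
  obtain ⟨a, ha⟩ := classInner_char_nat hF hθc
  have ha0 : a ≠ 0 := by
    rintro rfl
    rw [Nat.cast_zero] at ha
    exact h ha
  apply isCharacter_of_classInner_nat
    (isClassFunction_sub (char_isClassFunction hF) (char_isClassFunction hθc))
  intro ψ
  rw [classInner_sub_left]
  by_cases hψ : ψ = ⟨θ, hθ⟩
  · subst hψ
    refine ⟨a - 1, ?_⟩
    rw [ha, irr_inner_self ⟨θ, hθ⟩]
    have : 1 ≤ a := Nat.one_le_iff_ne_zero.2 ha0
    push_cast [this]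
    ring
  · obtain ⟨b, hb⟩ := classInner_char_nat hF (IrrCharacter_isCharacter ψ)
    refine ⟨b, ?_⟩
    rw [hb, irr_inner_ne (χ := ⟨θ, hθ⟩) (ψ := ψ) (Ne.symm hψ), sub_zero]

/-- A character whose degree is `0` is zero. -/
theorem char_eq_zero_of_apply_one {F : G → ℂ} (hF : IsCharacter G F) (h : F 1 = 0) : F = 0 := by
  obtain ⟨n, ρ, rfl⟩ := hF
  rw [rep_char_one] at h
  have hn : n = 0 := by exact_mod_cast h
  subst hn
  funext g
  simp only [Representation.character, Pi.zero_apply]
  have : ρ g = 0 := by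
    ext v i
    exact Fin.elim0 i
  rw [this, map_zero]

/-- The value at `1` of an induced function. -/
theorem indFun_apply_one [Fintype G] (H : Subgroup G) (ψ : H → ℂ) :
    indFun H ψ 1 = (H.index : ℂ) * ψ 1 := by
  rw [Cfsg.Agent.Lib.Helper04.indFun_apply]
  have h1 : ∀ x : G, extendByZero H ψ (x⁻¹ * 1 * x) = ψ 1 := by
    intro x
    rw [mul_one, inv_mul_cancel]
    exact Cfsg.Agent.Lib.Helper04.extendByZero_apply_mem H ψ 1
  simp only [h1, Finset.sum_const, Finset.card_univ, nsmul_eq_mul]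
  have h2 : (Fintype.card G : ℂ) = (Nat.card H : ℂ) * (H.index : ℂ) := by
    rw [← Nat.cast_mul, Subgroup.card_mul_index, Nat.card_eq_fintype_card]
  have h3 : (Nat.card H : ℂ) ≠ 0 := by
    have : Nat.card H ≠ 0 := Nat.card_pos.ne'
    exact_mod_cast this
  rw [h2]
  field_simp

/-- The stabilizer (inertia group) of a function on a normal subgroup under conjugation. -/
def conjStab {N : Subgroup G} (hN : N.Normal) (χ : N → ℂ) : Subgroup G :=
  letI := conjFunAction hN
  MulAction.stabilizer G χ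

theorem mem_conjStab {N : Subgroup G} (hN : N.Normal) (χ : N → ℂ) (g : G) :
    g ∈ conjStab hN χ ↔ conjFun hN χ g = χ := by
  let _ := conjFunAction hN
  constructor
  · intro h
    have h' : g⁻¹ ∈ conjStab hN χ := (conjStab hN χ).inv_mem h
    have := MulAction.mem_stabilizer_iff.mp h'
    rwa [conjFunAction_smul, inv_inv] at this
  · intro h
    have h' : g⁻¹ ∈ conjStab hN χ := by
      apply MulAction.mem_stabilizer_iff.mpr
      rw [conjFunAction_smul, inv_inv]
      exact h
    have := (conjStab hN χ).inv_mem h'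
    rwa [inv_inv] at this

theorem le_conjStab {N : Subgroup G} (hN : N.Normal) {χ : N → ℂ} (hχ : IsClassFunction N χ) :
    N ≤ conjStab hN χ := by
  intro n hn
  rw [mem_conjStab]
  funext m
  rw [conjFun_apply]
  exact hχ m ⟨n, hn⟩

theorem card_conj_orbit_eq_index [Fintype G] {N : Subgroup G} (hN : N.Normal)
    (f : N → ℂ) [DecidableEq (N → ℂ)] :
    (Finset.univ.image (fun g : G => conjFun hN f g)).card = (conjStab hN f).index := by
  let _ := conjFunAction hN
  have h1 : ((Finset.univ.image (fun g : G => conjFun hN f g) : Finset (N → ℂ)) : Set (N → ℂ)) =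
      MulAction.orbit G f := by
    ext ψ
    simp only [Finset.coe_image, Finset.coe_univ, Set.image_univ, Set.mem_range,
      MulAction.mem_orbit_iff]
    constructor
    · rintro ⟨g, rfl⟩
      refine ⟨g⁻¹, ?_⟩
      rw [conjFunAction_smul, inv_inv]
    · rintro ⟨g, rfl⟩
      exact ⟨g⁻¹, (conjFunAction_smul hN g f).symm⟩
  unfold conjStab
  rw [MulAction.index_stabilizer, ← h1, Set.ncard_coe_finset]

/-- Inner products are invariant under transport along a group isomorphism. -/
theorem classInner_comp_mulEquiv {H K : Type*} [Group H] [Group K] [Fintype H] [Fintype K]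
    (e : H ≃* K) (φ ψ : K → ℂ) :
    classInner (fun h => φ (e h)) (fun h => ψ (e h)) = classInner φ ψ := by
  rw [classInner_def, classInner_def, Nat.card_congr e.toEquiv]
  congr 1
  exact Equiv.sum_comp e.toEquiv (fun k => φ k * conj (ψ k))

/-- Relative Clifford: if `N ≤ T`, `N` normal in `G`, the irreducible character `χ` of `N` is
`T`-invariant and occurs in the restriction to `N` of the irreducible character `ψ` of `T`, then
`ψ|_N` is a multiple of `χ`. -/
theorem restrict_eq_smul_of_invariant [Fintype G] {N T : Subgroup G} [Fintype N]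
    (hN : N.Normal) (hNT : N ≤ T) {ψ : T → ℂ} (hψ : IsIrrCharacter T ψ) {χ : N → ℂ}
    (hχ : IsIrrCharacter N χ) (hinv : ∀ t ∈ T, conjFun hN χ t = χ)
    (hconst : classInner (fun n : N => ψ ⟨n, hNT n.2⟩) χ ≠ 0) :
    (fun n : N => ψ ⟨n, hNT n.2⟩) = classInner (fun n : N => ψ ⟨n, hNT n.2⟩) χ • χ := by
  classical
  have : Fintype T := Fintype.ofFinite T
  have : Fintype (N.subgroupOf T) := Fintype.ofFinite _
  have hN' : (N.subgroupOf T).Normal := hN.subgroupOf T
  set ι : N.subgroupOf T ≃* N := Subgroup.subgroupOfEquivOfLe hNT with hι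
  set χ' : N.subgroupOf T → ℂ := fun n' => χ (ι n') with hχ'
  have hχ'irr : IsIrrCharacter (N.subgroupOf T) χ' :=
    Cfsg.Agent.Lib.Helper84.isIrrCharacter_comp_mulEquiv ι hχ
  have hres : (fun n' : N.subgroupOf T => ψ (n' : T)) =
      fun n' => (fun n : N => ψ ⟨n, hNT n.2⟩) (ι n') := by
    funext n'
    rfl
  have hinner : classInner (fun n' : N.subgroupOf T => ψ (n' : T)) χ' =
      classInner (fun n : N => ψ ⟨n, hNT n.2⟩) χ := by
    rw [hres, hχ']
    exact classInner_comp_mulEquiv ι (fun n : N => ψ ⟨n, hNT n.2⟩) χ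
  have hconst' : classInner (fun n' : N.subgroupOf T => ψ (n' : T)) χ' ≠ 0 := by
    rw [hinner]; exact hconst
  have hcl := clifford_finset hN' hψ hχ'irr hconst'
  have hconj : ∀ t : T, conjFun hN' χ' t = χ' := by
    intro t
    funext n'
    have h1 := congrFun (hinv t t.2) (ι n')
    rw [conjFun_apply] at h1 ⊢
    exact h1
  have himage : Finset.univ.image (fun t : T => conjFun hN' χ' t) = {χ'} := by
    ext f
    simp only [Finset.mem_image, Finset.mem_univ, true_and, Finset.mem_singleton, hconj]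
    constructor
    · rintro ⟨_, rfl⟩; rfl
    · rintro rfl; exact ⟨1, rfl⟩
  rw [himage, Finset.sum_singleton, hinner] at hcl
  funext n
  have h2 := congrFun hcl (ι.symm n)
  simp only [Pi.smul_apply, smul_eq_mul, hχ', MulEquiv.apply_symm_apply] at h2
  rw [Pi.smul_apply, smul_eq_mul, ← h2]
  rfl

/-- **Clifford correspondence (existence part).** Let `θ` be an irreducible character of `G`, `N`
a normal subgroup, `χ` an irreducible constituent of `θ|_N` and `T` the stabilizer of `χ`. Then
there is an irreducible character `ψ` of `T` with `ψ|_N` a nonzero multiple of `χ` and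
`θ = ψ^G`. -/
theorem exists_irr_conjStab [Fintype G] {N : Subgroup G} [Fintype N] (hN : N.Normal)
    {θ : G → ℂ} (hθ : IsIrrCharacter G θ) {χ : N → ℂ} (hχ : IsIrrCharacter N χ)
    (hconst : classInner (fun n : N => θ n) χ ≠ 0) :
    ∃ ψ : conjStab hN χ → ℂ, IsIrrCharacter (conjStab hN χ) ψ ∧
      (∃ f : ℂ, f ≠ 0 ∧ (fun n : N => ψ ⟨n,
        le_conjStab hN (char_isClassFunction (isCharacter_of_irr hχ)) n.2⟩) = f • χ) ∧
      θ = indFun (conjStab hN χ) ψ := by
  classical
  set T := conjStab hN χ with hT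
  have hχc := isCharacter_of_irr hχ
  have hNT : N ≤ T := le_conjStab hN (char_isClassFunction hχc)
  have : Fintype T := Fintype.ofFinite T
  have : Fintype (IrrCharacter T) := Fintype.ofFinite _
  have hθc := isCharacter_of_irr hθ
  have hθT : IsCharacter T (fun t : T => θ t) := isCharacter_restrict T hθc
  have hdecomp := char_eq_sum_irrMult hθT
  set a : IrrCharacter T → ℕ := fun ψ' => irrMult (fun t : T => θ t) ψ' with ha
  set r : (T → ℂ) → (N → ℂ) := fun φ n => φ ⟨n, hNT n.2⟩ with hr
  have hrθ : (fun n : N => θ n) = ∑ ψ' : IrrCharacter T, (a ψ' : ℂ) • r ψ'.1 := by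
    funext n
    have := congrFun hdecomp ⟨n, hNT n.2⟩
    simp only [Finset.sum_apply, Pi.smul_apply, smul_eq_mul] at this ⊢
    exact this
  have hf : ∀ ψ' : IrrCharacter T, ∃ m : ℕ, classInner (r ψ'.1) χ = m := fun ψ' =>
    classInner_char_nat
      (isCharacter_comp_hom (Subgroup.inclusion hNT) (IrrCharacter_isCharacter ψ')) hχc
  choose f' hf' using hf
  obtain ⟨e', he'⟩ := classInner_char_nat (isCharacter_restrict N hθc) hχc
  have hsum : (e' : ℂ) = ∑ ψ' : IrrCharacter T, ((a ψ' * f' ψ' : ℕ) : ℂ) := by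
    rw [← he', hrθ, classInner_sum_left]
    apply Finset.sum_congr rfl
    intro ψ' _
    rw [classInner_smul_left, hf']
    push_cast
    rfl
  have hsumN : e' = ∑ ψ' : IrrCharacter T, a ψ' * f' ψ' := by exact_mod_cast hsum
  have he'0 : e' ≠ 0 := by
    rintro rfl
    apply hconst
    rw [he']
    simp
  obtain ⟨ψ, -, hψ0⟩ : ∃ ψ ∈ Finset.univ, a ψ * f' ψ ≠ 0 :=
    Finset.exists_ne_zero_of_sum_ne_zero (hsumN ▸ he'0)
  have haψ : a ψ ≠ 0 := left_ne_zero_of_mul hψ0
  have hfψ : f' ψ ≠ 0 := right_ne_zero_of_mul hψ0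
  have hfe : f' ψ ≤ e' := by
    rw [hsumN]
    calc f' ψ ≤ a ψ * f' ψ := Nat.le_mul_of_pos_left _ (Nat.pos_of_ne_zero haψ)
      _ ≤ _ := Finset.single_le_sum (f := fun ψ' => a ψ' * f' ψ')
          (fun _ _ => Nat.zero_le _) (Finset.mem_univ ψ)
  have hinv : ∀ t ∈ T, conjFun hN χ t = χ := fun t ht => (mem_conjStab hN χ t).mp ht
  have hconstψ : classInner (fun n : N => ψ.1 ⟨n, hNT n.2⟩) χ ≠ 0 := by
    change classInner (r ψ.1) χ ≠ 0
    rw [hf']
    exact_mod_cast hfψ
  have hψN := restrict_eq_smul_of_invariant hN hNT ψ.2 hχ hinv hconstψ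
  have hψN' : (fun n : N => ψ.1 ⟨n, hNT n.2⟩) = (f' ψ : ℂ) • χ := by
    rw [hψN]
    congr 1
    exact hf' ψ
  obtain ⟨c, hc⟩ := char_one_eq_nat hχc
  have hcl := clifford_finset hN hθ hχ hconst
  have hθ1 : θ 1 = (e' : ℂ) * ((T.index : ℂ) * c) := by
    have h0 := congrFun hcl 1
    simp only [Pi.smul_apply, Finset.sum_apply, smul_eq_mul] at h0
    rw [he'] at h0
    have h1 : ∀ φ ∈ Finset.univ.image (fun g : G => conjFun hN χ g), φ 1 = (c : ℂ) := by
      intro φ hφ
      rw [Finset.mem_image] at hφ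
      obtain ⟨g, -, rfl⟩ := hφ
      rw [conjFun_apply, ← hc]
      congr 1
      apply Subtype.ext
      simp
    rw [Finset.sum_congr rfl h1, Finset.sum_const, card_conj_orbit_eq_index, nsmul_eq_mul] at h0
    exact h0
  have hψ1 : ψ.1 1 = (f' ψ : ℂ) * c := by
    have h0 := congrFun hψN' 1
    simp only [Pi.smul_apply, smul_eq_mul] at h0
    rw [hc] at h0
    exact h0
  set F := indFun T ψ.1 with hFdef
  have hF : IsCharacter G F :=
    Cfsg.Agent.Lib.Helper34.isCharacter_indFun T (IrrCharacter_isCharacter ψ)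
  have hFθ : classInner F θ ≠ 0 := by
    rw [hFdef, Cfsg.Agent.Lib.Helper04.frobenius_reciprocity T ψ.1 θ (char_isClassFunction hθc),
      ← classInner_conj_symm, ← irrMult_cast hθT ψ]
    simpa using haψ
  have hD := isCharacter_sub_irr hF hθ hFθ
  obtain ⟨m, hm⟩ := char_one_eq_nat hD
  have hF1 : F 1 = (T.index : ℂ) * ψ.1 1 := indFun_apply_one T ψ.1
  have hnat : T.index * (f' ψ * c) = e' * (T.index * c) + m := by
    have h := hm
    simp only [Pi.sub_apply] at h
    rw [hF1, hψ1, hθ1] at h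
    have h2 : ((T.index : ℂ) * ((f' ψ : ℂ) * c)) = (e' : ℂ) * ((T.index : ℂ) * c) + m := by
      linear_combination h
    exact_mod_cast h2
  have hm0 : m = 0 := by
    have h1 : T.index * (f' ψ * c) ≤ e' * (T.index * c) := by
      calc T.index * (f' ψ * c) = f' ψ * (T.index * c) := by ring
        _ ≤ e' * (T.index * c) := Nat.mul_le_mul_right _ hfe
    omega
  have hzero : F - θ = 0 := char_eq_zero_of_apply_one hD (by rw [hm, hm0]; simp)
  exact ⟨ψ.1, ψ.2, ⟨(f' ψ : ℂ), by exact_mod_cast hfψ, hψN'⟩, (sub_eq_zero.mp hzero).symm⟩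

end Cfsg.Agent.Lib.Helper85
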