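import Mathlib
import Cfsg.Agent.Lib.Helper85.CliffordCorr
import Cfsg.Agent.Lib.Helper83.Quotient

set_option autoImplicit false

/-!
# Gallagher's theorem

If `χ ∈ Irr(G)` restricts irreducibly to the normal subgroup `H`, then the characters `β χ`
(`β ∈ Irr(G/H)`) are irreducible, and every irreducible character of `G` lying over `χ|_H`
is of this form.
-/

namespace Cfsg.Agent.Lib.Helper85

open scoped ComplexConjugate
open Cfsg Cfsg.Agent.Lib.Helper83

universe u
variable {G : Type u} [Group G]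

/-- The function induced from the restriction to a normal subgroup `H` of a class function `χ`
is `[G:H] χ` on `H` and `0` elsewhere. -/
theorem indFun_restrict_apply [Fintype G] {H : Subgroup G} (hH : H.Normal) {χ : G → ℂ}
    (hχ : IsClassFunction G χ) (g : G) [Decidable (g ∈ H)] :
    indFun H (fun h : H => χ h) g = if g ∈ H then (H.index : ℂ) * χ g else 0 := by
  rw [Cfsg.Agent.Lib.Helper04.indFun_apply]
  split_ifs with hg
  · have h1 : ∀ x : G, extendByZero H (fun h : H => χ h) (x⁻¹ * g * x) = χ g := by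
      intro x
      have hx : x⁻¹ * g * x ∈ H := by
        have := hH.conj_mem g hg x⁻¹
        rwa [inv_inv] at this
      rw [Cfsg.Agent.Lib.Helper04.extendByZero_apply_of_mem H _ _ hx]
      have := hχ g x⁻¹
      rwa [inv_inv] at this
    simp only [h1, Finset.sum_const, Finset.card_univ, nsmul_eq_mul]
    have h2 : (Fintype.card G : ℂ) = (Nat.card H : ℂ) * (H.index : ℂ) := by
      rw [← Nat.cast_mul, Subgroup.card_mul_index, Nat.card_eq_fintype_card]
    have h3 : (Nat.card H : ℂ) ≠ 0 := by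
      have : Nat.card H ≠ 0 := Nat.card_pos.ne'
      exact_mod_cast this
    rw [h2]
    field_simp
  · have h1 : ∀ x : G, extendByZero H (fun h : H => χ h) (x⁻¹ * g * x) = 0 := by
      intro x
      apply Cfsg.Agent.Lib.Helper04.extendByZero_apply_not_mem
      intro hx
      apply hg
      have := hH.conj_mem _ hx x
      simpa [mul_assoc] using this
    simp only [h1, Finset.sum_const_zero, mul_zero]

/-- `(χ|_H)^G = Σ_β β(1) (β χ)`, the sum over the irreducible characters of `G ⧸ H`. -/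
theorem indFun_restrict_eq_sum [Fintype G] (H : Subgroup G) [hH : H.Normal] [Fintype (G ⧸ H)]
    [Fintype (IrrCharacter (G ⧸ H))] {χ : G → ℂ} (hχ : IsClassFunction G χ) :
    indFun H (fun h : H => χ h) = ∑ β : IrrCharacter (G ⧸ H),
      ((β : G ⧸ H → ℂ) 1) • (fun g : G => (β : G ⧸ H → ℂ) (QuotientGroup.mk g) * χ g) := by
  classical
  funext g
  rw [indFun_restrict_apply hH hχ g]
  simp only [Finset.sum_apply, Pi.smul_apply, smul_eq_mul]
  have h1 : ∑ β : IrrCharacter (G ⧸ H),
      (β : G ⧸ H → ℂ) 1 * ((β : G ⧸ H → ℂ) (QuotientGroup.mk g) * χ g) =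
      (∑ β : IrrCharacter (G ⧸ H),
        (β : G ⧸ H → ℂ) 1 * (β : G ⧸ H → ℂ) (QuotientGroup.mk g)) * χ g := by
    rw [Finset.sum_mul]
    apply Finset.sum_congr rfl
    intro β _
    ring
  rw [h1, sum_irr_degree_mul (G := G ⧸ H) (QuotientGroup.mk g)]
  have h2 : ((QuotientGroup.mk g : G ⧸ H) = 1) ↔ g ∈ H := QuotientGroup.eq_one_iff g
  by_cases hg : g ∈ H
  · rw [if_pos hg, if_pos (h2.mpr hg)]
    rfl
  · rw [if_neg hg, if_neg (fun h => hg (h2.mp h)), zero_mul]

/-- Gallagher, inner product form: if `χ ∈ Irr(G)` restricts irreducibly to the normal subgroup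
`H`, the characters `β χ` (`β ∈ Irr(G ⧸ H)`) are orthonormal. -/
theorem gallagher_inner [Fintype G] (H : Subgroup G) [hH : H.Normal] [Fintype H] {χ : G → ℂ}
    (hχ : IsIrrCharacter G χ) (hχH : IsIrrCharacter H (fun h : H => χ h))
    (β β' : IrrCharacter (G ⧸ H)) [Decidable (β = β')] :
    classInner (fun g : G => (β : G ⧸ H → ℂ) (QuotientGroup.mk g) * χ g)
      (fun g : G => (β' : G ⧸ H → ℂ) (QuotientGroup.mk g) * χ g) = if β = β' then 1 else 0 := by
  revert β β'
  classical
  have : Fintype (G ⧸ H) := Fintype.ofFinite _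
  have : Fintype (IrrCharacter (G ⧸ H)) := Fintype.ofFinite _
  have hχc : IsCharacter G χ := isCharacter_of_irr hχ
  have hχcl : IsClassFunction G χ := char_isClassFunction hχc
  set ϑ : H → ℂ := fun h : H => χ h with hϑ
  set F : IrrCharacter (G ⧸ H) → G → ℂ :=
    fun β g => (β : G ⧸ H → ℂ) (QuotientGroup.mk g) * χ g with hF
  have hFc : ∀ β, IsCharacter G (F β) := fun β =>
    isCharacter_mul (isCharacter_inflate H (IrrCharacter_isCharacter β)) hχc
  have hb : ∀ β : IrrCharacter (G ⧸ H), ∃ n : ℕ, (β : G ⧸ H → ℂ) 1 = n := fun β =>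
    char_one_eq_nat (IrrCharacter_isCharacter β)
  choose b hb using hb
  have hb0 : ∀ β, b β ≠ 0 := by
    intro β h0
    have := irr_degree_ne_zero β
    rw [hb β, h0, Nat.cast_zero] at this
    exact this rfl
  have hm : ∀ β β' : IrrCharacter (G ⧸ H), ∃ n : ℕ, classInner (F β) (F β') = n := fun β β' =>
    classInner_char_nat (hFc β) (hFc β')
  choose m hm using hm
  have hm0 : ∀ β, m β β ≠ 0 := by
    intro β h0
    have h1 : classInner (F β) (F β) = 0 := by rw [hm, h0, Nat.cast_zero]
    rw [Cfsg.Agent.Lib.Helper34.classInner_self_eq_zero] at h1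
    have h2 : F β 1 = 0 := by rw [h1]; rfl
    simp only [hF, QuotientGroup.mk_one] at h2
    rcases mul_eq_zero.mp h2 with h3 | h3
    · exact irr_degree_ne_zero β h3
    · exact irr_degree_ne_zero ⟨χ, hχ⟩ h3
  have hdec : indFun H ϑ = ∑ β : IrrCharacter (G ⧸ H), (b β : ℂ) • F β := by
    rw [hϑ, indFun_restrict_eq_sum H hχcl]
    apply Finset.sum_congr rfl
    intro β _
    rw [hb β]
  -- the norm of the induced function
  have hnorm : classInner (indFun H ϑ) (indFun H ϑ) = (H.index : ℂ) := by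
    rw [Cfsg.Agent.Lib.Helper34.classInner_indFun_left H ϑ _
      (Cfsg.Agent.Lib.Helper04.indFun_isClassFunction H ϑ)]
    have h1 : (fun h : H => indFun H ϑ h) = (H.index : ℂ) • ϑ := by
      funext h
      rw [hϑ, indFun_restrict_apply hH hχcl, if_pos h.2]
      rfl
    rw [h1, classInner_smul_right, irr_inner_self ⟨ϑ, hχH⟩]
    simp
  have hexp : classInner (indFun H ϑ) (indFun H ϑ) =
      ((∑ β : IrrCharacter (G ⧸ H), ∑ β' : IrrCharacter (G ⧸ H), b β * b β' * m β β' : ℕ) : ℂ) := by
    rw [hdec, classInner_sum_left]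
    push_cast
    apply Finset.sum_congr rfl
    intro β _
    rw [classInner_smul_left, classInner_sum_right, Finset.mul_sum]
    apply Finset.sum_congr rfl
    intro β' _
    rw [classInner_smul_right, hm]
    simp only [Complex.conj_natCast]
    ring
  have hidx : (H.index : ℂ) = ((∑ β : IrrCharacter (G ⧸ H), b β ^ 2 : ℕ) : ℂ) := by
    have := sum_irr_degree_sq (G := G ⧸ H)
    push_cast
    rw [show (H.index : ℂ) = (Nat.card (G ⧸ H) : ℂ) from rfl, ← this]
    apply Finset.sum_congr rfl
    intro β _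
    rw [hb β]
  have hnat : ∑ β : IrrCharacter (G ⧸ H), ∑ β' : IrrCharacter (G ⧸ H), b β * b β' * m β β' =
      ∑ β : IrrCharacter (G ⧸ H), b β ^ 2 := by
    have : ((∑ β : IrrCharacter (G ⧸ H), ∑ β' : IrrCharacter (G ⧸ H), b β * b β' * m β β' : ℕ) : ℂ)
        = ((∑ β : IrrCharacter (G ⧸ H), b β ^ 2 : ℕ) : ℂ) := by
      rw [← hexp, hnorm, hidx]
    exact_mod_cast this
  have hle : ∀ β ∈ (Finset.univ : Finset (IrrCharacter (G ⧸ H))),
      b β ^ 2 ≤ ∑ β' : IrrCharacter (G ⧸ H), b β * b β' * m β β' := by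
    intro β _
    calc b β ^ 2 ≤ b β * b β * m β β := by
          rw [sq]
          exact Nat.le_mul_of_pos_right _ (Nat.pos_of_ne_zero (hm0 β))
      _ ≤ _ := Finset.single_le_sum (f := fun β' => b β * b β' * m β β')
          (fun _ _ => Nat.zero_le _) (Finset.mem_univ β)
  have heq := (Finset.sum_eq_sum_iff_of_le hle).mp hnat.symm
  have hm1 : ∀ β, m β β = 1 := by
    intro β
    have h1 := heq β (Finset.mem_univ β)
    have h2 : b β * b β * m β β ≤ ∑ β' : IrrCharacter (G ⧸ H), b β * b β' * m β β' :=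
      Finset.single_le_sum (f := fun β' => b β * b β' * m β β')
        (fun _ _ => Nat.zero_le _) (Finset.mem_univ β)
    have h3 : b β * b β * m β β ≤ b β * b β * 1 := by
      calc b β * b β * m β β ≤ ∑ β' : IrrCharacter (G ⧸ H), b β * b β' * m β β' := h2
        _ = b β ^ 2 := h1.symm
        _ = b β * b β * 1 := by rw [mul_one, sq]
    have h4 : 0 < b β * b β := Nat.mul_pos (Nat.pos_of_ne_zero (hb0 β)) (Nat.pos_of_ne_zero (hb0 β))
    have h5 := Nat.le_of_mul_le_mul_left h3 h4
    have h6 := Nat.pos_of_ne_zero (hm0 β)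
    omega
  intro β β' _
  by_cases hββ : β = β'
  · subst hββ
    rw [if_pos rfl]
    change classInner (F β) (F β) = 1
    rw [hm, hm1, Nat.cast_one]
  · rw [if_neg hββ]
    change classInner (F β) (F β') = 0
    rw [hm]
    have h1 := heq β (Finset.mem_univ β)
    have h2 : b β * b β * m β β + b β * b β' * m β β' ≤
        ∑ β'' : IrrCharacter (G ⧸ H), b β * b β'' * m β β'' := by
      have hsub : ({β, β'} : Finset (IrrCharacter (G ⧸ H))) ⊆ Finset.univ := Finset.subset_univ _
      have := Finset.sum_le_sum_of_subset (f := fun β'' => b β * b β'' * m β β'') hsub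
      rw [Finset.sum_pair hββ] at this
      exact this
    rw [← h1, hm1, mul_one, sq] at h2
    have h3 : b β * b β' * m β β' = 0 := by omega
    have h4 : m β β' = 0 := by
      rcases Nat.mul_eq_zero.mp h3 with h5 | h5
      · rcases Nat.mul_eq_zero.mp h5 with h6 | h6
        · exact absurd h6 (hb0 β)
        · exact absurd h6 (hb0 β')
      · exact h5
    rw [h4, Nat.cast_zero]

/-- **Gallagher's theorem.** If `χ ∈ Irr(G)` restricts irreducibly to the normal subgroup `H`, then
`β χ` is irreducible for each `β ∈ Irr(G ⧸ H)`, and each irreducible character `ψ` of `G` whose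
restriction to `H` contains `χ|_H` equals some `β χ`. -/
theorem gallagher [Fintype G] (H : Subgroup G) [hH : H.Normal] [Fintype H] {χ : G → ℂ}
    (hχ : IsIrrCharacter G χ) (hχH : IsIrrCharacter H (fun h : H => χ h)) :
    (∀ β : IrrCharacter (G ⧸ H),
      IsIrrCharacter G (fun g : G => (β : G ⧸ H → ℂ) (QuotientGroup.mk g) * χ g)) ∧
    ∀ ψ : G → ℂ, IsIrrCharacter G ψ →
      classInner (fun h : H => ψ h) (fun h : H => χ h) ≠ 0 →
      ∃ β : IrrCharacter (G ⧸ H),
        ψ = fun g : G => (β : G ⧸ H → ℂ) (QuotientGroup.mk g) * χ g := by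
  classical
  have : Fintype (G ⧸ H) := Fintype.ofFinite _
  have : Fintype (IrrCharacter (G ⧸ H)) := Fintype.ofFinite _
  have hχc : IsCharacter G χ := isCharacter_of_irr hχ
  have hχcl : IsClassFunction G χ := char_isClassFunction hχc
  set ϑ : H → ℂ := fun h : H => χ h with hϑ
  set F : IrrCharacter (G ⧸ H) → G → ℂ :=
    fun β g => (β : G ⧸ H → ℂ) (QuotientGroup.mk g) * χ g with hF
  have hFc : ∀ β, IsCharacter G (F β) := fun β =>
    isCharacter_mul (isCharacter_inflate H (IrrCharacter_isCharacter β)) hχc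
  have hb : ∀ β : IrrCharacter (G ⧸ H), ∃ n : ℕ, (β : G ⧸ H → ℂ) 1 = n := fun β =>
    char_one_eq_nat (IrrCharacter_isCharacter β)
  choose b hb using hb
  have hb0 : ∀ β, b β ≠ 0 := by
    intro β h0
    have := irr_degree_ne_zero β
    rw [hb β, h0, Nat.cast_zero] at this
    exact this rfl
  have hm : ∀ β β' : IrrCharacter (G ⧸ H), ∃ n : ℕ, classInner (F β) (F β') = n := fun β β' =>
    classInner_char_nat (hFc β) (hFc β')
  choose m hm using hm
  have hm0 : ∀ β, m β β ≠ 0 := by
    intro β h0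
    have h1 : classInner (F β) (F β) = 0 := by rw [hm, h0, Nat.cast_zero]
    rw [Cfsg.Agent.Lib.Helper34.classInner_self_eq_zero] at h1
    have h2 : F β 1 = 0 := by rw [h1]; rfl
    simp only [hF, QuotientGroup.mk_one] at h2
    rcases mul_eq_zero.mp h2 with h3 | h3
    · exact irr_degree_ne_zero β h3
    · exact irr_degree_ne_zero ⟨χ, hχ⟩ h3
  have hdec : indFun H ϑ = ∑ β : IrrCharacter (G ⧸ H), (b β : ℂ) • F β := by
    rw [hϑ, indFun_restrict_eq_sum H hχcl]
    apply Finset.sum_congr rfl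
    intro β _
    rw [hb β]
  -- the norm of the induced function
  have hnorm : classInner (indFun H ϑ) (indFun H ϑ) = (H.index : ℂ) := by
    rw [Cfsg.Agent.Lib.Helper34.classInner_indFun_left H ϑ _
      (Cfsg.Agent.Lib.Helper04.indFun_isClassFunction H ϑ)]
    have h1 : (fun h : H => indFun H ϑ h) = (H.index : ℂ) • ϑ := by
      funext h
      rw [hϑ, indFun_restrict_apply hH hχcl, if_pos h.2]
      rfl
    rw [h1, classInner_smul_right, irr_inner_self ⟨ϑ, hχH⟩]
    simp
  have hexp : classInner (indFun H ϑ) (indFun H ϑ) =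
      ((∑ β : IrrCharacter (G ⧸ H), ∑ β' : IrrCharacter (G ⧸ H), b β * b β' * m β β' : ℕ) : ℂ) := by
    rw [hdec, classInner_sum_left]
    push_cast
    apply Finset.sum_congr rfl
    intro β _
    rw [classInner_smul_left, classInner_sum_right, Finset.mul_sum]
    apply Finset.sum_congr rfl
    intro β' _
    rw [classInner_smul_right, hm]
    simp only [Complex.conj_natCast]
    ring
  have hidx : (H.index : ℂ) = ((∑ β : IrrCharacter (G ⧸ H), b β ^ 2 : ℕ) : ℂ) := by
    have := sum_irr_degree_sq (G := G ⧸ H)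
    push_cast
    rw [show (H.index : ℂ) = (Nat.card (G ⧸ H) : ℂ) from rfl, ← this]
    apply Finset.sum_congr rfl
    intro β _
    rw [hb β]
  have hnat : ∑ β : IrrCharacter (G ⧸ H), ∑ β' : IrrCharacter (G ⧸ H), b β * b β' * m β β' =
      ∑ β : IrrCharacter (G ⧸ H), b β ^ 2 := by
    have : ((∑ β : IrrCharacter (G ⧸ H), ∑ β' : IrrCharacter (G ⧸ H), b β * b β' * m β β' : ℕ) : ℂ)
        = ((∑ β : IrrCharacter (G ⧸ H), b β ^ 2 : ℕ) : ℂ) := by
      rw [← hexp, hnorm, hidx]
    exact_mod_cast this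
  have hle : ∀ β ∈ (Finset.univ : Finset (IrrCharacter (G ⧸ H))),
      b β ^ 2 ≤ ∑ β' : IrrCharacter (G ⧸ H), b β * b β' * m β β' := by
    intro β _
    calc b β ^ 2 ≤ b β * b β * m β β := by
          rw [sq]
          exact Nat.le_mul_of_pos_right _ (Nat.pos_of_ne_zero (hm0 β))
      _ ≤ _ := Finset.single_le_sum (f := fun β' => b β * b β' * m β β')
          (fun _ _ => Nat.zero_le _) (Finset.mem_univ β)
  have heq := (Finset.sum_eq_sum_iff_of_le hle).mp hnat.symm
  have hm1 : ∀ β, m β β = 1 := by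
    intro β
    have h1 := heq β (Finset.mem_univ β)
    have h2 : b β * b β * m β β ≤ ∑ β' : IrrCharacter (G ⧸ H), b β * b β' * m β β' :=
      Finset.single_le_sum (f := fun β' => b β * b β' * m β β')
        (fun _ _ => Nat.zero_le _) (Finset.mem_univ β)
    have h3 : b β * b β * m β β ≤ b β * b β * 1 := by
      calc b β * b β * m β β ≤ ∑ β' : IrrCharacter (G ⧸ H), b β * b β' * m β β' := h2
        _ = b β ^ 2 := h1.symm
        _ = b β * b β * 1 := by rw [mul_one, sq]
    have h4 : 0 < b β * b β := Nat.mul_pos (Nat.pos_of_ne_zero (hb0 β)) (Nat.pos_of_ne_zero (hb0 β))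
    have h5 := Nat.le_of_mul_le_mul_left h3 h4
    have h6 := Nat.pos_of_ne_zero (hm0 β)
    omega
  have hFirr : ∀ β, IsIrrCharacter G (F β) := by
    intro β
    apply isIrrCharacter_of_norm_one (hFc β)
    rw [hm, hm1, Nat.cast_one]
  refine ⟨hFirr, ?_⟩
  intro ψ hψ hcon
  have hψcl : IsClassFunction G ψ := char_isClassFunction (isCharacter_of_irr hψ)
  have h1 : classInner (indFun H ϑ) ψ ≠ 0 := by
    rw [Cfsg.Agent.Lib.Helper34.classInner_indFun_left H ϑ ψ hψcl, ← classInner_conj_symm]
    simpa using hcon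
  rw [hdec, classInner_sum_left] at h1
  obtain ⟨β, -, hβ⟩ := Finset.exists_ne_zero_of_sum_ne_zero h1
  rw [classInner_smul_left] at hβ
  have h2 : classInner (F β) ψ ≠ 0 := right_ne_zero_of_mul hβ
  refine ⟨β, ?_⟩
  by_contra hne
  apply h2
  exact irr_inner_ne (χ := ⟨F β, hFirr β⟩) (ψ := ⟨ψ, hψ⟩)
    (fun h => hne (congrArg Subtype.val h).symm)

end Cfsg.Agent.Lib.Helper85
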