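import Mathlib
import Cfsg.Agent.Lib.Helper05.CharEquiv
import Cfsg.Agent.Lib.Helper05.CharBasic
import Cfsg.Agent.Lib.Helper84.Schur

set_option autoImplicit false

/-!
# The finite central extension in which an invariant irreducible representation extends

Let `N` be a normal subgroup of the finite group `T` and `Θ` an irreducible complex representation
of `N` on `W` whose character is `T`-invariant. We build the finite group
`liftGroup N Θ = {(t, P) ∈ T × GL(W) | P Θ(n) P⁻¹ = Θ(t n t⁻¹), det(P)^|N| = 1}`. It maps onto `T`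
with central kernel (scalars), contains a copy `n ↦ (n, Θ n)` of `N` as a normal subgroup, and acts
on `W` via `(t, P) ↦ P`, extending `Θ`.
-/

namespace Cfsg.Agent.Lib.Helper85

open Module

universe u v
variable {T : Type u} [Group T] (N : Subgroup T) [hN : N.Normal]
  {W : Type v} [AddCommGroup W] [Module ℂ W] (Θ : Representation ℂ N W)

/-- The lifting group `{(t, P) | P Θ(n) = Θ(t n t⁻¹) P, det(P)^|N| = 1}`. -/
def liftGroup : Subgroup (T × (W ≃ₗ[ℂ] W)) where
  carrier := {γ | (∀ (n : N) (w : W), γ.2 (Θ n w) = Θ (MulAut.conjNormal γ.1 n) (γ.2 w)) ∧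
    (LinearEquiv.det γ.2) ^ (Nat.card N) = 1}
  one_mem' := by
    refine ⟨?_, ?_⟩
    · intro n w
      simp
    · simp
  mul_mem' := by
    rintro ⟨t₁, P₁⟩ ⟨t₂, P₂⟩ ⟨h₁, d₁⟩ ⟨h₂, d₂⟩
    refine ⟨?_, ?_⟩
    · intro n w
      change P₁ (P₂ (Θ n w)) = Θ (MulAut.conjNormal (t₁ * t₂) n) (P₁ (P₂ w))
      rw [h₂ n w, h₁ _ _, map_mul]
      rfl
    · change (LinearEquiv.det (P₁ * P₂)) ^ (Nat.card N) = 1
      rw [map_mul, mul_pow]
      change (LinearEquiv.det P₁) ^ (Nat.card N) = 1 at d₁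
      change (LinearEquiv.det P₂) ^ (Nat.card N) = 1 at d₂
      rw [d₁, d₂, one_mul]
  inv_mem' := by
    rintro ⟨t, P⟩ ⟨h, d⟩
    refine ⟨?_, ?_⟩
    · intro n w
      change P⁻¹ (Θ n w) = Θ (MulAut.conjNormal t⁻¹ n) (P⁻¹ w)
      apply P.injective
      have h' := h (MulAut.conjNormal t⁻¹ n) (P⁻¹ w)
      change P (Θ (MulAut.conjNormal t⁻¹ n) (P⁻¹ w)) =
        Θ (MulAut.conjNormal t (MulAut.conjNormal t⁻¹ n)) (P (P⁻¹ w)) at h'
      rw [h']
      have e1 : P (P⁻¹ (Θ n w)) = Θ n w := P.apply_symm_apply _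
      have e2 : P (P⁻¹ w) = w := P.apply_symm_apply _
      have e3 : MulAut.conjNormal t (MulAut.conjNormal t⁻¹ n) = n := by
        rw [← MulAut.mul_apply, ← map_mul, mul_inv_cancel, map_one]
        rfl
      rw [e1, e2, e3]
    · change (LinearEquiv.det P⁻¹) ^ (Nat.card N) = 1
      change (LinearEquiv.det P) ^ (Nat.card N) = 1 at d
      rw [map_inv, inv_pow, d, inv_one]

theorem mem_liftGroup (γ : T × (W ≃ₗ[ℂ] W)) :
    γ ∈ liftGroup N Θ ↔ (∀ (n : N) (w : W), γ.2 (Θ n w) = Θ (MulAut.conjNormal γ.1 n) (γ.2 w)) ∧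
      (LinearEquiv.det γ.2) ^ (Nat.card N) = 1 := Iff.rfl

/-- The projection of the lifting group onto `T`. -/
def liftProj : liftGroup N Θ →* T := (MonoidHom.fst T _).comp (liftGroup N Θ).subtype

theorem liftProj_apply (γ : liftGroup N Θ) : liftProj N Θ γ = γ.1.1 := rfl

/-- The representation of the lifting group on `W`. -/
def liftRep : Representation ℂ (liftGroup N Θ) W where
  toFun γ := (γ.1.2 : W →ₗ[ℂ] W)
  map_one' := rfl
  map_mul' _ _ := rfl

theorem liftRep_apply (γ : liftGroup N Θ) (w : W) : liftRep N Θ γ w = γ.1.2 w := rfl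

/-- `Θ` as a homomorphism into the group of linear automorphisms. -/
noncomputable def repEquivHom : N →* (W ≃ₗ[ℂ] W) :=
  (LinearMap.GeneralLinearGroup.generalLinearEquiv ℂ W).toMonoidHom.comp Θ.asGroupHom

omit hN in
theorem repEquivHom_apply (n : N) (w : W) : repEquivHom N Θ n w = Θ n w := by
  simp only [repEquivHom, MonoidHom.coe_comp, Function.comp_apply, MulEquiv.toMonoidHom_eq_coe,
    MonoidHom.coe_coe, LinearMap.GeneralLinearGroup.coeFn_generalLinearEquiv]
  rw [Representation.asGroupHom_apply]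

/-- The embedding `n ↦ (n, Θ n)` of `N` in the lifting group. -/
noncomputable def liftEmb [Finite T] : N →* liftGroup N Θ where
  toFun n := ⟨((n : T), repEquivHom N Θ n), by
    refine ⟨?_, ?_⟩
    · intro m w
      change repEquivHom N Θ n (Θ m w) = Θ (MulAut.conjNormal (n : T) m) (repEquivHom N Θ n w)
      rw [repEquivHom_apply, repEquivHom_apply]
      have h1 : MulAut.conjNormal (n : T) m = n * m * n⁻¹ := by
        apply Subtype.ext
        simp [MulAut.conjNormal_apply]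
      rw [h1, ← Module.End.mul_apply, ← Module.End.mul_apply, ← map_mul, ← map_mul,
        inv_mul_cancel_right]
    · change (LinearEquiv.det (repEquivHom N Θ n)) ^ (Nat.card N) = 1
      rw [← map_pow, ← map_pow, pow_card_eq_one', map_one, map_one]⟩
  map_one' := by
    apply Subtype.ext
    apply Prod.ext
    · rfl
    · exact map_one (repEquivHom N Θ)
  map_mul' a b := by
    apply Subtype.ext
    apply Prod.ext
    · rfl
    · exact map_mul (repEquivHom N Θ) a b

theorem liftProj_liftEmb [Finite T] (n : N) : liftProj N Θ (liftEmb N Θ n) = n := rfl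

theorem liftRep_liftEmb [Finite T] (n : N) : liftRep N Θ (liftEmb N Θ n) = Θ n := by
  ext w
  rw [liftRep_apply]
  exact repEquivHom_apply N Θ n w

/-- Two automorphisms intertwining `Θ` with the same conjugate differ by a nonzero scalar. -/
theorem exists_smul_of_intertwine [FiniteDimensional ℂ W] [Θ.IsIrreducible] (t : T)
    (P Q : W ≃ₗ[ℂ] W)
    (hP : ∀ (n : N) (w : W), P (Θ n w) = Θ (MulAut.conjNormal t n) (P w))
    (hQ : ∀ (n : N) (w : W), Q (Θ n w) = Θ (MulAut.conjNormal t n) (Q w)) :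
    ∃ c : ℂ, c ≠ 0 ∧ ∀ w, Q w = c • P w := by
  have hnt : Nontrivial W := Cfsg.Agent.Lib.Helper84.irr_nontrivial Θ
  set f : W →ₗ[ℂ] W := (P.symm : W →ₗ[ℂ] W) ∘ₗ (Q : W →ₗ[ℂ] W) with hf
  have hPinv : ∀ (n : N) (x : W), P.symm (Θ (MulAut.conjNormal t n) x) = Θ n (P.symm x) := by
    intro n x
    apply P.injective
    rw [P.apply_symm_apply, hP, P.apply_symm_apply]
  have hcomm : ∀ n : N, f ∘ₗ Θ n = Θ n ∘ₗ f := by
    intro n
    ext w
    simp only [hf, LinearMap.coe_comp, LinearEquiv.coe_coe, Function.comp_apply]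
    rw [hQ, hPinv]
  have hsc := Cfsg.Agent.Lib.Helper84.schur_scalar Θ f hcomm
  set c := LinearMap.trace ℂ W f / (finrank ℂ W : ℂ) with hc
  have hQc : ∀ w, Q w = c • P w := by
    intro w
    have h1 : f w = c • w := by
      rw [hsc]
      rfl
    have h2 : P (f w) = Q w := by
      simp only [hf, LinearMap.coe_comp, LinearEquiv.coe_coe, Function.comp_apply,
        LinearEquiv.apply_symm_apply]
    rw [← h2, h1, map_smul]
  refine ⟨c, ?_, hQc⟩
  intro h0
  obtain ⟨w, hw⟩ := exists_ne (0 : W)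
  have := hQc w
  rw [h0, zero_smul] at this
  exact hw (Q.map_eq_zero_iff.mp this)

/-- If the character of the irreducible `Θ` is `T`-invariant, the lifting group maps onto `T`. -/
theorem liftProj_surjective [Finite T] [FiniteDimensional ℂ W] [Θ.IsIrreducible]
    (hinv : ∀ (t : T) (n : N), Θ.character (MulAut.conjNormal t n) = Θ.character n) :
    Function.Surjective (liftProj N Θ) := by
  intro t
  let Θt : Representation ℂ N W := Θ.comp (MulAut.conjNormal t : MulAut N).toMonoidHom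
  have hchar : Θ.character = Θt.character := by
    funext n
    exact (hinv t n).symm
  obtain ⟨e⟩ := Cfsg.Agent.Lib.Helper05.nonempty_equiv_of_char_eq W Θ W Θt hchar
  set P₀ : W ≃ₗ[ℂ] W := e.toLinearEquiv with hP₀def
  have hP₀ : ∀ (n : N) (w : W), P₀ (Θ n w) = Θ (MulAut.conjNormal t n) (P₀ w) := by
    intro n w
    have h := e.isIntertwining' n
    exact LinearMap.congr_fun h w
  have hd : 0 < finrank ℂ W := Cfsg.Agent.Lib.Helper84.irr_finrank_pos Θ
  set δ : ℂ := ((LinearEquiv.det P₀ : ℂˣ) : ℂ) with hδ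
  have hδ0 : δ ≠ 0 := Units.ne_zero _
  obtain ⟨c, hc⟩ := IsAlgClosed.exists_pow_nat_eq (δ⁻¹) hd
  have hc0 : c ≠ 0 := by
    intro h0
    rw [h0, zero_pow hd.ne'] at hc
    exact inv_ne_zero hδ0 hc.symm
  let S : W ≃ₗ[ℂ] W := LinearEquiv.smulOfNeZero ℂ W c hc0
  have hS : ∀ w, S w = c • w := fun w => rfl
  have hdetS : ((LinearEquiv.det S : ℂˣ) : ℂ) = c ^ finrank ℂ W := by
    rw [LinearEquiv.coe_det]
    have : (S : W →ₗ[ℂ] W) = c • LinearMap.id := by
      ext w
      rfl
    rw [this, LinearMap.det_smul, LinearMap.det_id, mul_one]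
  refine ⟨⟨(t, S * P₀), ?_, ?_⟩, rfl⟩
  · intro n w
    change S (P₀ (Θ n w)) = Θ (MulAut.conjNormal t n) (S (P₀ w))
    rw [hS, hS, hP₀, map_smul]
  · change (LinearEquiv.det (S * P₀)) ^ (Nat.card N) = 1
    have h1 : LinearEquiv.det (S * P₀) = 1 := by
      apply Units.ext
      rw [map_mul, Units.val_mul, hdetS, hc, Units.val_one]
      exact inv_mul_cancel₀ hδ0
    rw [h1, one_pow]

/-- The lifting group is finite. -/
theorem liftGroup_finite [Finite T] [FiniteDimensional ℂ W] [Θ.IsIrreducible]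
    (hinv : ∀ (t : T) (n : N), Θ.character (MulAut.conjNormal t n) = Θ.character n) :
    Finite (liftGroup N Θ) := by
  classical
  have hsurj := liftProj_surjective N Θ hinv
  let sec : T → liftGroup N Θ := Function.surjInv hsurj
  have hsec : ∀ t, (sec t).1.1 = t := fun t => Function.surjInv_eq hsurj t
  have hd : 0 < finrank ℂ W := Cfsg.Agent.Lib.Helper84.irr_finrank_pos Θ
  have hk : 0 < Nat.card N := Nat.card_pos
  have key : ∀ γ : liftGroup N Θ, ∃ c : ℂ, c ≠ 0 ∧ ∀ w, γ.1.2 w = c • (sec γ.1.1).1.2 w := by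
    intro γ
    apply exists_smul_of_intertwine N Θ γ.1.1
    · have := (sec γ.1.1).2.1
      rw [hsec] at this
      exact this
    · exact γ.2.1
  choose c hc0 hc using key
  have hroot : ∀ γ : liftGroup N Θ, (c γ) ^ (finrank ℂ W * Nat.card N) = 1 := by
    intro γ
    have h1 : (γ.1.2 : W →ₗ[ℂ] W) = c γ • ((sec γ.1.1).1.2 : W →ₗ[ℂ] W) := by
      ext w
      exact hc γ w
    have h2 : LinearMap.det (γ.1.2 : W →ₗ[ℂ] W) =
        (c γ) ^ finrank ℂ W * LinearMap.det ((sec γ.1.1).1.2 : W →ₗ[ℂ] W) := by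
      rw [h1, LinearMap.det_smul]
    have h3 : (LinearMap.det (γ.1.2 : W →ₗ[ℂ] W)) ^ (Nat.card N) = 1 := by
      have := γ.2.2
      rw [← LinearEquiv.coe_det, ← Units.val_pow_eq_pow_val, this, Units.val_one]
    have h4 : (LinearMap.det ((sec γ.1.1).1.2 : W →ₗ[ℂ] W)) ^ (Nat.card N) = 1 := by
      have := (sec γ.1.1).2.2
      rw [← LinearEquiv.coe_det, ← Units.val_pow_eq_pow_val, this, Units.val_one]
    rw [h2, mul_pow, h4, mul_one, ← pow_mul] at h3
    exact h3
  set m := finrank ℂ W * Nat.card N with hm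
  have hmpos : 0 < m := Nat.mul_pos hd hk
  have hfin : ({z : ℂ | z ^ m = 1} : Set ℂ).Finite := by
    have : {z : ℂ | z ^ m = 1} = ↑(Polynomial.nthRootsFinset m (1 : ℂ)) := by
      ext z
      simp [Polynomial.mem_nthRootsFinset hmpos]
    rw [this]
    exact Finset.finite_toSet _
  have : Finite ↥({z : ℂ | z ^ m = 1} : Set ℂ) := hfin.to_subtype
  let φ : liftGroup N Θ → T × ↥({z : ℂ | z ^ m = 1} : Set ℂ) :=
    fun γ => (γ.1.1, ⟨c γ, hroot γ⟩)
  apply Finite.of_injective φ
  intro γ γ' h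
  have h1 : γ.1.1 = γ'.1.1 := congrArg (fun p : T × ↥({z : ℂ | z ^ m = 1} : Set ℂ) => p.1) h
  have h2 : c γ = c γ' :=
    congrArg (fun p : T × ↥({z : ℂ | z ^ m = 1} : Set ℂ) => (p.2 : ℂ)) h
  apply Subtype.ext
  apply Prod.ext h1
  apply LinearEquiv.ext
  intro w
  rw [hc γ w, hc γ' w, h1, h2]

/-- The image of `N` in the lifting group. -/
noncomputable def liftN [Finite T] : Subgroup (liftGroup N Θ) := (liftEmb N Θ).range

theorem mem_liftN [Finite T] (γ : liftGroup N Θ) :
    γ ∈ liftN N Θ ↔ ∃ n : N, liftEmb N Θ n = γ := MonoidHom.mem_range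

/-- Conjugation formula: `γ (n, Θ n) γ⁻¹ = (t n t⁻¹, Θ (t n t⁻¹))`. -/
theorem conj_liftEmb [Finite T] (γ : liftGroup N Θ) (n : N) :
    γ * liftEmb N Θ n * γ⁻¹ = liftEmb N Θ (MulAut.conjNormal γ.1.1 n) := by
  apply Subtype.ext
  apply Prod.ext
  · change γ.1.1 * (n : T) * γ.1.1⁻¹ = ((MulAut.conjNormal γ.1.1 n : N) : T)
    rw [MulAut.conjNormal_apply]
  · apply LinearEquiv.ext
    intro w
    change γ.1.2 (repEquivHom N Θ n (γ.1.2⁻¹ w)) = repEquivHom N Θ (MulAut.conjNormal γ.1.1 n) w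
    rw [repEquivHom_apply, repEquivHom_apply, γ.2.1 n]
    congr 1
    exact γ.1.2.apply_symm_apply w

instance liftN_normal [Finite T] : (liftN N Θ).Normal := by
  constructor
  intro x hx γ
  obtain ⟨n, rfl⟩ := (mem_liftN N Θ x).mp hx
  rw [conj_liftEmb]
  exact (mem_liftN N Θ _).mpr ⟨_, rfl⟩

/-- The representation of the lifting group on `W` is irreducible, and so is its restriction
to the image of `N`. -/
theorem liftRep_restrict_irreducible [Finite T] [Θ.IsIrreducible] :
    Representation.IsIrreducible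
      ((liftRep N Θ).comp (liftN N Θ).subtype : Representation ℂ (liftN N Θ) W) := by
  rw [Cfsg.Agent.Lib.Helper05.isIrreducible_iff]
  have hΘ := (Cfsg.Agent.Lib.Helper05.isIrreducible_iff Θ).mp inferInstance
  refine ⟨hΘ.1, ?_⟩
  intro U hU
  apply hΘ.2 U
  intro n v hv
  have := hU ⟨liftEmb N Θ n, (mem_liftN N Θ _).mpr ⟨n, rfl⟩⟩ v hv
  simp only [MonoidHom.coe_comp, Subgroup.coe_subtype, Function.comp_apply] at this
  rw [liftRep_liftEmb] at this
  exact this

theorem liftRep_irreducible [Finite T] [Θ.IsIrreducible] : (liftRep N Θ).IsIrreducible := by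
  rw [Cfsg.Agent.Lib.Helper05.isIrreducible_iff]
  have hΘ := (Cfsg.Agent.Lib.Helper05.isIrreducible_iff Θ).mp inferInstance
  refine ⟨hΘ.1, ?_⟩
  intro U hU
  apply hΘ.2 U
  intro n v hv
  have := hU (liftEmb N Θ n) v hv
  rw [liftRep_liftEmb] at this
  exact this

/-- Elements of the lifting group lying over `1` are central. -/
theorem mem_center_of_liftProj_eq_one [FiniteDimensional ℂ W] [Θ.IsIrreducible]
    (γ : liftGroup N Θ) (hγ : liftProj N Θ γ = 1) : γ ∈ Subgroup.center (liftGroup N Θ) := by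
  have hγ1 : γ.1.1 = 1 := hγ
  have h1 : ∀ (n : N) (w : W), (1 : W ≃ₗ[ℂ] W) (Θ n w) =
      Θ (MulAut.conjNormal (1 : T) n) ((1 : W ≃ₗ[ℂ] W) w) := by
    intro n w
    simp
  have h2 : ∀ (n : N) (w : W), γ.1.2 (Θ n w) = Θ (MulAut.conjNormal (1 : T) n) (γ.1.2 w) := by
    intro n w
    have := γ.2.1 n w
    rw [hγ1] at this
    exact this
  obtain ⟨c, -, hc⟩ := exists_smul_of_intertwine N Θ (1 : T) 1 γ.1.2 h1 h2
  rw [Subgroup.mem_center_iff]
  intro δ
  apply Subtype.ext
  apply Prod.ext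
  · change δ.1.1 * γ.1.1 = γ.1.1 * δ.1.1
    rw [hγ1, one_mul, mul_one]
  · apply LinearEquiv.ext
    intro w
    change δ.1.2 (γ.1.2 w) = γ.1.2 (δ.1.2 w)
    rw [hc, hc, map_smul]
    rfl

end Cfsg.Agent.Lib.Helper85
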