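import Mathlib
import Cfsg.Agent.S0179

set_option autoImplicit false

namespace Cfsg.Agent.Lib.Helper85

open Cfsg Cfsg.Agent.Lib.Helper05 Module

/-- Generalised centre theorem: if every element of the subgroup `Z` acts as a scalar in the
irreducible representation `ρ`, then the degree of `ρ` divides the index of `Z`.
(Same proof as helper5's `S0179.result`, with `Z` arbitrary.) -/
theorem finrank_dvd_index_of_scalar {G : Type*} [Group G] [Finite G] {V : Type*} [AddCommGroup V]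
    [Module ℂ V] [FiniteDimensional ℂ V] (ρ : Representation ℂ G V) [ρ.IsIrreducible]
    (Z : Subgroup G) (hZs : ∀ z ∈ Z, ∃ c : ℂ, ρ z = c • (LinearMap.id : V →ₗ[ℂ] V)) :
    Module.finrank ℂ V ∣ Z.index := by
  classical
  haveI : Fintype G := Fintype.ofFinite G
  haveI : Fintype (G ⧸ Z) := Fintype.ofFinite _
  haveI hnt : Nontrivial V := Cfsg.Agent.Lib.Helper84.irr_nontrivial ρ
  have hd0 : (finrank ℂ V : ℂ) ≠ 0 := Cfsg.Agent.Lib.Helper84.irr_finrank_ne_zero ρ
  have hid0 : (LinearMap.id : V →ₗ[ℂ] V) ≠ 0 := by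
    intro h
    obtain ⟨v, hv⟩ := exists_ne (0 : V)
    apply hv
    have := congrArg (fun f : V →ₗ[ℂ] V => f v) h
    simpa using this
  -- elements of Z act as scalars
  have hscal : ∀ z ∈ Z, ∃ c : ℂ, c ≠ 0 ∧ ρ z = c • LinearMap.id ∧ ρ z⁻¹ = c⁻¹ • LinearMap.id := by
    intro z hz
    obtain ⟨c, hsc⟩ := hZs z hz
    have hc0 : c ≠ 0 := by
      intro h0
      have h1 : ρ z = 0 := by rw [hsc, h0, zero_smul]
      have h2 : (ρ z⁻¹ * ρ z : Module.End ℂ V) = 1 := by
        rw [← map_mul, inv_mul_cancel, map_one]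
      rw [h1, mul_zero] at h2
      exact hid0 h2.symm
    refine ⟨c, hc0, hsc, ?_⟩
    have h2 : (ρ z⁻¹ * ρ z : Module.End ℂ V) = 1 := by
      rw [← map_mul, inv_mul_cancel, map_one]
    rw [hsc, mul_smul_comm] at h2
    have h3 : ρ z⁻¹ * (LinearMap.id : V →ₗ[ℂ] V) = ρ z⁻¹ := mul_one _
    rw [h3] at h2
    calc ρ z⁻¹ = c⁻¹ • (c • ρ z⁻¹) := by rw [smul_smul, inv_mul_cancel₀ hc0, one_smul]
      _ = c⁻¹ • LinearMap.id := by rw [h2]; rfl
  -- the summand is constant on cosets of the centre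
  let F : G → Module.End ℂ V := fun g => ρ.character g⁻¹ • ρ g
  have hF : ∀ g, ∀ z ∈ Z, F (g * z) = F g := by
    intro g z hz
    obtain ⟨c, hc0, hc1, hc2⟩ := hscal z hz
    simp only [F]
    have h1 : ρ.character (g * z)⁻¹ = c⁻¹ * ρ.character g⁻¹ := by
      rw [mul_inv_rev, Representation.character, map_mul, hc2, smul_mul_assoc, map_smul,
        smul_eq_mul]
      congr 1
    have h2 : ρ (g * z) = c • ρ g := by
      rw [map_mul, hc1, mul_smul_comm]
      congr 1
    rw [h1, h2, smul_smul, mul_assoc, mul_comm (ρ.character g⁻¹) c, ← mul_assoc,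
      inv_mul_cancel₀ hc0, one_mul]
  have hsum := sum_eq_card_nsmul_sum_out Z F hF
  have hschur := Cfsg.Agent.Lib.Helper84.sum_char_inv_smul ρ
  have hint := Cfsg.Agent.S0179.isIntegral_sum_out ρ Z (fun g => ρ.character g⁻¹)
    (fun g => Cfsg.Agent.Lib.Helper82.isIntegral_character ρ g⁻¹)
  -- the transversal sum is the scalar index / degree
  have hZne : (Nat.card Z : ℂ) ≠ 0 := by exact_mod_cast Nat.card_pos.ne'
  have hE : ∑ q : G ⧸ Z, ρ.character (q.out)⁻¹ • ρ q.out =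
      ((Z.index : ℂ) / (finrank ℂ V : ℂ)) • (LinearMap.id : V →ₗ[ℂ] V) := by
    have h1 : (Nat.card Z : ℂ) • ∑ q : G ⧸ Z, ρ.character (q.out)⁻¹ • ρ q.out =
        ((Fintype.card G : ℂ) / (finrank ℂ V : ℂ)) • (LinearMap.id : V →ₗ[ℂ] V) := by
      rw [← hschur, Nat.cast_smul_eq_nsmul]
      exact hsum.symm
    have h2 : (Fintype.card G : ℂ) = (Z.index : ℂ) * (Nat.card Z : ℂ) := by
      rw [← Nat.card_eq_fintype_card, ← Subgroup.index_mul_card Z]
      push_cast
      ring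
    calc ∑ q : G ⧸ Z, ρ.character (q.out)⁻¹ • ρ q.out
        = (Nat.card Z : ℂ)⁻¹ • ((Nat.card Z : ℂ) • ∑ q : G ⧸ Z, ρ.character (q.out)⁻¹ • ρ q.out) := by
          rw [smul_smul, inv_mul_cancel₀ hZne, one_smul]
      _ = ((Z.index : ℂ) / (finrank ℂ V : ℂ)) • (LinearMap.id : V →ₗ[ℂ] V) := by
          rw [h1, smul_smul, h2]
          congr 1
          field_simp
  rw [hE] at hint
  have hinj : Function.Injective (algebraMap ℂ (Module.End ℂ V)) :=
    FaithfulSMul.algebraMap_injective ℂ (Module.End ℂ V)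
  have hint' : IsIntegral ℤ ((Z.index : ℂ) / (finrank ℂ V : ℂ)) := by
    rw [← isIntegral_algebraMap_iff hinj, Algebra.algebraMap_eq_smul_one]
    exact hint
  have hq : ((Z.index : ℂ) / (finrank ℂ V : ℂ)) = (((Z.index : ℚ) / (finrank ℂ V : ℚ) : ℚ) : ℂ) := by
    push_cast
    rfl
  rw [hq] at hint'
  obtain ⟨k, hk⟩ := Cfsg.Agent.Lib.Helper82.exists_int_of_isIntegral_ratCast hint'
  have hdq : (finrank ℂ V : ℚ) ≠ 0 := by
    have : finrank ℂ V ≠ 0 := by
      intro h
      apply hd0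
      rw [h]
      simp
    exact_mod_cast this
  rw [div_eq_iff hdq] at hk
  have hk' : (Z.index : ℤ) = k * (finrank ℂ V : ℤ) := by exact_mod_cast hk
  have : (finrank ℂ V : ℤ) ∣ (Z.index : ℤ) := ⟨k, by rw [hk', mul_comm]⟩
  exact Int.natCast_dvd_natCast.mp this


end Cfsg.Agent.Lib.Helper85
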