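import Mathlib
import Cfsg.Agent.Lib.Helper85.ProjLift
import Cfsg.Agent.Lib.Helper85.Gallagher
import Cfsg.Agent.Lib.Helper85.ScalarIndex
import Cfsg.Agent.Lib.Helper04.CharScalar

set_option autoImplicit false

/-!
# The ramification index divides the index

If `ψ ∈ Irr(T)`, `N ⊴ T` and `ψ|_N = e ϑ` with `ϑ ∈ Irr(N)`, then `e ∣ [T : N]`.
-/

namespace Cfsg.Agent.Lib.Helper85

open scoped ComplexConjugate
open Cfsg Cfsg.Agent.Lib.Helper83 Module

universe u

/-- Composition of an irreducible character with a surjective homomorphism of finite groups is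
irreducible. -/
theorem isIrrCharacter_comp_surjective {Γ T : Type u} [Group Γ] [Group T] [Finite Γ]
    (f : Γ →* T) (hf : Function.Surjective f) {ψ : T → ℂ} (hψ : IsIrrCharacter T ψ) :
    IsIrrCharacter Γ (fun γ => ψ (f γ)) := by
  have : Finite T := Finite.of_surjective f hf
  have h1 : IsIrrCharacter (Γ ⧸ f.ker)
      (fun q => ψ (QuotientGroup.quotientKerEquivOfSurjective f hf q)) :=
    Cfsg.Agent.Lib.Helper84.isIrrCharacter_comp_mulEquiv
      (QuotientGroup.quotientKerEquivOfSurjective f hf) hψ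
  exact isIrrCharacter_inflate f.ker h1

/-- If `ψ|_N = e Θ.character` with `ψ` an irreducible character of `T` then the character of `Θ`
is `T`-invariant. -/
theorem character_invariant_of_restrict {T : Type u} [Group T] [Finite T] (N : Subgroup T)
    [hN : N.Normal] {ψ : T → ℂ} (hψ : IsIrrCharacter T ψ) {d : ℕ}
    (Θ : Representation ℂ N (Fin d → ℂ)) (e : ℕ)
    (hres : (fun n : N => ψ n) = (e : ℂ) • Θ.character) (t : T) (n : N) :
    Θ.character (MulAut.conjNormal t n) = Θ.character n := by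
  have hψc : IsCharacter T ψ := isCharacter_of_irr hψ
  have he0 : (e : ℂ) ≠ 0 := by
    intro h0
    have h1 := congrFun hres 1
    simp only [Pi.smul_apply, smul_eq_mul, h0, zero_mul] at h1
    exact irr_degree_ne_zero ⟨ψ, hψ⟩ h1
  have h1 := congrFun hres (MulAut.conjNormal t n)
  have h2 := congrFun hres n
  simp only [Pi.smul_apply, smul_eq_mul] at h1 h2
  have h3 : ψ ((MulAut.conjNormal t n : N) : T) = ψ n := by
    rw [MulAut.conjNormal_apply]
    exact char_isClassFunction hψc n t
  rw [h3, h2] at h1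
  exact (mul_left_cancel₀ he0 h1).symm

/-- **Tensor factorisation over the lifting group.** If `ψ ∈ Irr(T)` and `ψ|_N = e Θ.character`
with `Θ` irreducible, then on the lifting group `ψ ∘ π = β · ω`, with `ω` the character of the
lifting group on the space of `Θ` and `β` an irreducible character of the quotient by the image
of `N`, of degree `e`. -/
theorem exists_lift_factor {T : Type u} [Group T] [Fintype T] (N : Subgroup T)
    [hN : N.Normal] [Fintype N] {ψ : T → ℂ} (hψ : IsIrrCharacter T ψ) {d : ℕ}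
    (Θ : Representation ℂ N (Fin d → ℂ)) [hΘirr : Θ.IsIrreducible] (e : ℕ)
    (hres : (fun n : N => ψ n) = (e : ℂ) • Θ.character) :
    ∃ β : IrrCharacter (liftGroup N Θ ⧸ liftN N Θ),
      (β : liftGroup N Θ ⧸ liftN N Θ → ℂ) 1 = (e : ℂ) ∧
      ∀ γ : liftGroup N Θ, ψ (liftProj N Θ γ) =
        (β : liftGroup N Θ ⧸ liftN N Θ → ℂ) (QuotientGroup.mk γ) * (liftRep N Θ).character γ := by
  classical
  have hψc : IsCharacter T ψ := isCharacter_of_irr hψ
  set ϑ : N → ℂ := Θ.character with hΘ
  have hϑ : IsIrrCharacter N ϑ := ⟨d, Θ, hΘirr, rfl⟩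
  have he0 : (e : ℂ) ≠ 0 := by
    intro h0
    have h1 := congrFun hres 1
    simp only [Pi.smul_apply, smul_eq_mul, h0, zero_mul] at h1
    exact irr_degree_ne_zero ⟨ψ, hψ⟩ h1
  have hinv := character_invariant_of_restrict N hψ Θ e hres
  have hfin : Finite (liftGroup N Θ) := liftGroup_finite N Θ hinv
  have : Fintype (liftGroup N Θ) := Fintype.ofFinite _
  have hsurj := liftProj_surjective N Θ hinv
  set π := liftProj N Θ with hπ
  have hψt : IsIrrCharacter (liftGroup N Θ) (fun γ => ψ (π γ)) :=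
    isIrrCharacter_comp_surjective π hsurj hψ
  have hω : IsIrrCharacter (liftGroup N Θ) (liftRep N Θ).character :=
    isIrrCharacter_of_rep (liftRep N Θ) (liftRep_irreducible N Θ)
  have : Fintype (liftN N Θ) := Fintype.ofFinite _
  have hωN : IsIrrCharacter (liftN N Θ) (fun h : liftN N Θ => (liftRep N Θ).character h) :=
    isIrrCharacter_of_rep
      ((liftRep N Θ).comp (liftN N Θ).subtype : Representation ℂ (liftN N Θ) (Fin d → ℂ))
      (liftRep_restrict_irreducible N Θ)
  have hresN : (fun h : liftN N Θ => ψ (π h)) =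
      (e : ℂ) • (fun h : liftN N Θ => (liftRep N Θ).character h) := by
    funext h
    obtain ⟨n, hn⟩ := (mem_liftN N Θ h.1).mp h.2
    have h2 := congrFun hres n
    simp only [Pi.smul_apply, smul_eq_mul] at h2 ⊢
    rw [← hn]
    have h3 : π (liftEmb N Θ n) = n := rfl
    rw [h3, h2]
    congr 1
  have hcon : classInner (fun h : liftN N Θ => ψ (π h))
      (fun h : liftN N Θ => (liftRep N Θ).character h) ≠ 0 := by
    rw [hresN, classInner_smul_left, irr_inner_self ⟨_, hωN⟩, mul_one]
    exact he0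
  obtain ⟨β, hβ⟩ := (gallagher (liftN N Θ) hω hωN).2 _ hψt hcon
  have hd0 : (d : ℂ) ≠ 0 := by
    have := irr_degree_ne_zero ⟨ϑ, hϑ⟩
    change ϑ 1 ≠ 0 at this
    rw [hΘ, Representation.char_one, Module.finrank_fin_fun] at this
    exact this
  have hβ1 : (β : liftGroup N Θ ⧸ liftN N Θ → ℂ) 1 = (e : ℂ) := by
    have h1 := congrFun hβ 1
    simp only [map_one, QuotientGroup.mk_one, Representation.char_one,
      Module.finrank_fin_fun] at h1
    have h2 := congrFun hres 1
    simp only [Pi.smul_apply, smul_eq_mul] at h2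
    have h3 : ϑ 1 = (d : ℂ) := by
      rw [hΘ, Representation.char_one, Module.finrank_fin_fun]
    rw [h3] at h2
    have h4 : ψ ((1 : N) : T) = ψ 1 := rfl
    rw [h4] at h2
    rw [h2] at h1
    exact (mul_right_cancel₀ hd0 h1).symm
  exact ⟨β, hβ1, fun γ => congrFun hβ γ⟩

/-- **The ramification index divides the index.** If `ψ ∈ Irr(T)`, `N ⊴ T` and `ψ|_N = e ϑ` with
`ϑ ∈ Irr(N)`, then `e ∣ [T : N]`. -/
theorem ramification_dvd_index {T : Type u} [Group T] [Fintype T] (N : Subgroup T)
    [hN : N.Normal] [Fintype N] {ψ : T → ℂ} (hψ : IsIrrCharacter T ψ) {ϑ : N → ℂ}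
    (hϑ : IsIrrCharacter N ϑ) (e : ℕ) (hres : (fun n : N => ψ n) = (e : ℂ) • ϑ) :
    e ∣ N.index := by
  classical
  obtain ⟨d, Θ, hΘirr, hΘ⟩ := hϑ
  have := hΘirr
  rw [← hΘ] at hres
  have hinv := character_invariant_of_restrict N hψ Θ e hres
  have hfin : Finite (liftGroup N Θ) := liftGroup_finite N Θ hinv
  have : Fintype (liftGroup N Θ) := Fintype.ofFinite _
  have hsurj := liftProj_surjective N Θ hinv
  set π := liftProj N Θ with hπ
  obtain ⟨β, hβ1, -⟩ := exists_lift_factor N hψ Θ e hres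
  -- the inflation of `β` and a representation affording it
  have hβt : IsIrrCharacter (liftGroup N Θ)
      (fun γ => (β : liftGroup N Θ ⧸ liftN N Θ → ℂ) (QuotientGroup.mk γ)) :=
    isIrrCharacter_inflate (liftN N Θ) β.2
  obtain ⟨e', σ, hσirr, hσ⟩ := hβt
  have := hσirr
  have he' : e' = e := by
    have h1 := congrFun hσ 1
    simp only [Representation.char_one, Module.finrank_fin_fun, QuotientGroup.mk_one, hβ1] at h1
    exact_mod_cast h1
  -- the preimage of `N` acts by scalars
  have hscal : ∀ z ∈ N.comap π, ∃ c : ℂ, σ z = c • (LinearMap.id : (Fin e' → ℂ) →ₗ[ℂ] _) := by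
    intro z hz
    set n : N := ⟨π z, hz⟩ with hn
    set z' := z * (liftEmb N Θ n)⁻¹ with hz'
    have hπz' : liftProj N Θ z' = 1 := by
      rw [hz', map_mul, map_inv]
      change π z * (π (liftEmb N Θ n))⁻¹ = 1
      have : π (liftEmb N Θ n) = π z := rfl
      rw [this, mul_inv_cancel]
    have hcen := mem_center_of_liftProj_eq_one N Θ z' hπz'
    have hcomm : ∀ γ : liftGroup N Θ, σ z' ∘ₗ σ γ = σ γ ∘ₗ σ z' := by
      intro γ
      rw [← Module.End.mul_eq_comp, ← Module.End.mul_eq_comp, ← map_mul, ← map_mul]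
      congr 1
      exact (Subgroup.mem_center_iff.mp hcen γ).symm
    have hsc := Cfsg.Agent.Lib.Helper84.schur_scalar σ (σ z') hcomm
    have hker : σ (liftEmb N Θ n) = LinearMap.id := by
      rw [← Cfsg.Agent.Lib.Helper04.char_eq_finrank_iff, hσ, Module.finrank_fin_fun]
      have h1 : (QuotientGroup.mk (liftEmb N Θ n) : liftGroup N Θ ⧸ liftN N Θ) = 1 := by
        rw [QuotientGroup.eq_one_iff]
        exact (mem_liftN N Θ _).mpr ⟨n, rfl⟩
      simp only [h1, hβ1, he']
    refine ⟨LinearMap.trace ℂ _ (σ z') / (finrank ℂ (Fin e' → ℂ) : ℂ), ?_⟩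
    have hz2 : z = z' * liftEmb N Θ n := by
      rw [hz', inv_mul_cancel_right]
    rw [hz2, map_mul, hker, ← hsc]
    rfl
  have hdvd := finrank_dvd_index_of_scalar σ (N.comap π) hscal
  have hidx : (N.comap π).index = N.index := Subgroup.index_comap_of_surjective N hsurj
  rw [Module.finrank_fin_fun, hidx, he'] at hdvd
  exact hdvd

end Cfsg.Agent.Lib.Helper85
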