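import Mathlib
import Cfsg.Prelude.Def_Blocks
import Cfsg.Agent.Lib.Helper82.Fong
import Cfsg.Agent.Lib.Helper81.ThirdMain
import Cfsg.Agent.Lib.Helper05.CharOrtho
import Cfsg.Agent.S4681
import Cfsg.Agent.S4432

set_option autoImplicit false
set_option linter.unusedSectionVars false
set_option linter.style.haveILetI false

/-!
# The dimension of the principal block and normal subgroups
-/

namespace Cfsg.Agent.Lib.Helper85.PrincipalNormal

open Cfsg
open Cfsg.Agent.Lib.Helper21 Cfsg.Agent.Lib.Helper82 Cfsg.Agent.Lib.Helper83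
open Cfsg.Agent.Lib.Helper81

universe u

variable {G : Type u} [Group G] [Fintype G] (H : Subgroup G) [hH : H.Normal] [Fintype H]

variable {p : ℕ} [Fact p.Prime] {M : Ideal AlgInt}

theorem isInvariantSet_principalBlock : IsInvariantSet H (principalBlock M H) := by
  intro g θ hθ θ' hθ'
  have h1 : (θ' : H → ℂ) = fun n => (θ : H → ℂ) (MulAut.conjNormal g n) := by
    funext n
    rw [hθ' n]
    congr 1
  show SameBlock M (fun _ : H => (1 : ℂ)) (θ' : H → ℂ)
  rw [h1]
  exact (Cfsg.Agent.S4681.mem_principalBlock_comp_iff M (MulAut.conjNormal g) (θ : H → ℂ)).2 hθ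

theorem trivChar_mem_overSet (hM : M.IsPrime) :
    trivChar G ∈ overSet H (principalBlock M H) := by
  refine ⟨trivChar H, trivChar_mem_principalBlock hM, ?_⟩
  have h1 : (fun n : H => (trivChar G : G → ℂ) n) = (trivChar H : H → ℂ) := rfl
  rw [h1, Cfsg.Agent.Lib.Helper05.classInner_irr_self (trivChar H).2]
  exact one_ne_zero

theorem principalBlock_subset_overSet (hMod : IsPModular p M) :
    principalBlock M G ⊆ overSet H (principalBlock M H) := by
  have hM : M.IsPrime := hMod.2.1.isPrime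
  rw [principalBlock_eq_blockOf_trivChar]
  exact blockOf_subset_overSet H hMod (Cfsg.Agent.Lib.Helper22.isPBlock_principalBlock M H)
    (isInvariantSet_principalBlock H) (trivChar_mem_overSet H hM)


/-- `λ(G) ≤ [G : H] λ(H)` -/
theorem finsum_principal_le_index_mul (hMod : IsPModular p M) :
    (∑ᶠ χ ∈ principalBlock M G, charDegree (χ : G → ℂ) ^ 2) ≤
      H.index * ∑ᶠ θ ∈ principalBlock M H, charDegree (θ : H → ℂ) ^ 2 := by
  classical
  haveI : Fintype (IrrCharacter G) := Fintype.ofFinite _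
  rw [← finsum_overSet_sq H hMod (Cfsg.Agent.Lib.Helper22.isPBlock_principalBlock M H)
    (isInvariantSet_principalBlock H)]
  rw [finsum_mem_eq_finite_toFinset_sum _ (Set.toFinite (principalBlock M G)),
    finsum_mem_eq_finite_toFinset_sum _ (Set.toFinite (overSet H (principalBlock M H)))]
  apply Finset.sum_le_sum_of_subset
  intro χ hχ
  rw [Set.Finite.mem_toFinset] at hχ ⊢
  exact principalBlock_subset_overSet H hMod hχ

theorem sum_sq_le_sq_sum {ι : Type*} (s : Finset ι) (d : ι → ℕ) :
    ∑ i ∈ s, d i ^ 2 ≤ (∑ i ∈ s, d i) ^ 2 := by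
  rw [sq, Finset.sum_mul]
  apply Finset.sum_le_sum
  intro i hi
  rw [sq]
  exact Nat.mul_le_mul_left _ (Finset.single_le_sum (fun _ _ => Nat.zero_le _) hi)

/-- the squares of the degrees of the constituents of `χ_H` sum to at most `χ(1)²` -/
theorem sum_constituents_sq_le [Fintype (IrrCharacter H)] (χ : IrrCharacter G)
    (s : Finset (IrrCharacter H))
    (hs : ∀ θ ∈ s, classInner (fun n : H => (χ : G → ℂ) n) (θ : H → ℂ) ≠ 0) :
    ∑ θ ∈ s, charDegree (θ : H → ℂ) ^ 2 ≤ charDegree (χ : G → ℂ) ^ 2 := by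
  classical
  refine (sum_sq_le_sq_sum s _).trans ?_
  apply Nat.pow_le_pow_left
  choose m hm using fun θ : IrrCharacter H => exists_resMult H χ θ
  have h1 : (charDegree (χ : G → ℂ) : ℂ) =
      ((∑ θ : IrrCharacter H, m θ * charDegree (θ : H → ℂ) : ℕ) : ℂ) := by
    rw [IsCharacter.charDegree_cast (IrrCharacter_isCharacter χ), apply_one_eq_sum_restrict H χ,
      Nat.cast_sum]
    apply Finset.sum_congr rfl
    intro θ _
    rw [hm θ, Nat.cast_mul, IsCharacter.charDegree_cast (IrrCharacter_isCharacter θ)]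
  have h2 : charDegree (χ : G → ℂ) = ∑ θ : IrrCharacter H, m θ * charDegree (θ : H → ℂ) := by
    exact_mod_cast h1
  rw [h2]
  calc ∑ θ ∈ s, charDegree (θ : H → ℂ) ≤ ∑ θ ∈ s, m θ * charDegree (θ : H → ℂ) := by
        apply Finset.sum_le_sum
        intro θ hθ
        have hne : m θ ≠ 0 := by
          intro h0
          apply hs θ hθ
          rw [hm θ, h0]
          simp
        exact Nat.le_mul_of_pos_left _ (Nat.pos_of_ne_zero hne)
    _ ≤ ∑ θ : IrrCharacter H, m θ * charDegree (θ : H → ℂ) :=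
        Finset.sum_le_sum_of_subset (Finset.subset_univ s)

/-- `λ(H) ≤ λ(G)` -/
theorem finsum_principal_le (hMod : IsPModular p M) :
    (∑ᶠ θ ∈ principalBlock M H, charDegree (θ : H → ℂ) ^ 2) ≤
      ∑ᶠ χ ∈ principalBlock M G, charDegree (χ : G → ℂ) ^ 2 := by
  classical
  have hM : M.IsPrime := hMod.2.1.isPrime
  haveI : Fintype (IrrCharacter G) := Fintype.ofFinite _
  haveI : Fintype (IrrCharacter H) := Fintype.ofFinite _
  have hcov : ∃ χ ∈ principalBlock M G, ∃ θ ∈ principalBlock M H,
      classInner (fun n : H => (χ : G → ℂ) n) (θ : H → ℂ) ≠ 0 := by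
    obtain ⟨θ, hθ, hne⟩ := trivChar_mem_overSet (M := M) H hM
    exact ⟨trivChar G, trivChar_mem_principalBlock hM, θ, hθ, hne⟩
  have hex : ∀ θ : IrrCharacter H, θ ∈ principalBlock M H → ∃ χ ∈ principalBlock M G,
      classInner (fun n : H => (χ : G → ℂ) n) (θ : H → ℂ) ≠ 0 := fun θ hθ =>
    Cfsg.Agent.S4432.result p M hMod H (principalBlock M G)
      (Cfsg.Agent.Lib.Helper22.isPBlock_principalBlock M G) (principalBlock M H)
      (Cfsg.Agent.Lib.Helper22.isPBlock_principalBlock M H) hcov θ hθ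
  let Φ : IrrCharacter H → IrrCharacter G := fun θ =>
    if h : θ ∈ principalBlock M H then (hex θ h).choose else trivChar G
  have hΦ : ∀ θ ∈ principalBlock M H, Φ θ ∈ principalBlock M G ∧
      classInner (fun n : H => (Φ θ : G → ℂ) n) (θ : H → ℂ) ≠ 0 := by
    intro θ hθ
    simp only [Φ, dif_pos hθ]
    exact (hex θ hθ).choose_spec
  rw [finsum_mem_eq_finite_toFinset_sum _ (Set.toFinite (principalBlock M G)),
    finsum_mem_eq_finite_toFinset_sum _ (Set.toFinite (principalBlock M H))]
  set sH := (Set.toFinite (principalBlock M H)).toFinset with hsH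
  set sG := (Set.toFinite (principalBlock M G)).toFinset with hsG
  rw [← Finset.sum_fiberwise_of_maps_to (s := sH) (t := sG) (g := Φ)
    (fun θ hθ => by
      rw [hsH, Set.Finite.mem_toFinset] at hθ
      rw [hsG, Set.Finite.mem_toFinset]
      exact (hΦ θ hθ).1)]
  apply Finset.sum_le_sum
  intro χ _
  apply sum_constituents_sq_le H χ
  intro θ hθ
  rw [Finset.mem_filter, hsH, Set.Finite.mem_toFinset] at hθ
  have := (hΦ θ hθ.1).2
  rw [hθ.2] at this
  exact this

end Cfsg.Agent.Lib.Helper85.PrincipalNormal
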