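import Mathlib
import Cfsg.Agent.Lib.Helper83.GSDefs

/-!
K-GS-K4 `card_le_of_preserves` (pack of helper83 for S4840): a subgroup `C` of `Γ` preserving a
nontrivial subgroup `U` of `V` has order `m p^b` with `m ≤ |U| - 1` (orbit-stabiliser at `u ≠ 1`).
-/

set_option autoImplicit false

namespace Cfsg.Agent.Lib.Helper85.GS

open Cfsg.Agent.Lib.Helper83.GS (Good)

universe u

variable {Γ V : Type u} [Group Γ] [Finite Γ] [CommGroup V] [Finite V]

/-- K4. -/
theorem card_le_of_preserves (p : ℕ) [Fact p.Prime]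
    (ρ : Γ →* MulAut V)
    (hstab : ∀ (g : Γ) (v : V), v ≠ 1 → ρ g v = v → ∃ k : ℕ, g ^ (p ^ k) = 1)
    (C : Subgroup Γ) (U : Subgroup V) (hU1 : U ≠ ⊥) (hCU : ∀ c ∈ C, ∀ u ∈ U, ρ c u ∈ U) :
    ∃ m b : ℕ, Nat.card C = m * p ^ b ∧ m ≤ Nat.card U - 1 := by
  classical
  obtain ⟨u, huU, hu1⟩ := (U.bot_or_exists_ne_one).resolve_left hU1
  letI : MulAction C V := MulAction.compHom V (ρ.comp C.subtype)
  have hSp : IsPGroup p (MulAction.stabilizer C u) := by
    rintro ⟨c, hc⟩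
    have h1 : ρ (c : Γ) u = u := hc
    obtain ⟨k, hk⟩ := hstab c u hu1 h1
    refine ⟨k, ?_⟩
    apply Subtype.ext
    apply Subtype.ext
    simpa using hk
  obtain ⟨b, hb⟩ := hSp.exists_card_eq
  refine ⟨(MulAction.orbit C u).ncard, b, ?_, ?_⟩
  · rw [← MulAction.index_stabilizer, ← hb, mul_comm]
    exact (Subgroup.card_mul_index _).symm
  · have hsub : MulAction.orbit C u ⊆ (U : Set V) \ {1} := by
      rintro _ ⟨c, rfl⟩
      refine ⟨hCU c c.2 u huU, ?_⟩
      intro h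
      have h2 : ρ (c : Γ) u = 1 := h
      exact hu1 (by simpa using h2)
    calc (MulAction.orbit C u).ncard ≤ ((U : Set V) \ {1}).ncard :=
          Set.ncard_le_ncard hsub (Set.toFinite _)
      _ = (U : Set V).ncard - 1 := Set.ncard_sdiff_singleton_of_mem U.one_mem
      _ = Nat.card U - 1 := by rw [← Nat.card_coe_set_eq]; rfl

end Cfsg.Agent.Lib.Helper85.GS
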