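import Mathlib
import Cfsg.Prelude.Def_Local
import Cfsg.Agent.Lib.Helper12.LBDefs
import Cfsg.Agent.Lib.Helper29.LBalance

/-!
# K-S1301-LB-0 (keystone 1301010, architect helper12)
`O(G) = 1`, `QC (N_G(P)) Q` ⟹ `[Q, P] = 1` and `[Q, O_2(G)] = 1`
(cut out of `Helper29.lbalance_core`).
-/

set_option autoImplicit false
set_option linter.style.haveILetI false
universe u

namespace Cfsg.Agent.Lib.Helper85.LB

open Cfsg Cfsg.Agent.Lib.Helper12.LB Cfsg.Agent.Lib.Helper29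

variable {G : Type u} [Group G] [Finite G]

/-- **K-S1301-LB-0**. -/
theorem qc_basic (_hO : pPrimeCore 2 G = ⊥) (P Q : Subgroup G) (hP : IsPGroup 2 P)
    (hQ : QC (Subgroup.normalizer (P : Set G)) Q) :
    ⁅Q, P⁆ = ⊥ ∧ ⁅Q, pCore 2 G⁆ = ⊥ := by
  haveI : Fact (Nat.Prime 2) := ⟨Nat.prime_two⟩
  set N : Subgroup G := Subgroup.normalizer (P : Set G) with hN
  set ON : Subgroup ↥N := pPrimeCore 2 ↥N with hON
  have hQJ : Q ≤ ((layer (↥N ⧸ ON)).comap (QuotientGroup.mk' ON)).map N.subtype := by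
    intro q hq
    refine ⟨⟨q, hQ.comp.1 hq⟩, ?_, rfl⟩
    rw [SetLike.mem_coe, Subgroup.mem_comap]
    apply Cfsg.Agent.Lib.Helper30.component_le_layer hQ.comp.2
    exact ⟨⟨q, hQ.comp.1 hq⟩, Subgroup.mem_subgroupOf.mpr hq, rfl⟩
  have hlayerZ : ⁅layer (↥N ⧸ ON), pCore 2 (↥N ⧸ ON)⁆ = ⊥ := by
    apply Cfsg.Agent.Lib.Helper30.layer_commute
    intro K hK
    exact Cfsg.Agent.Lib.Helper28.component_centralizes_pCore 2 hK
  rw [Subgroup.commutator_eq_bot_iff_le_centralizer] at hlayerZ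
  have hPn : (P.subgroupOf N).Normal := Subgroup.normal_in_normalizer
  have hPp : IsPGroup 2 (P.subgroupOf N) := hP.comap_of_injective N.subtype N.subtype_injective
  have hZn : ((pCore 2 G).subgroupOf N).Normal :=
    Subgroup.Normal.subgroupOf (Cfsg.Agent.Lib.Helper76.pCore_normal 2) N
  have hZp : IsPGroup 2 ((pCore 2 G).subgroupOf N) :=
    (Cfsg.Agent.Lib.Helper76.pCore_isPGroup 2).comap_of_injective N.subtype N.subtype_injective
  have hQP : ⁅Q, P⁆ = ⊥ := by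
    rw [Subgroup.commutator_eq_bot_iff_le_centralizer]
    intro q hq
    obtain ⟨q', hq', rfl⟩ := hQJ hq
    rw [Subgroup.mem_centralizer_iff]
    intro r hr
    have := commute_of_map_centralizes_pCore (P.subgroupOf N) hPp q' (hlayerZ hq')
      ⟨r, Subgroup.le_normalizer hr⟩ (Subgroup.mem_subgroupOf.mpr hr)
    exact (congrArg Subtype.val this).symm
  have hQZN : ⁅Q, pCore 2 G ⊓ N⁆ = ⊥ := by
    rw [Subgroup.commutator_eq_bot_iff_le_centralizer]
    intro q hq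
    obtain ⟨q', hq', rfl⟩ := hQJ hq
    rw [Subgroup.mem_centralizer_iff]
    intro z hz
    have := commute_of_map_centralizes_pCore ((pCore 2 G).subgroupOf N) hZp q' (hlayerZ hq')
      ⟨z, hz.2⟩ (Subgroup.mem_subgroupOf.mpr hz.1)
    exact (congrArg Subtype.val this).symm
  have hQZ : ⁅Q, pCore 2 G⁆ = ⊥ :=
    Cfsg.Agent.Lib.Helper28.pClosing_centralizes_pCore P hP Q
      (Cfsg.Agent.Lib.Helper28.pClosing_of_perfect 2 hQ.perf) hQP hQZN
  exact ⟨hQP, hQZ⟩

end Cfsg.Agent.Lib.Helper85.LB
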