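import Mathlib
import Cfsg.Prelude.Def_JordanBlocks
import Cfsg.Prelude.Def_LieClassical
import Cfsg.Agent.Lib.Helper73.UCDefs

/-!
# K-UC-K6 (keystone 264607, pack K-UC of helper73, row S2646): the explicit conjugator

`N = nilM d K`, `s = ε • (N * (1 + α • N)⁻¹)`: the matrix `g` whose column `(k, a)` is `s ^ a` applied to the
basis vector `(k, 0)` satisfies `g * N = s * g` and is invertible.  Tool: the filtration `K6T d j` of the
block diagonal matrices raising the index inside each block by at least `j`.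
-/

set_option autoImplicit false

namespace Cfsg.Agent.Lib.Helper85.UC

open Matrix Cfsg.Agent.Lib.Helper73.UC

variable {K : Type*} [Field K]

/-- the entries of `nilM` -/
theorem k6_nilM_apply {t : ℕ} (d : Fin t → ℕ) (x y : JI d) :
    nilM d K x y = if x.1 = y.1 ∧ (x.2 : ℕ) = (y.2 : ℕ) + 1 then 1 else 0 := by
  obtain ⟨l, b⟩ := x
  obtain ⟨k, a⟩ := y
  show (Matrix.blockDiagonal' (fun k => Cfsg.jordanBlock (d k) K) - 1) ⟨l, b⟩ ⟨k, a⟩ = _
  rw [Matrix.sub_apply, Matrix.blockDiagonal'_apply]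
  by_cases h : l = k
  · subst h
    simp only [Cfsg.jordanBlock, Matrix.of_apply, Matrix.one_apply, Sigma.mk.injEq, heq_eq_eq,
      true_and, Fin.ext_iff, dif_pos, cast_eq]
    by_cases h1 : (b : ℕ) = a
    · simp [h1]
    · simp [h1]
  · simp [h]

/-- block diagonal matrices raising the index inside each block by at least `j` -/
def K6T {t : ℕ} (d : Fin t → ℕ) (j : ℕ) (A : Matrix (JI d) (JI d) K) : Prop :=
  ∀ x y : JI d, A x y ≠ 0 → x.1 = y.1 ∧ (y.2 : ℕ) + j ≤ (x.2 : ℕ)

section filtration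

variable {t : ℕ} (d : Fin t → ℕ)

theorem k6T_zero (j : ℕ) : K6T d j (0 : Matrix (JI d) (JI d) K) :=
  fun x y h => absurd (Matrix.zero_apply x y) h

variable {d}

theorem k6T_add {j : ℕ} {A B : Matrix (JI d) (JI d) K} (hA : K6T d j A) (hB : K6T d j B) :
    K6T d j (A + B) := by
  intro x y h
  by_cases hA0 : A x y = 0
  · have : B x y ≠ 0 := by
      intro hB0
      apply h
      rw [Matrix.add_apply, hA0, hB0, add_zero]
    exact hB x y this
  · exact hA x y hA0

theorem k6T_smul {j : ℕ} {A : Matrix (JI d) (JI d) K} (c : K) (hA : K6T d j A) :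
    K6T d j (c • A) := by
  intro x y h
  apply hA x y
  intro h0
  apply h
  rw [Matrix.smul_apply, h0, smul_zero]

theorem k6T_neg {j : ℕ} {A : Matrix (JI d) (JI d) K} (hA : K6T d j A) : K6T d j (-A) := by
  intro x y h
  apply hA x y
  intro h0
  apply h
  rw [Matrix.neg_apply, h0, neg_zero]

theorem k6T_sub {j : ℕ} {A B : Matrix (JI d) (JI d) K} (hA : K6T d j A) (hB : K6T d j B) :
    K6T d j (A - B) := by
  rw [sub_eq_add_neg]
  exact k6T_add hA (k6T_neg hB)

theorem k6T_mono {i j : ℕ} {A : Matrix (JI d) (JI d) K} (hij : i ≤ j) (hA : K6T d j A) :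
    K6T d i A := fun x y h => ⟨(hA x y h).1, by have := (hA x y h).2; omega⟩

variable (d)

theorem k6T_one : K6T d 0 (1 : Matrix (JI d) (JI d) K) := by
  intro x y h
  have hxy : x = y := by
    by_contra hne
    exact h (Matrix.one_apply_ne hne)
  subst hxy
  exact ⟨rfl, by omega⟩

theorem k6T_nilM : K6T d 1 (nilM d K) := by
  intro x y h
  rw [k6_nilM_apply] at h
  by_contra hcon
  apply h
  rw [if_neg]
  rintro ⟨h1, h2⟩
  exact hcon ⟨h1, by omega⟩

variable {d}

theorem k6T_mul {i j : ℕ} {A B : Matrix (JI d) (JI d) K} (hA : K6T d i A) (hB : K6T d j B) :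
    K6T d (i + j) (A * B) := by
  intro x y h
  rw [Matrix.mul_apply] at h
  obtain ⟨w, -, hw⟩ := Finset.exists_ne_zero_of_sum_ne_zero h
  have hA' := hA x w (left_ne_zero_of_mul hw)
  have hB' := hB w y (right_ne_zero_of_mul hw)
  exact ⟨hA'.1.trans hB'.1, by have := hA'.2; have := hB'.2; omega⟩

theorem k6T_pow {A : Matrix (JI d) (JI d) K} (hA : K6T d 1 A) (m : ℕ) : K6T d m (A ^ m) := by
  induction m with
  | zero => rw [pow_zero]; exact k6T_one d
  | succ m ih => rw [pow_succ]; exact k6T_mul ih hA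

theorem k6T_sum {ι' : Type*} (s : Finset ι') (f : ι' → Matrix (JI d) (JI d) K) (j : ℕ)
    (h : ∀ i ∈ s, K6T d j (f i)) : K6T d j (∑ i ∈ s, f i) := by
  classical
  induction s using Finset.induction_on with
  | empty => rw [Finset.sum_empty]; exact k6T_zero d j
  | insert a s ha ih =>
    rw [Finset.sum_insert ha]
    exact k6T_add (h a (Finset.mem_insert_self a s))
      (ih (fun i hi => h i (Finset.mem_insert_of_mem hi)))

theorem k6T_eq_zero {n : ℕ} {A : Matrix (JI d) (JI d) K} (hA : K6T d n A) (hn : ∀ l, d l ≤ n) :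
    A = 0 := by
  ext x y
  show A x y = 0
  by_contra h
  have h1 := (hA x y h).2
  have h2 := x.2.2
  have h3 := hn x.1
  omega

end filtration

/-- the entries of the powers of `nilM` -/
theorem k6_nilM_pow_apply {t : ℕ} (d : Fin t → ℕ) (a : ℕ) (x y : JI d) :
    (nilM d K ^ a) x y = if x.1 = y.1 ∧ (x.2 : ℕ) = (y.2 : ℕ) + a then 1 else 0 := by
  induction a generalizing y with
  | zero =>
    rw [pow_zero, Matrix.one_apply]
    obtain ⟨l, b⟩ := x
    obtain ⟨k, a'⟩ := y
    by_cases h : l = k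
    · subst h
      simp [Fin.ext_iff]
    · simp [h]
  | succ a ih =>
    rw [pow_succ, Matrix.mul_apply, Fintype.sum_sigma]
    by_cases hlt : (y.2 : ℕ) + 1 < d y.1
    · rw [Finset.sum_eq_single y.1, Finset.sum_eq_single (⟨(y.2 : ℕ) + 1, hlt⟩ : Fin (d y.1))]
      · rw [ih, k6_nilM_apply]
        by_cases hc : x.1 = y.1 ∧ (x.2 : ℕ) = (y.2 : ℕ) + (a + 1)
        · rw [if_pos hc, if_pos ⟨hc.1, by simp only; omega⟩, if_pos ⟨rfl, rfl⟩, mul_one]
        · rw [if_neg hc, if_neg, zero_mul]
          rintro ⟨h1, h2⟩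
          exact hc ⟨h1, by simp only at h2; omega⟩
      · intro c _ hc
        rw [k6_nilM_apply, if_neg, mul_zero]
        rintro ⟨-, h2⟩
        apply hc
        exact Fin.ext h2
      · intro h
        exact absurd (Finset.mem_univ _) h
      · intro k _ hk
        apply Finset.sum_eq_zero
        intro c _
        rw [k6_nilM_apply, if_neg, mul_zero]
        rintro ⟨h1, -⟩
        exact hk h1
      · intro h
        exact absurd (Finset.mem_univ _) h
    · rw [if_neg]
      · apply Finset.sum_eq_zero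
        intro k _
        apply Finset.sum_eq_zero
        intro c _
        rw [k6_nilM_apply, if_neg, mul_zero]
        rintro ⟨h1, h2⟩
        have hc := c.2
        simp only at h1 h2
        subst h1
        omega
      · rintro ⟨h1, h2⟩
        have hx := x.2.2
        have hd : d x.1 = d y.1 := congrArg d h1
        omega

/-- LEAF K6 (264607). -/
theorem exists_conj_cayley {t : ℕ} (d : Fin t → ℕ) (α ε : K) (hε0 : ε ≠ 0) :
    ∃ g : Matrix (JI d) (JI d) K, IsUnit g.det ∧
      g * nilM d K = (ε • (nilM d K * (1 + α • nilM d K)⁻¹)) * g := by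
  classical
  obtain ⟨N, hN⟩ : ∃ N : Matrix (JI d) (JI d) K, N = nilM d K := ⟨_, rfl⟩
  rw [← hN]
  obtain ⟨n, hn⟩ : ∃ n : ℕ, n = Finset.univ.sup d := ⟨_, rfl⟩
  have hdn : ∀ l, d l ≤ n + 1 := fun l => by
    have := Finset.le_sup (f := d) (Finset.mem_univ l)
    omega
  have hTN : K6T d 1 N := by rw [hN]; exact k6T_nilM d
  have hNpow : ∀ (a : ℕ) (x y : JI d),
      (N ^ a) x y = if x.1 = y.1 ∧ (x.2 : ℕ) = (y.2 : ℕ) + a then 1 else 0 := by
    rw [hN]; exact k6_nilM_pow_apply d
  have hNapp : ∀ x y : JI d, N x y = if x.1 = y.1 ∧ (x.2 : ℕ) = (y.2 : ℕ) + 1 then 1 else 0 := by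
    rw [hN]; exact k6_nilM_apply d
  -- the inverse of `1 + α N`
  obtain ⟨y, hy⟩ : ∃ y : Matrix (JI d) (JI d) K, y = -(α • N) := ⟨_, rfl⟩
  have hTy : K6T d 1 y := by rw [hy]; exact k6T_neg (k6T_smul α hTN)
  have hyn : y ^ (n + 1) = 0 := k6T_eq_zero (k6T_pow hTy (n + 1)) hdn
  obtain ⟨G, hG⟩ : ∃ G : Matrix (JI d) (JI d) K, G = ∑ i ∈ Finset.range (n + 1), y ^ i := ⟨_, rfl⟩
  have hPG : (1 + α • N) * G = 1 := by
    have h := mul_neg_geom_sum y (n + 1)
    rw [hyn, sub_zero] at h
    have h1 : (1 : Matrix (JI d) (JI d) K) - y = 1 + α • N := by rw [hy, sub_neg_eq_add]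
    rw [hG, ← h1]
    exact h
  have hinv : (1 + α • N)⁻¹ = G := Matrix.inv_eq_right_inv hPG
  rw [hinv]
  have hG1 : K6T d 1 (G - 1) := by
    rw [hG, Finset.sum_range_succ', pow_zero, add_sub_cancel_right]
    exact k6T_sum _ _ 1 (fun i _ => k6T_mono (by omega) (k6T_pow hTy (i + 1)))
  have hG0 : K6T d 0 G := by
    have h : G = (G - 1) + 1 := by abel
    rw [h]
    exact k6T_add (k6T_mono (by omega) hG1) (k6T_one d)
  obtain ⟨s, hs⟩ : ∃ s : Matrix (JI d) (JI d) K, s = ε • (N * G) := ⟨_, rfl⟩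
  rw [← hs]
  have hTs : K6T d 1 s := by
    rw [hs]
    exact k6T_smul ε (k6T_mul hTN hG0)
  have hsN : K6T d 2 (s - ε • N) := by
    have h : s - ε • N = ε • (N * (G - 1)) := by
      rw [hs, mul_sub, mul_one, smul_sub]
    rw [h]
    exact k6T_smul ε (k6T_mul hTN hG1)
  have hlead : ∀ a : ℕ, K6T d (a + 1) (s ^ a - ε ^ a • N ^ a) := by
    intro a
    induction a with
    | zero =>
      have h : s ^ 0 - ε ^ 0 • N ^ 0 = 0 := by simp
      rw [h]
      exact k6T_zero d _
    | succ a ih =>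
      have h : s ^ (a + 1) - ε ^ (a + 1) • N ^ (a + 1) =
          (s ^ a - ε ^ a • N ^ a) * s + (ε ^ a • N ^ a) * (s - ε • N) := by
        rw [pow_succ, pow_succ, pow_succ, sub_mul, mul_sub, smul_mul_smul_comm]
        abel
      rw [h]
      refine k6T_add (k6T_mul ih hTs) ?_
      have h2 := k6T_mul (k6T_smul (ε ^ a) (k6T_pow hTN a)) hsN
      exact k6T_mono (by omega) h2
  -- the conjugator
  let z : JI d → JI d := fun x => ⟨x.1, ⟨0, by have := x.2.2; omega⟩⟩
  obtain ⟨g, hg⟩ : ∃ g : Matrix (JI d) (JI d) K, g = Matrix.of fun x y => (s ^ (y.2 : ℕ)) x (z y) :=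
    ⟨_, rfl⟩
  have hgapp : ∀ x y, g x y = (s ^ (y.2 : ℕ)) x (z y) := by
    intro x y
    rw [hg]
    rfl
  refine ⟨g, ?_, ?_⟩
  · -- invertibility
    obtain ⟨D, hD⟩ : ∃ D : Matrix (JI d) (JI d) K, D = Matrix.diagonal (fun x => ε ^ (x.2 : ℕ)) :=
      ⟨_, rfl⟩
    obtain ⟨D', hD'⟩ : ∃ D' : Matrix (JI d) (JI d) K,
        D' = Matrix.diagonal (fun x => (ε ^ (x.2 : ℕ))⁻¹) := ⟨_, rfl⟩
    have hDD' : D * D' = 1 := by
      rw [hD, hD', Matrix.diagonal_mul_diagonal]
      rw [← Matrix.diagonal_one]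
      congr 1
      funext x
      exact mul_inv_cancel₀ (pow_ne_zero _ hε0)
    have hTD' : K6T d 0 D' := by
      intro x y h
      have hxy : x = y := by
        by_contra hne
        apply h
        rw [hD']
        exact Matrix.diagonal_apply_ne _ hne
      subst hxy
      exact ⟨rfl, by omega⟩
    have hTR : K6T d 1 (g - D) := by
      intro x y h
      have hval : (g - D) x y = (s ^ (y.2 : ℕ) - ε ^ (y.2 : ℕ) • N ^ (y.2 : ℕ)) x (z y) := by
        rw [Matrix.sub_apply, Matrix.sub_apply, Matrix.smul_apply, hgapp, hNpow, hD]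
        congr 1
        by_cases hxy : x = y
        · subst hxy
          rw [Matrix.diagonal_apply_eq, if_pos ⟨rfl, by simp [z]⟩, smul_eq_mul, mul_one]
        · rw [Matrix.diagonal_apply_ne _ hxy, if_neg, smul_zero]
          rintro ⟨h1, h2⟩
          apply hxy
          obtain ⟨l, b⟩ := x
          obtain ⟨k, a⟩ := y
          simp only [z] at h1 h2
          subst h1
          have : b = a := Fin.ext (by simpa using h2)
          rw [this]
      rw [hval] at h
      have := hlead (y.2 : ℕ) x (z y) h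
      refine ⟨this.1, ?_⟩
      have h2 := this.2
      simp only [z] at h2
      omega
    have hnil : IsNilpotent (D' * (g - D)) := by
      refine ⟨n + 1, ?_⟩
      have h1 : K6T d 1 (D' * (g - D)) := by
        have := k6T_mul hTD' hTR
        rwa [zero_add] at this
      exact k6T_eq_zero (k6T_pow h1 (n + 1)) hdn
    have hgD : g = D * (1 + D' * (g - D)) := by
      rw [mul_add, mul_one, ← mul_assoc, hDD', one_mul]
      abel
    have hu : IsUnit (1 + D' * (g - D)) := hnil.isUnit_one_add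
    rw [hgD, Matrix.det_mul]
    refine IsUnit.mul ?_ ((Matrix.isUnit_iff_isUnit_det _).mp hu)
    rw [hD, Matrix.det_diagonal, isUnit_iff_ne_zero]
    exact Finset.prod_ne_zero_iff.mpr (fun x _ => pow_ne_zero _ hε0)
  · -- the conjugation relation
    ext x y
    rw [Matrix.mul_apply, Matrix.mul_apply]
    have hR : ∑ w, s x w * g w y = (s ^ ((y.2 : ℕ) + 1)) x (z y) := by
      rw [pow_succ', Matrix.mul_apply]
      apply Finset.sum_congr rfl
      intro w _
      rw [hgapp]
    rw [hR, Fintype.sum_sigma]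
    by_cases hlt : (y.2 : ℕ) + 1 < d y.1
    · rw [Finset.sum_eq_single y.1, Finset.sum_eq_single (⟨(y.2 : ℕ) + 1, hlt⟩ : Fin (d y.1))]
      · rw [hNapp, if_pos ⟨rfl, rfl⟩, mul_one, hgapp]
      · intro c _ hc
        rw [hNapp, if_neg, mul_zero]
        rintro ⟨-, h2⟩
        apply hc
        exact Fin.ext h2
      · intro h
        exact absurd (Finset.mem_univ _) h
      · intro k _ hk
        apply Finset.sum_eq_zero
        intro c _
        rw [hNapp, if_neg, mul_zero]
        rintro ⟨h1, -⟩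
        exact hk h1
      · intro h
        exact absurd (Finset.mem_univ _) h
    · have hz : (s ^ ((y.2 : ℕ) + 1)) x (z y) = 0 := by
        by_contra h
        have h1 := k6T_pow hTs ((y.2 : ℕ) + 1) x (z y) h
        have hx := x.2.2
        have h2 := h1.2
        have h3 : x.1 = y.1 := h1.1
        have hd : d x.1 = d y.1 := congrArg d h3
        omega
      rw [hz]
      apply Finset.sum_eq_zero
      intro k _
      apply Finset.sum_eq_zero
      intro c _
      rw [hNapp, if_neg, mul_zero]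
      rintro ⟨h1, h2⟩
      have hc := c.2
      simp only at h1 h2
      subst h1
      omega

end Cfsg.Agent.Lib.Helper85.UC
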