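import Mathlib
import Cfsg.Agent.Lib.Helper94.THDefs

/-!
# K-TH-B5a (keystone 163207, pack K-TH of helper94, row S1632): norm-summability of the theta family

`A` positive definite gives `rq A x ≥ c * Σ x_i ^ 2` (compactness of the unit sphere), so the norm of the theta
term is bounded by a product of one-dimensional Gaussian terms `‖jacobiTheta₂_term‖`, and a product of
summable nonnegative families is summable on `Fin n → ℤ` (induction on `n`).
-/

set_option autoImplicit false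

namespace Cfsg.Agent.Lib.Helper85.TH

open Matrix Complex
open scoped Real
open Cfsg.Agent.Lib.Helper94.TH

/-- the norm of the theta term (= leaf B0) -/
theorem th5a_norm {n : ℕ} (A : Matrix (Fin n) (Fin n) ℝ) (τ : ℂ) (z : Fin n → ℂ)
    (x : Fin n → ℤ) :
    ‖ThTerm A τ z x‖ =
      Real.exp (-(π * (τ.im * rq A (fun i => (x i : ℝ)) + 2 * ∑ i, (x i : ℝ) * (z i).im))) := by
  unfold ThTerm
  rw [Complex.norm_exp]
  congr 1
  have him : (∑ i, (x i : ℂ) * z i).im = ∑ i, (x i : ℝ) * (z i).im := by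
    rw [Complex.im_sum]
    apply Finset.sum_congr rfl
    intro i _
    simp [Complex.mul_im]
  have hre : (∑ i, (x i : ℂ) * z i).re = ∑ i, (x i : ℝ) * (z i).re := by
    rw [Complex.re_sum]
    apply Finset.sum_congr rfl
    intro i _
    simp [Complex.mul_re]
  simp only [Complex.mul_re, Complex.mul_im, Complex.add_re, Complex.add_im, Complex.ofReal_re,
    Complex.ofReal_im, Complex.I_re, Complex.I_im, him, hre, Complex.re_ofNat, Complex.im_ofNat]
  ring

/-- one-dimensional Gaussian sums with a linear term -/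
theorem th5a_summable_one (a : ℝ) (ha : 0 < a) (y : ℝ) :
    Summable (fun m : ℤ => Real.exp (-π * a * (m : ℝ) ^ 2 - 2 * π * (m : ℝ) * y)) := by
  have h := (summable_jacobiTheta₂_term_iff ((y : ℂ) * I) ((a : ℂ) * I)).mpr (by simpa using ha)
  have h2 := h.norm
  simp_rw [norm_jacobiTheta₂_term] at h2
  refine h2.congr (fun m => ?_)
  simp
  ring_nf

/-- a product of nonnegative summable families is summable on `Fin n → ℤ` -/
theorem th5a_summable_pi_prod : ∀ (n : ℕ) (g : Fin n → ℤ → ℝ), (∀ i m, 0 ≤ g i m) →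
    (∀ i, Summable (g i)) → Summable (fun x : Fin n → ℤ => ∏ i, g i (x i)) := by
  intro n
  induction n with
  | zero =>
    intro g _ _
    exact Summable.of_finite
  | succ n ih =>
    intro g hg0 hg
    have h1 := ih (fun i => g i.succ) (fun i m => hg0 _ m) (fun i => hg _)
    have h2 := Summable.mul_of_nonneg (hg 0) h1 (fun m => hg0 0 m)
      (fun y => Finset.prod_nonneg (fun i _ => hg0 _ _))
    rw [← (Fin.consEquiv (fun _ : Fin (n + 1) => ℤ)).summable_iff]
    refine h2.congr (fun p => ?_)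
    simp only [Function.comp_apply, Fin.prod_univ_succ, Fin.consEquiv_apply, Fin.cons_zero,
      Fin.cons_succ]

theorem th5a_rq_smul {n : ℕ} (A : Matrix (Fin n) (Fin n) ℝ) (t : ℝ) (x : Fin n → ℝ) :
    rq A (t • x) = t ^ 2 * rq A x := by
  unfold rq
  rw [Matrix.mulVec_smul, smul_dotProduct, dotProduct_smul, smul_eq_mul, smul_eq_mul]
  ring

/-- positive definite forms dominate a multiple of the sum of squares -/
theorem th5a_lower {n : ℕ} {A : Matrix (Fin n) (Fin n) ℝ} (hA : IsPD A) :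
    ∃ c : ℝ, 0 < c ∧ ∀ x : Fin n → ℝ, c * ∑ i, x i ^ 2 ≤ rq A x := by
  have hcont : Continuous (fun x : Fin n → ℝ => rq A x) := by
    unfold rq
    simp only [dotProduct, Matrix.mulVec]
    fun_prop
  have hS : IsCompact (Metric.sphere (0 : Fin n → ℝ) 1) := isCompact_sphere 0 1
  have hmk : ∀ x : Fin n → ℝ, x ≠ 0 → (‖x‖⁻¹ • x) ∈ Metric.sphere (0 : Fin n → ℝ) 1 := by
    intro x hx
    rw [mem_sphere_zero_iff_norm, norm_smul, norm_inv, norm_norm,
      inv_mul_cancel₀ (norm_pos_iff.mpr hx).ne']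
  by_cases hne : (Metric.sphere (0 : Fin n → ℝ) 1).Nonempty
  · obtain ⟨x0, hx0, hmin⟩ := hS.exists_isMinOn hne hcont.continuousOn
    have hx0ne : x0 ≠ 0 := by
      intro h
      rw [h, mem_sphere_zero_iff_norm, norm_zero] at hx0
      exact zero_ne_one hx0
    have hc0 : 0 < rq A x0 := hA.2 x0 hx0ne
    refine ⟨rq A x0 / ((n : ℝ) + 1), by positivity, ?_⟩
    intro x
    by_cases hx : x = 0
    · subst hx
      simp [rq]
    · have hnx : 0 < ‖x‖ := norm_pos_iff.mpr hx
      have h1 : rq A x0 ≤ rq A (‖x‖⁻¹ • x) := hmin (hmk x hx)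
      rw [th5a_rq_smul] at h1
      have h3 : ∑ i, x i ^ 2 ≤ (n : ℝ) * ‖x‖ ^ 2 := by
        calc ∑ i, x i ^ 2 ≤ ∑ _i : Fin n, ‖x‖ ^ 2 := Finset.sum_le_sum (fun i _ => by
              have h := norm_le_pi_norm x i
              rw [Real.norm_eq_abs] at h
              calc x i ^ 2 = |x i| ^ 2 := (sq_abs _).symm
                _ ≤ ‖x‖ ^ 2 := by gcongr)
          _ = (n : ℝ) * ‖x‖ ^ 2 := by simp
      have h4 : rq A x0 * ‖x‖ ^ 2 ≤ rq A x := by
        have h5 : rq A x0 * ‖x‖ ^ 2 ≤ (‖x‖⁻¹) ^ 2 * rq A x * ‖x‖ ^ 2 := by gcongr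
        calc rq A x0 * ‖x‖ ^ 2 ≤ (‖x‖⁻¹) ^ 2 * rq A x * ‖x‖ ^ 2 := h5
          _ = rq A x := by field_simp
      have h6 : (n : ℝ) / ((n : ℝ) + 1) ≤ 1 := by
        rw [div_le_one (by positivity)]
        linarith
      calc rq A x0 / ((n : ℝ) + 1) * ∑ i, x i ^ 2
          ≤ rq A x0 / ((n : ℝ) + 1) * ((n : ℝ) * ‖x‖ ^ 2) := by gcongr
        _ = (rq A x0 * ‖x‖ ^ 2) * ((n : ℝ) / ((n : ℝ) + 1)) := by ring
        _ ≤ (rq A x0 * ‖x‖ ^ 2) * 1 := by gcongr
        _ = rq A x0 * ‖x‖ ^ 2 := mul_one _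
        _ ≤ rq A x := h4
  · refine ⟨1, one_pos, ?_⟩
    intro x
    have hx : x = 0 := by
      by_contra hx
      exact hne ⟨_, hmk x hx⟩
    subst hx
    simp [rq]

/-- LEAF B5a (163207). -/
theorem summable_ThTerm {n : ℕ} {A : Matrix (Fin n) (Fin n) ℝ} (hA : IsPD A) {τ : ℂ}
    (hτ : 0 < τ.im) (z : Fin n → ℂ) : Summable (fun x : Fin n → ℤ => ‖ThTerm A τ z x‖) := by
  obtain ⟨c, hc, hlow⟩ := th5a_lower hA
  have hsum := th5a_summable_pi_prod n
    (fun i m => Real.exp (-π * (τ.im * c) * (m : ℝ) ^ 2 - 2 * π * (m : ℝ) * (z i).im))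
    (fun i m => (Real.exp_pos _).le)
    (fun i => th5a_summable_one (τ.im * c) (by positivity) (z i).im)
  refine Summable.of_nonneg_of_le (fun x => norm_nonneg _) (fun x => ?_) hsum
  rw [th5a_norm, ← Real.exp_sum]
  apply Real.exp_le_exp.mpr
  have h := hlow (fun i => (x i : ℝ))
  have e : ∑ i, (-π * (τ.im * c) * ((x i : ℝ)) ^ 2 - 2 * π * (x i : ℝ) * (z i).im) =
      -π * (τ.im * c) * ∑ i, ((x i : ℝ)) ^ 2 - 2 * π * ∑ i, (x i : ℝ) * (z i).im := by
    rw [Finset.sum_sub_distrib, Finset.mul_sum, Finset.mul_sum]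
    congr 1
    apply Finset.sum_congr rfl
    intro i _
    ring
  rw [e]
  have h7 := mul_le_mul_of_nonneg_left h (mul_pos Real.pi_pos hτ).le
  nlinarith [h7]

end Cfsg.Agent.Lib.Helper85.TH
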