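import Mathlib

/-!
# K-Nd-I (keystone 595609, architect helper98): Jordan chains and kernels of powers
-/

set_option autoImplicit false

namespace Cfsg.Agent.Lib.Helper85.Nd

open Module

universe u
variable {F : Type u} [Field F] {V : Type u} [AddCommGroup V] [Module F V]

/-- LEAF I (Jordan chains; pure linear algebra). -/
theorem finrank_inf_ker_of_chains [FiniteDimensional F V] (N : V →ₗ[F] V) (e a : ℕ) (v : Fin e → V)
    (hN : ∀ j, (N ^ a) (v j) = 0)
    (hli : LinearIndependent F (fun q : Fin e × Fin a => (N ^ (q.2 : ℕ)) (v q.1))) (k : ℕ) :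
    finrank F ↥(Submodule.span F (Set.range (fun q : Fin e × Fin a => (N ^ (q.2 : ℕ)) (v q.1))) ⊓
      LinearMap.ker (N ^ k)) = e * min a k := by
  classical
  set b : Fin e × Fin a → V := fun q => (N ^ (q.2 : ℕ)) (v q.1) with hb
  set P := Submodule.span F (Set.range b) with hP
  have hpow : ∀ (i k : ℕ) (x : V), (N ^ k) ((N ^ i) x) = (N ^ (i + k)) x := by
    intro i k x
    rw [add_comm, pow_add, Module.End.mul_apply]
  have hfP : finrank F P = e * a := by
    rw [hP, finrank_span_eq_card hli, Fintype.card_prod, Fintype.card_fin, Fintype.card_fin]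
  let f : Fin e × Fin (a - k) → Fin e × Fin a :=
    fun q => (q.1, ⟨(q.2 : ℕ) + k, by have := q.2.2; omega⟩)
  have hf : Function.Injective f := by
    rintro ⟨q1, q2⟩ ⟨q1', q2'⟩ h
    have h1 : q1 = q1' := congrArg Prod.fst h
    have h2 : (q2 : ℕ) + k = (q2' : ℕ) + k := congrArg (fun r : Fin e × Fin a => (r.2 : ℕ)) h
    have h3 : q2 = q2' := Fin.ext (by omega)
    rw [h1, h3]
  have hli' : LinearIndependent F (b ∘ f) := hli.comp f hf
  have hmap : P.map (N ^ k) = Submodule.span F (Set.range (b ∘ f)) := by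
    rw [hP, Submodule.map_span, ← Set.range_comp]
    apply le_antisymm
    · rw [Submodule.span_le]
      rintro _ ⟨q, rfl⟩
      show (N ^ k) ((N ^ (q.2 : ℕ)) (v q.1)) ∈ _
      rw [hpow]
      by_cases hq : (q.2 : ℕ) + k < a
      · apply Submodule.subset_span
        exact ⟨(q.1, ⟨(q.2 : ℕ), by omega⟩), rfl⟩
      · have h1 : (q.2 : ℕ) + k = a + ((q.2 : ℕ) + k - a) := by omega
        rw [h1, ← hpow, hN, map_zero]
        exact Submodule.zero_mem _
    · apply Submodule.span_mono
      rintro _ ⟨q, rfl⟩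
      refine ⟨(q.1, ⟨(q.2 : ℕ), by have := q.2.2; omega⟩), ?_⟩
      show (N ^ k) ((N ^ (q.2 : ℕ)) (v q.1)) = (N ^ ((q.2 : ℕ) + k)) (v q.1)
      rw [hpow]
  have hfmap : finrank F (P.map (N ^ k)) = e * (a - k) := by
    rw [hmap, finrank_span_eq_card hli', Fintype.card_prod, Fintype.card_fin, Fintype.card_fin]
  have hrn := LinearMap.finrank_range_add_finrank_ker ((N ^ k).domRestrict P)
  rw [LinearMap.range_domRestrict, LinearMap.ker_domRestrict, hfmap, hfP] at hrn
  have hker : finrank F ((LinearMap.ker (N ^ k)).comap P.subtype) =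
      finrank F ↥(P ⊓ LinearMap.ker (N ^ k)) := by
    rw [← Submodule.finrank_map_subtype_eq P, Submodule.map_comap_subtype]
  rw [hker] at hrn
  have h3 : e * (a - k) + e * min a k = e * a := by
    rw [← mul_add]
    congr 1
    omega
  exact Nat.add_left_cancel (hrn.trans h3.symm)

end Cfsg.Agent.Lib.Helper85.Nd
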