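import Mathlib
import Cfsg.Agent.Lib.Helper06.NFDefs
import Cfsg.Agent.Lib.Helper23.NF4a

/-!
# K-S3360-PPD: an element of primitive-prime-divisor order has abelian centralizer
(keystone for S3360, architect helper6)
-/

set_option autoImplicit false
set_option linter.style.haveILetI false

namespace Cfsg.Agent.Lib.Helper85.NF2

open Cfsg.Agent.Lib.Helper06.NF

variable {p : ℕ} [Fact p.Prime] {V : Type*} [AddCommGroup V] [Module (ZMod p) V]

/-- orbit counting for a linear automorphism of prime order on an invariant subspace. -/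
theorem card_modEq_fixed [Finite V] (l : ℕ) (hl : l.Prime) (g : V ≃ₗ[ZMod p] V) (hg : g ^ l = 1)
    (U : Submodule (ZMod p) V) (hU : ∀ u ∈ U, g u ∈ U) :
    Nat.card U ≡ Nat.card ↥(U ⊓ LinearMap.ker ((g : V →ₗ[ZMod p] V) - 1)) [MOD l] := by
  classical
  haveI : Fact l.Prime := ⟨hl⟩
  haveI : Fintype U := Fintype.ofFinite U
  let f : Function.End U := fun u => ⟨g u, hU u u.2⟩
  have hfpow : ∀ k : ℕ, ∀ u : U, ((f ^ k) u : V) = (g ^ k) u := by
    intro k
    induction k with
    | zero => intro u; rfl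
    | succ k ih =>
      intro u
      rw [pow_succ', pow_succ']
      show ((f ((f ^ k) u) : U) : V) = g ((g ^ k) u)
      rw [← ih u]
  have hf : f ^ l ^ 1 = 1 := by
    rw [pow_one]
    funext u
    apply Subtype.ext
    rw [hfpow, hg]
    rfl
  have h1 := Equiv.Perm.card_fixedPoints_modEq (p := l) (n := 1) (f := f) hf
  rw [Nat.card_eq_fintype_card]
  refine h1.trans ?_
  rw [← Nat.card_eq_fintype_card]
  have hmemF : ∀ v : V, v ∈ LinearMap.ker ((g : V →ₗ[ZMod p] V) - 1) ↔ g v = v := by
    intro v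
    rw [LinearMap.mem_ker, LinearMap.sub_apply, sub_eq_zero]
    rfl
  have hcard : Nat.card (Function.fixedPoints f) =
      Nat.card ↥(U ⊓ LinearMap.ker ((g : V →ₗ[ZMod p] V) - 1)) := by
    refine Nat.card_congr ?_
    refine
      { toFun := fun u => ⟨(u.1 : V), ⟨u.1.2, (hmemF _).mpr (congrArg Subtype.val u.2)⟩⟩
        invFun := fun w => ⟨⟨(w : V), w.2.1⟩, Subtype.ext ((hmemF _).mp w.2.2)⟩
        left_inv := fun u => rfl
        right_inv := fun w => rfl }
  rw [hcard]

/-- cardinality of a subspace as a power of `p`. -/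
theorem card_submodule_eq_pow [Finite V] (W : Submodule (ZMod p) V) :
    Nat.card W = p ^ Module.finrank (ZMod p) W := by
  have h := Module.natCard_eq_pow_finrank (K := ZMod p) (V := W)
  rw [Nat.card_zmod] at h
  exact h

/-- an element of primitive-prime-divisor order acts irreducibly. -/
theorem eq_top_of_invariant [Finite V] [Nontrivial V] (n l : ℕ) (hV : Nat.card V = p ^ n)
    (hl : l.Prime) (hord : orderOf ((p : ℕ) : ZMod l) = n) (g : V ≃ₗ[ZMod p] V)
    (hg : g ^ l = 1) (hg1 : g ≠ 1) (U : Submodule (ZMod p) V) (hU : ∀ u ∈ U, g u ∈ U)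
    (hU0 : U ≠ ⊥) : U = ⊤ := by
  classical
  have hp : p.Prime := Fact.out
  haveI : Fact l.Prime := ⟨hl⟩
  have hP : ∀ k : ℕ, ((p : ℕ) : ZMod l) ^ k = 1 ↔ n ∣ k := by
    intro k
    rw [← hord]
    exact (orderOf_dvd_iff_pow_eq_one).symm
  have hVcard : Nat.card V = p ^ Module.finrank (ZMod p) V := by
    have h := Module.natCard_eq_pow_finrank (K := ZMod p) (V := V)
    rw [Nat.card_zmod] at h
    exact h
  have hfr : Module.finrank (ZMod p) V = n :=
    Nat.pow_right_injective hp.two_le (hVcard.symm.trans hV)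
  have hn0 : n ≠ 0 := by
    rw [← hfr]
    exact (Module.finrank_pos (R := ZMod p) (M := V)).ne'
  -- the key congruence in `ZMod l`
  have hcong : ∀ W : Submodule (ZMod p) V, (∀ u ∈ W, g u ∈ W) →
      ((p : ℕ) : ZMod l) ^ Module.finrank (ZMod p) W =
        ((p : ℕ) : ZMod l) ^
          Module.finrank (ZMod p) ↥(W ⊓ LinearMap.ker ((g : V →ₗ[ZMod p] V) - 1)) := by
    intro W hW
    have h := card_modEq_fixed l hl g hg W hW
    rw [card_submodule_eq_pow, card_submodule_eq_pow] at h
    have h2 := (ZMod.natCast_eq_natCast_iff _ _ _).mpr h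
    push_cast at h2
    exact h2
  have hle : ∀ W : Submodule (ZMod p) V, Module.finrank (ZMod p) W ≤ n := by
    intro W
    rw [← hfr]
    exact Submodule.finrank_le W
  have hunit : IsUnit (((p : ℕ) : ZMod l)) := by
    have h1 : ((p : ℕ) : ZMod l) ^ n = 1 := (hP n).mpr dvd_rfl
    exact IsUnit.of_pow_eq_one h1 hn0
  -- the fixed space is trivial
  have hF : LinearMap.ker ((g : V →ₗ[ZMod p] V) - 1) = ⊥ := by
    set F := LinearMap.ker ((g : V →ₗ[ZMod p] V) - 1) with hFdef
    have h1 := hcong ⊤ (fun u _ => Submodule.mem_top)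
    rw [top_inf_eq, finrank_top, hfr] at h1
    set m := Module.finrank (ZMod p) F with hm
    have hmn : m ≤ n := hle F
    have h2 : ((p : ℕ) : ZMod l) ^ (n - m) = 1 := by
      have h3 : ((p : ℕ) : ZMod l) ^ m * ((p : ℕ) : ZMod l) ^ (n - m) =
          ((p : ℕ) : ZMod l) ^ m * 1 := by
        rw [← pow_add, Nat.add_sub_cancel' hmn, mul_one, h1]
      exact (hunit.pow m).mul_left_cancel h3
    have h4 : n ∣ n - m := (hP _).mp h2
    rcases Nat.eq_zero_or_pos (n - m) with h0 | hpos
    · -- m = n : g = 1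
      exfalso
      have hmn' : m = n := by omega
      have hFtop : F = ⊤ := by
        apply Submodule.eq_top_of_finrank_eq
        rw [← hm, hmn', hfr]
      apply hg1
      apply LinearEquiv.ext
      intro v
      have hv : v ∈ F := hFtop ▸ Submodule.mem_top
      rw [hFdef, LinearMap.mem_ker, LinearMap.sub_apply, sub_eq_zero] at hv
      exact hv
    · have h5 : n ≤ n - m := Nat.le_of_dvd hpos h4
      have hm0 : m = 0 := by omega
      exact Submodule.finrank_eq_zero.mp hm0
  -- now the general case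
  have h1 := hcong U hU
  rw [hF, inf_bot_eq, finrank_bot, pow_zero] at h1
  have h2 : n ∣ Module.finrank (ZMod p) U := (hP _).mp h1
  have h3 : Module.finrank (ZMod p) U ≠ 0 := by
    intro h
    exact hU0 (Submodule.finrank_eq_zero.mp h)
  have h4 : n ≤ Module.finrank (ZMod p) U := Nat.le_of_dvd (Nat.pos_of_ne_zero h3) h2
  apply Submodule.eq_top_of_finrank_eq
  rw [hfr]
  exact le_antisymm (hle U) h4

/-- **K-S3360-PPD**: the centralizer of an element whose order is a primitive prime divisor of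
`p ^ n - 1` is commutative. -/
theorem commute_of_commute_ppd [Finite V] [Nontrivial V] (H : Subgroup (V ≃ₗ[ZMod p] V)) (n l : ℕ)
    (hV : Nat.card V = p ^ n) (hl : l.Prime) (hord : orderOf ((p : ℕ) : ZMod l) = n)
    (x : H) (hx : orderOf x = l) (y z : H) (hy : x * y = y * x) (hz : x * z = z * x) :
    y * z = z * y := by
  classical
  have hp : p.Prime := Fact.out
  haveI : Fact l.Prime := ⟨hl⟩
  set g : V ≃ₗ[ZMod p] V := ((x : H) : V ≃ₗ[ZMod p] V) with hgdef
  have hg : g ^ l = 1 := by
    have h1 : x ^ l = 1 := by rw [← hx]; exact pow_orderOf_eq_one x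
    have h2 := congrArg (fun h : H => (h : V ≃ₗ[ZMod p] V)) h1
    simpa using h2
  have hg1 : g ≠ 1 := by
    intro h
    have hx1 : x = 1 := by
      apply Subtype.ext
      exact h
    rw [hx1, orderOf_one] at hx
    exact hl.one_lt.ne hx
  have hVcard : Nat.card V = p ^ Module.finrank (ZMod p) V := by
    have h := Module.natCard_eq_pow_finrank (K := ZMod p) (V := V)
    rw [Nat.card_zmod] at h
    exact h
  have hfr : Module.finrank (ZMod p) V = n :=
    Nat.pow_right_injective hp.two_le (hVcard.symm.trans hV)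
  have hn0 : n ≠ 0 := by
    rw [← hfr]
    exact (Module.finrank_pos (R := ZMod p) (M := V)).ne'
  set A : Subgroup H := Subgroup.zpowers x with hAdef
  have hAc : ∀ a ∈ A, ∀ b ∈ A, a * b = b * a := by
    intro a ha b hb
    obtain ⟨i, rfl⟩ := Subgroup.mem_zpowers_iff.mp ha
    obtain ⟨j, rfl⟩ := Subgroup.mem_zpowers_iff.mp hb
    exact ((Commute.refl x).zpow_zpow i j).eq
  -- generators commute
  have hgen : ∀ f ∈ {f : Module.End (ZMod p) V | ∃ a ∈ A,
      f = (((a : H) : V ≃ₗ[ZMod p] V) : V →ₗ[ZMod p] V)},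
      ∀ g' ∈ {f : Module.End (ZMod p) V | ∃ a ∈ A,
      f = (((a : H) : V ≃ₗ[ZMod p] V) : V →ₗ[ZMod p] V)}, f * g' = g' * f := by
    rintro f ⟨a, ha, rfl⟩ g' ⟨b, hb, rfl⟩
    ext v
    have := congrArg (fun h : H => ((h : V ≃ₗ[ZMod p] V) v)) (hAc a ha b hb)
    simpa using this
  have hc : ∀ k ∈ adj H A, ∀ k' ∈ adj H A, k * k' = k' * k := by
    have hI : IsMulCommutative ↥(adj H A) := Algebra.isMulCommutative_adjoin (ZMod p) hgen
    intro k hk k' hk'
    exact setLike_mul_comm hk hk'
  have hgmem : ((g : V →ₗ[ZMod p] V) : Module.End (ZMod p) V) ∈ adj H A :=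
    Algebra.subset_adjoin ⟨x, Subgroup.mem_zpowers x, rfl⟩
  have hK : ∀ k ∈ adj H A, ∀ v : V, v ≠ 0 → k v = 0 → k = 0 := by
    intro k hk v hv hkv
    have hcomm := hc k hk _ hgmem
    have hinv : ∀ u ∈ LinearMap.ker k, g u ∈ LinearMap.ker k := by
      intro u hu
      rw [LinearMap.mem_ker] at hu ⊢
      have h1 := LinearMap.congr_fun hcomm u
      rw [Module.End.mul_apply, Module.End.mul_apply] at h1
      have h2 : k (g u) = g (k u) := h1
      rw [h2, hu, map_zero]
    have hne : LinearMap.ker k ≠ ⊥ := by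
      intro h
      apply hv
      have : v ∈ LinearMap.ker k := LinearMap.mem_ker.mpr hkv
      rw [h] at this
      exact (Submodule.mem_bot _).mp this
    have htop := eq_top_of_invariant n l hV hl hord g hg hg1 (LinearMap.ker k) hinv hne
    exact LinearMap.ker_eq_top.mp htop
  obtain ⟨hd, e, he, hcardV, hdvd, -, hcomm⟩ := Cfsg.Agent.Lib.Helper23.NF.dim_data H A hAc hK
  set d := Module.finrank (ZMod p) (adj H A) with hddef
  have hcardA : Nat.card A = l := by
    rw [hAdef, Nat.card_zpowers, hx]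
  rw [hcardA] at hdvd
  have hpd : ((p : ℕ) : ZMod l) ^ d = 1 := by
    have h1 : ((p ^ d - 1 : ℕ) : ZMod l) = 0 := (ZMod.natCast_eq_zero_iff _ _).mpr hdvd
    have h2 : 1 ≤ p ^ d := Nat.one_le_pow _ _ hp.pos
    have h3 : ((p ^ d : ℕ) : ZMod l) = ((p ^ d - 1 : ℕ) : ZMod l) + 1 := by
      rw [← Nat.cast_one (R := ZMod l), ← Nat.cast_add, Nat.sub_add_cancel h2]
    rw [h1, zero_add] at h3
    rw [← h3]
    push_cast
    rfl
  have hnd : n ∣ d := by
    rw [← hord]
    exact orderOf_dvd_of_pow_eq_one hpd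
  have hnde : n = d * e := Nat.pow_right_injective hp.two_le (hV.symm.trans hcardV)
  have he1 : e = 1 := by
    obtain ⟨c, hcd⟩ := hnd
    have h1 : n * 1 = n * (c * e) := by
      rw [mul_one]
      calc n = d * e := hnde
        _ = n * c * e := by rw [hcd]
        _ = n * (c * e) := by ring
    have h2 : 1 = c * e := Nat.eq_of_mul_eq_mul_left (Nat.pos_of_ne_zero hn0) h1
    exact Nat.eq_one_of_mul_eq_one_left h2.symm
  have hcent : ∀ w : H, x * w = w * x → w ∈ Subgroup.centralizer (A : Set H) := by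
    intro w hw
    rw [Subgroup.mem_centralizer_iff]
    intro a ha
    obtain ⟨i, rfl⟩ := Subgroup.mem_zpowers_iff.mp ha
    have hcw : Commute x w := hw
    exact (hcw.zpow_left i).eq
  exact hcomm he1 y (hcent y hy) z (hcent z hz)

end Cfsg.Agent.Lib.Helper85.NF2
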