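/-
Keystone K-PMinAlt-C11 (`core_split`) for S2930.  Architect: helper6.  Leaf by helper85.
-/
import Mathlib
import Cfsg.Prelude.Def_Local
import Cfsg.Prelude.Def_LocalEven
import Cfsg.Agent.Lib.Helper06.PMinAlt.Defs

set_option autoImplicit false

namespace Cfsg.Agent.Lib.Helper85.PMinAlt

open Equiv Equiv.Perm
open Cfsg.Agent.Lib.Helper06.PMinAlt

section Perm

variable {α : Type*} [Fintype α] [DecidableEq α]

theorem c11_orbRel_refl (S : Subgroup (Perm α)) (x : α) : orbRel S x x :=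
  ⟨1, S.one_mem, rfl⟩

theorem c11_orbRel_symm (S : Subgroup (Perm α)) {x y : α} (h : orbRel S x y) : orbRel S y x := by
  obtain ⟨s, hs, rfl⟩ := h
  exact ⟨s⁻¹, S.inv_mem hs, by simp⟩

theorem c11_orbRel_trans (S : Subgroup (Perm α)) {x y z : α} (h₁ : orbRel S x y)
    (h₂ : orbRel S y z) : orbRel S x z := by
  obtain ⟨s, hs, rfl⟩ := h₁
  obtain ⟨t, ht, rfl⟩ := h₂
  exact ⟨t * s, S.mul_mem ht hs, rfl⟩

theorem c11_orbRel_set_eq (S : Subgroup (Perm α)) (x : α) :
    {y | orbRel S x y} = MulAction.orbit S x := by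
  ext y
  constructor
  · rintro ⟨s, hs, rfl⟩
    exact ⟨⟨s, hs⟩, rfl⟩
  · rintro ⟨⟨s, hs⟩, rfl⟩
    exact ⟨s, hs, rfl⟩

theorem c11_orbRel_ncard (S : Subgroup (Perm α)) (hS : IsPGroup 3 S) (x : α) :
    ∃ n : ℕ, {y | orbRel S x y}.ncard = 3 ^ n := by
  obtain ⟨n, hn⟩ := hS.card_orbit x
  refine ⟨n, ?_⟩
  rw [c11_orbRel_set_eq, ← hn]
  rfl

theorem c11_three_pow_ge {n : ℕ} (h : 2 ≤ n) : 9 ≤ 3 ^ n := by
  calc 9 = 3 ^ 2 := by norm_num
    _ ≤ 3 ^ n := Nat.pow_le_pow_right (by norm_num) h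

theorem c11_three_pow_ge' {n : ℕ} (h : 1 ≤ n) : 3 ≤ 3 ^ n := by
  calc 3 = 3 ^ 1 := by norm_num
    _ ≤ 3 ^ n := Nat.pow_le_pow_right (by norm_num) h

theorem c11_three_pow_ge'' {n : ℕ} (h : 3 ≤ n) : 27 ≤ 3 ^ n := by
  calc 27 = 3 ^ 3 := by norm_num
    _ ≤ 3 ^ n := Nat.pow_le_pow_right (by norm_num) h

/-- **K-PMinAlt-C11.** The case split. -/
theorem core_split (hα : 5 ≤ Fintype.card α) (S : Subgroup (Perm α)) (hS : IsPGroup 3 S) :
    (∃ x y z, ¬ orbRel S x y ∧ ¬ orbRel S x z ∧ ¬ orbRel S y z) ∨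
    (∃ x₁ x₂, ¬ orbRel S x₁ x₂ ∧ (∀ y, orbRel S x₁ y ∨ orbRel S x₂ y) ∧
      9 ≤ {y | orbRel S x₁ y}.ncard ∧ 3 ≤ {y | orbRel S x₂ y}.ncard) ∨
    ((∀ x y : α, orbRel S x y) ∧ 27 ≤ Fintype.card α) ∨
    (Fintype.card α = 6 ∨ Fintype.card α = 9 ∨ ∃ a, 2 ≤ a ∧ Fintype.card α = 3 ^ a + 1) := by
  classical
  by_cases h3 : ∃ x y z, ¬ orbRel S x y ∧ ¬ orbRel S x z ∧ ¬ orbRel S y z
  · exact Or.inl h3
  right
  push_neg at h3
  have hne : Nonempty α := by
    rw [← Fintype.card_pos_iff]; omega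
  obtain ⟨x⟩ := hne
  by_cases htr : ∀ y, orbRel S x y
  · -- transitive
    right
    have hall : ∀ u v : α, orbRel S u v := fun u v =>
      c11_orbRel_trans S (c11_orbRel_symm S (htr u)) (htr v)
    obtain ⟨n, hn⟩ := c11_orbRel_ncard S hS x
    have huniv : {y | orbRel S x y} = Set.univ := by
      ext y; simp [htr y]
    rw [huniv, Set.ncard_univ, Nat.card_eq_fintype_card] at hn
    rcases Nat.lt_or_ge n 2 with h | h
    · exfalso
      interval_cases n <;> omega
    rcases Nat.lt_or_ge n 3 with h' | h'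
    · right; right; left
      have : n = 2 := by omega
      subst this
      rw [hn]; norm_num
    · left
      refine ⟨hall, ?_⟩
      rw [hn]; exact c11_three_pow_ge'' h'
  · push_neg at htr
    obtain ⟨y, hxy⟩ := htr
    have hcov : ∀ z, orbRel S x z ∨ orbRel S y z := by
      intro z
      by_cases hxz : orbRel S x z
      · exact Or.inl hxz
      · exact Or.inr (h3 x y z hxy hxz)
    have hyx : ¬ orbRel S y x := fun h => hxy (c11_orbRel_symm S h)
    have hcov' : ∀ z, orbRel S y z ∨ orbRel S x z := fun z => (hcov z).symm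
    obtain ⟨a, ha⟩ := c11_orbRel_ncard S hS x
    obtain ⟨b, hb⟩ := c11_orbRel_ncard S hS y
    have hdisj : Disjoint {z | orbRel S x z} {z | orbRel S y z} := by
      rw [Set.disjoint_left]
      intro z hz1 hz2
      exact hxy (c11_orbRel_trans S hz1 (c11_orbRel_symm S hz2))
    have hunion : {z | orbRel S x z} ∪ {z | orbRel S y z} = Set.univ := by
      ext z
      simp only [Set.mem_union, Set.mem_setOf_eq, Set.mem_univ, iff_true]
      exact hcov z
    have hcard : Fintype.card α = 3 ^ a + 3 ^ b := by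
      rw [← ha, ← hb, ← Set.ncard_union_eq hdisj (Set.toFinite _) (Set.toFinite _), hunion,
        Set.ncard_univ, Nat.card_eq_fintype_card]
    rcases Nat.eq_zero_or_pos a with ha0 | ha0
    · -- a = 0
      subst ha0
      right; right; right; right
      refine ⟨b, ?_, by rw [hcard]; ring⟩
      by_contra hb2
      have : b < 2 := by omega
      interval_cases b <;> simp at hcard <;> omega
    rcases Nat.eq_zero_or_pos b with hb0 | hb0
    · subst hb0
      right; right; right; right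
      refine ⟨a, ?_, by rw [hcard]; ring⟩
      by_contra ha2
      have : a < 2 := by omega
      interval_cases a <;> simp at hcard <;> omega
    rcases Nat.lt_or_ge a 2 with ha2 | ha2
    · have ha1 : a = 1 := by omega
      subst ha1
      rcases Nat.lt_or_ge b 2 with hb2 | hb2
      · have hb1 : b = 1 := by omega
        subst hb1
        right; right; left
        rw [hcard]; norm_num
      · left
        refine ⟨y, x, hyx, hcov', ?_, ?_⟩
        · rw [hb]; exact c11_three_pow_ge hb2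
        · rw [ha]; norm_num
    · left
      refine ⟨x, y, hxy, hcov, ?_, ?_⟩
      · rw [ha]; exact c11_three_pow_ge ha2
      · rw [hb]; exact c11_three_pow_ge' hb0

end Perm

end Cfsg.Agent.Lib.Helper85.PMinAlt
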