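import Mathlib
import Cfsg.Prelude.Def_GeometricClasses
import Cfsg.Agent.Lib.Helper48.Subfield.Trans

/-!
# K-SLMax-N7: `SL_n` is not inside a tensor-wreath subgroup
(keystone for the SL_n maximal-subgroup rows, architect helper61)
-/

set_option autoImplicit false

namespace Cfsg.Agent.Lib.Helper85.SLMax

open Cfsg Cfsg.Geo
open scoped Matrix Kronecker MatrixGroups

section Aux

variable {F : Type*} [Field F] {n : ℕ}

/-- pure tensors in the standard tensor power. -/
def IsPureStd (m t : ℕ) (z : (Fin t → Fin m) → F) : Prop :=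
  ∃ vs : Fin t → Fin m → F, ∀ x, z x = ∏ j, vs j (x j)

theorem isPureStd_of_isPureTensor {m t : ℕ} (g : GL (Fin t → Fin m) F) (hg : IsPureTensor m t g)
    (z : (Fin t → Fin m) → F) (hz : IsPureStd m t z) :
    IsPureStd m t ((g : Matrix (Fin t → Fin m) (Fin t → Fin m) F) *ᵥ z) := by
  obtain ⟨gs, hgs⟩ := hg
  obtain ⟨vs, hvs⟩ := hz
  refine ⟨fun j => (gs j : Matrix (Fin m) (Fin m) F) *ᵥ vs j, fun x => ?_⟩
  simp only [Matrix.mulVec, dotProduct]
  rw [Finset.prod_univ_sum, Fintype.piFinset_univ]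
  refine Finset.sum_congr rfl fun y _ => ?_
  rw [hgs, hvs, Finset.prod_mul_distrib]

theorem isPureStd_of_isFactorPermutation {m t : ℕ} (g : GL (Fin t → Fin m) F)
    (hg : IsFactorPermutation m t g)
    (z : (Fin t → Fin m) → F) (hz : IsPureStd m t z) :
    IsPureStd m t ((g : Matrix (Fin t → Fin m) (Fin t → Fin m) F) *ᵥ z) := by
  obtain ⟨σ, hσ⟩ := hg
  obtain ⟨vs, hvs⟩ := hz
  refine ⟨fun j => vs (σ.symm j), fun x => ?_⟩
  simp only [Matrix.mulVec, dotProduct]
  have h1 : ∑ y, (g : Matrix (Fin t → Fin m) (Fin t → Fin m) F) x y * z y = z (x ∘ σ) := by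
    rw [Finset.sum_eq_single (x ∘ σ)]
    · rw [hσ, if_pos rfl, one_mul]
    · intro y _ hy
      rw [hσ, if_neg hy, zero_mul]
    · intro h
      exact absurd (Finset.mem_univ _) h
  rw [h1, hvs]
  rw [← Equiv.prod_comp σ (fun j => vs (σ.symm j) (x j))]
  refine Finset.prod_congr rfl fun i _ => ?_
  simp

theorem isPureStd_of_mem [Fintype F] {m t : ℕ} (g : GL (Fin t → Fin m) F)
    (hg : g ∈ tensorWreathStandard m t F) :
    ∀ z : (Fin t → Fin m) → F, IsPureStd m t z →
      IsPureStd m t ((g : Matrix (Fin t → Fin m) (Fin t → Fin m) F) *ᵥ z) := by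
  unfold tensorWreathStandard at hg
  induction hg using Subgroup.closure_induction with
  | mem x hx =>
    intro z hz
    rcases hx with h | h
    · exact isPureStd_of_isPureTensor x h z hz
    · exact isPureStd_of_isFactorPermutation x h z hz
  | one =>
    intro z hz
    rw [Units.val_one, Matrix.one_mulVec]
    exact hz
  | mul x y _ _ ihx ihy =>
    intro z hz
    rw [Units.val_mul, ← Matrix.mulVec_mulVec]
    exact ihx _ (ihy z hz)
  | inv x _ ih =>
    intro z hz
    classical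
    -- the map `z ↦ x *ᵥ z` is an injective self-map of the finite set of pure tensors
    let X := {w : (Fin t → Fin m) → F // IsPureStd m t w}
    let φ : X → X := fun w =>
      ⟨(x : Matrix (Fin t → Fin m) (Fin t → Fin m) F) *ᵥ w.1, ih w.1 w.2⟩
    have hinv : ∀ w : (Fin t → Fin m) → F,
        ((x⁻¹ : GL (Fin t → Fin m) F) : Matrix (Fin t → Fin m) (Fin t → Fin m) F) *ᵥ
          ((x : Matrix (Fin t → Fin m) (Fin t → Fin m) F) *ᵥ w) = w := by
      intro w
      rw [Matrix.mulVec_mulVec, ← Units.val_mul, inv_mul_cancel, Units.val_one, Matrix.one_mulVec]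
    have hφ : Function.Injective φ := by
      intro w w' h
      apply Subtype.ext
      have h2 : (x : Matrix (Fin t → Fin m) (Fin t → Fin m) F) *ᵥ w.1 =
          (x : Matrix (Fin t → Fin m) (Fin t → Fin m) F) *ᵥ w'.1 := congrArg Subtype.val h
      rw [← hinv w.1, h2, hinv]
    have hsurj : Function.Surjective φ := Finite.surjective_of_injective hφ
    obtain ⟨w, hw⟩ := hsurj ⟨z, hz⟩
    have h3 : (x : Matrix (Fin t → Fin m) (Fin t → Fin m) F) *ᵥ w.1 = z := congrArg Subtype.val hw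
    rw [← h3, hinv]
    exact w.2

theorem glReindex_symm_val' {m t : ℕ} (e : Fin n ≃ (Fin t → Fin m)) (k : GL (Fin t → Fin m) F) :
    ((glReindex e.symm k : GL (Fin n) F) : Matrix (Fin n) (Fin n) F)
      = (k : Matrix (Fin t → Fin m) (Fin t → Fin m) F).submatrix e e := by
  rfl

end Aux

/-- **K-SLMax-N7**. -/
theorem sl_not_le_tensorWreathSubgroup {F : Type*} [Field F] [Fintype F] {n : ℕ} {m t : ℕ}
    (hm : 2 ≤ m) (ht : 2 ≤ t)
    (e : Fin n ≃ (Fin t → Fin m))
    (P : GL (Fin n) F) : ¬ specialLinear (Fin n) F ≤ tensorWreathSubgroup m t e P := by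
  intro hle
  -- indices
  set a0 : Fin m := ⟨0, by omega⟩ with ha0
  set a1 : Fin m := ⟨1, by omega⟩ with ha1
  set j0 : Fin t := ⟨0, by omega⟩ with hj0
  set j1 : Fin t := ⟨1, by omega⟩ with hj1
  have ha01 : a0 ≠ a1 := by simp [ha0, ha1, Fin.ext_iff]
  have hj01 : j0 ≠ j1 := by simp [hj0, hj1, Fin.ext_iff]
  set x0 : Fin t → Fin m := fun _ => a0 with hx0
  set x1 : Fin t → Fin m := fun _ => a1 with hx1
  set x01 : Fin t → Fin m := Function.update x1 j0 a0 with hx01
  have hx0x1 : x0 ≠ x1 := fun h => ha01 (congrFun h j0)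
  have hx01x0 : x01 ≠ x0 := by
    intro h
    have := congrFun h j1
    rw [hx01, Function.update_of_ne hj01.symm] at this
    exact ha01 this.symm
  have hx01x1 : x01 ≠ x1 := by
    intro h
    have := congrFun h j0
    rw [hx01, Function.update_self] at this
    exact ha01 this
  set i0 : Fin n := e.symm x0 with hi0
  set i1 : Fin n := e.symm x1 with hi1
  have hi01 : i0 ≠ i1 := fun h => hx0x1 (e.symm.injective h)
  -- the two vectors, on the standard index type
  set z0 : (Fin t → Fin m) → F := fun _ => 1 with hz0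
  set z1 : (Fin t → Fin m) → F := Pi.single x0 1 + Pi.single x1 1 with hz1
  have hz0pure : IsPureStd m t z0 := ⟨fun _ _ => 1, fun x => by simp [hz0]⟩
  have hz1npure : ¬ IsPureStd m t z1 := by
    rintro ⟨vs, hvs⟩
    have e0 : (1 : F) = ∏ j, vs j (x0 j) := by
      rw [← hvs x0, hz1, Pi.add_apply, Pi.single_eq_same, Pi.single_eq_of_ne hx0x1, add_zero]
    have e1 : (1 : F) = ∏ j, vs j (x1 j) := by
      rw [← hvs x1, hz1, Pi.add_apply, Pi.single_eq_same, Pi.single_eq_of_ne hx0x1.symm, zero_add]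
    have e01 : (0 : F) = ∏ j, vs j (x01 j) := by
      rw [← hvs x01, hz1, Pi.add_apply, Pi.single_eq_of_ne hx01x0, Pi.single_eq_of_ne hx01x1,
        add_zero]
    obtain ⟨j, -, hj⟩ := Finset.prod_eq_zero_iff.mp e01.symm
    by_cases hjj : j = j0
    · subst hjj
      rw [hx01, Function.update_self] at hj
      have : ∏ j, vs j (x0 j) = 0 := Finset.prod_eq_zero (Finset.mem_univ j0) hj
      rw [← e0] at this
      exact one_ne_zero this
    · rw [hx01, Function.update_of_ne hjj] at hj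
      have : ∏ j, vs j (x1 j) = 0 := Finset.prod_eq_zero (Finset.mem_univ j) hj
      rw [← e1] at this
      exact one_ne_zero this
  have hz0ne : z0 ≠ 0 := by
    intro h
    have := congrFun h x0
    simp [hz0] at this
  have hz1ne : z1 ≠ 0 := by
    intro h
    have := congrFun h x0
    simp [hz1, hx0x1] at this
  -- transported to `Fin n`
  set y0 : Fin n → F := z0 ∘ e with hy0
  set y1 : Fin n → F := z1 ∘ e with hy1
  have hy0ne : y0 ≠ 0 := by
    intro h
    apply hz0ne
    funext x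
    have := congrFun h (e.symm x)
    simpa [hy0] using this
  have hy1ne : y1 ≠ 0 := by
    intro h
    apply hz1ne
    funext x
    have := congrFun h (e.symm x)
    simpa [hy1] using this
  set w0 : Fin n → F := (P : Matrix (Fin n) (Fin n) F) *ᵥ y0 with hw0
  set w1 : Fin n → F := (P : Matrix (Fin n) (Fin n) F) *ᵥ y1 with hw1
  have hPinv : ∀ z : Fin n → F, ((P⁻¹ : GL (Fin n) F) : Matrix (Fin n) (Fin n) F) *ᵥ
      ((P : Matrix (Fin n) (Fin n) F) *ᵥ z) = z := by
    intro z
    rw [Matrix.mulVec_mulVec, ← Units.val_mul, inv_mul_cancel, Units.val_one, Matrix.one_mulVec]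
  have hw0ne : w0 ≠ 0 := by
    intro h
    apply hy0ne
    rw [← hPinv y0, ← hw0, h, Matrix.mulVec_zero]
  have hw1ne : w1 ≠ 0 := by
    intro h
    apply hy1ne
    rw [← hPinv y1, ← hw1, h, Matrix.mulVec_zero]
  obtain ⟨a, haS, ha⟩ := Cfsg.Agent.Lib.Helper48.Subfield.exists_SL_move (E := F) i0 i1 hi01 w0 hw0ne
  obtain ⟨b, hbS, hb⟩ := Cfsg.Agent.Lib.Helper48.Subfield.exists_SL_move (E := F) i0 i1 hi01 w1 hw1ne
  have hg : b⁻¹ * a ∈ specialLinear (Fin n) F := mul_mem (inv_mem hbS) haS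
  have hgx : ((b⁻¹ * a : GL (Fin n) F) : Matrix (Fin n) (Fin n) F) *ᵥ w0 = w1 := by
    rw [Units.val_mul, ← Matrix.mulVec_mulVec, ha, ← hb, Matrix.mulVec_mulVec, ← Units.val_mul,
      inv_mul_cancel, Units.val_one, Matrix.one_mulVec]
  obtain ⟨g', hg', hgg'⟩ := hle hg
  obtain ⟨k, hk, hkg'⟩ := hg'
  apply hz1npure
  have hpure := isPureStd_of_mem k hk z0 hz0pure
  convert hpure using 1
  have h3 : (b⁻¹ * a : GL (Fin n) F) = P * (glReindex e.symm k) * P⁻¹ := by
    rw [← hgg', ← hkg']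
    rfl
  rw [h3] at hgx
  rw [Units.val_mul, Units.val_mul, ← Matrix.mulVec_mulVec, hw0, hPinv, ← Matrix.mulVec_mulVec,
    hw1] at hgx
  have h4 := congrArg (fun z => ((P⁻¹ : GL (Fin n) F) : Matrix (Fin n) (Fin n) F) *ᵥ z) hgx
  simp only [hPinv] at h4
  -- h4 : glReindex e.symm k *ᵥ y0 = y1
  rw [glReindex_symm_val', Matrix.submatrix_mulVec_equiv] at h4
  funext x
  have h5 := congrFun h4 (e.symm x)
  simp only [Function.comp_apply, Equiv.apply_symm_apply, hy0, hy1] at h5
  rw [← h5]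
  congr 1

end Cfsg.Agent.Lib.Helper85.SLMax
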