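import Mathlib
import Cfsg.Prelude.Def_GeometricClasses
import Cfsg.Agent.Lib.Helper85.SLMaxN7
import Cfsg.Agent.Lib.Helper51.SUMax2

/-!
# K-SUMax-N7 (keystone 581108, architect helper44)
`SU_n(q)` (`n ≥ 3`) is not inside a tensor-wreath subgroup: the set of pure tensors is invariant under the
tensor-wreath group, while `SU_n` is transitive on the non-zero vectors of a given norm; a pure and a
non-pure vector of the same norm always exist.
-/

set_option autoImplicit false

namespace Cfsg.Agent.Lib.Helper85.SUMax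

open Cfsg Cfsg.Geo
open scoped Matrix Kronecker MatrixGroups
open Cfsg.Agent.Lib.Helper08 Cfsg.Agent.Lib.Helper51

section Forms
variable {F : Type*} [Field F] [Fintype F] {q : ℕ} {ι : Type} [Fintype ι] [DecidableEq ι]

set_option linter.unusedSectionVars false

/-- two isotropic vectors have an isotropic combination `u + l • v`, `l ≠ 0`. -/
theorem exists_isotropic_add_smul (hF : Fintype.card F = q ^ 2) (u v : ι → F)
    (hu : hform ι F q u u = 0) (hv : hform ι F q v v = 0) :
    ∃ l : F, l ≠ 0 ∧ hform ι F q (u + l • v) (u + l • v) = 0 := by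
  set β := hform ι F q u v with hβ
  have hvu : hform ι F q v u = β ^ q := by rw [hβ, hform_conj hF]
  have expand : ∀ l : F, hform ι F q (u + l • v) (u + l • v) = l ^ q * β + l * β ^ q := by
    intro l
    rw [hform_add_left, hform_add_right hF, hform_add_right hF, hform_smul_left, hform_smul_left,
      hform_smul_right, hform_smul_right, hu, hv, hvu, ← hβ]
    ring
  by_cases hβ0 : β = 0
  · refine ⟨1, one_ne_zero, ?_⟩
    rw [expand, hβ0, zero_pow (q_ne_zero' hF)]
    ring
  · obtain ⟨s, hs0, hs⟩ := exists_skew_ne_zero hF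
    have hβq : β ^ q ≠ 0 := pow_ne_zero _ hβ0
    refine ⟨s / β ^ q, div_ne_zero hs0 hβq, ?_⟩
    rw [expand, div_pow, pow_q_pow_q' hF, div_mul_cancel₀ _ hβq, div_mul_cancel₀ _ hβ0]
    linear_combination hs

/-- a plane containing a non-isotropic vector `u` contains an isotropic vector `a • u + v`. -/
theorem exists_isotropic_smul_add (hF : Fintype.card F = q ^ 2) (u v : ι → F)
    (hu : hform ι F q u u ≠ 0) :
    ∃ a : F, hform ι F q (a • u + v) (a • u + v) = 0 := by
  set A := hform ι F q u u with hAdef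
  set V := hform ι F q v v with hVdef
  set β := hform ι F q v u with hβ
  have hA : A ^ q = A := hform_self_pow hF u
  have hV : V ^ q = V := hform_self_pow hF v
  have huv : hform ι F q u v = β ^ q := by rw [hβ, hform_conj hF]
  set D := (β * β ^ q / A - V) / A with hDdef
  have hD : D ^ q = D := by rw [hDdef, div_pow, sub_pow_q hF, div_pow, nm_fix hF, hA, hV]
  obtain ⟨l, hl⟩ := exists_nm_eq hF D hD
  refine ⟨l - β / A, ?_⟩
  have hpow : (l - β / A) ^ q = l ^ q - β ^ q / A := by rw [sub_pow_q hF, div_pow, hA]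
  rw [hform_add_left, hform_add_right hF, hform_add_right hF, hform_smul_left, hform_smul_left,
    hform_smul_right, hform_smul_right, huv, hpow, ← hAdef, ← hVdef, ← hβ]
  have hl' : l * l ^ q * A = β * β ^ q / A - V := by
    rw [hl, hDdef]
    field_simp
  field_simp
  field_simp at hl'
  linear_combination hl'

/-- rescaling a non-isotropic vector to a prescribed non-zero norm. -/
theorem exists_smul_same_norm (hF : Fintype.card F = q ^ 2) (u v : ι → F)
    (hu : hform ι F q u u ≠ 0) (hv : hform ι F q v v ≠ 0) :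
    ∃ c : F, c ≠ 0 ∧ hform ι F q (c • v) (c • v) = hform ι F q u u := by
  set A := hform ι F q u u with hAdef
  set V := hform ι F q v v with hVdef
  have hA : A ^ q = A := hform_self_pow hF u
  have hV : V ^ q = V := hform_self_pow hF v
  have hD : (A / V) ^ q = A / V := by rw [div_pow, hA, hV]
  obtain ⟨c, hc⟩ := exists_nm_eq hF (A / V) hD
  refine ⟨c, ?_, ?_⟩
  · rintro rfl
    rw [zero_mul] at hc
    exact (div_ne_zero hu hv) hc.symm
  · rw [hform_smul_left, hform_smul_right, ← hVdef, ← mul_assoc, hc, div_mul_cancel₀ _ hv]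

end Forms


section Tensor
variable {F : Type*} [Field F] {k t : ℕ}

/-- pure tensors varying in the factor `j0` only. -/
def pv (j0 : Fin t) (a1 : Fin k) (c : Fin k → F) : (Fin t → Fin k) → F :=
  fun y => c (y j0) * ∏ j ∈ Finset.univ.erase j0, (if y j = a1 then (1 : F) else 0)

theorem pv_pure (j0 : Fin t) (a1 : Fin k) (c : Fin k → F) :
    SLMax.IsPureStd k t (pv j0 a1 c) := by
  refine ⟨fun j => if j = j0 then c else fun a => if a = a1 then 1 else 0, fun y => ?_⟩
  rw [← Finset.mul_prod_erase Finset.univ _ (Finset.mem_univ j0)]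
  unfold pv
  simp only [if_true]
  congr 1
  apply Finset.prod_congr rfl
  intro j hj
  rw [if_neg (Finset.ne_of_mem_erase hj)]

theorem pv_smul_add (j0 : Fin t) (a1 : Fin k) (a : F) (c c' : Fin k → F) :
    pv j0 a1 (a • c + c') = a • pv j0 a1 c + pv j0 a1 c' := by
  funext y
  simp only [pv, Pi.add_apply, Pi.smul_apply, smul_eq_mul]
  ring

theorem pv_ne_zero (j0 : Fin t) (a1 : Fin k) (c : Fin k → F) (i : Fin k) (hc : c i ≠ 0) :
    pv j0 a1 c ≠ 0 := by
  intro h
  have h1 := congrFun h (Function.update (fun _ => a1) j0 i)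
  unfold pv at h1
  rw [Function.update_self, Finset.prod_eq_one, mul_one] at h1
  · exact hc h1
  · intro j hj
    rw [Function.update_of_ne (Finset.ne_of_mem_erase hj), if_pos rfl]

theorem single_pure (x : Fin t → Fin k) : SLMax.IsPureStd k t (Pi.single x (1 : F)) := by
  refine ⟨fun j a => if a = x j then 1 else 0, fun y => ?_⟩
  by_cases h : y = x
  · subst h
    simp
  · rw [Pi.single_eq_of_ne h]
    obtain ⟨j, hj⟩ := Function.ne_iff.mp h
    symm
    apply Finset.prod_eq_zero (Finset.mem_univ j)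
    beta_reduce
    rw [if_neg hj]

theorem zero_pure (ht : 2 ≤ t) : SLMax.IsPureStd k t (0 : (Fin t → Fin k) → F) := by
  refine ⟨fun _ _ => 0, fun y => ?_⟩
  symm
  exact Finset.prod_eq_zero (Finset.mem_univ (⟨0, by omega⟩ : Fin t)) rfl

theorem not_pure_two (x0 x1 : Fin t → Fin k) (j0 : Fin t)
    (h0 : Function.update x1 j0 (x0 j0) ≠ x0) (h1 : Function.update x1 j0 (x0 j0) ≠ x1)
    (a b : F) (ha : a ≠ 0) (hb : b ≠ 0) :
    ¬ SLMax.IsPureStd k t (a • Pi.single x0 (1 : F) + b • Pi.single x1 (1 : F)) := by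
  have hx0x1 : x0 ≠ x1 := by
    intro h
    apply h1
    rw [h, Function.update_eq_self]
  rintro ⟨vs, hvs⟩
  have e0 : a = ∏ j, vs j (x0 j) := by
    rw [← hvs x0]
    simp [Pi.single_eq_of_ne hx0x1]
  have e1 : b = ∏ j, vs j (x1 j) := by
    rw [← hvs x1]
    simp [Pi.single_eq_of_ne hx0x1.symm]
  have e01 : (0 : F) = ∏ j, vs j (Function.update x1 j0 (x0 j0) j) := by
    rw [← hvs]
    simp [Pi.single_eq_of_ne h0, Pi.single_eq_of_ne h1]
  obtain ⟨j, -, hj⟩ := Finset.prod_eq_zero_iff.mp e01.symm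
  by_cases hjj : j = j0
  · subst hjj
    rw [Function.update_self] at hj
    have : ∏ j, vs j (x0 j) = 0 := Finset.prod_eq_zero (Finset.mem_univ j) hj
    rw [← e0] at this
    exact ha this
  · rw [Function.update_of_ne hjj] at hj
    have : ∏ j, vs j (x1 j) = 0 := Finset.prod_eq_zero (Finset.mem_univ j) hj
    rw [← e1] at this
    exact hb this

variable {n : ℕ}

/-- the coordinate map from the standard tensor power. -/
def phi (e : Fin n ≃ (Fin t → Fin k)) (P : GL (Fin n) F) (z : (Fin t → Fin k) → F) : Fin n → F :=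
  (P : Matrix (Fin n) (Fin n) F) *ᵥ (z ∘ e)

theorem phi_add (e : Fin n ≃ (Fin t → Fin k)) (P : GL (Fin n) F) (z z' : (Fin t → Fin k) → F) :
    phi e P (z + z') = phi e P z + phi e P z' := by
  unfold phi
  rw [← Matrix.mulVec_add]
  rfl

theorem phi_smul (e : Fin n ≃ (Fin t → Fin k)) (P : GL (Fin n) F) (a : F)
    (z : (Fin t → Fin k) → F) : phi e P (a • z) = a • phi e P z := by
  unfold phi
  rw [← Matrix.mulVec_smul]
  rfl

theorem phi_ne_zero (e : Fin n ≃ (Fin t → Fin k)) (P : GL (Fin n) F)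
    (z : (Fin t → Fin k) → F) (hz : z ≠ 0) : phi e P z ≠ 0 := by
  intro h
  apply hz
  have hPinv : ((P⁻¹ : GL (Fin n) F) : Matrix (Fin n) (Fin n) F) *ᵥ
      ((P : Matrix (Fin n) (Fin n) F) *ᵥ (z ∘ e)) = z ∘ e := by
    rw [Matrix.mulVec_mulVec, ← Units.val_mul, inv_mul_cancel, Units.val_one, Matrix.one_mulVec]
  unfold phi at h
  rw [h, Matrix.mulVec_zero] at hPinv
  funext x
  have := congrFun hPinv (e.symm x)
  simpa using this.symm

theorem pure_of_mem_tensorWreathSubgroup [Fintype F] (e : Fin n ≃ (Fin t → Fin k))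
    (P : GL (Fin n) F) (g : GL (Fin n) F) (hg : g ∈ tensorWreathSubgroup k t e P)
    (z0 z1 : (Fin t → Fin k) → F) (hz0 : SLMax.IsPureStd k t z0)
    (hgz : (g : Matrix (Fin n) (Fin n) F) *ᵥ phi e P z0 = phi e P z1) :
    SLMax.IsPureStd k t z1 := by
  have hPinv : ∀ z : Fin n → F, ((P⁻¹ : GL (Fin n) F) : Matrix (Fin n) (Fin n) F) *ᵥ
      ((P : Matrix (Fin n) (Fin n) F) *ᵥ z) = z := by
    intro z
    rw [Matrix.mulVec_mulVec, ← Units.val_mul, inv_mul_cancel, Units.val_one, Matrix.one_mulVec]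
  obtain ⟨g', hg', hgg'⟩ := hg
  obtain ⟨kk, hkk, hkg'⟩ := hg'
  have hpure := SLMax.isPureStd_of_mem kk hkk z0 hz0
  convert hpure using 1
  have h3 : g = P * (glReindex e.symm kk) * P⁻¹ := by
    rw [← hgg', ← hkg']
    rfl
  unfold phi at hgz
  rw [h3] at hgz
  rw [Units.val_mul, Units.val_mul, ← Matrix.mulVec_mulVec, hPinv, ← Matrix.mulVec_mulVec] at hgz
  have h4 := congrArg (fun z => ((P⁻¹ : GL (Fin n) F) : Matrix (Fin n) (Fin n) F) *ᵥ z) hgz
  simp only [hPinv] at h4
  rw [SLMax.glReindex_symm_val', Matrix.submatrix_mulVec_equiv] at h4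
  funext x
  have h5 := congrFun h4 (e.symm x)
  simp only [Function.comp_apply, Equiv.apply_symm_apply] at h5
  rw [← h5]
  congr 1
  funext y
  simp

end Tensor

/-- **K-SUMax-N7**. -/
theorem su_not_le_tensorWreathSubgroup {F : Type*} [Field F] [Fintype F] {n q : ℕ}
    (hF : Fintype.card F = q ^ 2) (hn : 3 ≤ n) (_hex : ¬ (n = 3 ∧ q = 2)) {k t : ℕ}
    (hk : 2 ≤ k) (ht : 2 ≤ t) (e : Fin n ≃ (Fin t → Fin k)) (P : GL (Fin n) F) :
    ¬ GU n F q ⊓ specialLinear (Fin n) F ≤ tensorWreathSubgroup k t e P := by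
  intro hle
  set a0 : Fin k := ⟨0, by omega⟩ with ha0
  set a1 : Fin k := ⟨1, by omega⟩ with ha1
  set j0 : Fin t := ⟨0, by omega⟩ with hj0
  set j1 : Fin t := ⟨1, by omega⟩ with hj1
  have ha01 : a0 ≠ a1 := by simp [ha0, ha1, Fin.ext_iff]
  have hj01 : j0 ≠ j1 := by simp [hj0, hj1, Fin.ext_iff]
  set x0 : Fin t → Fin k := fun _ => a0 with hx0
  set x1 : Fin t → Fin k := fun _ => a1 with hx1
  have hx01x0 : Function.update x1 j0 (x0 j0) ≠ x0 := by
    intro h
    have := congrFun h j1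
    rw [Function.update_of_ne hj01.symm] at this
    exact ha01 this.symm
  have hx01x1 : Function.update x1 j0 (x0 j0) ≠ x1 := by
    intro h
    have := congrFun h j0
    rw [Function.update_self] at this
    exact ha01 this
  set e0 : (Fin t → Fin k) → F := Pi.single x0 1 with he0
  set e1 : (Fin t → Fin k) → F := Pi.single x1 1 with he1
  have he0ne : e0 ≠ 0 := by
    intro h
    have := congrFun h x0
    simp [he0] at this
  have he1ne : e1 ≠ 0 := by
    intro h
    have := congrFun h x1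
    simp [he1] at this
  have hnp : ∀ a b : F, a ≠ 0 → b ≠ 0 → ¬ SLMax.IsPureStd k t (a • e0 + b • e1) :=
    fun a b ha hb => not_pure_two x0 x1 j0 hx01x0 hx01x1 a b ha hb
  obtain ⟨z0, z1, hz0, hz0ne, hz1, hnorm⟩ : ∃ z0 z1 : (Fin t → Fin k) → F,
      SLMax.IsPureStd k t z0 ∧ z0 ≠ 0 ∧ ¬ SLMax.IsPureStd k t z1 ∧
      hform (Fin n) F q (phi e P z0) (phi e P z0) = hform (Fin n) F q (phi e P z1) (phi e P z1) := by
    by_cases hA : hform (Fin n) F q (phi e P e0) (phi e P e0) = 0 ∧
        hform (Fin n) F q (phi e P e1) (phi e P e1) = 0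
    · obtain ⟨l, hl0, hl⟩ := exists_isotropic_add_smul hF (phi e P e0) (phi e P e1) hA.1 hA.2
      refine ⟨e0, e0 + l • e1, single_pure x0, he0ne, ?_, ?_⟩
      · have := hnp 1 l one_ne_zero hl0
        rwa [one_smul] at this
      · rw [phi_add, phi_smul, hl, hA.1]
    · obtain ⟨pz, hpz, hpz0, hpzn⟩ : ∃ pz : (Fin t → Fin k) → F, SLMax.IsPureStd k t pz ∧ pz ≠ 0 ∧
          hform (Fin n) F q (phi e P pz) (phi e P pz) ≠ 0 := by
        by_cases h0 : hform (Fin n) F q (phi e P e0) (phi e P e0) = 0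
        · exact ⟨e1, single_pure x1, he1ne, fun h1 => hA ⟨h0, h1⟩⟩
        · exact ⟨e0, single_pure x0, he0ne, h0⟩
      by_cases hB : hform (Fin n) F q (phi e P (e0 + e1)) (phi e P (e0 + e1)) = 0
      · obtain ⟨c, i, hci, hciso⟩ : ∃ (c : Fin k → F) (i : Fin k), c i ≠ 0 ∧
            hform (Fin n) F q (phi e P (pv j0 a1 c)) (phi e P (pv j0 a1 c)) = 0 := by
          by_cases hU : hform (Fin n) F q (phi e P (pv j0 a1 (Pi.single a0 1)))
              (phi e P (pv j0 a1 (Pi.single a0 1))) = 0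
          · exact ⟨Pi.single a0 1, a0, by simp, hU⟩
          · obtain ⟨a, ha⟩ := exists_isotropic_smul_add hF _
              (phi e P (pv j0 a1 (Pi.single a1 1))) hU
            refine ⟨a • Pi.single a0 1 + Pi.single a1 1, a1, ?_, ?_⟩
            · simp [ha01.symm]
            · rw [pv_smul_add, phi_add, phi_smul]
              exact ha
        refine ⟨pv j0 a1 c, e0 + e1, pv_pure j0 a1 c, pv_ne_zero j0 a1 c i hci, ?_, ?_⟩
        · have := hnp 1 1 one_ne_zero one_ne_zero
          rwa [one_smul, one_smul] at this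
        · rw [hciso, hB]
      · obtain ⟨c, hc0, hc⟩ := exists_smul_same_norm hF (phi e P pz) (phi e P (e0 + e1)) hpzn hB
        refine ⟨pz, c • (e0 + e1), hpz, hpz0, ?_, ?_⟩
        · rw [smul_add]
          exact hnp c c hc0 hc0
        · rw [phi_smul, hc]
  have hz1ne : z1 ≠ 0 := by
    rintro rfl
    exact hz1 (zero_pure ht)
  obtain ⟨D, hD, hDz, hDdet⟩ := exists_iso_same_norm_det hF hn (phi e P z0) (phi e P z1)
    (phi_ne_zero e P z0 hz0ne) (phi_ne_zero e P z1 hz1ne) hnorm 1 (by simp)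
  set g : GL (Fin n) F := (hD.isUnit hF).unit with hgdef
  have hg : g ∈ GU n F q ⊓ specialLinear (Fin n) F := (mem_GUSL_iff g).mpr ⟨hD, hDdet⟩
  exact hz1 (pure_of_mem_tensorWreathSubgroup e P g (hle hg) z0 z1 hz0 hDz)

end Cfsg.Agent.Lib.Helper85.SUMax
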