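import Mathlib
import Cfsg.Prelude.Def_GeometricClasses
import Cfsg.Agent.Lib.Helper85.SLMaxN7
import Cfsg.Agent.Lib.Helper85.SUMaxN7
import Cfsg.Agent.Lib.Helper43.OmegaSimple2
import Cfsg.Agent.Lib.Helper50.StdForms

/-!
# K-OOddMax-N7 (keystone 581406, architect helper8)
`Ω₉(q)` is not inside the tensor-wreath subgroup `GL_3 ≀ S_2`: pure tensors are invariant under the
tensor-wreath group; for a non-singular pure tensor `w = u' ⊗ u'` and a pure tensor `z₀ = u ⊗ u` not orthogonal to it, the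
reflection image `z₀ - (B(z₀,w)/Q(w)) w` has the same norm and rank two; `Ω` is transitive on vectors of a given norm.
-/

set_option autoImplicit false

namespace Cfsg.Agent.Lib.Helper85.OOddMax

open Cfsg Cfsg.Geo
open scoped Matrix Kronecker MatrixGroups

section Generic
variable {F : Type*} [Field F] {k t : ℕ} {ι : Type} [Fintype ι] [DecidableEq ι]

/-- the coordinate map from the standard tensor power (general index type). -/
def phi (e : ι ≃ (Fin t → Fin k)) (P : GL ι F) (z : (Fin t → Fin k) → F) : ι → F :=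
  (P : Matrix ι ι F) *ᵥ (z ∘ e)

theorem phi_add (e : ι ≃ (Fin t → Fin k)) (P : GL ι F) (z z' : (Fin t → Fin k) → F) :
    phi e P (z + z') = phi e P z + phi e P z' := by
  unfold phi
  rw [← Matrix.mulVec_add]
  rfl

theorem phi_smul (e : ι ≃ (Fin t → Fin k)) (P : GL ι F) (a : F)
    (z : (Fin t → Fin k) → F) : phi e P (a • z) = a • phi e P z := by
  unfold phi
  rw [← Matrix.mulVec_smul]
  rfl

theorem phi_zero (e : ι ≃ (Fin t → Fin k)) (P : GL ι F) :
    phi e P (0 : (Fin t → Fin k) → F) = 0 := by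
  unfold phi
  have : (0 : (Fin t → Fin k) → F) ∘ e = 0 := rfl
  rw [this, Matrix.mulVec_zero]

theorem phi_ne_zero (e : ι ≃ (Fin t → Fin k)) (P : GL ι F)
    (z : (Fin t → Fin k) → F) (hz : z ≠ 0) : phi e P z ≠ 0 := by
  intro h
  apply hz
  have hPinv : ((P⁻¹ : GL ι F) : Matrix ι ι F) *ᵥ
      ((P : Matrix ι ι F) *ᵥ (z ∘ e)) = z ∘ e := by
    rw [Matrix.mulVec_mulVec, ← Units.val_mul, inv_mul_cancel, Units.val_one, Matrix.one_mulVec]
  unfold phi at h
  rw [h, Matrix.mulVec_zero] at hPinv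
  funext x
  have := congrFun hPinv (e.symm x)
  simpa using this.symm

theorem phi_surjective (e : ι ≃ (Fin t → Fin k)) (P : GL ι F) (w : ι → F) :
    ∃ z : (Fin t → Fin k) → F, phi e P z = w := by
  refine ⟨(((P⁻¹ : GL ι F) : Matrix ι ι F) *ᵥ w) ∘ e.symm, ?_⟩
  unfold phi
  have : ((((P⁻¹ : GL ι F) : Matrix ι ι F) *ᵥ w) ∘ e.symm) ∘ e = ((P⁻¹ : GL ι F) : Matrix ι ι F) *ᵥ w := by
    funext x
    simp
  rw [this, Matrix.mulVec_mulVec, ← Units.val_mul, mul_inv_cancel, Units.val_one, Matrix.one_mulVec]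

theorem glReindex_symm_val_gen (e : ι ≃ (Fin t → Fin k)) (g : GL (Fin t → Fin k) F) :
    ((glReindex e.symm g : GL ι F) : Matrix ι ι F)
      = (g : Matrix (Fin t → Fin k) (Fin t → Fin k) F).submatrix e e := by
  rfl

theorem pure_of_mem_tensorWreathSubgroup [Fintype F] (e : ι ≃ (Fin t → Fin k))
    (P : GL ι F) (g : GL ι F) (hg : g ∈ tensorWreathSubgroup k t e P)
    (z0 z1 : (Fin t → Fin k) → F) (hz0 : SLMax.IsPureStd k t z0)
    (hgz : (g : Matrix ι ι F) *ᵥ phi e P z0 = phi e P z1) :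
    SLMax.IsPureStd k t z1 := by
  have hPinv : ∀ z : ι → F, ((P⁻¹ : GL ι F) : Matrix ι ι F) *ᵥ
      ((P : Matrix ι ι F) *ᵥ z) = z := by
    intro z
    rw [Matrix.mulVec_mulVec, ← Units.val_mul, inv_mul_cancel, Units.val_one, Matrix.one_mulVec]
  obtain ⟨g', hg', hgg'⟩ := hg
  obtain ⟨kk, hkk, hkg'⟩ := hg'
  have hpure := SLMax.isPureStd_of_mem kk hkk z0 hz0
  convert hpure using 1
  have h3 : g = P * (glReindex e.symm kk) * P⁻¹ := by
    rw [← hgg', ← hkg']
    rfl
  unfold phi at hgz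
  rw [h3] at hgz
  rw [Units.val_mul, Units.val_mul, ← Matrix.mulVec_mulVec, hPinv, ← Matrix.mulVec_mulVec] at hgz
  have h4 := congrArg (fun z => ((P⁻¹ : GL ι F) : Matrix ι ι F) *ᵥ z) hgz
  simp only [hPinv] at h4
  rw [glReindex_symm_val_gen, Matrix.submatrix_mulVec_equiv] at h4
  funext x
  have h5 := congrFun h4 (e.symm x)
  simp only [Function.comp_apply, Equiv.apply_symm_apply] at h5
  rw [← h5]
  congr 1
  funext y
  simp

end Generic

section Two
variable {F : Type*} [Field F] {k : ℕ}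

/-- pure tensors in a tensor square. -/
def tens (u v : Fin k → F) : (Fin 2 → Fin k) → F := fun x => u (x 0) * v (x 1)

theorem tens_pure (u v : Fin k → F) : SLMax.IsPureStd k 2 (tens u v) :=
  ⟨![u, v], fun x => by simp [Fin.prod_univ_two, tens]⟩

/-- a tensor of rank two is not pure. -/
theorem rank_two_not_pure (u u' : Fin k → F) (μ : F) (hμ : μ ≠ 0) (i j : Fin k)
    (hd : u i * u' j - u j * u' i ≠ 0) :
    ¬ SLMax.IsPureStd k 2 (tens u u - μ • tens u' u') := by
  rintro ⟨vs, hvs⟩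
  have hii := hvs ![i, i]
  have hjj := hvs ![j, j]
  have hij := hvs ![i, j]
  have hji := hvs ![j, i]
  simp only [Fin.prod_univ_two, tens, Pi.sub_apply, Pi.smul_apply, smul_eq_mul,
    Matrix.cons_val_zero, Matrix.cons_val_one] at hii hjj hij hji
  have key : (u i * u i - μ * (u' i * u' i)) * (u j * u j - μ * (u' j * u' j)) =
      (u i * u j - μ * (u' i * u' j)) * (u j * u i - μ * (u' j * u' i)) := by
    rw [hii, hjj, hij, hji]
    ring
  have h2 : μ * (u i * u' j - u j * u' i) ^ 2 = 0 := by linear_combination -key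
  rcases mul_eq_zero.mp h2 with h | h
  · exact hμ h
  · exact hd (pow_eq_zero_iff (by norm_num) |>.mp h)

theorem sum_fin_two_arrow {M : Type*} [AddCommMonoid M] (φ : Fin k → Fin k → M) :
    ∑ a : Fin 2 → Fin k, φ (a 0) (a 1) = ∑ i, ∑ j, φ i j := by
  rw [← Fintype.sum_prod_type']
  exact Fintype.sum_equiv (finTwoArrowEquiv (Fin k)) _ _ (fun a => rfl)

/-- the tensor-square form on pure tensors. -/
theorem sum_tens (G : Matrix (Fin k) (Fin k) F) (u v u' v' : Fin k → F) :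
    ∑ a : Fin 2 → Fin k, ∑ b : Fin 2 → Fin k,
        tens u v a * (∏ i, G (a i) (b i)) * tens u' v' b =
      (u ⬝ᵥ (G *ᵥ u')) * (v ⬝ᵥ (G *ᵥ v')) := by
  have h1 : ∀ a : Fin 2 → Fin k, ∑ b : Fin 2 → Fin k,
      tens u v a * (∏ i, G (a i) (b i)) * tens u' v' b =
      ∑ i', ∑ j', u (a 0) * v (a 1) * (G (a 0) i' * G (a 1) j') * (u' i' * v' j') := by
    intro a
    rw [← sum_fin_two_arrow (fun i' j' => u (a 0) * v (a 1) * (G (a 0) i' * G (a 1) j') * (u' i' * v' j'))]
    apply Finset.sum_congr rfl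
    intro b _
    simp [Fin.prod_univ_two, tens]
  simp_rw [h1]
  rw [sum_fin_two_arrow (fun i j => ∑ i', ∑ j', u i * v j * (G i i' * G j j') * (u' i' * v' j'))]
  simp only [dotProduct, Matrix.mulVec]
  rw [Finset.sum_mul_sum]
  apply Finset.sum_congr rfl
  intro i _
  apply Finset.sum_congr rfl
  intro j _
  have h2 : (u i * ∑ i', G i i' * u' i') * (v j * ∑ j', G j j' * v' j') =
      u i * v j * ((∑ i', G i i' * u' i') * (∑ j', G j j' * v' j')) := by ring
  rw [h2, Finset.sum_mul_sum, Finset.mul_sum]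
  apply Finset.sum_congr rfl
  intro i' _
  rw [Finset.mul_sum]
  apply Finset.sum_congr rfl
  intro j' _
  ring

end Two


section Choice

theorem exists_pair {F : Type*} [Field F] (G : Matrix (Fin 3) (Fin 3) F) (hsymm : ∀ i j, G i j = G j i)
    (hG : G ≠ 0) (h2 : (2 : F) ≠ 0) :
    ∃ (u u' : Fin 3 → F) (i j : Fin 3), u i * u' j - u j * u' i ≠ 0 ∧
      u ⬝ᵥ (G *ᵥ u') ≠ 0 ∧ u' ⬝ᵥ (G *ᵥ u') ≠ 0 := by
  have hss : ∀ a b : Fin 3, (Pi.single a (1 : F)) ⬝ᵥ (G *ᵥ Pi.single b 1) = G a b := by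
    intro a b
    simp
  by_cases hdiag : ∃ i, G i i ≠ 0
  · obtain ⟨i, hi⟩ := hdiag
    obtain ⟨j, hj⟩ := exists_ne i
    by_cases hs : G i i + G j i ≠ 0
    · refine ⟨Pi.single i 1 + Pi.single j 1, Pi.single i 1, i, j, ?_, ?_, ?_⟩
      · simp [hj, hj.symm]
      · rw [add_dotProduct, hss, hss]
        exact hs
      · rw [hss]
        exact hi
    · refine ⟨Pi.single i 1 - Pi.single j 1, Pi.single i 1, i, j, ?_, ?_, ?_⟩
      · simp [hj, hj.symm]
      · rw [sub_dotProduct, hss, hss]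
        intro h
        apply hs
        intro h'
        apply hi
        have : (2 : F) * G i i = 0 := by linear_combination h + h'
        rcases mul_eq_zero.mp this with h3 | h3
        · exact absurd h3 h2
        · exact h3
      · rw [hss]
        exact hi
  · push Not at hdiag
    have : ∃ i j, G i j ≠ 0 := by
      by_contra hcon
      push Not at hcon
      apply hG
      ext i j
      exact hcon i j
    obtain ⟨i, j, hij⟩ := this
    have hne : i ≠ j := by
      rintro rfl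
      exact hij (hdiag i)
    refine ⟨Pi.single i 1, Pi.single i 1 + Pi.single j 1, i, j, ?_, ?_, ?_⟩
    · simp [hne, hne.symm]
    · rw [Matrix.mulVec_add, dotProduct_add, hss, hss, hdiag i, zero_add]
      exact hij
    · rw [Matrix.mulVec_add, dotProduct_add, add_dotProduct, add_dotProduct, hss, hss, hss, hss,
        hdiag i, hdiag j, hsymm j i]
      intro h
      have : (2 : F) * G i j = 0 := by linear_combination h
      rcases mul_eq_zero.mp this with h3 | h3
      · exact h2 h3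
      · exact hij h3

end Choice

/-- **K-OOddMax-N7**. -/
theorem omega_not_le_tensorWreathSubgroup {F : Type*} [Field F] [Fintype F]
    (hodd : Odd (Fintype.card F))
    (e : (Unit ⊕ (Fin 4 ⊕ Fin 4)) ≃ (Fin 2 → Fin 3)) (P : GL (Unit ⊕ (Fin 4 ⊕ Fin 4)) F)
    (f₁ : (Fin 3 → F) → (Fin 3 → F) → F) (h₁ : IsSymmetricForm f₁)
    (hT : IsTensorPowerFormStructure id (QuadraticMap.polar (quadFormOdd 4 F)) f₁ e P) :
    ¬ omegaGL (quadFormOdd 4 F) ≤ tensorWreathSubgroup 3 2 e P := by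
  classical
  intro hle
  have h2 : (2 : F) ≠ 0 := Cfsg.Agent.Lib.Helper50.two_ne_zero_of_odd_card rfl hodd
  have hdet : (Matrix.fromBlocks ((2 * (1 : F)) • (1 : Matrix Unit Unit F))
        (0 : Matrix Unit (Fin 4 ⊕ Fin 4) F) (0 : Matrix (Fin 4 ⊕ Fin 4) Unit F)
        (Matrix.fromBlocks (0 : Matrix (Fin 4) (Fin 4) F) (1 : Matrix (Fin 4) (Fin 4) F)
        (1 : Matrix (Fin 4) (Fin 4) F) (0 : Matrix (Fin 4) (Fin 4) F))).det ≠ 0 := by
    rw [Cfsg.Agent.Lib.Helper50.det_odd_gram]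
    exact mul_ne_zero (mul_ne_zero h2 one_ne_zero) (pow_ne_zero _ (neg_ne_zero.mpr one_ne_zero))
  set Q : QuadraticForm F (Unit ⊕ (Fin 4 ⊕ Fin 4) → F) := Cfsg.Agent.Lib.Helper50.QOdd 4 F with hQdef
  have hQcoe : (⇑Q : (Unit ⊕ (Fin 4 ⊕ Fin 4) → F) → F) = Cfsg.quadFormOdd 4 F := rfl
  have hQ : (QuadraticMap.polarBilin Q).Nondegenerate :=
    Cfsg.Agent.Lib.Helper50.qfOfPolar_nondegenerate _ _ _ _ hdet
  have hcard : 7 ≤ Fintype.card (Unit ⊕ (Fin 4 ⊕ Fin 4)) := by simp
  obtain ⟨c, hc, hform⟩ := hT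
  set G : Matrix (Fin 3) (Fin 3) F := gramMatrix f₁ with hGdef
  have hsymm : ∀ i j, G i j = G j i := fun i j => h₁.symm _ _
  have hpol : ∀ x y : (Fin 2 → Fin 3) → F, QuadraticMap.polar (⇑Q) (phi e P x) (phi e P y) =
      c * ∑ a, ∑ b, x a * (∏ i, G (a i) (b i)) * y b := by
    intro x y
    rw [hQcoe]
    exact hform x y
  have hpure : ∀ u v u' v' : Fin 3 → F,
      QuadraticMap.polar (⇑Q) (phi e P (tens u v)) (phi e P (tens u' v')) =
        c * ((u ⬝ᵥ (G *ᵥ u')) * (v ⬝ᵥ (G *ᵥ v'))) := by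
    intro u v u' v'
    rw [hpol, sum_tens]
  have hG : G ≠ 0 := by
    intro hG0
    have hz : phi e P (tens (Pi.single 0 1) (Pi.single 0 1)) ≠ 0 := by
      apply phi_ne_zero
      intro h
      have := congrFun h (fun _ => 0)
      simp [tens] at this
    apply hz
    apply hQ.1
    intro y
    obtain ⟨y', rfl⟩ := phi_surjective e P y
    show QuadraticMap.polar (⇑Q) _ _ = 0
    rw [hpol, hG0]
    simp
  obtain ⟨u, u', i, j, hd, huu', hu'u'⟩ := exists_pair G hsymm hG h2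
  set z0 : (Fin 2 → Fin 3) → F := tens u u with hz0def
  set w : (Fin 2 → Fin 3) → F := tens u' u' with hwdef
  set B : F := QuadraticMap.polar (⇑Q) (phi e P z0) (phi e P w) with hBdef
  have hB : B ≠ 0 := by
    rw [hBdef, hpure]
    exact mul_ne_zero hc (mul_ne_zero huu' huu')
  have hQw : Q (phi e P w) ≠ 0 := by
    intro h0
    have h3 := QuadraticMap.polar_self Q (phi e P w)
    rw [hpure, h0, smul_zero] at h3
    exact (mul_ne_zero hc (mul_ne_zero hu'u' hu'u')) h3
  set l : F := B / Q (phi e P w) with hldef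
  have hl : l ≠ 0 := div_ne_zero hB hQw
  set z1 : (Fin 2 → Fin 3) → F := z0 - l • w with hz1def
  have hz1np : ¬ SLMax.IsPureStd 3 2 z1 := rank_two_not_pure u u' l hl i j hd
  have hz0ne : z0 ≠ 0 := by
    intro h0
    apply hB
    rw [hBdef, h0, phi_zero]
    exact QuadraticMap.polar_zero_left _ _
  have hz1ne : z1 ≠ 0 := by
    intro h0
    apply hz1np
    rw [h0]
    exact Cfsg.Agent.Lib.Helper85.SUMax.zero_pure (le_refl 2)
  have hphi1 : phi e P z1 = phi e P z0 + (-l) • phi e P w := by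
    rw [hz1def, sub_eq_add_neg, ← neg_smul, phi_add, phi_smul]
  have hQeq : Q (phi e P z0) = Q (phi e P z1) := by
    have e1 := QuadraticMap.map_add Q (phi e P z0) ((-l) • phi e P w)
    have e2 : Q ((-l) • phi e P w) = (-l) * (-l) * Q (phi e P w) := by
      rw [QuadraticMap.map_smul]
      rfl
    have e3 : QuadraticMap.polar (⇑Q) (phi e P z0) ((-l) • phi e P w) = (-l) * B := by
      rw [QuadraticMap.polar_smul_right]
      rfl
    rw [hphi1, e1, e2, e3, hldef]
    field_simp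
    ring
  obtain ⟨g, hg, hgz⟩ := Cfsg.Agent.Lib.Helper43.exists_Omega_map Q hQ hcard (phi e P z0)
    (phi e P z1) (phi_ne_zero e P z0 hz0ne) (phi_ne_zero e P z1 hz1ne) hQeq
  have hmem : ((g : ↥(Cfsg.isometryGroup F ⇑Q)) : GL (Unit ⊕ (Fin 4 ⊕ Fin 4)) F) ∈
      omegaGL (quadFormOdd 4 F) := Subgroup.mem_map.mpr ⟨g, hg, rfl⟩
  rw [Cfsg.Agent.Lib.Helper43.linOf_apply] at hgz
  exact hz1np (pure_of_mem_tensorWreathSubgroup e P _ (hle hmem) z0 z1 (tens_pure u u) hgz)

end Cfsg.Agent.Lib.Helper85.OOddMax
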