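import Mathlib

/-!
# K-O12-S34a (keystone 587121, sub-leaf of 587111, row S5871, architect helper9): similarities of `J ⊗ J`
-/

set_option autoImplicit false

namespace Cfsg.Agent.Lib.Helper85.O12

open scoped Matrix Kronecker MatrixGroups

variable {F : Type*} [Field F]

/-- the polar form of the determinant of `2 × 2` matrices -/
def s34bt (X Y : Fin 2 → Fin 2 → F) : F :=
  X 0 0 * Y 1 1 - X 0 1 * Y 1 0 - X 1 0 * Y 0 1 + X 1 1 * Y 0 0

theorem s34_rank_one (X : Fin 2 → Fin 2 → F) (h : X 0 0 * X 1 1 - X 0 1 * X 1 0 = 0) :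
    ∃ u v : Fin 2 → F, ∀ r s, X r s = u r * v s := by
  by_cases h00 : X 0 0 = 0
  · have h1 : X 0 1 * X 1 0 = 0 := by
      rw [h00] at h
      linear_combination -h
    rcases mul_eq_zero.mp h1 with h01 | h10
    · refine ⟨![0, 1], ![X 1 0, X 1 1], ?_⟩
      intro r s
      fin_cases r <;> fin_cases s <;> simp [h00, h01]
    · refine ⟨![X 0 1, X 1 1], ![0, 1], ?_⟩
      intro r s
      fin_cases r <;> fin_cases s <;> simp [h00, h10]
  · refine ⟨![1, X 1 0 / X 0 0], ![X 0 0, X 0 1], ?_⟩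
    intro r s
    fin_cases r <;> fin_cases s <;> simp
    · field_simp
    · field_simp
      linear_combination h

theorem s34_entries (J : Matrix (Fin 2) (Fin 2) F) (hJ : J = !![0, 1; -1, 0])
    (b : Matrix (Fin 2 × Fin 2) (Fin 2 × Fin 2) F) (lam : F)
    (hb : bᵀ * (J ⊗ₖ J) * b = lam • (J ⊗ₖ J)) (j k j' k' : Fin 2) :
    s34bt (fun r s => b (r, s) (j, k)) (fun r s => b (r, s) (j', k')) = lam * J j j' * J k k' := by
  have h := congrFun (congrFun hb (j, k)) (j', k')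
  have e00 : J 0 0 = 0 := by rw [hJ]; rfl
  have e01 : J 0 1 = 1 := by rw [hJ]; rfl
  have e10 : J 1 0 = -1 := by rw [hJ]; rfl
  have e11 : J 1 1 = 0 := by rw [hJ]; rfl
  simp only [Matrix.mul_apply, Matrix.transpose_apply, Matrix.kroneckerMap_apply, Fintype.sum_prod_type,
    Fin.sum_univ_two, Matrix.smul_apply, smul_eq_mul, e00, e01, e10, e11] at h
  unfold s34bt
  linear_combination h


theorem s34_sign_prodComm : Equiv.Perm.sign (Equiv.prodComm (Fin 2) (Fin 2)) = -1 := by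
  decide

/-- **K-O12-S34a** (587121). -/
theorem similarity_J_kron_J (h2 : (2 : F) ≠ 0) (J : Matrix (Fin 2) (Fin 2) F) (hJ : J = !![0, 1; -1, 0])
    (b : Matrix (Fin 2 × Fin 2) (Fin 2 × Fin 2) F) (lam : F) (hlam : lam ≠ 0)
    (hb : bᵀ * (J ⊗ₖ J) * b = lam • (J ⊗ₖ J)) :
    (∃ A B : Matrix (Fin 2) (Fin 2) F, b = A ⊗ₖ B) ∨ b.det = - lam ^ 2 := by
  have hβ := s34_entries J hJ b lam hb
  have e00 : J 0 0 = 0 := by rw [hJ]; rfl
  have e01 : J 0 1 = 1 := by rw [hJ]; rfl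
  have e10 : J 1 0 = -1 := by rw [hJ]; rfl
  have e11 : J 1 1 = 0 := by rw [hJ]; rfl
  have hJjj : ∀ j, J j j = 0 := by
    intro j
    fin_cases j
    · exact e00
    · exact e11
  have hdet : ∀ j k, b (0, 0) (j, k) * b (1, 1) (j, k) - b (0, 1) (j, k) * b (1, 0) (j, k) = 0 := by
    intro j k
    have h := hβ j k j k
    rw [hJjj, mul_zero, zero_mul] at h
    unfold s34bt at h
    have h3 : 2 * (b (0, 0) (j, k) * b (1, 1) (j, k) - b (0, 1) (j, k) * b (1, 0) (j, k)) = 0 := by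
      linear_combination h
    exact (mul_eq_zero.mp h3).resolve_left h2
  obtain ⟨u0, v0, h00'⟩ := s34_rank_one (fun r s => b (r, s) (0, 0)) (hdet 0 0)
  obtain ⟨u1, v1, h11'⟩ := s34_rank_one (fun r s => b (r, s) (1, 1)) (hdet 1 1)
  have h00 : ∀ r s, b (r, s) (0, 0) = u0 r * v0 s := fun r s => h00' r s
  have h11 : ∀ r s, b (r, s) (1, 1) = u1 r * v1 s := fun r s => h11' r s
  have hlam' : (u0 0 * u1 1 - u0 1 * u1 0) * (v0 0 * v1 1 - v0 1 * v1 0) = lam := by
    have h := hβ 0 0 1 1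
    rw [e01] at h
    unfold s34bt at h
    simp only [h00, h11] at h
    linear_combination h
  -- orthogonality relations
  have hY0 := hβ 0 1 0 0
  have hY1 := hβ 0 1 1 1
  have hW0 := hβ 1 0 0 0
  have hW1 := hβ 1 0 1 1
  have hYW := hβ 0 1 1 0
  rw [e00] at hY0 hW0
  rw [e11] at hY1 hW1
  rw [e01, e10] at hYW
  unfold s34bt at hY0 hY1 hW0 hW1 hYW
  simp only [h00, h11] at hY0 hY1 hW0 hW1
  -- coordinates of the two remaining columns
  obtain ⟨y01, y10, hYdec⟩ : ∃ y01 y10 : F, ∀ r s, b (r, s) (0, 1) =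
      y01 * (u0 r * v1 s) + y10 * (u1 r * v0 s) := by
    refine ⟨-(b (0, 0) (0, 1) * (u1 1 * v0 1) - b (0, 1) (0, 1) * (u1 1 * v0 0) -
        b (1, 0) (0, 1) * (u1 0 * v0 1) + b (1, 1) (0, 1) * (u1 0 * v0 0)) / lam,
      -(b (0, 0) (0, 1) * (u0 1 * v1 1) - b (0, 1) (0, 1) * (u0 1 * v1 0) -
        b (1, 0) (0, 1) * (u0 0 * v1 1) + b (1, 1) (0, 1) * (u0 0 * v1 0)) / lam, ?_⟩
    refine Fin.forall_fin_two.mpr ⟨Fin.forall_fin_two.mpr ⟨?_, ?_⟩, Fin.forall_fin_two.mpr ⟨?_, ?_⟩⟩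
    · field_simp
      linear_combination (-(b (0, 0) (0, 1))) * hlam' + (u0 0 * v0 0) * hY1 + (u1 0 * v1 0) * hY0
    · field_simp
      linear_combination (-(b (0, 1) (0, 1))) * hlam' + (u0 0 * v0 1) * hY1 + (u1 0 * v1 1) * hY0
    · field_simp
      linear_combination (-(b (1, 0) (0, 1))) * hlam' + (u0 1 * v0 0) * hY1 + (u1 1 * v1 0) * hY0
    · field_simp
      linear_combination (-(b (1, 1) (0, 1))) * hlam' + (u0 1 * v0 1) * hY1 + (u1 1 * v1 1) * hY0
  obtain ⟨w01, w10, hWdec⟩ : ∃ w01 w10 : F, ∀ r s, b (r, s) (1, 0) =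
      w01 * (u0 r * v1 s) + w10 * (u1 r * v0 s) := by
    refine ⟨-(b (0, 0) (1, 0) * (u1 1 * v0 1) - b (0, 1) (1, 0) * (u1 1 * v0 0) -
        b (1, 0) (1, 0) * (u1 0 * v0 1) + b (1, 1) (1, 0) * (u1 0 * v0 0)) / lam,
      -(b (0, 0) (1, 0) * (u0 1 * v1 1) - b (0, 1) (1, 0) * (u0 1 * v1 0) -
        b (1, 0) (1, 0) * (u0 0 * v1 1) + b (1, 1) (1, 0) * (u0 0 * v1 0)) / lam, ?_⟩
    refine Fin.forall_fin_two.mpr ⟨Fin.forall_fin_two.mpr ⟨?_, ?_⟩, Fin.forall_fin_two.mpr ⟨?_, ?_⟩⟩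
    · field_simp
      linear_combination (-(b (0, 0) (1, 0))) * hlam' + (u0 0 * v0 0) * hW1 + (u1 0 * v1 0) * hW0
    · field_simp
      linear_combination (-(b (0, 1) (1, 0))) * hlam' + (u0 0 * v0 1) * hW1 + (u1 0 * v1 1) * hW0
    · field_simp
      linear_combination (-(b (1, 0) (1, 0))) * hlam' + (u0 1 * v0 0) * hW1 + (u1 1 * v1 0) * hW0
    · field_simp
      linear_combination (-(b (1, 1) (1, 0))) * hlam' + (u0 1 * v0 1) * hW1 + (u1 1 * v1 1) * hW0
  have hy : y01 * y10 = 0 := by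
    have h := hdet 0 1
    rw [hYdec, hYdec, hYdec, hYdec] at h
    have h3 : y01 * y10 * lam = 0 := by
      linear_combination (-1 : F) * h - (y01 * y10) * hlam'
    exact (mul_eq_zero.mp h3).resolve_right hlam
  have hw : w01 * w10 = 0 := by
    have h := hdet 1 0
    rw [hWdec, hWdec, hWdec, hWdec] at h
    have h3 : w01 * w10 * lam = 0 := by
      linear_combination (-1 : F) * h - (w01 * w10) * hlam'
    exact (mul_eq_zero.mp h3).resolve_right hlam
  have hyw : y01 * w10 + y10 * w01 = 1 := by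
    simp only [hYdec, hWdec] at hYW
    have h3 : (y01 * w10 + y10 * w01 - 1) * lam = 0 := by
      linear_combination (-1 : F) * hYW - (y01 * w10 + y10 * w01) * hlam'
    have h4 := (mul_eq_zero.mp h3).resolve_right hlam
    linear_combination h4
  rcases mul_eq_zero.mp hy with hy0 | hy0
  · -- type 2
    right
    subst hy0
    have h5 : y10 * w01 = 1 := by linear_combination hyw
    have hw10 : w10 = 0 := by
      rcases mul_eq_zero.mp hw with h | h
      · rw [h, mul_zero] at h5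
        exact absurd h5 zero_ne_one
      · exact h
    subst hw10
    let A : Matrix (Fin 2) (Fin 2) F := Matrix.of fun r k => ![u0 r, y10 * u1 r] k
    let B : Matrix (Fin 2) (Fin 2) F := Matrix.of fun s j => ![v0 s, w01 * v1 s] j
    have hbeq : b = (A ⊗ₖ B).submatrix id (Equiv.prodComm (Fin 2) (Fin 2)) := by
      ext ⟨r, s⟩ ⟨j, k⟩
      rw [Matrix.submatrix_apply, Equiv.prodComm_apply, Prod.swap_prod_mk, Matrix.kroneckerMap_apply]
      show b (r, s) (j, k) = ![u0 r, y10 * u1 r] k * ![v0 s, w01 * v1 s] j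
      fin_cases j <;> fin_cases k
      · simp [h00]
      · simp [hYdec]; ring
      · simp [hWdec]; ring
      · simp [h11]
        linear_combination (-(u1 r * v1 s)) * h5
    have hdA : A.det = y10 * (u0 0 * u1 1 - u0 1 * u1 0) := by
      rw [Matrix.det_fin_two]
      simp [A]
      ring
    have hdB : B.det = w01 * (v0 0 * v1 1 - v0 1 * v1 0) := by
      rw [Matrix.det_fin_two]
      simp [B]
      ring
    have h6 : (y10 * (u0 0 * u1 1 - u0 1 * u1 0)) * (w01 * (v0 0 * v1 1 - v0 1 * v1 0)) = lam := by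
      linear_combination ((u0 0 * u1 1 - u0 1 * u1 0) * (v0 0 * v1 1 - v0 1 * v1 0)) * h5 + hlam'
    have h7 : A.det ^ 2 * B.det ^ 2 = lam ^ 2 := by
      rw [← mul_pow, hdA, hdB, h6]
    rw [hbeq, Matrix.det_permute', Matrix.det_kronecker, Fintype.card_fin, s34_sign_prodComm, h7]
    simp
  · -- type 1
    left
    subst hy0
    have h5 : y01 * w10 = 1 := by linear_combination hyw
    have hw01 : w01 = 0 := by
      rcases mul_eq_zero.mp hw with h | h
      · exact h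
      · rw [h, mul_zero] at h5
        exact absurd h5 zero_ne_one
    subst hw01
    refine ⟨Matrix.of fun r j => ![u0 r, w10 * u1 r] j, Matrix.of fun s k => ![v0 s, y01 * v1 s] k, ?_⟩
    ext ⟨r, s⟩ ⟨j, k⟩
    rw [Matrix.kroneckerMap_apply]
    show b (r, s) (j, k) = ![u0 r, w10 * u1 r] j * ![v0 s, y01 * v1 s] k
    fin_cases j <;> fin_cases k
    · simp [h00]
    · simp [hYdec]; ring
    · simp [hWdec]; ring
    · simp [h11]
      linear_combination (-(u1 r * v1 s)) * h5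

end Cfsg.Agent.Lib.Helper85.O12
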