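import Mathlib
import Cfsg.Prelude.Def_GeometricClasses
import Cfsg.Agent.Lib.Helper61.AschDefs
import Cfsg.Agent.Lib.Helper61.AschBasic
import Cfsg.Agent.Lib.Helper61.AschGlueC
import Cfsg.Agent.Lib.Helper46.AschOBasic
import Cfsg.Agent.Lib.Helper46.AschEDefs
import Cfsg.Agent.Lib.Helper05.SpAschS2b
import Cfsg.Agent.Lib.Helper36.SLMaxD2

/-!
# K-OEven-A2t: a paired transitive decomposition which is not pairwise orthogonal gives shape (2a) or (2b)
-/

set_option autoImplicit false

namespace Cfsg.Agent.Lib.Helper85.AschE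

open Cfsg Cfsg.Geo Cfsg.Agent.Lib.Helper61.Asch Cfsg.Agent.Lib.Helper46.AschO Cfsg.Agent.Lib.Helper46.AschE
open Cfsg.Agent.Lib.Helper05.SpAsch (s2b_reps s2b_left_vanish s2b_right_vanish s2b_orth_sup_left
  s2b_orth_sup_right)
open scoped Matrix Kronecker MatrixGroups

set_option linter.unusedSectionVars false

variable {F : Type*} [Field F] [Fintype F] {n : ℕ}

local notation "V" => (Fin n → F)
local notation "Mat" => Matrix (Fin n) (Fin n) F
local notation "Z" => scalars (Fin n) F

/-- similarities of `Q` preserve orthogonality for the polar form -/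
theorem a2t_orth_map {Q : V → F} (g : GL (Fin n) F) (hg : g ∈ quadSimilarityGroup Q)
    (W W' : Submodule F V)
    (h : AreOrthogonalFor (QuadraticMap.polar Q) (W.map (Matrix.toLin' (g : Mat)))
      (W'.map (Matrix.toLin' (g : Mat)))) :
    AreOrthogonalFor (QuadraticMap.polar Q) W W' := by
  obtain ⟨c, hc⟩ := hg
  intro u hu v hv
  have h1 := h _ (Submodule.mem_map_of_mem hu) _ (Submodule.mem_map_of_mem hv)
  rw [Matrix.toLin'_apply, Matrix.toLin'_apply, polar_similarity hc] at h1
  rcases mul_eq_zero.mp h1 with h2 | h2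
  · exact absurd h2 c.ne_zero
  · exact h2

theorem a2t_orth_symm (Q : V → F) (W W' : Submodule F V)
    (h : AreOrthogonalFor (QuadraticMap.polar Q) W W') :
    AreOrthogonalFor (QuadraticMap.polar Q) W' W := by
  intro u hu v hv
  rw [QuadraticMap.polar_comm]
  exact h v hv u hu

/-- an element of `H ⊔ Z` mapping `W` onto `W'` can be replaced by an element of `H` -/
theorem a2t_exists_mem (H K : Subgroup (GL (Fin n) F)) (hK : K = H ⊔ Z)
    (W W' : Submodule F V) (k : GL (Fin n) F) (hk : k ∈ K)
    (hmap : W.map (Matrix.toLin' (k : Mat)) = W') :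
    ∃ h ∈ H, W.map (Matrix.toLin' (h : Mat)) = W' := by
  rw [hK] at hk
  obtain ⟨h, hh, z, hz, rfl⟩ := mem_sup_scalars hk
  rw [mem_scalars_iff] at hz
  obtain ⟨c, hc⟩ := hz
  refine ⟨h, hh, ?_⟩
  rw [← hmap, Units.val_mul, hc, Matrix.mul_smul, mul_one, map_smul,
    Submodule.map_smul _ _ _ c.ne_zero]

/-- an isometry mapping `W` onto `W'` makes them isometric -/
theorem a2t_isometric (Q : V → F) (h : GL (Fin n) F) (hh : h ∈ isometryGroup F Q)
    (W W' : Submodule F V) (hmap : W.map (Matrix.toLin' (h : Mat)) = W') :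
    AreIsometricFor Q W W' := by
  have hinj : Function.Injective (Matrix.toLin' (h : Mat)) := by
    intro a b hab
    rw [Matrix.toLin'_apply, Matrix.toLin'_apply] at hab
    exact Matrix.mulVec_injective_iff_isUnit.mpr ⟨h, rfl⟩ hab
  refine ⟨(Submodule.equivMapOfInjective (Matrix.toLin' (h : Mat)) hinj W).trans
    (LinearEquiv.ofEq _ _ hmap), fun w => ?_⟩
  have h3 := (mem_isometryGroup_iff Q h).mp hh (w : V)
  rw [← h3]
  rfl

/-- the components of a transitive decomposition by totally isotropic subspaces are totally singular -/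
theorem a2t_totally_singular (Q : V → F) (hQ : IsNondegenerateQuadraticForm Q)
    (H K : Subgroup (GL (Fin n) F)) (hK : K = H ⊔ Z) (hH : H ≤ isometryGroup F Q)
    (hKirr : ActsIrreducibly (matrixSet K))
    (t m : ℕ) (D : Fin t → Submodule F V) (hD : IsMDecomposition m D)
    (hKD : K ≤ decompositionStabilizer D)
    (htr : ∀ i j, ∃ k ∈ K, (D i).map (Matrix.toLin' (k : Mat)) = D j)
    (hiso : ∀ i, AreOrthogonalFor (QuadraticMap.polar Q) (D i) (D i)) :
    ∀ i, IsTotallySingularQuad Q (D i) := by
  classical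
  by_cases h2 : (2 : F) = 0
  swap
  · intro i w hw
    rw [Q_eq_half hQ h2, hiso i w hw w hw, mul_zero]
  have hQ0 : Q 0 = 0 := by
    have := hQ.smul 0 0
    simpa using this
  have hadd : ∀ i, ∀ u ∈ D i, ∀ v ∈ D i, Q (u + v) = Q u + Q v := by
    intro i u hu v hv
    have h1 := hiso i u hu v hv
    unfold QuadraticMap.polar at h1
    linear_combination h1
  let D0 : Fin t → Submodule F V := fun i =>
    { carrier := {u | u ∈ D i ∧ Q u = 0}
      add_mem' := fun {a b} ha hb =>
        ⟨(D i).add_mem ha.1 hb.1, by rw [hadd i a ha.1 b hb.1, ha.2, hb.2, add_zero]⟩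
      zero_mem' := ⟨(D i).zero_mem, hQ0⟩
      smul_mem' := fun c a ha => ⟨(D i).smul_mem c ha.1, by rw [hQ.smul, ha.2, mul_zero]⟩ }
  have hD0le : ∀ i, D0 i ≤ D i := fun i u hu => hu.1
  have hKΔ : K ≤ quadSimilarityGroup Q := by
    rw [hK]
    exact sup_scalars_le_quadSimilarityGroup hQ hH
  have hHK : H ≤ K := by
    rw [hK]
    exact le_sup_left
  have hinv : ∀ s ∈ matrixSet K, (iSup D0).map (Matrix.toLin' s) ≤ iSup D0 := by
    rintro _ ⟨k, hk, rfl⟩
    obtain ⟨π, hπ⟩ := hKD hk
    obtain ⟨c, hc⟩ := hKΔ hk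
    rw [Submodule.map_iSup]
    apply iSup_le
    intro i
    refine le_trans ?_ (le_iSup D0 (π i))
    rintro _ ⟨u, hu, rfl⟩
    refine ⟨?_, ?_⟩
    · rw [← hπ i]
      exact Submodule.mem_map_of_mem hu.1
    · rw [Matrix.toLin'_apply, hc, hu.2, mul_zero]
  rcases hKirr _ hinv with hbot | htop
  · exfalso
    have hD0bot : ∀ i, D0 i = ⊥ := fun i => le_bot_iff.mp (hbot ▸ le_iSup D0 i)
    have hzero : ∀ i, ∀ u ∈ D i, Q u = 0 → u = 0 := by
      intro i u hu hu0
      have h1 : u ∈ D0 i := ⟨hu, hu0⟩
      rw [hD0bot i] at h1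
      exact (Submodule.mem_bot F).mp h1
    have hQinj : ∀ i, ∀ u ∈ D i, ∀ v ∈ D i, Q u = Q v → u = v := by
      intro i u hu v hv huv
      have h1 : Q (u + v) = 0 := by
        rw [hadd i u hu v hv, huv, ← two_mul, h2, zero_mul]
      have h3 := hzero i (u + v) ((D i).add_mem hu hv) h1
      have h4 : v + v = 0 := by rw [← two_smul F v, h2, zero_smul]
      calc u = u + (v + v) := by rw [h4, add_zero]
        _ = (u + v) + v := by rw [add_assoc]
        _ = v := by rw [h3, zero_add]
    have ht := hD.two_le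
    let i0 : Fin t := ⟨0, by omega⟩
    have hne : D i0 ≠ ⊥ := by
      intro h
      have h1 := hD.finrank_eq i0
      rw [h, finrank_bot] at h1
      exact hD.pos.ne h1
    obtain ⟨v0, hv0D, hv0⟩ := Submodule.exists_mem_ne_zero_of_ne_bot hne
    have ha : Q v0 ≠ 0 := fun h => hv0 (hzero i0 v0 hv0D h)
    have hex : ∀ i, ∃ h ∈ H, (D i0).map (Matrix.toLin' (h : Mat)) = D i := by
      intro i
      obtain ⟨k, hk, hkD⟩ := htr i0 i
      exact a2t_exists_mem H K hK _ _ k hk hkD
    choose g hgH hgD using hex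
    let v : Fin t → V := fun i => ((g i : GL (Fin n) F) : Mat) *ᵥ v0
    have hvD : ∀ i, v i ∈ D i := by
      intro i
      rw [← hgD i]
      exact ⟨v0, hv0D, Matrix.toLin'_apply _ _⟩
    have hvQ : ∀ i, Q (v i) = Q v0 := fun i => (mem_isometryGroup_iff Q (g i)).mp (hH (hgH i)) v0
    have hv0' : ∀ i, v i ≠ 0 := by
      intro i h
      apply ha
      rw [← hvQ i, h, hQ0]
    have hperm : ∀ h ∈ H, ∃ π : Equiv.Perm (Fin t), ∀ i, (h : Mat) *ᵥ v i = v (π i) := by
      intro h hh
      obtain ⟨π, hπ⟩ := hKD (hHK hh)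
      refine ⟨π, fun i => ?_⟩
      apply hQinj (π i)
      · rw [← hπ i]
        exact ⟨v i, hvD i, Matrix.toLin'_apply _ _⟩
      · exact hvD (π i)
      · rw [(mem_isometryGroup_iff Q h).mp (hH hh), hvQ, hvQ]
    let s : V := ∑ i, v i
    have hsfix : ∀ h ∈ H, (h : Mat) *ᵥ s = s := by
      intro h hh
      obtain ⟨π, hπ⟩ := hperm h hh
      show (h : Mat) *ᵥ ∑ i, v i = ∑ i, v i
      rw [Matrix.mulVec_sum]
      simp only [hπ]
      exact Equiv.sum_comp π v
    have hs0 : s ≠ 0 := by
      intro hs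
      have hli := hD.indep.linearIndependent D hvD hv0'
      have h1 := Fintype.linearIndependent_iff.mp hli (fun _ => (1 : F)) (by simpa using hs) i0
      exact one_ne_zero h1
    have hinv2 : ∀ x ∈ matrixSet K, (Submodule.span F {s}).map (Matrix.toLin' x) ≤
        Submodule.span F {s} := by
      rintro _ ⟨k, hk, rfl⟩
      rw [hK] at hk
      obtain ⟨h, hh, z, hz, rfl⟩ := mem_sup_scalars hk
      rw [mem_scalars_iff] at hz
      obtain ⟨c, hc⟩ := hz
      rw [Submodule.map_span_le]
      intro x hx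
      rw [Set.mem_singleton_iff] at hx
      subst hx
      rw [Matrix.toLin'_apply]
      show ((h * z : GL (Fin n) F) : Mat) *ᵥ s ∈ Submodule.span F {s}
      rw [Units.val_mul, hc, Matrix.mul_smul, mul_one, Matrix.smul_mulVec, hsfix h hh]
      exact Submodule.smul_mem _ _ (Submodule.mem_span_singleton_self s)
    have hn : t * m = n := Cfsg.Agent.Lib.Helper36.SLMax.mul_eq_of_isMDecomposition D hD
    rcases hKirr _ hinv2 with h | h
    · exact hs0 (Submodule.span_singleton_eq_bot.mp h)
    · have h1 : Module.finrank F (Submodule.span F {s}) = 1 := finrank_span_singleton hs0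
      rw [h, finrank_top, Module.finrank_fin_fun] at h1
      have hm := hD.pos
      have : 2 * 1 ≤ t * m := Nat.mul_le_mul ht hm
      omega
  · intro i w hw
    have heq : D i = D0 i := by
      have h1 : iSup D0 = D0 i ⊔ ⨆ (j) (_ : j ≠ i), D0 j := iSup_split_single D0 i
      have h3 : (⨆ (j) (_ : j ≠ i), D0 j) ⊓ D i = ⊥ := by
        have h4 : Disjoint (D i) (⨆ (j) (_ : j ≠ i), D j) := iSupIndep_def.mp hD.indep i
        have h5 : (⨆ (j) (_ : j ≠ i), D0 j) ≤ ⨆ (j) (_ : j ≠ i), D j :=
          iSup₂_mono fun j _ => hD0le j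
        rw [inf_comm]
        exact (h4.mono_right h5).eq_bot
      calc D i = ⊤ ⊓ D i := by rw [top_inf_eq]
        _ = (D0 i ⊔ ⨆ (j) (_ : j ≠ i), D0 j) ⊓ D i := by rw [← h1, htop]
        _ = D0 i ⊔ (⨆ (j) (_ : j ≠ i), D0 j) ⊓ D i := sup_inf_assoc_of_le _ (hD0le i)
        _ = D0 i := by rw [h3, sup_bot_eq]
    have hle : D i ≤ D0 i := heq.le
    exact (hle hw).2

/-- **K-OEven-A2t**. -/
theorem egeom_of_paired_components (Q : V → F) (hQ : IsNondegenerateQuadraticForm Q)
    (H K : Subgroup (GL (Fin n) F)) (hK : K = H ⊔ Z) (hH : H ≤ isometryGroup F Q)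
    (hKirr : ActsIrreducibly (matrixSet K))
    (t m : ℕ) (D : Fin t → Submodule F V) (hD : IsMDecomposition m D) (hKD : K ≤ decompositionStabilizer D)
    (htr : ∀ i j, ∃ k ∈ K, (D i).map (Matrix.toLin' (k : Mat)) = D j)
    (hpair : ∀ i, ∃ j, ∀ l, l ≠ j → AreOrthogonalFor (QuadraticMap.polar Q) (D i) (D l))
    (hno : ¬ ∀ i j, i ≠ j → AreOrthogonalFor (QuadraticMap.polar Q) (D i) (D j)) :
    EGeom Q K := by
  classical
  have hbil := hQ.polar_bilinear
  have hKΔ : K ≤ quadSimilarityGroup Q := by
    rw [hK]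
    exact sup_scalars_le_quadSimilarityGroup hQ hH
  have hHK : H ≤ K := by
    rw [hK]
    exact le_sup_left
  have hne : ∀ i, D i ≠ ⊥ := by
    intro i h
    have h1 := hD.finrank_eq i
    rw [h, finrank_bot] at h1
    have := hD.pos
    omega
  have hinj : Function.Injective D := hD.indep.injective hne
  have hex : ∀ i, ∃ j, ¬ AreOrthogonalFor (QuadraticMap.polar Q) (D i) (D j) := by
    intro i
    by_contra hcon
    push Not at hcon
    obtain ⟨w, hwD, hw0⟩ := (Submodule.ne_bot_iff _).mp (hne i)
    obtain ⟨x, hx⟩ := (hQ.nondegenerate w hw0).2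
    exact hx (s2b_right_vanish hbil D hD.iSup_eq_top w (fun j y hy => hcon j w hwD y hy) x)
  choose σ hσ using hpair
  have hNO : ∀ i, ¬ AreOrthogonalFor (QuadraticMap.polar Q) (D i) (D (σ i)) := by
    intro i
    obtain ⟨j, hj⟩ := hex i
    by_cases h : j = σ i
    · rwa [h] at hj
    · exact absurd (hσ i j h) hj
  have huniq : ∀ i j, ¬ AreOrthogonalFor (QuadraticMap.polar Q) (D i) (D j) → j = σ i := by
    intro i j h
    by_contra hne'
    exact h (hσ i j hne')
  have hinvol : ∀ i, σ (σ i) = i := by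
    intro i
    have : ¬ AreOrthogonalFor (QuadraticMap.polar Q) (D (σ i)) (D i) :=
      fun h => hNO i (a2t_orth_symm Q _ _ h)
    exact (huniq (σ i) i this).symm
  have hequiv : ∀ g ∈ K, ∀ π : Equiv.Perm (Fin t),
      (∀ i, (D i).map (Matrix.toLin' (g : Mat)) = D (π i)) → ∀ i, σ (π i) = π (σ i) := by
    intro g hg π hπ i
    symm
    apply huniq
    intro h
    rw [← hπ i, ← hπ (σ i)] at h
    exact hNO i (a2t_orth_map g (hKΔ hg) _ _ h)
  have hfix : ∀ i, σ i ≠ i := by
    intro i0 hi0
    have hall : ∀ j, σ j = j := by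
      intro j
      obtain ⟨g, hg, hgij⟩ := htr i0 j
      obtain ⟨π, hπ⟩ := hKD hg
      have hπi : π i0 = j := hinj (by rw [← hπ i0, hgij])
      rw [← hπi, hequiv g hg π hπ i0, hi0]
    apply hno
    intro i j hij
    exact hσ i j (by rw [hall i]; exact fun h => hij h.symm)
  have hiso : ∀ i, AreOrthogonalFor (QuadraticMap.polar Q) (D i) (D i) :=
    fun i => hσ i i (fun h => hfix i h.symm)
  have hts : ∀ i, IsTotallySingularQuad Q (D i) :=
    a2t_totally_singular Q hQ H K hK hH hKirr t m D hD hKD htr hiso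
  by_cases ht2 : t = 2
  · subst ht2
    refine ⟨decompositionStabilizer D, ?_, hKD⟩
    right; right; right; right; left
    exact ⟨m, D, hD, hts, rfl⟩
  · have ht3 : 3 ≤ t := by
      have := hD.two_le
      omega
    obtain ⟨s, rep, hR1, hR2, hR3, hts2⟩ := s2b_reps σ hinvol hfix
    have hs2 : 2 ≤ s := by omega
    have hσinj : Function.Injective σ := fun a b h => by rw [← hinvol a, h, hinvol]
    let E : Fin t → Submodule F V := fun i => D i ⊔ D (σ i)
    have hEσ : ∀ i, E (σ i) = E i := by
      intro i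
      show D (σ i) ⊔ D (σ (σ i)) = D i ⊔ D (σ i)
      rw [hinvol, sup_comm]
    choose cls hcls using hR3
    have hEcls : ∀ i, E (rep (cls i)) = E i := by
      intro i
      rcases hcls i with h | h
      · rw [← h]
      · rw [← hEσ (rep (cls i)), ← h]
    have horth : ∀ i j, j ≠ σ i → AreOrthogonalFor (QuadraticMap.polar Q) (D i) (D j) :=
      fun i j h => hσ i j h
    have hED : ∀ i j, j ≠ i → j ≠ σ i → AreOrthogonalFor (QuadraticMap.polar Q) (E i) (D j) := by
      intro i j h1 h2
      apply s2b_orth_sup_left hbil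
      · exact horth i j h2
      · exact horth (σ i) j (by rw [hinvol]; exact h1)
    have hDE : ∀ i j, j ≠ i → j ≠ σ i → AreOrthogonalFor (QuadraticMap.polar Q) (D j) (E i) :=
      fun i j h1 h2 => a2t_orth_symm Q _ _ (hED i j h1 h2)
    let D2 : Fin s → Submodule F V := fun a => E (rep a)
    have hmd : IsMDecomposition (2 * m) D2 := by
      refine ⟨hs2, by have := hD.pos; omega, ?_, ?_, ?_⟩
      · intro a
        have hdisj : Disjoint (D (rep a)) (D (σ (rep a))) :=
          hD.indep.pairwiseDisjoint (fun h => hfix _ h.symm)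
        have h1 := Submodule.finrank_sup_add_finrank_inf_eq (D (rep a)) (D (σ (rep a)))
        rw [hdisj.eq_bot, finrank_bot, hD.finrank_eq, hD.finrank_eq] at h1
        show Module.finrank F ↥(D (rep a) ⊔ D (σ (rep a))) = 2 * m
        omega
      · rw [iSupIndep_def]
        intro a
        have h1 : D2 a ≤ ⨆ i ∈ ({rep a, σ (rep a)} : Set (Fin t)), D i := by
          apply sup_le
          · exact le_biSup D (Set.mem_insert _ _)
          · exact le_biSup D (Set.mem_insert_of_mem _ rfl)
        have h2 : (⨆ (b) (_ : b ≠ a), D2 b) ≤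
            ⨆ i ∈ ({i | i ≠ rep a ∧ i ≠ σ (rep a)} : Set (Fin t)), D i := by
          apply iSup₂_le
          intro b hb
          apply sup_le
          · exact le_biSup D (show rep b ∈ {i | i ≠ rep a ∧ i ≠ σ (rep a)} from
              ⟨fun h => hb (hR1 h), hR2 b a⟩)
          · exact le_biSup D (show σ (rep b) ∈ {i | i ≠ rep a ∧ i ≠ σ (rep a)} from
              ⟨fun h => hR2 a b h.symm, fun h => hb (hR1 (hσinj h))⟩)
        refine Disjoint.mono h1 h2 (hD.indep.disjoint_biSup_biSup' ?_ (Set.toFinite _))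
        rw [Set.disjoint_left]
        rintro i hi ⟨h1, h2⟩
        rcases hi with rfl | hi
        · exact h1 rfl
        · exact h2 hi
      · rw [eq_top_iff, ← hD.iSup_eq_top]
        apply iSup_le
        intro i
        have h1 : D i ≤ E i := le_sup_left
        rw [← hEcls i] at h1
        exact h1.trans (le_iSup D2 (cls i))
    have hstab : K ≤ decompositionStabilizer D2 := by
      intro g hg
      obtain ⟨π, hπ⟩ := hKD hg
      have hcomm := hequiv g hg π hπ
      have hmapE : ∀ i, (E i).map (Matrix.toLin' (g : Mat)) = E (π i) := by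
        intro i
        show (D i ⊔ D (σ i)).map _ = D (π i) ⊔ D (σ (π i))
        rw [Submodule.map_sup, hπ, hπ, hcomm]
      let τ : Fin s → Fin s := fun a => cls (π (rep a))
      have hτinj : Function.Injective τ := by
        intro a a' h
        have h1 := hcls (π (rep a))
        have h2 := hcls (π (rep a'))
        rw [show cls (π (rep a')) = cls (π (rep a)) from h.symm] at h2
        have key : π (rep a) = π (rep a') ∨ π (rep a) = σ (π (rep a')) := by
          rcases h1 with h1 | h1 <;> rcases h2 with h2 | h2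
          · left; exact h1.trans h2.symm
          · right; rw [h2, hinvol]; exact h1
          · right; rw [h2]; exact h1
          · left; exact h1.trans h2.symm
        rcases key with key | key
        · exact hR1 (π.injective key)
        · rw [hcomm] at key
          exact absurd (π.injective key) (hR2 a a')
      have hτbij : Function.Bijective τ := Finite.injective_iff_bijective.mp hτinj
      show ∃ ρ : Equiv.Perm (Fin s), ∀ a, (D2 a).map (Matrix.toLin' (g : Mat)) = D2 (ρ a)
      refine ⟨Equiv.ofBijective τ hτbij, fun a => ?_⟩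
      show (E (rep a)).map _ = E (rep (cls (π (rep a))))
      rw [hmapE, hEcls]
    refine ⟨decompositionStabilizer D2, ?_, hstab⟩
    right; right; right; left
    refine ⟨s, 2 * m, D2, hs2, fun h => by have := hD.pos; omega, ⟨⟨hmd, ?_, ?_⟩, ?_⟩, rfl⟩
    · intro a w hw hw0
      constructor
      · by_contra hcon
        push Not at hcon
        obtain ⟨x, hx⟩ := (hQ.nondegenerate w hw0).1
        apply hx
        apply s2b_left_vanish hbil D hD.iSup_eq_top w
        intro j y hy
        by_cases hj1 : j = rep a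
        · exact hcon y (by subst hj1; exact Submodule.mem_sup_left hy)
        by_cases hj2 : j = σ (rep a)
        · exact hcon y (by subst hj2; exact Submodule.mem_sup_right hy)
        exact hDE (rep a) j hj1 hj2 y hy w hw
      · by_contra hcon
        push Not at hcon
        obtain ⟨x, hx⟩ := (hQ.nondegenerate w hw0).2
        apply hx
        apply s2b_right_vanish hbil D hD.iSup_eq_top w
        intro j y hy
        by_cases hj1 : j = rep a
        · exact hcon y (by subst hj1; exact Submodule.mem_sup_left hy)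
        by_cases hj2 : j = σ (rep a)
        · exact hcon y (by subst hj2; exact Submodule.mem_sup_right hy)
        exact hED (rep a) j hj1 hj2 w hw y hy
    · intro a b hab
      apply s2b_orth_sup_right hbil
      · exact hED (rep a) (rep b) (fun h => hab (hR1 h).symm) (hR2 b a)
      · exact hED (rep a) (σ (rep b)) (fun h => hR2 a b h.symm)
          (fun h => hab (hR1 (hσinj h)).symm)
    · intro a b
      obtain ⟨k, hk, hkD⟩ := htr (rep a) (rep b)
      obtain ⟨h, hh, hhD⟩ := a2t_exists_mem H K hK _ _ k hk hkD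
      obtain ⟨π, hπ⟩ := hKD (hHK hh)
      have hπa : π (rep a) = rep b := hinj (by rw [← hπ (rep a), hhD])
      have hcomm := hequiv h (hHK hh) π hπ
      apply a2t_isometric Q h (hH hh)
      show (D (rep a) ⊔ D (σ (rep a))).map _ = D (rep b) ⊔ D (σ (rep b))
      rw [Submodule.map_sup, hπ, hπ, ← hcomm, hπa]

end Cfsg.Agent.Lib.Helper85.AschE
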