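import Cfsg.Agent.Lib.Helper11.Syl22Defs

/-!
# K-S4346-B5 (keystone 434614, architect helper11): no element of order 5
-/

set_option autoImplicit false

namespace Cfsg.Agent.Lib.Helper85.Syl22

open Cfsg.Agent.Lib.Helper11.Syl22

/-- K-B5 (434614). -/
theorem no_order_five {G : Type*} [Group G] [Finite G]
    (h5 : ∀ g : G, orderOf g = 5 →
      fixN g = 7 ∧ 7 ∣ Nat.card ↥(Subgroup.centralizer ({g} : Set G)))
    (h7 : ∀ g : G, orderOf g = 7 → fixN g = 1) (z : G) : orderOf z ≠ 5 := by
  intro hz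
  obtain ⟨hfz, hdvd⟩ := h5 z hz
  have hprime : Fact (Nat.Prime 7) := ⟨by norm_num⟩
  obtain ⟨w', hw'⟩ := exists_prime_orderOf_dvd_card' 7 hdvd
  have hwo : orderOf (w' : G) = 7 := by rw [Subgroup.orderOf_coe, hw']
  have hwC : (w' : G) ∈ Subgroup.centralizer ({z} : Set G) := w'.2
  obtain ⟨w, hw⟩ : ∃ w : G, w = (w' : G) := ⟨_, rfl⟩
  rw [← hw] at hwo hwC
  have hcomm : z * w = w * z := hwC z (Set.mem_singleton z)
  have hfw := h7 w hwo
  unfold fixN at hfw hfz
  obtain ⟨hsub, hne⟩ := Nat.card_eq_one_iff_unique.mp hfw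
  obtain ⟨⟨Q, hQ⟩⟩ := hne
  have hQ' : w • Q = Q := hQ
  have huniq : ∀ R : Sylow 3 G, w • R = R → R = Q := by
    intro R hR
    have := hsub.elim ⟨R, hR⟩ ⟨Q, hQ⟩
    exact congrArg Subtype.val this
  have hzQ : z • Q = Q := by
    apply huniq
    rw [smul_smul, ← hcomm, ← smul_smul, hQ']
  have hHle : Subgroup.zpowers w ≤ Subgroup.centralizer ({z} : Set G) :=
    (Subgroup.zpowers_le).mpr hwC
  let S : SubMulAction ↥(Subgroup.zpowers w) (Sylow 3 G) :=
    { carrier := MulAction.fixedBy (Sylow 3 G) z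
      smul_mem' := by
        intro h R hR
        have hc : z * (h : G) = (h : G) * z := hHle h.2 z (Set.mem_singleton z)
        have hR' : z • R = R := hR
        show z • (h • R) = h • R
        rw [Subgroup.smul_def, smul_smul, hc, ← smul_smul, hR'] }
  have hH : IsPGroup 7 ↥(Subgroup.zpowers w) := by
    apply IsPGroup.of_card (n := 1)
    rw [Nat.card_zpowers, hwo, pow_one]
  have hmod := hH.card_modEq_card_fixedPoints (↥S)
  have hcardS : Nat.card ↥S = 7 := hfz
  have hfix1 : Nat.card ↥(MulAction.fixedPoints ↥(Subgroup.zpowers w) ↥S) = 1 := by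
    rw [Nat.card_eq_one_iff_unique]
    constructor
    · constructor
      rintro ⟨⟨R, hR⟩, hRfix⟩ ⟨⟨R', hR'⟩, hR'fix⟩
      have e1 : R = Q := by
        apply huniq
        have := hRfix ⟨w, Subgroup.mem_zpowers w⟩
        exact congrArg Subtype.val this
      have e2 : R' = Q := by
        apply huniq
        have := hR'fix ⟨w, Subgroup.mem_zpowers w⟩
        exact congrArg Subtype.val this
      apply Subtype.ext
      apply Subtype.ext
      show R = R'
      rw [e1, e2]
    · refine ⟨⟨⟨Q, hzQ⟩, ?_⟩⟩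
      intro h
      apply Subtype.ext
      show (h : G) • Q = Q
      have hle : Subgroup.zpowers w ≤ MulAction.stabilizer G Q := Subgroup.zpowers_le.mpr hQ'
      exact hle h.2
  rw [hcardS, hfix1] at hmod
  exact absurd hmod (by decide)

end Cfsg.Agent.Lib.Helper85.Syl22
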