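import Mathlib
import Cfsg.Agent.Lib.Helper85.Clifford
import Cfsg.Agent.Lib.Helper85.CliffordAbelian
import Cfsg.Agent.Lib.Helper85.CliffordCorr
import Cfsg.Agent.Lib.Helper83.Linear

set_option autoImplicit false

namespace Cfsg.Agent.Lib.Helper85

open scoped ComplexConjugate
open Cfsg Cfsg.Agent.Lib.Helper83

universe u
variable {G : Type u} [Group G]

/-- Conjugation composes. -/
theorem conjFun_conjFun {N : Subgroup G} (hN : N.Normal) (χ : N → ℂ) (a b : G) :
    conjFun hN (conjFun hN χ a) b = conjFun hN χ (a * b) := by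
  funext n
  rw [conjFun_apply, conjFun_apply, conjFun_apply]
  congr 1
  apply Subtype.ext
  change a * (b * (n : G) * b⁻¹) * a⁻¹ = a * b * (n : G) * (a * b)⁻¹
  group

theorem conjFun_one {N : Subgroup G} (hN : N.Normal) (χ : N → ℂ) : conjFun hN χ 1 = χ := by
  funext n
  rw [conjFun_apply]
  congr 1
  apply Subtype.ext
  change 1 * (n : G) * 1⁻¹ = n
  group

/-- Conjugation on `N.subgroupOf T` is conjugation on `N`, transported. -/
theorem conjFun_subgroupOf {N T : Subgroup G} (hN : N.Normal) (hNT : N ≤ T) (χ : N → ℂ) (t : T) :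
    conjFun (hN.subgroupOf T) (fun n' => χ (Subgroup.subgroupOfEquivOfLe hNT n')) t =
      fun n' => conjFun hN χ t (Subgroup.subgroupOfEquivOfLe hNT n') := by
  funext n'
  rfl

theorem comp_mulEquiv_injective {H K : Type*} [Group H] [Group K] (e : H ≃* K) :
    Function.Injective (fun (φ : K → ℂ) => fun h : H => φ (e h)) := by
  intro φ ψ h
  funext k
  have := congrFun h (e.symm k)
  simpa using this

/-- Orthonormality of irreducible characters given as functions. -/
theorem irr_inner_eq_ite [Fintype G] {χ ψ : G → ℂ} (hχ : IsIrrCharacter G χ)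
    (hψ : IsIrrCharacter G ψ) [Decidable (χ = ψ)] :
    classInner χ ψ = if χ = ψ then 1 else 0 := by
  classical
  have h := irr_orthonormal (⟨χ, hχ⟩ : IrrCharacter G) ⟨ψ, hψ⟩
  simp only [Subtype.mk.injEq] at h
  convert h

/-- The norm of a sum of distinct irreducible characters is the number of summands. -/
theorem classInner_sum_irr_finset [Fintype G] [DecidableEq (G → ℂ)] (S : Finset (G → ℂ))
    (hS : ∀ ψ ∈ S, IsIrrCharacter G ψ) :
    classInner (∑ ψ ∈ S, ψ) (∑ ψ ∈ S, ψ) = S.card := by
  rw [classInner_sum_left]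
  have : ∀ ψ ∈ S, classInner ψ (∑ ψ' ∈ S, ψ') = 1 := by
    intro ψ hψ
    rw [classInner_sum_right]
    rw [Finset.sum_congr rfl (fun ψ' hψ' => irr_inner_eq_ite (hS ψ hψ) (hS ψ' hψ'))]
    rw [Finset.sum_ite_eq, if_pos hψ]
  rw [Finset.sum_congr rfl this]
  simp

/-- **Relative Clifford theorem.** `N ≤ T ≤ G` with `N` normal in `G`: the restriction to `N` of
an irreducible character `ψ` of `T` is a multiple of the sum of the `T`-conjugates of any
irreducible constituent. -/
theorem clifford_rel [Fintype G] {N T : Subgroup G} [Fintype N] [Fintype T] (hN : N.Normal)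
    (hNT : N ≤ T) {ψ : T → ℂ} (hψ : IsIrrCharacter T ψ) {χ : N → ℂ} (hχ : IsIrrCharacter N χ)
    (hconst : classInner (fun n : N => ψ ⟨n, hNT n.2⟩) χ ≠ 0) [DecidableEq (N → ℂ)] :
    (fun n : N => ψ ⟨n, hNT n.2⟩) = classInner (fun n : N => ψ ⟨n, hNT n.2⟩) χ •
      ∑ φ ∈ (Finset.univ.image (fun t : T => conjFun hN χ t)), φ := by
  classical
  have : Fintype (N.subgroupOf T) := Fintype.ofFinite _
  have hN' : (N.subgroupOf T).Normal := hN.subgroupOf T
  set ι : N.subgroupOf T ≃* N := Subgroup.subgroupOfEquivOfLe hNT with hι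
  set χ' : N.subgroupOf T → ℂ := fun n' => χ (ι n') with hχ'
  have hχ'irr : IsIrrCharacter (N.subgroupOf T) χ' :=
    Cfsg.Agent.Lib.Helper84.isIrrCharacter_comp_mulEquiv ι hχ
  have hres : (fun n' : N.subgroupOf T => ψ (n' : T)) =
      fun n' => (fun n : N => ψ ⟨n, hNT n.2⟩) (ι n') := by
    funext n'
    rfl
  have hinner : classInner (fun n' : N.subgroupOf T => ψ (n' : T)) χ' =
      classInner (fun n : N => ψ ⟨n, hNT n.2⟩) χ := by
    rw [hres, hχ']
    exact classInner_comp_mulEquiv ι (fun n : N => ψ ⟨n, hNT n.2⟩) χ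
  have hconst' : classInner (fun n' : N.subgroupOf T => ψ (n' : T)) χ' ≠ 0 := by
    rw [hinner]; exact hconst
  have hcl := clifford_finset hN' hψ hχ'irr hconst'
  have himage : Finset.univ.image (fun t : T => conjFun hN' χ' t) =
      (Finset.univ.image (fun t : T => conjFun hN χ t)).image
        (fun (φ : N → ℂ) => fun n' : N.subgroupOf T => φ (ι n')) := by
    rw [Finset.image_image]
    apply Finset.image_congr
    intro t _
    exact conjFun_subgroupOf hN hNT χ t
  rw [himage, Finset.sum_image (fun a _ b _ h => comp_mulEquiv_injective ι h), hinner] at hcl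
  funext n
  have h2 := congrFun hcl (ι.symm n)
  simp only [Pi.smul_apply, smul_eq_mul, Finset.sum_apply, MulEquiv.apply_symm_apply] at h2
  rw [Pi.smul_apply, smul_eq_mul, Finset.sum_apply, ← h2]
  rfl

/-- Relative Clifford, vanishing part. -/
theorem clifford_rel_inner_eq_zero [Fintype G] {N T : Subgroup G} [Fintype N]
    (hN : N.Normal) (hNT : N ≤ T) {ψ : T → ℂ} (hψ : IsIrrCharacter T ψ) {χ : N → ℂ}
    (hχ : IsIrrCharacter N χ)
    (hconst : classInner (fun n : N => ψ ⟨n, hNT n.2⟩) χ ≠ 0) {φ : N → ℂ}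
    (hφ : IsIrrCharacter N φ) (hne : ∀ t : T, φ ≠ conjFun hN χ t) :
    classInner (fun n : N => ψ ⟨n, hNT n.2⟩) φ = 0 := by
  classical
  have : Fintype T := Fintype.ofFinite T
  have : Fintype (N.subgroupOf T) := Fintype.ofFinite _
  have hN' : (N.subgroupOf T).Normal := hN.subgroupOf T
  set ι : N.subgroupOf T ≃* N := Subgroup.subgroupOfEquivOfLe hNT with hι
  set χ' : N.subgroupOf T → ℂ := fun n' => χ (ι n') with hχ'
  have hχ'irr : IsIrrCharacter (N.subgroupOf T) χ' :=
    Cfsg.Agent.Lib.Helper84.isIrrCharacter_comp_mulEquiv ι hχ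
  have hφ'irr : IsIrrCharacter (N.subgroupOf T) (fun n' => φ (ι n')) :=
    Cfsg.Agent.Lib.Helper84.isIrrCharacter_comp_mulEquiv ι hφ
  have hres : (fun n' : N.subgroupOf T => ψ (n' : T)) =
      fun n' => (fun n : N => ψ ⟨n, hNT n.2⟩) (ι n') := by
    funext n'
    rfl
  have hinner : ∀ f : N → ℂ, classInner (fun n' : N.subgroupOf T => ψ (n' : T))
      (fun n' => f (ι n')) = classInner (fun n : N => ψ ⟨n, hNT n.2⟩) f := by
    intro f
    rw [hres]
    exact classInner_comp_mulEquiv ι (fun n : N => ψ ⟨n, hNT n.2⟩) f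
  have hconst' : classInner (fun n' : N.subgroupOf T => ψ (n' : T)) χ' ≠ 0 := by
    rw [hχ', hinner]; exact hconst
  rw [← hinner φ]
  apply clifford_inner_eq_zero hN' hψ hχ'irr hconst' hφ'irr
  intro t h
  rw [hχ', conjFun_subgroupOf hN hNT χ t] at h
  exact hne t (comp_mulEquiv_injective ι h)

/-- The number of `T`-conjugates of `χ` is the relative index of the stabilizer. -/
theorem card_conj_orbit_rel [Fintype G] {N T : Subgroup G} [Fintype T] (hN : N.Normal)
    (hNT : N ≤ T) (χ : N → ℂ) [DecidableEq (N → ℂ)] :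
    (Finset.univ.image (fun t : T => conjFun hN χ t)).card = (conjStab hN χ).relIndex T := by
  classical
  have hN' : (N.subgroupOf T).Normal := hN.subgroupOf T
  set ι : N.subgroupOf T ≃* N := Subgroup.subgroupOfEquivOfLe hNT with hι
  set χ' : N.subgroupOf T → ℂ := fun n' => χ (ι n') with hχ'
  have himage : Finset.univ.image (fun t : T => conjFun hN' χ' t) =
      (Finset.univ.image (fun t : T => conjFun hN χ t)).image
        (fun (φ : N → ℂ) => fun n' : N.subgroupOf T => φ (ι n')) := by
    rw [Finset.image_image]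
    apply Finset.image_congr
    intro t _
    exact conjFun_subgroupOf hN hNT χ t
  have h1 := card_conj_orbit_eq_index hN' χ'
  rw [himage, Finset.card_image_of_injective _ (comp_mulEquiv_injective ι)] at h1
  rw [h1, Subgroup.relIndex]
  congr 1
  ext t
  rw [mem_conjStab, Subgroup.mem_subgroupOf, mem_conjStab, hχ', conjFun_subgroupOf hN hNT χ t]
  constructor
  · intro h
    exact comp_mulEquiv_injective ι h
  · intro h
    rw [h]

/-- A class function on `N` invariant under `G`-conjugation has the same inner product with all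
conjugates of a function. -/
theorem classInner_conjFun_of_invariant [Fintype G] {N : Subgroup G} [Fintype N] (hN : N.Normal)
    {r : N → ℂ} (hr : ∀ (g : G) (n : N), r ⟨g * n * g⁻¹, hN.conj_mem n n.2 g⟩ = r n)
    (χ : N → ℂ) (g : G) :
    classInner r (conjFun hN χ g) = classInner r χ := by
  have := hN
  rw [classInner_def, classInner_def]
  congr 1
  apply Fintype.sum_equiv (MulAut.conjNormal g : MulAut N).toEquiv
  intro n
  have h1 : r ((MulAut.conjNormal g : MulAut N) n) = r n := hr g n
  change r n * conj (χ ((MulAut.conjNormal g : MulAut N) n)) =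
    r ((MulAut.conjNormal g : MulAut N) n) * conj (χ ((MulAut.conjNormal g : MulAut N) n))
  rw [h1]

end Cfsg.Agent.Lib.Helper85
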