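import Mathlib
import Cfsg.Agent.Lib.Helper85.CliffordRel

set_option autoImplicit false

namespace Cfsg.Agent.Lib.Helper85

open scoped ComplexConjugate
open Cfsg Cfsg.Agent.Lib.Helper83

universe u
variable {K : Type u} [Group K]

/-- An abelian finite group has as many irreducible characters as elements. -/
theorem card_irr_of_comm [Finite K] (hab : ∀ a b : K, a * b = b * a) :
    Nat.card (IrrCharacter K) = Nat.card K := by
  classical
  have : Fintype K := Fintype.ofFinite K
  have : Fintype (IrrCharacter K) := Fintype.ofFinite _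
  have h := sum_irr_degree_sq (G := K)
  have h1 : ∀ χ : IrrCharacter K, ((χ : K → ℂ) 1) ^ 2 = 1 := by
    intro χ
    rw [irr_apply_one_of_comm hab χ.2, one_pow]
  rw [Finset.sum_congr rfl (fun χ _ => h1 χ)] at h
  simp only [Finset.sum_const, Finset.card_univ, nsmul_eq_mul, mul_one] at h
  rw [Nat.card_eq_fintype_card]
  exact_mod_cast h

/-- Sum of the values of all irreducible characters of an abelian quotient. -/
theorem sum_irr_quotient_apply [Finite K] (N : Subgroup K) [N.Normal]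
    (hab : ∀ a b : K ⧸ N, a * b = b * a) [Fintype (IrrCharacter (K ⧸ N))] (k : K)
    [Decidable (k ∈ N)] :
    ∑ β : IrrCharacter (K ⧸ N), (β : K ⧸ N → ℂ) (QuotientGroup.mk k) =
      if k ∈ N then (N.index : ℂ) else 0 := by
  classical
  have : Fintype (K ⧸ N) := Fintype.ofFinite _
  have h := sum_irr_degree_mul (G := K ⧸ N) (QuotientGroup.mk k)
  have h1 : ∀ β : IrrCharacter (K ⧸ N), (β : K ⧸ N → ℂ) 1 * (β : K ⧸ N → ℂ) (QuotientGroup.mk k) =
      (β : K ⧸ N → ℂ) (QuotientGroup.mk k) := by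
    intro β
    rw [irr_apply_one_of_comm hab β.2, one_mul]
  rw [Finset.sum_congr rfl (fun β _ => h1 β)] at h
  rw [h]
  have h2 : ((QuotientGroup.mk k : K ⧸ N) = 1) ↔ k ∈ N := QuotientGroup.eq_one_iff k
  by_cases hk : k ∈ N
  · rw [if_pos hk, if_pos (h2.mpr hk)]
    rfl
  · rw [if_neg hk, if_neg (fun h => hk (h2.mp h))]

/-- Key identity: the sum over the linear characters `β` of the abelian quotient `K ⧸ N` of
`⟨βϑ, ϑ⟩` is the norm of the restriction of `ϑ` to `N`. -/
theorem sum_inner_twist [Fintype K] (N : Subgroup K) [N.Normal] [Fintype N]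
    (hab : ∀ a b : K ⧸ N, a * b = b * a) [Fintype (IrrCharacter (K ⧸ N))] (ϑ : K → ℂ) :
    ∑ β : IrrCharacter (K ⧸ N),
        classInner (fun k => (β : K ⧸ N → ℂ) (QuotientGroup.mk k) * ϑ k) ϑ =
      classInner (fun n : N => ϑ n) (fun n : N => ϑ n) := by
  classical
  simp only [classInner_def]
  rw [← Finset.mul_sum, Finset.sum_comm]
  have h1 : ∀ k : K, ∑ β : IrrCharacter (K ⧸ N),
      (β : K ⧸ N → ℂ) (QuotientGroup.mk k) * ϑ k * conj (ϑ k) =
      if k ∈ N then (N.index : ℂ) * (ϑ k * conj (ϑ k)) else 0 := by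
    intro k
    have := sum_irr_quotient_apply N hab k
    simp only [mul_assoc]
    rw [← Finset.sum_mul, this]
    split_ifs <;> simp
  rw [Finset.sum_congr rfl (fun k _ => h1 k), ← Finset.sum_filter, ← Finset.mul_sum]
  have h2 : ∑ k ∈ Finset.univ.filter (fun k : K => k ∈ N), ϑ k * conj (ϑ k) =
      ∑ n : N, ϑ n * conj (ϑ n) := by
    rw [← Finset.sum_subtype_eq_sum_filter, Finset.subtype_univ]
  rw [h2, ← mul_assoc]
  congr 1
  have h3 : (Nat.card N : ℂ) * (N.index : ℂ) = (Nat.card K : ℂ) := by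
    exact_mod_cast N.card_mul_index
  have h4 : (Nat.card N : ℂ) ≠ 0 := by
    exact_mod_cast Nat.card_pos.ne'
  have h5 : (Nat.card K : ℂ) ≠ 0 := by
    exact_mod_cast Nat.card_pos.ne'
  have h6 : (N.index : ℂ) ≠ 0 := by
    intro h
    rw [h, mul_zero] at h3
    exact h5 h3.symm
  rw [← h3]
  field_simp

/-- Twisting an irreducible character by a linear character of an abelian quotient. -/
theorem isIrrCharacter_twist [Finite K] (N : Subgroup K) [N.Normal]
    (hab : ∀ a b : K ⧸ N, a * b = b * a) (β : IrrCharacter (K ⧸ N)) {ϑ : K → ℂ}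
    (hϑ : IsIrrCharacter K ϑ) :
    IsIrrCharacter K (fun k => (β : K ⧸ N → ℂ) (QuotientGroup.mk k) * ϑ k) := by
  classical
  have : Fintype K := Fintype.ofFinite K
  have hβc : IsCharacter (K ⧸ N) (β : K ⧸ N → ℂ) := isCharacter_of_irr β.2
  have hβ1 : (β : K ⧸ N → ℂ) 1 = 1 := irr_apply_one_of_comm hab β.2
  have hc : IsCharacter K (fun k => (β : K ⧸ N → ℂ) (QuotientGroup.mk k) * ϑ k) :=
    isCharacter_mul (isCharacter_comp_hom (QuotientGroup.mk' N) hβc) (isCharacter_of_irr hϑ)
  apply isIrrCharacter_of_norm_one hc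
  have h1 := irr_inner_self (⟨ϑ, hϑ⟩ : IrrCharacter K)
  rw [← h1]
  simp only [classInner_def]
  congr 1
  apply Finset.sum_congr rfl
  intro k _
  rw [map_mul]
  have := char_deg_one_conj_mul hβc hβ1 (QuotientGroup.mk k)
  calc (β : K ⧸ N → ℂ) (QuotientGroup.mk k) * ϑ k *
        (conj ((β : K ⧸ N → ℂ) (QuotientGroup.mk k)) * conj (ϑ k))
      = ((β : K ⧸ N → ℂ) (QuotientGroup.mk k) * conj ((β : K ⧸ N → ℂ) (QuotientGroup.mk k))) *
        (ϑ k * conj (ϑ k)) := by ring
    _ = ϑ k * conj (ϑ k) := by rw [this, one_mul]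

/-- The number of linear characters of the abelian quotient `K ⧸ N` fixing the irreducible
character `ϑ` under multiplication is the norm of `ϑ|_N`. -/
theorem card_twist_fixed [Fintype K] (N : Subgroup K) [N.Normal] [Fintype N]
    (hab : ∀ a b : K ⧸ N, a * b = b * a) [Fintype (IrrCharacter (K ⧸ N))] {ϑ : K → ℂ}
    (hϑ : IsIrrCharacter K ϑ) [DecidableEq (K → ℂ)] :
    ((Finset.univ.filter (fun β : IrrCharacter (K ⧸ N) =>
        (fun k => (β : K ⧸ N → ℂ) (QuotientGroup.mk k) * ϑ k) = ϑ)).card : ℂ) =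
      classInner (fun n : N => ϑ n) (fun n : N => ϑ n) := by
  rw [← sum_inner_twist N hab ϑ]
  rw [Finset.sum_congr rfl (fun β _ => irr_inner_eq_ite (isIrrCharacter_twist N hab β hϑ) hϑ)]
  rw [Finset.sum_boole]

end Cfsg.Agent.Lib.Helper85
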