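/-
Keystone K-OPb-5b (598906) `even_or_mod_eight_of_sq_neg_one` for S5989.  Architect: helper69.  Leaf by helper85.

Route (different from the spec sketch, no conjugation needed): the spinor character `Helper50.theta Q 1` is the sign of the
permutation induced on the sphere `{v | Q v = 1}`; it is trivial on `Ω` (commutator subgroup).  For `x` with `x * x = -1` the
permutation `π` has `π ^ 4 = 1` and `π ^ 2 = -1` is fixed-point-free, so all cycles have length `4` and
`sign π = (-1) ^ (N / 4)`, `N` the size of the sphere, whence `8 ∣ N`.  Counting: `N * q = (q ^ d - 1) * q ^ d`.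
So `8 ∣ q ^ d - 1`, and for `d` odd, `q ≡ 1 (4)` this forces `q ≡ 1 (8)`.
-/
import Cfsg.Agent.Lib.Helper50.GeoBridge
import Cfsg.Agent.Lib.Helper50.Spinor

set_option autoImplicit false

namespace Cfsg.Agent.Lib.Helper85.OPb

open Module Matrix

universe u
variable {F : Type u} [Field F]

/-- a permutation with `π ^ 4 = 1` and `π ^ 2` fixed-point-free which is even lives on a set of size divisible by `8` -/
theorem b5_eight_dvd_of_sign {α : Type*} [Fintype α] [DecidableEq α] (π : Equiv.Perm α)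
    (h4 : π ^ 4 = 1) (hfree : ∀ a, (π ^ 2) a ≠ a) (hs : Equiv.Perm.sign π = 1) :
    8 ∣ Fintype.card α := by
  have hct : ∀ n ∈ π.cycleType, n = 4 := by
    intro n hn
    have h1 : n ∣ 4 := (Equiv.Perm.dvd_of_mem_cycleType hn).trans (orderOf_dvd_of_pow_eq_one h4)
    have h2 : 2 ≤ n := Equiv.Perm.two_le_of_mem_cycleType hn
    have h3 : n ≤ 4 := Nat.le_of_dvd (by norm_num) h1
    interval_cases n
    · exfalso
      obtain ⟨c, τ, hπ, hdisj, hc, hcard⟩ := Equiv.Perm.mem_cycleType_iff.1 hn
      have hne : c.support.Nonempty := Finset.card_pos.1 (by rw [hcard]; norm_num)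
      obtain ⟨a, ha⟩ := hne
      have hca : c a ∈ c.support := Equiv.Perm.apply_mem_support.2 ha
      have hτa : τ a = a := by
        rcases hdisj a with h | h
        · exact absurd h (Equiv.Perm.mem_support.1 ha)
        · exact h
      have hτca : τ (c a) = c a := by
        rcases hdisj (c a) with h | h
        · exact absurd h (Equiv.Perm.mem_support.1 hca)
        · exact h
      have hc2 : c ^ 2 = 1 := by
        have := pow_orderOf_eq_one c
        rw [hc.orderOf, hcard] at this
        exact this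
      have e1 : π a = c a := by rw [hπ, Equiv.Perm.mul_apply, hτa]
      have e2 : π (c a) = c (c a) := by rw [hπ, Equiv.Perm.mul_apply, hτca]
      have e3 : c (c a) = a := by
        have h := congrArg (fun f : Equiv.Perm α => f a) hc2
        simpa [pow_two] using h
      apply hfree a
      rw [pow_two, Equiv.Perm.mul_apply, e1, e2, e3]
    · exfalso
      omega
    · rfl
  have hrep : π.cycleType = Multiset.replicate (Multiset.card π.cycleType) 4 :=
    Multiset.eq_replicate_card.2 hct
  have hsupp : π.support = Finset.univ := by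
    ext a
    simp only [Equiv.Perm.mem_support, Finset.mem_univ, iff_true]
    intro h
    apply hfree a
    rw [pow_two, Equiv.Perm.mul_apply, h, h]
  have hsum : π.cycleType.sum = Fintype.card α := by
    rw [Equiv.Perm.sum_cycleType, hsupp, Finset.card_univ]
  have hk : Fintype.card α = Multiset.card π.cycleType * 4 := by
    rw [← hsum]
    conv_lhs => rw [hrep]
    rw [Multiset.sum_replicate, smul_eq_mul]
  rw [Equiv.Perm.sign_of_cycleType, hsum, hk] at hs
  have hev : Even (Multiset.card π.cycleType * 4 + Multiset.card π.cycleType) :=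
    (neg_one_pow_eq_one_iff_even (by decide : (-1 : ℤˣ) ≠ 1)).1 hs
  have hk2 : Even (Multiset.card π.cycleType) := by
    rcases Nat.even_or_odd (Multiset.card π.cycleType) with h | h
    · exact h
    · exfalso
      obtain ⟨j, hj⟩ := h
      obtain ⟨i, hi⟩ := hev
      omega
  obtain ⟨j, hj⟩ := hk2
  rw [hk, hj]
  exact ⟨j, by ring⟩

section count

variable [Fintype F]

open Matrix in
/-- the affine hyperplane `a ⬝ᵥ b = 1`, `a ≠ 0` -/
theorem b5_card_dot (d : ℕ) (a : Fin d → F) (ha : a ≠ 0) :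
    Nat.card {b : Fin d → F // a ⬝ᵥ b = 1} * Fintype.card F = Fintype.card F ^ d := by
  classical
  rw [Nat.card_eq_fintype_card, Fintype.card_subtype]
  let φ : (Fin d → F) →+ F :=
    { toFun := fun b => a ⬝ᵥ b
      map_zero' := dotProduct_zero a
      map_add' := dotProduct_add a }
  have hφ : ∀ b, φ b = a ⬝ᵥ b := fun b => rfl
  obtain ⟨j, hj⟩ := Function.ne_iff.1 ha
  have hj' : a j ≠ 0 := hj
  have hsurj : ∀ c : F, c ∈ Set.range φ := by
    intro c
    refine ⟨Pi.single j (c / a j), ?_⟩
    rw [hφ, dotProduct_single, mul_div_cancel₀ c hj']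
  have hfib : ∀ c : F, (Finset.univ.filter (fun b : Fin d → F => φ b = c)).card =
      (Finset.univ.filter (fun b : Fin d → F => φ b = 1)).card := fun c =>
    AddMonoidHom.card_fiber_eq_of_mem_range φ (hsurj c) (hsurj 1)
  have htot : (Finset.univ : Finset (Fin d → F)).card =
      ∑ c : F, (Finset.univ.filter (fun b : Fin d → F => φ b = c)).card :=
    Finset.card_eq_sum_card_fiberwise (fun _ _ => Finset.mem_coe.2 (Finset.mem_univ _))
  rw [Finset.card_univ, Fintype.card_fun, Fintype.card_fin] at htot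
  rw [htot]
  simp only [hfib, Finset.sum_const, Finset.card_univ, smul_eq_mul]
  exact mul_comm _ _

open Matrix in
/-- size of the sphere `Q = 1` of the hyperbolic form, up to the factor `q` -/
theorem b5_card_sphere (d : ℕ) :
    Nat.card {v : Fin d ⊕ Fin d → F // Cfsg.quadFormPlus d F v = 1} * Fintype.card F =
      (Fintype.card F ^ d - 1) * Fintype.card F ^ d := by
  classical
  have e1 : {v : Fin d ⊕ Fin d → F // Cfsg.quadFormPlus d F v = 1} ≃
      {p : (Fin d → F) × (Fin d → F) // p.1 ⬝ᵥ p.2 = 1} :=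
    Equiv.subtypeEquiv (Equiv.sumArrowEquivProdArrow (Fin d) (Fin d) F) (fun v => Iff.rfl)
  have e2 := Equiv.subtypeProdEquivSigmaSubtype
    (fun (a b : Fin d → F) => a ⬝ᵥ b = 1)
  rw [Nat.card_congr (e1.trans e2), Nat.card_eq_fintype_card, Fintype.card_sigma, Finset.sum_mul]
  have hterm : ∀ a : Fin d → F,
      Fintype.card {b : Fin d → F // a ⬝ᵥ b = 1} * Fintype.card F =
        if a = 0 then 0 else Fintype.card F ^ d := by
    intro a
    split_ifs with h
    · subst h
      have : IsEmpty {b : Fin d → F // (0 : Fin d → F) ⬝ᵥ b = 1} := by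
        constructor
        rintro ⟨b, hb⟩
        rw [zero_dotProduct] at hb
        exact zero_ne_one hb
      rw [Fintype.card_eq_zero, zero_mul]
    · rw [← Nat.card_eq_fintype_card]
      exact b5_card_dot d a h
  rw [Finset.sum_congr rfl (fun a _ => hterm a)]
  rw [← Finset.add_sum_erase Finset.univ _ (Finset.mem_univ (0 : Fin d → F)), if_pos rfl, zero_add]
  rw [Finset.sum_congr rfl (fun a ha => if_neg (Finset.ne_of_mem_erase ha))]
  rw [Finset.sum_const, Finset.card_erase_of_mem (Finset.mem_univ _), Finset.card_univ,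
    Fintype.card_fun, Fintype.card_fin, smul_eq_mul]

end count

/-- the arithmetic -/
theorem b5_arith (q d : ℕ) (hq : q % 4 = 1) (hd : Odd d) (h8 : 8 ∣ (q ^ d - 1) * q ^ d) :
    q % 8 = 1 := by
  have hqodd : Odd q := by
    rw [Nat.odd_iff]; omega
  have hcop : Nat.Coprime 8 (q ^ d) := by
    have : Nat.Coprime 2 (q ^ d) := by
      rw [Nat.coprime_two_left]; exact hqodd.pow
    have h8' : (8 : ℕ) = 2 ^ 3 := by norm_num
    rw [h8']
    exact Nat.Coprime.pow_left 3 this
  have h1 : 8 ∣ q ^ d - 1 := hcop.dvd_of_dvd_mul_right h8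
  by_contra hne
  have h5 : q % 8 = 5 := by omega
  obtain ⟨j, hj⟩ := hd
  have hpow : q ^ d % 8 = 5 := by
    rw [Nat.pow_mod, h5, hj, pow_succ, pow_mul, Nat.mul_mod, Nat.pow_mod]
    norm_num
  have hpos : 1 ≤ q ^ d := Nat.one_le_pow _ _ (by omega)
  obtain ⟨m, hm⟩ := h1
  omega

/-- **K-OPb-5b.** -/
theorem even_or_mod_eight_of_sq_neg_one [Fintype F] (hq : Fintype.card F % 4 = 1) (d : ℕ)
    (x : GL (Fin d ⊕ Fin d) F) (hxΩ : x ∈ Cfsg.Geo.omegaGL (Cfsg.quadFormPlus d F))
    (hx : (x : Matrix (Fin d ⊕ Fin d) (Fin d ⊕ Fin d) F) * (x : Matrix (Fin d ⊕ Fin d) (Fin d ⊕ Fin d) F) = -1) :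
    Even d ∨ Fintype.card F % 8 = 1 := by
  classical
  rcases Nat.even_or_odd d with hd | hd
  · exact Or.inl hd
  right
  -- `2 ≠ 0`
  have h2 : (2 : F) ≠ 0 := by
    apply Ring.two_ne_zero
    intro hchar
    have := FiniteField.even_card_iff_char_two.1 hchar
    omega
  obtain ⟨hxO, hxΩ'⟩ := (Cfsg.Agent.Lib.Helper50.mem_omegaGL_iff (Cfsg.quadFormPlus d F) x).1 hxΩ
  set g : ↥(Cfsg.isometryGroup F (Cfsg.quadFormPlus d F)) := ⟨x, hxO⟩ with hg
  have hθ : Cfsg.Agent.Lib.Helper50.theta (Cfsg.quadFormPlus d F) 1 g = 1 :=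
    Abelianization.commutator_subset_ker
      (Cfsg.Agent.Lib.Helper50.theta (Cfsg.quadFormPlus d F) 1) hxΩ'
  set π := Cfsg.Agent.Lib.Helper50.spherePerm (Cfsg.quadFormPlus d F) 1 g with hπ
  have hsign : Equiv.Perm.sign π = 1 := hθ
  have hπ2 : ∀ v, ((π ^ 2) v : Fin d ⊕ Fin d → F) = -v.1 := by
    intro v
    rw [pow_two, Equiv.Perm.mul_apply, hπ, Cfsg.Agent.Lib.Helper50.spherePerm_apply,
      Cfsg.Agent.Lib.Helper50.spherePerm_apply, Matrix.mulVec_mulVec]
    show ((x : Matrix (Fin d ⊕ Fin d) (Fin d ⊕ Fin d) F) * (x : Matrix (Fin d ⊕ Fin d) (Fin d ⊕ Fin d) F)) *ᵥ v.1 = -v.1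
    rw [hx, Matrix.neg_mulVec, Matrix.one_mulVec]
  have h4 : π ^ 4 = 1 := by
    ext v
    have : π ^ 4 = π ^ 2 * π ^ 2 := by rw [← pow_add]
    rw [this, Equiv.Perm.mul_apply, hπ2, hπ2, neg_neg, Equiv.Perm.one_apply]
  have hfree : ∀ v, (π ^ 2) v ≠ v := by
    intro v hv
    have h1 : -v.1 = v.1 := by rw [← hπ2 v, hv]
    have h3 : (2 : F) • v.1 = 0 := by
      rw [two_smul]
      nth_rewrite 1 [← h1]
      exact neg_add_cancel _
    have h5 : v.1 = 0 := by
      rcases smul_eq_zero.mp h3 with h | h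
      · exact absurd h h2
      · exact h
    have h6 := v.2
    rw [h5] at h6
    have h7 : Cfsg.quadFormPlus d F 0 = 0 := by
      simp [Cfsg.quadFormPlus]
    rw [h7] at h6
    exact zero_ne_one h6
  have h8 := b5_eight_dvd_of_sign π h4 hfree hsign
  rw [← Nat.card_eq_fintype_card] at h8
  have hcount := b5_card_sphere (F := F) d
  have h8' : 8 ∣ (Fintype.card F ^ d - 1) * Fintype.card F ^ d := by
    rw [← hcount]
    exact Dvd.dvd.mul_right h8 _
  exact b5_arith (Fintype.card F) d hq hd h8'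

end Cfsg.Agent.Lib.Helper85.OPb
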