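import Mathlib
import Cfsg.Agent.Lib.Helper28.ZNDefs

/-!
# K-ZN-3 (keystone 68904, architect helper28)
-/

set_option autoImplicit false

universe u

namespace Cfsg.Agent.Lib.Helper85.ZN

open Cfsg.Agent.Lib.Helper28.ZN
open Matrix

/-- the property transported along an isomorphism -/
theorem order_four_transport {N : Type*} {M : Type*} [Group N] [Group M] (e : N ≃* M)
    (hM : (∃ x y : M, x ^ 4 = 1 ∧ x ^ 2 ≠ 1 ∧ x * y ≠ y * x) ∧
      ∀ c : M, (∀ y : M, c * y = y * c) → c ^ 2 = 1) :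
    (∃ x y : N, x ^ 4 = 1 ∧ x ^ 2 ≠ 1 ∧ x * y ≠ y * x) ∧
      ∀ c : N, (∀ y : N, c * y = y * c) → c ^ 2 = 1 := by
  obtain ⟨⟨x, y, h4, h2, hxy⟩, hc⟩ := hM
  refine ⟨⟨e.symm x, e.symm y, ?_, ?_, ?_⟩, ?_⟩
  · rw [← map_pow, h4, map_one]
  · rw [← map_pow]
    intro h
    apply h2
    have := congrArg e h
    simpa using this
  · rw [← map_mul, ← map_mul]
    intro h
    exact hxy (e.symm.injective h)
  · intro c hcen
    have h1 : (e c) ^ 2 = 1 := by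
      apply hc
      intro y
      have := congrArg e (hcen (e.symm y))
      simpa using this
    rw [← map_pow] at h1
    have := congrArg e.symm h1
    simpa using this

theorem order_four_q8 :
    (∃ x y : QuaternionGroup 2, x ^ 4 = 1 ∧ x ^ 2 ≠ 1 ∧ x * y ≠ y * x) ∧
      ∀ c : QuaternionGroup 2, (∀ y : QuaternionGroup 2, c * y = y * c) → c ^ 2 = 1 := by
  refine ⟨⟨QuaternionGroup.a 1, QuaternionGroup.xa 0, by decide, by decide, by decide⟩, ?_⟩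
  decide

theorem sq_eq_one_of_central_sl25 (c : SL25) (hc : ∀ y : SL25, c * y = y * c) : c ^ 2 = 1 := by
  obtain ⟨y1, hy1⟩ : ∃ y1 : SL25, (y1 : Matrix (Fin 2) (Fin 2) (ZMod 5)) = !![1,1;0,1] :=
    ⟨⟨!![1,1;0,1], by decide⟩, rfl⟩
  obtain ⟨y2, hy2⟩ : ∃ y2 : SL25, (y2 : Matrix (Fin 2) (Fin 2) (ZMod 5)) = !![1,0;1,1] :=
    ⟨⟨!![1,0;1,1], by decide⟩, rfl⟩
  set C : Matrix (Fin 2) (Fin 2) (ZMod 5) := (c : Matrix (Fin 2) (Fin 2) (ZMod 5)) with hC
  have h1 : C * !![1,1;0,1] = !![1,1;0,1] * C := by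
    rw [← hy1, hC, ← Matrix.SpecialLinearGroup.coe_mul, ← Matrix.SpecialLinearGroup.coe_mul, hc y1]
  have h2 : C * !![1,0;1,1] = !![1,0;1,1] * C := by
    rw [← hy2, hC, ← Matrix.SpecialLinearGroup.coe_mul, ← Matrix.SpecialLinearGroup.coe_mul, hc y2]
  have hdet := c.2
  rw [Matrix.det_fin_two, ← hC] at hdet
  have e1 := congrFun (congrFun h1 0) 0
  have e2 := congrFun (congrFun h1 0) 1
  have e3 := congrFun (congrFun h2 0) 0
  have e4 := congrFun (congrFun h2 1) 0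
  simp [Matrix.mul_apply, Fin.sum_univ_two] at e1 e2 e3 e4
  apply Matrix.SpecialLinearGroup.ext
  intro i j
  rw [Matrix.SpecialLinearGroup.coe_pow, Matrix.SpecialLinearGroup.coe_one, ← hC, pow_two]
  have e5 : C 0 0 = C 1 1 := by
    rw [e3, add_zero, zero_add] at e2
    exact e2
  rw [e1, e3, mul_zero, sub_zero] at hdet
  fin_cases i <;> fin_cases j <;> simp [Matrix.mul_apply, Fin.sum_univ_two, e1, e3]
  · rw [← hdet, e5]
  · rw [← hdet, e5]

theorem order_four_sl25 :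
    (∃ x y : SL25, x ^ 4 = 1 ∧ x ^ 2 ≠ 1 ∧ x * y ≠ y * x) ∧
      ∀ c : SL25, (∀ y : SL25, c * y = y * c) → c ^ 2 = 1 := by
  refine ⟨⟨⟨!![0,-1;1,0], by decide⟩, ⟨!![1,1;0,1], by decide⟩, ?_, ?_, ?_⟩,
    sq_eq_one_of_central_sl25⟩
  · decide
  · decide
  · decide

/-- **K-ZN-3**. -/
theorem exists_order_four {N : Type u} [Group N]
    (h : Nonempty (N ≃* QuaternionGroup 2) ∨ Nonempty (N ≃* SL25)) :
    (∃ x y : N, x ^ 4 = 1 ∧ x ^ 2 ≠ 1 ∧ x * y ≠ y * x) ∧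
      ∀ c : N, (∀ y : N, c * y = y * c) → c ^ 2 = 1 := by
  rcases h with ⟨⟨e⟩⟩ | ⟨⟨e⟩⟩
  · exact order_four_transport e order_four_q8
  · exact order_four_transport e order_four_sl25

end Cfsg.Agent.Lib.Helper85.ZN
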