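import Mathlib
import Cfsg.Prelude.Def_HallClasses
import Cfsg.Agent.Lib.Helper38.HallAlt.Defs

/-!
# K-HA-C (keystone 253805, architect helper38): the order of a Hall `{2, p}`-subgroup of `A_n`, `p ≤ n < 2p`
-/

set_option autoImplicit false
open Cfsg
open scoped Pointwise

namespace Cfsg.Agent.Lib.Helper85.HallAlt
open Cfsg.Agent.Lib.Helper38.HallAlt

/-- **K-HA-C** (253805). -/
theorem altHall_card_of_two_primes (π : Set ℕ) {α : Type} [Finite α] (H : Subgroup (Equiv.Perm α))
    (hH : AltHall π H) (h2 : 2 ∈ π) (p : ℕ) (hp : p.Prime) (hp2 : p ≠ 2) (hpπ : p ∈ π)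
    (hpn : p ≤ Nat.card α) (hnp : Nat.card α < 2 * p)
    (hall : ∀ r : ℕ, r.Prime → r ∈ π → r ≤ Nat.card α → r = 2 ∨ r = p) :
    Nat.card H = 2 ^ (padicValNat 2 (Nat.card α).factorial - 1) * p := by
  classical
  obtain ⟨hHA, hπ, hidx⟩ := hH
  have := Fintype.ofFinite α
  have hp3 : 3 ≤ p := by
    have := hp.two_le
    omega
  have hntriv : Nontrivial α := by
    rw [← Finite.one_lt_card_iff_nontrivial]
    omega
  have hA : 2 * Nat.card (altSub α) = (Nat.card α).factorial := by
    rw [altSub_eq, two_mul_nat_card_alternatingGroup, Nat.card_perm]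
  have hIN : Nat.card H * H.relIndex (altSub α) = Nat.card (altSub α) := by
    have := Subgroup.relIndex_mul_relIndex ⊥ H (altSub α) bot_le hHA
    rwa [Subgroup.relIndex_bot_left, Subgroup.relIndex_bot_left] at this
  have hN0 : Nat.card H ≠ 0 := Nat.card_pos.ne'
  have hA0 : Nat.card (altSub α) ≠ 0 := Nat.card_pos.ne'
  have hI0 : H.relIndex (altSub α) ≠ 0 := by
    intro h
    rw [h, mul_zero] at hIN
    exact hA0 hIN.symm
  -- valuations at primes of `π`
  have hval : ∀ r : ℕ, r.Prime → r ∈ π →
      (Nat.card H).factorization r = (Nat.card (altSub α)).factorization r := by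
    intro r hr hrπ
    rw [← hIN, Nat.factorization_mul hN0 hI0, Finsupp.add_apply,
      Nat.factorization_eq_zero_of_not_dvd (hidx r hr hrπ), add_zero]
  have hfac : (Nat.card α).factorial.factorization =
      (2 : ℕ).factorization + (Nat.card (altSub α)).factorization := by
    rw [← hA, Nat.factorization_mul two_ne_zero hA0]
  -- the valuation of `n!` at `p`
  have hvp : (Nat.card α).factorial.factorization p = 1 := by
    have : Fact p.Prime := ⟨hp⟩
    rw [Nat.factorization_def _ hp, padicValNat_factorial (b := 2)]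
    · rw [show Finset.Ico 1 2 = {1} from rfl, Finset.sum_singleton, pow_one]
      exact Nat.div_eq_of_lt_le (by omega) (by omega)
    · apply Nat.log_lt_of_lt_pow (by omega)
      nlinarith
  apply Nat.eq_of_factorization_eq hN0
    (mul_ne_zero (pow_ne_zero _ two_ne_zero) hp.ne_zero)
  intro r
  by_cases hr : r.Prime
  swap
  · rw [Nat.factorization_eq_zero_of_not_prime _ hr, Nat.factorization_eq_zero_of_not_prime _ hr]
  rw [Nat.factorization_mul (pow_ne_zero _ two_ne_zero) hp.ne_zero, Nat.factorization_pow,
    Finsupp.add_apply, Finsupp.smul_apply, Nat.prime_two.factorization, hp.factorization, smul_eq_mul]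
  by_cases hr2 : r = 2
  · subst hr2
    rw [hval 2 hr h2, Finsupp.single_eq_same, Finsupp.single_eq_of_ne (Ne.symm hp2), mul_one, add_zero]
    have h1 := congrArg (fun f => f 2) hfac
    simp only [Finsupp.add_apply, Nat.prime_two.factorization, Finsupp.single_eq_same] at h1
    rw [Nat.factorization_def _ Nat.prime_two] at h1
    omega
  by_cases hrp : r = p
  · subst hrp
    rw [hval r hr hpπ, Finsupp.single_eq_same, Finsupp.single_eq_of_ne hr2, mul_zero,
      zero_add]
    have h1 := congrArg (fun f => f r) hfac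
    simp only [Finsupp.add_apply, Nat.prime_two.factorization,
      Finsupp.single_eq_of_ne hr2, zero_add] at h1
    rw [← h1, hvp]
  · rw [Finsupp.single_eq_of_ne hr2, Finsupp.single_eq_of_ne hrp, mul_zero,
      add_zero]
    apply Nat.factorization_eq_zero_of_not_dvd
    intro hdvd
    have hrπ := hπ r hr hdvd
    have h1 : r ∣ (Nat.card α).factorial := by
      rw [← hA, ← hIN]
      exact Dvd.dvd.mul_left (Dvd.dvd.mul_right hdvd _) _
    have h3 : r ≤ Nat.card α := (hr.dvd_factorial).mp h1
    rcases hall r hr hrπ h3 with h | h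
    · exact hr2 h
    · exact hrp h

end Cfsg.Agent.Lib.Helper85.HallAlt
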