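import Mathlib
import Cfsg.Prelude.Def_GeometricClasses
import Cfsg.Agent.Lib.Helper61.AschDefs
import Cfsg.Agent.Lib.Helper43.SpAschDefs
import Cfsg.Agent.Lib.Helper43.SpAschDefs2
import Cfsg.Agent.Lib.Helper38.AschA2

/-!
# K-SpAsch-S2a (keystone 566203, architect helper43)
Enriched copy of `Helper38.Asch.c2_core`: the isotypic components of a non-isotypic normalized
subalgebra, enumerated injectively, form a decomposition permuted transitively by `K`.
-/

set_option autoImplicit false

namespace Cfsg.Agent.Lib.Helper85.SpAsch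

open Cfsg Cfsg.Geo Cfsg.Agent.Lib.Helper61.Asch Cfsg.Agent.Lib.Helper38.Asch
open scoped Matrix Kronecker MatrixGroups

variable {F : Type*} [Field F] [Fintype F] {n : ℕ}

local notation "V" => (Fin n → F)
local notation "Mat" => Matrix (Fin n) (Fin n) F

/-- the core: two simple `A`-submodules which are not isomorphic -/
theorem isotypic_core (K : Subgroup (GL (Fin n) F)) (A : Subalgebra F Mat)
    (hK : ActsIrreducibly (matrixSet K)) (hKA : NormAlg K A)
    (S₀ S₁ : Submodule A V) [IsSimpleModule A S₀] [IsSimpleModule A S₁]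
    (hne : ¬ Nonempty (S₁ ≃ₗ[A] S₀)) :
    ∃ (t m : ℕ) (D : Fin t → Submodule F V), IsMDecomposition m D ∧ K ≤ decompositionStabilizer D ∧
      Function.Injective D ∧
      (∀ i, ∃ c ∈ isotypicComponents A V, D i = c.restrictScalars F) ∧
      (∀ i j, ∃ k ∈ K, (D i).map (Matrix.toLin' (k : Mat)) = D j) := by
  classical
  have : IsNoetherian A V := isNoetherian_of_tower F inferInstance
  set C := isotypicComponents A V with hC
  set c₀ := isotypicComponent A V S₀ with hc₀
  set c₁ := isotypicComponent A V S₁ with hc₁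
  have hc₀C : c₀ ∈ C := ⟨S₀, inferInstance, rfl⟩
  have hc₁C : c₁ ∈ C := ⟨S₁, inferInstance, rfl⟩
  have hc01 : c₀ ≠ c₁ := by
    intro h
    apply hne
    have hle : S₁ ≤ c₀ := h ▸ S₁.le_isotypicComponent
    exact isIsotypicOfType_submodule_iff.mp (IsIsotypicOfType.isotypicComponent A V S₀) S₁ hle
  -- the orbit of `c₀`
  set O : Set (Submodule A V) := {c | ∃ k, ∃ hk : k ∈ K, c = (Nrm.ofMem K hKA k hk).tr c₀} with hO
  have hOC : O ⊆ C := by
    rintro c ⟨k, hk, rfl⟩
    exact Nrm.tr_mem_isotypicComponents _ hc₀C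
  have hc₀O : c₀ ∈ O := ⟨1, K.one_mem, (Nrm.ofMem_one_tr K hKA c₀).symm⟩
  have hOtr : ∀ k (hk : k ∈ K), ∀ c ∈ O, (Nrm.ofMem K hKA k hk).tr c ∈ O := by
    rintro k hk c ⟨k', hk', rfl⟩
    exact ⟨k * k', K.mul_mem hk hk', Nrm.ofMem_tr_tr K hKA k' k hk' hk c₀⟩
  have hWinv : ∀ k (hk : k ∈ K), (Nrm.ofMem K hKA k hk).tr (sSup O) ≤ sSup O := by
    intro k hk
    have h := (Nrm.ofMem K hKA k hk).trIso.map_sSup O
    rw [Nrm.trIso_apply] at h
    rw [h]
    exact iSup₂_le fun c hc => le_sSup (hOtr k hk c hc)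
  have hWtop : sSup O = ⊤ := by
    have h := hK ((sSup O).restrictScalars F) (by
      rintro s ⟨g, hg, rfl⟩
      have h1 := Nrm.restrictScalars_tr (Nrm.ofMem K hKA g hg) (sSup O)
      change _ = Submodule.map (Matrix.toLin' (g : Mat)) _ at h1
      rw [← h1]
      exact fun w hw => hWinv g hg hw)
    rcases h with h | h
    · exfalso
      rw [Submodule.restrictScalars_eq_bot_iff] at h
      have h2 : c₀ ≤ sSup O := le_sSup hc₀O
      rw [h, le_bot_iff] at h2
      exact (bot_lt_isotypicComponents hc₀C).ne' h2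
    · exact (Submodule.restrictScalars_eq_top_iff F A V).mp h
  have hOeq : ∀ c ∈ C, c ∈ O := by
    intro c hc
    by_contra hcO
    have hdis := sSupIndep_isotypicComponents A V hc
    have hle : sSup O ≤ sSup (C \ {c}) := by
      apply sSup_le_sSup
      intro c' hc'
      exact ⟨hOC hc', fun h => hcO (h ▸ hc')⟩
    rw [hWtop, top_le_iff] at hle
    rw [hle, disjoint_top] at hdis
    exact (bot_lt_isotypicComponents hc).ne' hdis
  have hCtop : sSup C = ⊤ := by
    apply top_le_iff.mp
    rw [← hWtop]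
    exact sSup_le_sSup hOC
  -- common dimension
  have hinj : ∀ g : GL (Fin n) F, Function.Injective (Matrix.toLin' (g : Mat)) := by
    intro g
    apply Function.LeftInverse.injective (g := Matrix.toLin' ((g⁻¹ : GL (Fin n) F) : Mat))
    intro v
    rw [← LinearMap.comp_apply, ← Matrix.toLin'_mul, ← Units.val_mul, inv_mul_cancel, Units.val_one,
      Matrix.toLin'_one]
    rfl
  have hdim : ∀ c ∈ C, Module.finrank F (c.restrictScalars F) =
      Module.finrank F (c₀.restrictScalars F) := by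
    intro c hc
    obtain ⟨k, hk, rfl⟩ := hOeq c hc
    rw [Nrm.restrictScalars_tr]
    exact (Submodule.equivMapOfInjective _ (hinj k) _).finrank_eq.symm
  have hpos : 0 < Module.finrank F (c₀.restrictScalars F) := by
    have : c₀.restrictScalars F ≠ ⊥ := by
      rw [Ne, Submodule.restrictScalars_eq_bot_iff]
      exact (bot_lt_isotypicComponents hc₀C).ne'
    exact Submodule.one_le_finrank_iff.mpr this
  -- enumeration
  have : Finite C := by rw [hC]; infer_instance
  have : Nontrivial C := ⟨⟨⟨c₀, hc₀C⟩, ⟨c₁, hc₁C⟩, fun h => hc01 (congrArg Subtype.val h)⟩⟩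
  let e : C ≃ Fin (Nat.card C) := Finite.equivFin C
  have hind : iSupIndep (fun i : Fin (Nat.card C) => ((e.symm i : C) : Submodule A V)) :=
    ((sSupIndep_iff _).mp (sSupIndep_isotypicComponents A V)).comp e.symm.injective
  refine ⟨Nat.card C, Module.finrank F (c₀.restrictScalars F),
    fun i => ((e.symm i : C) : Submodule A V).restrictScalars F, ⟨?_, hpos, ?_, ?_, ?_⟩, ?_, ?_, ?_, ?_⟩
  · exact Finite.one_lt_card
  · intro i
    exact hdim _ (e.symm i).2
  · intro i
    have h := hind i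
    rw [disjoint_iff] at h ⊢
    have h2 : (⨆ j, ⨆ (_ : j ≠ i), ((e.symm j : C) : Submodule A V).restrictScalars F) =
        (⨆ j, ⨆ (_ : j ≠ i), ((e.symm j : C) : Submodule A V)).restrictScalars F := by
      simp only [Submodule.restrictScalars_iSup]
    rw [h2, ← Submodule.restrictScalars_inf, h, Submodule.restrictScalars_bot]
  · rw [← Submodule.restrictScalars_iSup, Submodule.restrictScalars_eq_top_iff]
    apply top_le_iff.mp
    rw [← hCtop]
    apply sSup_le
    intro c hc
    have : c = ((e.symm (e ⟨c, hc⟩) : C) : Submodule A V) := by rw [Equiv.symm_apply_apply]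
    rw [this]
    exact le_iSup (fun i : Fin (Nat.card C) => ((e.symm i : C) : Submodule A V)) (e ⟨c, hc⟩)
  · intro k hk
    let π : C ≃ C :=
      { toFun := fun c => ⟨(Nrm.ofMem K hKA k hk).tr c.1, Nrm.tr_mem_isotypicComponents _ c.2⟩
        invFun := fun c => ⟨(Nrm.ofMem K hKA k hk).symm.tr c.1,
          Nrm.tr_mem_isotypicComponents _ c.2⟩
        left_inv := fun c => Subtype.ext (Nrm.symm_tr_tr _ c.1)
        right_inv := fun c => Subtype.ext (Nrm.tr_symm_tr _ c.1) }
    refine ⟨e.symm.trans (π.trans e), fun i => ?_⟩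
    have h1 := Nrm.restrictScalars_tr (Nrm.ofMem K hKA k hk) ((e.symm i : C) : Submodule A V)
    change _ = Submodule.map (Matrix.toLin' (k : Mat)) _ at h1
    rw [← h1]
    simp only [Equiv.trans_apply, Equiv.symm_apply_apply]
    rfl
  · intro i j hij
    have h1 : ((e.symm i : C) : Submodule A V) = ((e.symm j : C) : Submodule A V) :=
      Submodule.restrictScalars_injective F A V hij
    exact e.symm.injective (Subtype.ext h1)
  · intro i
    exact ⟨((e.symm i : C) : Submodule A V), (e.symm i).2, rfl⟩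
  · intro i j
    obtain ⟨ki, hki, hi⟩ := hOeq _ (e.symm i).2
    obtain ⟨kj, hkj, hj⟩ := hOeq _ (e.symm j).2
    refine ⟨kj * ki⁻¹, K.mul_mem hkj (K.inv_mem hki), ?_⟩
    have h0 : (Nrm.ofMem K hKA ki⁻¹ (K.inv_mem hki)).tr ((e.symm i : C) : Submodule A V) = c₀ := by
      rw [hi, Nrm.ofMem_tr_tr]
      have := Nrm.tr_congr (Nrm.ofMem K hKA (ki⁻¹ * ki) (K.mul_mem (K.inv_mem hki) hki))
        (Nrm.ofMem K hKA 1 K.one_mem) (by
          show (((ki⁻¹ * ki)⁻¹ : GL (Fin n) F) : Mat) = (((1 : GL (Fin n) F)⁻¹ : GL (Fin n) F) : Mat)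
          rw [inv_mul_cancel]) c₀
      rw [this, Nrm.ofMem_one_tr]
    have h1 : (Nrm.ofMem K hKA (kj * ki⁻¹) (K.mul_mem hkj (K.inv_mem hki))).tr
        ((e.symm i : C) : Submodule A V) = ((e.symm j : C) : Submodule A V) := by
      rw [← Nrm.ofMem_tr_tr K hKA ki⁻¹ kj (K.inv_mem hki) hkj, h0, ← hj]
    have h2 := Nrm.restrictScalars_tr (Nrm.ofMem K hKA (kj * ki⁻¹) (K.mul_mem hkj (K.inv_mem hki)))
      ((e.symm i : C) : Submodule A V)
    change _ = Submodule.map (Matrix.toLin' ((kj * ki⁻¹ : GL (Fin n) F) : Mat)) _ at h2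
    rw [← h2, h1]

/-- **K-SpAsch-S2a**. -/
theorem exists_isotypic_decomposition (K : Subgroup (GL (Fin n) F)) (A : Subalgebra F Mat)
    (hK : ActsIrreducibly (matrixSet K)) (hKA : NormAlg K A) (hiso : ¬ IsIsotypic A V) :
    ∃ (t m : ℕ) (D : Fin t → Submodule F V), IsMDecomposition m D ∧ K ≤ decompositionStabilizer D ∧
      Function.Injective D ∧
      (∀ i, ∃ c ∈ isotypicComponents A V, D i = c.restrictScalars F) ∧
      (∀ i j, ∃ k ∈ K, (D i).map (Matrix.toLin' (k : Mat)) = D j) := by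
  by_contra hcon
  apply hiso
  intro m hm m' hm'
  by_contra hne
  exact hcon (isotypic_core K A hK hKA m m' hne)

end Cfsg.Agent.Lib.Helper85.SpAsch
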