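/-
Keystone K-UF-G3 (570014) `exists_not_normalizing` for S5700.  Architect: helper43.  Leaf by helper85.
Only `UFDefs` is needed (no `UFBasic`).
-/
import Cfsg.Agent.Lib.Helper43.UFDefs

set_option autoImplicit false
set_option linter.unusedSimpArgs false
set_option linter.unusedVariables false
set_option linter.unusedSectionVars false

namespace Cfsg.Agent.Lib.Helper85.UF

open Module Matrix Cfsg.Agent.Lib.Helper19 Cfsg.Agent.Lib.Helper43 Cfsg.Agent.Lib.Helper43.UF

variable {F : Type*} [Field F] [Fintype F] {ι : Type} [Fintype ι] [DecidableEq ι]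
variable {Q : QuadraticForm F (ι → F)}
variable (hQ : (QuadraticMap.polarBilin Q).Nondegenerate) (hn : 7 ≤ Fintype.card ι)

local notation "ℬ" => QuadraticMap.polarBilin Q

include hQ hn in
/-- K-UF-G3 (570014).  `a` singular non-zero with singular partner `c` (`ℬ a c = 1`), `b ≠ 0` singular with
`b ⊥ a, J a, c, J c`; `k = sOf a b`.  `k` fixes `b` and `J b`, so `α = 0`, `β = 1`; then pair `k (J x) = J (k x)` with
`w = J c - e • c`, `e = ℬ a (J c)`: `ℬ x b * (e² - tr e + nm) = 0` for all `x`, so `b = 0`. -/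
theorem exists_not_normalizing (U : UData Q) (h14 : 14 ≤ Fintype.card ι) :
    ∃ k : ↥(Cfsg.Omega F ⇑Q),
      ¬ ∃ α β : F, ∀ x, lo Q k (U.J x) = α • lo Q k x + β • U.J (lo Q k x) := by
  classical
  obtain ⟨a, ha0', ha, -⟩ := AutOm.exists_singular_orth_finset Q hQ hn ∅ ⊥ (by
    rw [finrank_bot, Finset.card_empty]; omega)
  have ha0 : a ≠ 0 := fun h => ha0' (by rw [h]; exact Submodule.zero_mem _)
  obtain ⟨c, hc, hac⟩ := AutOm.exists_partner Q hQ hn a ha0 ha
  obtain ⟨b, hb0', hb, hbS⟩ := AutOm.exists_singular_orth_finset Q hQ hn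
    {a, U.J a, c, U.J c} ⊥ (by
      rw [finrank_bot]
      have h4 : ({a, U.J a, c, U.J c} : Finset (ι → F)).card ≤ 4 := Finset.card_le_four
      omega)
  have hb0 : b ≠ 0 := fun h => hb0' (by rw [h]; exact Submodule.zero_mem _)
  have hab : ℬ a b = 0 := hbS a (by simp)
  have hJab : ℬ (U.J a) b = 0 := hbS (U.J a) (by simp)
  have hcb : ℬ c b = 0 := hbS c (by simp)
  have hJcb : ℬ (U.J c) b = 0 := hbS (U.J c) (by simp)
  have hba : ℬ b a = 0 := by rw [polar_symm]; exact hab
  have hbJa : ℬ b (U.J a) = 0 := by rw [polar_symm]; exact hJab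
  have hbc : ℬ b c = 0 := by rw [polar_symm]; exact hcb
  have hbJc : ℬ b (U.J c) = 0 := by rw [polar_symm]; exact hJcb
  have hk : ∀ v, lo Q (sOf Q hQ hn a b) v = v + (ℬ v b) • a - (ℬ v a) • b := by
    intro v
    rw [lo_sOf Q hQ hn a b ha hab, siegelLin_apply, hb, zero_mul, sub_zero, neg_smul, sub_eq_add_neg]
  refine ⟨sOf Q hQ hn a b, ?_⟩
  rintro ⟨α, β, h⟩
  -- `k` fixes `b` and `J b`
  have hkb : lo Q (sOf Q hQ hn a b) b = b := by
    rw [hk, polar_self', hb, mul_zero, zero_smul, add_zero, hba, zero_smul, sub_zero]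
  have hJba : ℬ (U.J b) a = 0 := by
    rw [U.B_J_left, hba, hbJa, mul_zero, sub_zero]
  have hkJb : lo Q (sOf Q hQ hn a b) (U.J b) = U.J b := by
    rw [hk, U.B_J_self b hb, zero_smul, add_zero, hJba, zero_smul, sub_zero]
  have h1 := h b
  rw [hkJb, hkb] at h1
  have h2 : α • b + (β - 1) • U.J b = 0 := by
    rw [sub_smul, one_smul, ← add_sub_assoc, ← h1, sub_self]
  obtain ⟨hα, hβ'⟩ := U.J_indep b hb0 α (β - 1) h2
  have hβ : β = 1 := by linear_combination hβ'
  subst hα
  subst hβ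
  -- test vector
  set e : F := ℬ a (U.J c) with he
  have hN : e ^ 2 - U.tr * e * 1 + U.nm * 1 ^ 2 ≠ 0 :=
    U.normForm_ne_zero e 1 (fun h => one_ne_zero h.2)
  have haw : ℬ a (U.J c - e • c) = 0 := by
    rw [map_sub, map_smul, hac, smul_eq_mul, mul_one, ← he, sub_self]
  have hJaw : ℬ (U.J a) (U.J c - e • c) = e ^ 2 - U.tr * e * 1 + U.nm * 1 ^ 2 := by
    rw [map_sub, map_smul, U.B_JJ, U.B_J_left a c, hac, ← he, smul_eq_mul]
    ring
  have hbw : ℬ b (U.J c - e • c) = 0 := by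
    rw [map_sub, map_smul, hbJc, hbc, smul_zero, sub_zero]
  have hJbw : ℬ (U.J b) (U.J c - e • c) = 0 := by
    rw [map_sub, map_smul, U.B_JJ, U.B_J_left b c, hbc, hbJc, smul_eq_mul]
    ring
  have hall : ∀ x, ℬ b x = 0 := by
    intro x
    have h3 := h x
    rw [zero_smul, zero_add, one_smul, hk, hk, map_sub, map_add, map_smul, map_smul] at h3
    have h4 := congrArg (fun v => ℬ v (U.J c - e • c)) h3
    simp only [map_add, map_sub, map_smul, LinearMap.add_apply, LinearMap.sub_apply,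
      LinearMap.smul_apply, smul_eq_mul] at h4
    rw [U.B_JJ a c, U.B_J_left a c, U.B_JJ b c, U.B_J_left b c, hac, hbc, hbJc, ← he] at h4
    have h5 : ℬ x b * (e ^ 2 - U.tr * e * 1 + U.nm * 1 ^ 2) = 0 := by
      linear_combination -h4
    rcases mul_eq_zero.1 h5 with h6 | h6
    · rw [polar_symm]; exact h6
    · exact absurd h6 hN
  exact hb0 (hQ.1 b hall)

end Cfsg.Agent.Lib.Helper85.UF
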