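import Mathlib
import Cfsg.Prelude.Def_GeometricClasses
import Cfsg.Agent.Lib.Helper85.SLMaxN7
import Cfsg.Agent.Lib.Helper11.SpMax

/-!
# K-SpMax-N7 (keystone 579008, architect helper44)
`Sp_2m` is not inside a tensor-wreath subgroup: as K-SLMax-N7, with `exists_spGL_move`.
-/

set_option autoImplicit false

namespace Cfsg.Agent.Lib.Helper85.SpMax

open Cfsg Cfsg.Geo
open scoped Matrix Kronecker MatrixGroups

theorem glReindex_symm_val_sum {F : Type*} [Field F] {m k t : ℕ}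
    (e : (Fin m ⊕ Fin m) ≃ (Fin t → Fin k)) (g : GL (Fin t → Fin k) F) :
    ((glReindex e.symm g : GL (Fin m ⊕ Fin m) F) : Matrix (Fin m ⊕ Fin m) (Fin m ⊕ Fin m) F)
      = (g : Matrix (Fin t → Fin k) (Fin t → Fin k) F).submatrix e e := by
  rfl

/-- **K-SpMax-N7**. -/
theorem sp_not_le_tensorWreathSubgroup {F : Type*} [Field F] [Fintype F] {m : ℕ} {k t : ℕ}
    (hk : 2 ≤ k) (ht : 2 ≤ t)
    (e : (Fin m ⊕ Fin m) ≃ (Fin t → Fin k)) (P : GL (Fin m ⊕ Fin m) F) :
    ¬ spGL m F ≤ tensorWreathSubgroup k t e P := by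
  intro hle
  -- indices
  set a0 : Fin k := ⟨0, by omega⟩ with ha0
  set a1 : Fin k := ⟨1, by omega⟩ with ha1
  set j0 : Fin t := ⟨0, by omega⟩ with hj0
  set j1 : Fin t := ⟨1, by omega⟩ with hj1
  have ha01 : a0 ≠ a1 := by simp [ha0, ha1, Fin.ext_iff]
  have hj01 : j0 ≠ j1 := by simp [hj0, hj1, Fin.ext_iff]
  set x0 : Fin t → Fin k := fun _ => a0 with hx0
  set x1 : Fin t → Fin k := fun _ => a1 with hx1
  set x01 : Fin t → Fin k := Function.update x1 j0 a0 with hx01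
  have hx0x1 : x0 ≠ x1 := fun h => ha01 (congrFun h j0)
  have hx01x0 : x01 ≠ x0 := by
    intro h
    have := congrFun h j1
    rw [hx01, Function.update_of_ne hj01.symm] at this
    exact ha01 this.symm
  have hx01x1 : x01 ≠ x1 := by
    intro h
    have := congrFun h j0
    rw [hx01, Function.update_self] at this
    exact ha01 this
  set i0 : (Fin m ⊕ Fin m) := e.symm x0 with hi0
  set i1 : (Fin m ⊕ Fin m) := e.symm x1 with hi1
  have hi01 : i0 ≠ i1 := fun h => hx0x1 (e.symm.injective h)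
  -- the two vectors, on the standard index type
  set z0 : (Fin t → Fin k) → F := fun _ => 1 with hz0
  set z1 : (Fin t → Fin k) → F := Pi.single x0 1 + Pi.single x1 1 with hz1
  have hz0pure : SLMax.IsPureStd k t z0 := ⟨fun _ _ => 1, fun x => by simp [hz0]⟩
  have hz1npure : ¬ SLMax.IsPureStd k t z1 := by
    rintro ⟨vs, hvs⟩
    have e0 : (1 : F) = ∏ j, vs j (x0 j) := by
      rw [← hvs x0, hz1, Pi.add_apply, Pi.single_eq_same, Pi.single_eq_of_ne hx0x1, add_zero]
    have e1 : (1 : F) = ∏ j, vs j (x1 j) := by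
      rw [← hvs x1, hz1, Pi.add_apply, Pi.single_eq_same, Pi.single_eq_of_ne hx0x1.symm, zero_add]
    have e01 : (0 : F) = ∏ j, vs j (x01 j) := by
      rw [← hvs x01, hz1, Pi.add_apply, Pi.single_eq_of_ne hx01x0, Pi.single_eq_of_ne hx01x1,
        add_zero]
    obtain ⟨j, -, hj⟩ := Finset.prod_eq_zero_iff.mp e01.symm
    by_cases hjj : j = j0
    · subst hjj
      rw [hx01, Function.update_self] at hj
      have : ∏ j, vs j (x0 j) = 0 := Finset.prod_eq_zero (Finset.mem_univ j0) hj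
      rw [← e0] at this
      exact one_ne_zero this
    · rw [hx01, Function.update_of_ne hjj] at hj
      have : ∏ j, vs j (x1 j) = 0 := Finset.prod_eq_zero (Finset.mem_univ j) hj
      rw [← e1] at this
      exact one_ne_zero this
  have hz0ne : z0 ≠ 0 := by
    intro h
    have := congrFun h x0
    simp [hz0] at this
  have hz1ne : z1 ≠ 0 := by
    intro h
    have := congrFun h x0
    simp [hz1, hx0x1] at this
  -- transported to `(Fin m ⊕ Fin m)`
  set y0 : Fin m ⊕ Fin m → F := z0 ∘ e with hy0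
  set y1 : Fin m ⊕ Fin m → F := z1 ∘ e with hy1
  have hy0ne : y0 ≠ 0 := by
    intro h
    apply hz0ne
    funext x
    have := congrFun h (e.symm x)
    simpa [hy0] using this
  have hy1ne : y1 ≠ 0 := by
    intro h
    apply hz1ne
    funext x
    have := congrFun h (e.symm x)
    simpa [hy1] using this
  set w0 : Fin m ⊕ Fin m → F := (P : Matrix (Fin m ⊕ Fin m) (Fin m ⊕ Fin m) F) *ᵥ y0 with hw0
  set w1 : Fin m ⊕ Fin m → F := (P : Matrix (Fin m ⊕ Fin m) (Fin m ⊕ Fin m) F) *ᵥ y1 with hw1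
  have hPinv : ∀ z : Fin m ⊕ Fin m → F, ((P⁻¹ : GL (Fin m ⊕ Fin m) F) : Matrix (Fin m ⊕ Fin m) (Fin m ⊕ Fin m) F) *ᵥ
      ((P : Matrix (Fin m ⊕ Fin m) (Fin m ⊕ Fin m) F) *ᵥ z) = z := by
    intro z
    rw [Matrix.mulVec_mulVec, ← Units.val_mul, inv_mul_cancel, Units.val_one, Matrix.one_mulVec]
  have hw0ne : w0 ≠ 0 := by
    intro h
    apply hy0ne
    rw [← hPinv y0, ← hw0, h, Matrix.mulVec_zero]
  have hw1ne : w1 ≠ 0 := by
    intro h
    apply hy1ne
    rw [← hPinv y1, ← hw1, h, Matrix.mulVec_zero]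
  obtain ⟨g, hg, hgx⟩ := Cfsg.Agent.Lib.Helper11.SpMax.exists_spGL_move m w0 w1 hw0ne hw1ne
  obtain ⟨g', hg', hgg'⟩ := hle hg
  obtain ⟨kk, hkk, hkg'⟩ := hg'
  apply hz1npure
  have hpure := SLMax.isPureStd_of_mem kk hkk z0 hz0pure
  convert hpure using 1
  have h3 : g = P * (glReindex e.symm kk) * P⁻¹ := by
    rw [← hgg', ← hkg']
    rfl
  rw [h3] at hgx
  rw [Units.val_mul, Units.val_mul, ← Matrix.mulVec_mulVec, hw0, hPinv, ← Matrix.mulVec_mulVec,
    hw1] at hgx
  have h4 := congrArg (fun z => ((P⁻¹ : GL (Fin m ⊕ Fin m) F) : Matrix (Fin m ⊕ Fin m) (Fin m ⊕ Fin m) F) *ᵥ z) hgx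
  simp only [hPinv] at h4
  -- h4 : glReindex e.symm kk *ᵥ y0 = y1
  rw [glReindex_symm_val_sum, Matrix.submatrix_mulVec_equiv] at h4
  funext x
  have h5 := congrFun h4 (e.symm x)
  simp only [Function.comp_apply, Equiv.apply_symm_apply, hy0, hy1] at h5
  rw [← h5]
  congr 1

end Cfsg.Agent.Lib.Helper85.SpMax
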