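import Mathlib
import Cfsg.Agent.Lib.Helper48.StODefs
import Cfsg.Agent.Lib.Helper61.StOR0c
import Cfsg.Agent.Lib.Helper86.StOR0a

/-!
# K-StO pack (S2547), keystone F1Z: `decomp_last`

`b ∈ B ⇒ b = b' * x_{ε_{m-1}}(t)` with `b' ∈ B` and `s b' s⁻¹ ∈ B`, `s` the reflection `e_{m-1} ↔ f_{m-1}`.
-/

set_option autoImplicit false
set_option linter.unusedSectionVars false
set_option linter.unusedSimpArgs false

namespace Cfsg.Agent.Lib.Helper85.StO

open Matrix Cfsg Cfsg.Agent.Lib.Helper48.StO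

variable {m : ℕ} {F : Type*} [Field F]

theorem f1z_mulVec3 (M : Matrix (OI m) (OI m) F) (x y w : OI m) (α β γ : F) (a : OI m) :
    (M *ᵥ (Pi.single x α + Pi.single y β + Pi.single w γ)) a =
      M a x * α + M a y * β + M a w * γ := by
  simp only [Matrix.mulVec_add, Matrix.mulVec_single, Pi.add_apply, Pi.smul_apply,
    MulOpposite.smul_eq_mul_unop, MulOpposite.unop_op, Matrix.col_apply]

theorem f1z_pos_e (hm : 0 < m) : pos m (eI (lastF hm)) = m - 1 := rfl
theorem f1z_pos_z : pos m (zI : OI m) = m := rfl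
theorem f1z_pos_f (hm : 0 < m) : pos m (fI (lastF hm)) = m + 1 := by
  show 2 * m - (m - 1) = m + 1
  omega

/-- the fundamental relation for `g ∈ B` on the span of `e_k, z, f_k` (`k` the last index) -/
theorem f1z_rel (hm : 0 < m) (g : OG m F) (hg : g ∈ Bsub m F) (α β γ : F) :
    (mat g zI zI * β + mat g zI (fI (lastF hm)) * γ) ^ 2 +
      (mat g (eI (lastF hm)) (eI (lastF hm)) * α + mat g (eI (lastF hm)) zI * β +
        mat g (eI (lastF hm)) (fI (lastF hm)) * γ) * (mat g (fI (lastF hm)) (fI (lastF hm)) * γ)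
      = β ^ 2 + α * γ := by
  have hB := (mem_Bsub_iff g).1 hg
  have h := quad_mulVec g
    (Pi.single (eI (lastF hm)) α + Pi.single zI β + Pi.single (fI (lastF hm)) γ)
  unfold Cfsg.quadFormOdd at h
  simp only [f1z_mulVec3] at h
  have hze : mat g zI (eI (lastF hm)) = 0 := by
    apply hB; rw [f1z_pos_e, f1z_pos_z]; omega
  have hfe : mat g (fI (lastF hm)) (eI (lastF hm)) = 0 := by
    apply hB; rw [f1z_pos_e, f1z_pos_f]; omega
  have hfz : mat g (fI (lastF hm)) zI = 0 := by
    apply hB; rw [f1z_pos_z, f1z_pos_f]; omega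
  -- the sums reduce to the term `i = k`
  rw [Finset.sum_eq_single (lastF hm), Finset.sum_eq_single (lastF hm)] at h
  · simp only [Pi.add_apply, Pi.single_apply] at h
    have e1 : (Sum.inl () : OI m) ≠ Sum.inr (Sum.inl (lastF hm)) := by intro h'; cases h'
    have e2 : (Sum.inl () : OI m) ≠ Sum.inr (Sum.inr (lastF hm)) := by intro h'; cases h'
    have e3 : (Sum.inr (Sum.inl (lastF hm)) : OI m) ≠ Sum.inl () := by intro h'; cases h'
    have e4 : (Sum.inr (Sum.inr (lastF hm)) : OI m) ≠ Sum.inl () := by intro h'; cases h'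
    have e5 : (Sum.inr (Sum.inl (lastF hm)) : OI m) ≠ Sum.inr (Sum.inr (lastF hm)) := by
      intro h'; cases h'
    have e6 : (Sum.inr (Sum.inr (lastF hm)) : OI m) ≠ Sum.inr (Sum.inl (lastF hm)) := by
      intro h'; cases h'
    simp only [e1, e2, e3, e4, e5, e6, if_true, if_false, add_zero, zero_add] at h
    rw [hze, hfe, hfz] at h
    rw [← h]
    ring
  · intro i _ hi
    simp only [Pi.add_apply, Pi.single_apply]
    have e1 : (Sum.inr (Sum.inl i) : OI m) ≠ Sum.inl () := by intro h'; cases h'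
    have e2 : (Sum.inr (Sum.inr i) : OI m) ≠ Sum.inl () := by intro h'; cases h'
    have e3 : (Sum.inr (Sum.inl i) : OI m) ≠ Sum.inr (Sum.inl (lastF hm)) := by
      intro h'; exact hi (Sum.inl_injective (Sum.inr_injective h'))
    have e4 : (Sum.inr (Sum.inr i) : OI m) ≠ Sum.inr (Sum.inr (lastF hm)) := by
      intro h'; exact hi (Sum.inr_injective (Sum.inr_injective h'))
    have e5 : (Sum.inr (Sum.inl i) : OI m) ≠ Sum.inr (Sum.inr (lastF hm)) := by
      intro h'; cases h'
    have e6 : (Sum.inr (Sum.inr i) : OI m) ≠ Sum.inr (Sum.inl (lastF hm)) := by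
      intro h'; cases h'
    simp only [e1, e2, e3, e4, e5, e6, if_false, add_zero, mul_zero]
  · intro h'; exact absurd (Finset.mem_univ _) h'
  · intro i _ hi
    -- the `f_i` coordinate of the image vanishes for `i ≠ k`
    have hiv : i.val < m - 1 := by
      have h1 : i.val ≠ m - 1 := fun e => hi (Fin.ext e)
      have := i.2; omega
    have hpf : pos m (fI i) = 2 * m - i.val := rfl
    have h1 : mat g (fI i) (eI (lastF hm)) = 0 := by
      apply hB; rw [f1z_pos_e, hpf]; omega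
    have h2 : mat g (fI i) zI = 0 := by
      apply hB; rw [f1z_pos_z, hpf]; omega
    have h3 : mat g (fI i) (fI (lastF hm)) = 0 := by
      apply hB; rw [f1z_pos_f, hpf]; omega
    show _ * (mat g (fI i) (eI (lastF hm)) * α + mat g (fI i) zI * β +
      mat g (fI i) (fI (lastF hm)) * γ) = 0
    rw [h1, h2, h3]; ring
  · intro h'; exact absurd (Finset.mem_univ _) h'

/-- the root elements `x_{ε_k}(t)` lie in `B` -/
theorem f1z_xZ_mem (k : Fin m) (t : F) : xZ m F k t ∈ Bsub m F := by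
  rw [mem_Bsub_iff]
  intro a c hac
  rw [Cfsg.Agent.Lib.Helper61.StO.mat_xZ]
  unfold xZMat
  have hk := k.2
  have h1 : a ≠ c := by intro h; rw [h] at hac; exact lt_irrefl _ hac
  have h2 : ¬ ((zI : OI m) = a ∧ fI k = c) := by
    rintro ⟨rfl, rfl⟩
    have : pos m (fI k) = 2 * m - k.val := rfl
    rw [this, f1z_pos_z] at hac; omega
  have h3 : ¬ (eI k = a ∧ (zI : OI m) = c) := by
    rintro ⟨rfl, rfl⟩
    have : pos m (eI k) = k.val := rfl
    rw [this, f1z_pos_z] at hac; omega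
  have h4 : ¬ (eI k = a ∧ fI k = c) := by
    rintro ⟨rfl, rfl⟩
    have h5 : pos m (eI k) = k.val := rfl
    have h6 : pos m (fI k) = 2 * m - k.val := rfl
    rw [h5, h6] at hac; omega
  rw [Matrix.sub_apply, Matrix.sub_apply, Matrix.add_apply, Matrix.one_apply_ne h1,
    Matrix.single_apply_of_ne _ _ _ _ _ h2, Matrix.single_apply_of_ne _ _ _ _ _ h3,
    Matrix.single_apply_of_ne _ _ _ _ _ h4]
  ring

theorem f1z_xZ_inv (k : Fin m) (t : F) : xZ m F k (-t) * xZ m F k t = 1 := by
  apply mat_injective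
  rw [mat_mul, Cfsg.Agent.Lib.Helper61.StO.mat_xZ, Cfsg.Agent.Lib.Helper61.StO.mat_xZ, mat_one]
  have h := Cfsg.Agent.Lib.Helper61.StO.xZMat_mul_neg (F := F) k (-t)
  rwa [neg_neg] at h

theorem f1z_sFlip_mul_self (k : Fin m) : sFlip m F k * sFlip m F k = 1 := by
  apply mat_injective
  rw [mat_mul, Cfsg.Agent.Lib.Helper86.StO.mat_sFlip, mat_one]
  unfold sFlipMat flipE
  rw [← Matrix.permMatrix_mul, Equiv.swap_mul_self, Matrix.permMatrix_one]

theorem f1z_sFlip_inv (k : Fin m) : (sFlip m F k)⁻¹ = sFlip m F k :=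
  inv_eq_of_mul_eq_one_right (f1z_sFlip_mul_self k)

theorem f1z_conj_apply (k : Fin m) (g : OG m F) (a c : OI m) :
    mat (sFlip m F k * g * sFlip m F k) a c =
      mat g (Equiv.swap (eI k) (fI k) a) (Equiv.swap (eI k) (fI k) c) := by
  rw [mat_mul, mat_mul, Cfsg.Agent.Lib.Helper86.StO.mat_sFlip]
  unfold sFlipMat flipE Equiv.Perm.permMatrix
  rw [PEquiv.toMatrix_toPEquiv_mul, PEquiv.mul_toMatrix_toPEquiv, Equiv.symm_swap]
  rfl

theorem f1z_swap_cases (k : Fin m) (x : OI m) :
    (Equiv.swap (eI k) (fI k) x = x ∧ x ≠ eI k ∧ x ≠ fI k) ∨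
      (x = eI k ∧ Equiv.swap (eI k) (fI k) x = fI k) ∨
      (x = fI k ∧ Equiv.swap (eI k) (fI k) x = eI k) := by
  by_cases h1 : x = eI k
  · right; left; subst h1; exact ⟨rfl, Equiv.swap_apply_left _ _⟩
  · by_cases h2 : x = fI k
    · right; right; subst h2; exact ⟨rfl, Equiv.swap_apply_right _ _⟩
    · left
      exact ⟨Equiv.swap_apply_of_ne_of_ne h1 h2, h1, h2⟩

/-- **K-StO-F1Z** -/
theorem decomp_last (hm : 0 < m) (b : OG m F) (hb : b ∈ Bsub m F) :
    ∃ b' ∈ Bsub m F, ∃ t : F, b = b' * xZ m F (lastF hm) t ∧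
      sFlip m F (lastF hm) * b' * (sFlip m F (lastF hm))⁻¹ ∈ Bsub m F := by
  -- `b z z ≠ 0`
  have hzz : mat b zI zI ≠ 0 := by
    have h := f1z_rel hm b hb 0 1 0
    intro h0
    rw [h0] at h
    simp at h
  obtain ⟨t, ht⟩ : ∃ t : F, t = mat b zI (fI (lastF hm)) / mat b zI zI := ⟨_, rfl⟩
  have hb' : b * xZ m F (lastF hm) (-t) ∈ Bsub m F :=
    (Bsub m F).mul_mem hb (f1z_xZ_mem _ _)
  obtain ⟨b', hb'def⟩ : ∃ b' : OG m F, b' = b * xZ m F (lastF hm) (-t) := ⟨_, rfl⟩
  rw [← hb'def] at hb'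
  have hB := (mem_Bsub_iff b').1 hb'
  have hBb := (mem_Bsub_iff b).1 hb
  -- the entry `(z, f_k)` of `b'` vanishes
  have hzf : mat b' zI (fI (lastF hm)) = 0 := by
    rw [hb'def, mat_mul, Cfsg.Agent.Lib.Helper61.StO.mat_xZ]
    unfold xZMat
    have hze : mat b zI (eI (lastF hm)) = 0 := by
      apply hBb; rw [f1z_pos_e, f1z_pos_z]; omega
    have e1 : (fI (lastF hm) : OI m) ≠ zI := by intro h'; cases h'
    rw [Matrix.mul_sub, Matrix.mul_sub, Matrix.mul_add, Matrix.mul_one, Matrix.sub_apply,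
      Matrix.sub_apply, Matrix.add_apply, Matrix.mul_single_apply_same,
      Matrix.mul_single_apply_of_ne (hbj := e1), Matrix.mul_single_apply_same, hze, ht]
    field_simp
    ring
  -- relations for `b'`
  have r1 := f1z_rel hm b' hb' 0 0 1
  have r2 := f1z_rel hm b' hb' 1 0 1
  have r3 := f1z_rel hm b' hb' 0 1 0
  have r4 := f1z_rel hm b' hb' 0 1 1
  rw [hzf] at r1 r2 r4
  simp only [mul_zero, mul_one, zero_mul, add_zero, zero_add, ne_eq, OfNat.ofNat_ne_zero,
    not_false_eq_true, zero_pow, one_pow] at r1 r2 r3 r4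
  -- `b'(f_k,f_k) ≠ 0`
  have hff : mat b' (fI (lastF hm)) (fI (lastF hm)) ≠ 0 := by
    intro h0
    rw [h0, mul_zero] at r2
    exact zero_ne_one r2
  have hef : mat b' (eI (lastF hm)) (fI (lastF hm)) = 0 := by
    rcases mul_eq_zero.1 r1 with h | h
    · exact h
    · exact absurd h hff
  have hez : mat b' (eI (lastF hm)) zI = 0 := by
    rw [hef, add_zero, r3] at r4
    have h5 : mat b' (eI (lastF hm)) zI * mat b' (fI (lastF hm)) (fI (lastF hm)) = 0 := by
      have := r4
      linear_combination this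
    rcases mul_eq_zero.1 h5 with h | h
    · exact h
    · exact absurd h hff
  refine ⟨b', hb', t, ?_, ?_⟩
  · rw [hb'def, mul_assoc, f1z_xZ_inv, mul_one]
  · rw [f1z_sFlip_inv, mem_Bsub_iff]
    intro a c hac
    rw [f1z_conj_apply]
    by_cases hlt : pos m (Equiv.swap (eI (lastF hm)) (fI (lastF hm)) c) <
        pos m (Equiv.swap (eI (lastF hm)) (fI (lastF hm)) a)
    · exact hB _ _ hlt
    · have pe := f1z_pos_e (m := m) hm
      have pz := f1z_pos_z (m := m)
      have pf := f1z_pos_f (m := m) hm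
      rcases f1z_swap_cases (lastF hm) a with ⟨ha1, ha2, ha3⟩ | ⟨ha1, ha2⟩ | ⟨ha1, ha2⟩ <;>
        rcases f1z_swap_cases (lastF hm) c with ⟨hc1, hc2, hc3⟩ | ⟨hc1, hc2⟩ | ⟨hc1, hc2⟩
      · rw [ha1, hc1] at hlt; exact absurd hac hlt
      · -- `c = e_k`, `a` fixed: `a = z`
        rw [ha1, hc2, pf] at hlt
        rw [hc1, pe] at hac
        have hpa : pos m a ≠ m + 1 := fun e => ha3 (pos_injective m (e.trans pf.symm))
        have haz : a = zI := pos_injective m (by rw [pz]; omega)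
        rw [ha1, hc2, haz]; exact hzf
      · -- `c = f_k`, `a` fixed: impossible
        rw [ha1, hc2, pe] at hlt
        rw [hc1, pf] at hac
        omega
      · -- `a = e_k`, `c` fixed: impossible
        rw [ha2, hc1, pf] at hlt
        rw [ha1, pe] at hac
        omega
      · rw [ha1, hc1] at hac; exact absurd hac (lt_irrefl _)
      · -- `a = e_k`, `c = f_k`: impossible
        rw [ha1, hc1, pe, pf] at hac; omega
      · -- `a = f_k`, `c` fixed: `c = z`
        rw [ha2, hc1, pe] at hlt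
        rw [ha1, pf] at hac
        have hpc : pos m c ≠ m - 1 := fun e => hc2 (pos_injective m (e.trans pe.symm))
        have hcz : c = zI := pos_injective m (by rw [pz]; omega)
        rw [ha2, hc1, hcz]; exact hez
      · -- `a = f_k`, `c = e_k`
        rw [ha2, hc2]; exact hef
      · rw [ha1, hc1] at hac; exact absurd hac (lt_irrefl _)

end Cfsg.Agent.Lib.Helper85.StO
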