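import Mathlib
import Cfsg.Agent.Lib.Helper49.StSpDefs

/-!
# K-StSp pack (S2545), keystone A3: `factorization_card_quotient` (pure arithmetic)
-/

set_option autoImplicit false
set_option linter.unusedSectionVars false

namespace Cfsg.Agent.Lib.Helper85.StSp

open Cfsg Cfsg.Agent.Lib.Helper49.StSp

theorem factorization_card_quotient {G : Type*} [Group G] [Finite G] (p : ℕ) [Fact p.Prime]
    (B T : Subgroup G) (hTB : T ≤ B) (hZ : Subgroup.center G ≤ T) (hB : ¬ p ∣ B.index)
    (hT : ¬ p ∣ Nat.card T) (a : ℕ) (ha : T.relIndex B = p ^ a) :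
    (Nat.card (G ⧸ Subgroup.center G)).factorization p = a := by
  have hp : p.Prime := Fact.out
  -- `p ∤ |Z|`
  have hZc : ¬ p ∣ Nat.card (Subgroup.center G) := fun h =>
    hT (h.trans (Subgroup.card_dvd_of_le hZ))
  -- `|G| = |G/Z| |Z|`
  have h1 : Nat.card G = Nat.card (G ⧸ Subgroup.center G) * Nat.card (Subgroup.center G) :=
    Subgroup.card_eq_card_quotient_mul_card_subgroup _
  -- `|G| = |G:B| |B:T| |T|`
  have h2 : Nat.card G = B.index * (p ^ a * Nat.card T) := by
    rw [← ha, ← Subgroup.index_mul_card T, ← Subgroup.relIndex_mul_index hTB]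
    ring
  have hq0 : Nat.card (G ⧸ Subgroup.center G) ≠ 0 := Nat.card_pos.ne'
  have hz0 : Nat.card (Subgroup.center G) ≠ 0 := Nat.card_pos.ne'
  have hT0 : Nat.card T ≠ 0 := Nat.card_pos.ne'
  have hB0 : B.index ≠ 0 := Subgroup.index_ne_zero_of_finite
  have hpa0 : p ^ a ≠ 0 := pow_ne_zero _ hp.ne_zero
  have e1 : (Nat.card G).factorization p = (Nat.card (G ⧸ Subgroup.center G)).factorization p := by
    rw [h1, Nat.factorization_mul hq0 hz0, Finsupp.add_apply,
      Nat.factorization_eq_zero_of_not_dvd hZc, add_zero]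
  have e2 : (Nat.card G).factorization p = a := by
    rw [h2, Nat.factorization_mul hB0 (mul_ne_zero hpa0 hT0), Finsupp.add_apply,
      Nat.factorization_mul hpa0 hT0, Finsupp.add_apply,
      Nat.factorization_eq_zero_of_not_dvd hB, Nat.factorization_eq_zero_of_not_dvd hT,
      Nat.factorization_pow, Finsupp.smul_apply, hp.factorization_self]
    simp
  rw [← e1, e2]

end Cfsg.Agent.Lib.Helper85.StSp
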