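import Cfsg.Agent.Lib.Helper49.StOpDefs

/-!
# K-StOp pack (S2548), keystone C5b: the longest element exchanges `B` and `B⁻`
(self-contained: the middle entries of a triangular isometry are treated here)
-/

set_option autoImplicit false
set_option linter.unusedSectionVars false
set_option linter.unusedVariables false
set_option linter.unusedSimpArgs false

namespace Cfsg.Agent.Lib.Helper85.StOp

open Cfsg Cfsg.Agent.Lib.Helper49.StOp Matrix

variable {m : ℕ} {F : Type*} [Field F]

theorem c5b_mulVec2 (M : Matrix (OI m) (OI m) F) (x y : OI m) (α γ : F) (a : OI m) :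
    (M *ᵥ (Pi.single x α + Pi.single y γ)) a = M a x * α + M a y * γ := by
  simp only [Matrix.mulVec_add, Matrix.mulVec_single, Pi.add_apply, Pi.smul_apply,
    MulOpposite.smul_eq_mul_unop, MulOpposite.unop_op, Matrix.col_apply]

theorem c5b_pos_e (hm : 0 < m) : pos m (eI (lastF hm)) = m - 1 := rfl
theorem c5b_pos_f (hm : 0 < m) : pos m (fI (lastF hm)) = m := by
  show 2 * m - 1 - (m - 1) = m
  omega

/-- the isometry relation on the span of `e_l, f_l` (`l` the last index), in sum form -/
theorem c5b_rel_sum (hm : 0 < m) (g : OG m F) (α γ : F) :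
    ∑ i : Fin m, (mat g (eI i) (eI (lastF hm)) * α + mat g (eI i) (fI (lastF hm)) * γ) *
      (mat g (fI i) (eI (lastF hm)) * α + mat g (fI i) (fI (lastF hm)) * γ) = α * γ := by
  have h := quad_mulVec g (Pi.single (eI (lastF hm)) α + Pi.single (fI (lastF hm)) γ)
  unfold Cfsg.quadFormPlus at h
  simp only [c5b_mulVec2] at h
  rw [h, Finset.sum_eq_single (lastF hm)]
  · simp only [Pi.add_apply, Pi.single_apply]
    have e1 : (Sum.inl (lastF hm) : OI m) ≠ Sum.inr (lastF hm) := by intro h'; cases h'
    have e2 : (Sum.inr (lastF hm) : OI m) ≠ Sum.inl (lastF hm) := by intro h'; cases h'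
    simp only [e1, e2, if_true, if_false, add_zero, zero_add]
  · intro i _ hi
    simp only [Pi.add_apply, Pi.single_apply]
    have e1 : (Sum.inl i : OI m) ≠ Sum.inl (lastF hm) := fun h' => hi (Sum.inl_injective h')
    have e2 : (Sum.inl i : OI m) ≠ Sum.inr (lastF hm) := by intro h'; cases h'
    simp only [e1, e2, if_false, add_zero, zero_mul]
  · intro h'; exact absurd (Finset.mem_univ _) h'

/-- the entry `(e_l, f_l)` of an upper triangular isometry vanishes -/
theorem c5b_mid_B (hm : 0 < m) (g : OG m F) (hg : g ∈ Bsub m F) :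
    mat g (eI (lastF hm)) (fI (lastF hm)) = 0 := by
  have hB := (mem_Bsub_iff g).1 hg
  have key : ∀ α γ : F, (mat g (eI (lastF hm)) (eI (lastF hm)) * α +
      mat g (eI (lastF hm)) (fI (lastF hm)) * γ) *
      (mat g (fI (lastF hm)) (fI (lastF hm)) * γ) = α * γ := by
    intro α γ
    have h := c5b_rel_sum hm g α γ
    rw [Finset.sum_eq_single (lastF hm)] at h
    · have h0 : mat g (fI (lastF hm)) (eI (lastF hm)) = 0 := by
        apply hB; rw [c5b_pos_e, c5b_pos_f]; omega
      rw [h0, zero_mul, zero_add] at h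
      exact h
    · intro i _ hi
      have hiv : i.val < m - 1 := by
        have h1 : i.val ≠ m - 1 := fun e => hi (Fin.ext e)
        have := i.2; omega
      have hpf : pos m (fI i) = 2 * m - 1 - i.val := rfl
      have h1 : mat g (fI i) (eI (lastF hm)) = 0 := by
        apply hB; rw [c5b_pos_e, hpf]; omega
      have h2 : mat g (fI i) (fI (lastF hm)) = 0 := by
        apply hB; rw [c5b_pos_f, hpf]; omega
      rw [h1, h2]; ring
    · intro h'; exact absurd (Finset.mem_univ _) h'
  have k1 := key 1 1
  have k2 := key 0 1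
  simp only [mul_one, mul_zero, zero_add] at k1 k2
  have hff : mat g (fI (lastF hm)) (fI (lastF hm)) ≠ 0 := by
    intro h0; rw [h0, mul_zero] at k1; exact zero_ne_one k1
  rcases mul_eq_zero.1 k2 with h | h
  · exact h
  · exact absurd h hff

/-- the entry `(f_l, e_l)` of a lower triangular isometry vanishes -/
theorem c5b_mid_Bminus (hm : 0 < m) (g : OG m F) (hg : g ∈ Bminus m F) :
    mat g (fI (lastF hm)) (eI (lastF hm)) = 0 := by
  have hB := (mem_Bminus_iff g).1 hg
  have key : ∀ α γ : F, (mat g (eI (lastF hm)) (eI (lastF hm)) * α) *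
      (mat g (fI (lastF hm)) (eI (lastF hm)) * α + mat g (fI (lastF hm)) (fI (lastF hm)) * γ)
      = α * γ := by
    intro α γ
    have h := c5b_rel_sum hm g α γ
    rw [Finset.sum_eq_single (lastF hm)] at h
    · have h0 : mat g (eI (lastF hm)) (fI (lastF hm)) = 0 := by
        apply hB; rw [c5b_pos_e, c5b_pos_f]; omega
      rw [h0, zero_mul, add_zero] at h
      exact h
    · intro i _ hi
      have hiv : i.val < m - 1 := by
        have h1 : i.val ≠ m - 1 := fun e => hi (Fin.ext e)
        have := i.2; omega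
      have hpe : pos m (eI i) = i.val := rfl
      have h1 : mat g (eI i) (eI (lastF hm)) = 0 := by
        apply hB; rw [c5b_pos_e, hpe]; omega
      have h2 : mat g (eI i) (fI (lastF hm)) = 0 := by
        apply hB; rw [c5b_pos_f, hpe]; omega
      rw [h1, h2]; ring
    · intro h'; exact absurd (Finset.mem_univ _) h'
  have k1 := key 1 1
  have k2 := key 1 0
  simp only [mul_one, mul_zero, add_zero] at k1 k2
  have hee : mat g (eI (lastF hm)) (eI (lastF hm)) ≠ 0 := by
    intro h0; rw [h0, zero_mul] at k1; exact zero_ne_one k1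
  rcases mul_eq_zero.1 k2 with h | h
  · exact absurd h hee
  · exact h

/-- the entries of the conjugate by a monomial element with permutation `ρ` -/
theorem c5b_entry (w : OG m F) (hw : MonWith m F w (rho m)) (b : OG m F) (x c : OI m) :
    mat (w⁻¹ * b * w) x c = 0 ↔ mat b (rho m x) (rho m c) = 0 := by
  have hW : ∀ a j : OI m, mat w a j ≠ 0 ↔ a = rho m j := hw.1
  have hW0 : ∀ a j : OI m, a ≠ rho m j → mat w a j = 0 := by
    intro a j h
    by_contra h0
    exact h ((hW a j).mp h0)
  have h1 : mat w * mat (w⁻¹ * b * w) = mat b * mat w := by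
    rw [mat_mul, mat_mul, ← Matrix.mul_assoc, ← Matrix.mul_assoc, mat_mul_mat_inv, Matrix.one_mul]
  have h2 := congrFun (congrFun h1 (rho m x)) c
  rw [Matrix.mul_apply, Matrix.mul_apply] at h2
  rw [Finset.sum_eq_single x, Finset.sum_eq_single (rho m c)] at h2
  · have hx : mat w (rho m x) x ≠ 0 := (hW _ _).mpr rfl
    have hc : mat w (rho m c) c ≠ 0 := (hW _ _).mpr rfl
    constructor
    · intro h
      rw [h, mul_zero] at h2
      rcases mul_eq_zero.mp h2.symm with h3 | h3
      · exact h3
      · exact absurd h3 hc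
    · intro h
      rw [h, zero_mul] at h2
      rcases mul_eq_zero.mp h2 with h3 | h3
      · exact absurd h3 hx
      · exact h3
  · intro j _ hj
    rw [hW0 j c hj, mul_zero]
  · intro h
    exact absurd (Finset.mem_univ _) h
  · intro j _ hj
    have : rho m x ≠ rho m j := fun h => hj ((rho m).injective h).symm
    rw [hW0 _ _ this, zero_mul]
  · intro h
    exact absurd (Finset.mem_univ _) h

theorem c5b_rho_rho (a : OI m) : rho m (rho m a) = a := rhoFun_rhoFun m a

/-- `ρ` reverses the order of every pair of positions except `{m-1, m}` (for odd `m`) -/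
theorem c5b_order (a c : OI m) (hac : pos m a < pos m c) :
    pos m (rho m c) < pos m (rho m a) ∨
      (0 < m ∧ pos m a = m - 1 ∧ pos m c = m ∧ rho m a = a ∧ rho m c = c) := by
  have hla := pos_lt m a
  have hlc := pos_lt m c
  rw [rho_apply, rho_apply, pos_rhoFun, pos_rhoFun]
  by_cases hA : m % 2 = 1 ∧ (pos m a = m - 1 ∨ pos m a = m)
  · by_cases hC : m % 2 = 1 ∧ (pos m c = m - 1 ∨ pos m c = m)
    · right
      have h1 : rhoFun m a = a := by unfold rhoFun; rw [if_pos hA]
      have h2 : rhoFun m c = c := by unfold rhoFun; rw [if_pos hC]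
      refine ⟨by omega, by omega, by omega, h1, h2⟩
    · left
      rw [if_pos hA, if_neg hC]
      have : ¬ (pos m c = m - 1 ∨ pos m c = m) := fun h => hC ⟨hA.1, h⟩
      omega
  · by_cases hC : m % 2 = 1 ∧ (pos m c = m - 1 ∨ pos m c = m)
    · left
      rw [if_neg hA, if_pos hC]
      have : ¬ (pos m a = m - 1 ∨ pos m a = m) := fun h => hA ⟨hC.1, h⟩
      omega
    · left
      rw [if_neg hA, if_neg hC]
      omega

theorem c5b_eq_e (hm : 0 < m) (a : OI m) (h : pos m a = m - 1) : a = eI (lastF hm) :=
  pos_injective m (h.trans (c5b_pos_e hm).symm)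

theorem c5b_eq_f (hm : 0 < m) (a : OI m) (h : pos m a = m) : a = fI (lastF hm) :=
  pos_injective m (h.trans (c5b_pos_f hm).symm)

/-- **K-StOp-C5b** -/
theorem conj_w0_mem_B_iff (w : OG m F) (hw : MonWith m F w (rho m)) (b : OG m F) :
    w⁻¹ * b * w ∈ Bsub m F ↔ b ∈ Bminus m F := by
  constructor
  · intro h
    have hB := (mem_Bsub_iff _).1 h
    rw [mem_Bminus_iff]
    intro a c hac
    -- `b a c = b (ρ (ρ a)) (ρ (ρ c))`
    have e := c5b_entry w hw b (rho m a) (rho m c)
    rw [c5b_rho_rho, c5b_rho_rho] at e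
    rw [← e]
    rcases c5b_order a c hac with hlt | ⟨hm, ha, hc, hra, hrc⟩
    · exact hB _ _ hlt
    · rw [hra, hrc, c5b_eq_e hm a ha, c5b_eq_f hm c hc]
      exact c5b_mid_B hm _ h
  · intro h
    have hB := (mem_Bminus_iff _).1 h
    rw [mem_Bsub_iff]
    intro a c hca
    rw [c5b_entry w hw b]
    rcases c5b_order c a hca with hlt | ⟨hm, hc, ha, hrc, hra⟩
    · exact hB _ _ hlt
    · rw [hra, hrc, c5b_eq_e hm c hc, c5b_eq_f hm a ha]
      exact c5b_mid_Bminus hm _ h

end Cfsg.Agent.Lib.Helper85.StOp
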