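import Mathlib
import Cfsg.Prelude.Def_Characters
import Cfsg.Agent.Lib.Helper33.IrrComp

/-!
# K-StSU pack (S2546), keystone A5: `steinberg_transport`

The conclusion (an irreducible character of `G ⧸ Z(G)` of degree `|Sylow_p|` vanishing on the
nonidentity elements of every Sylow `p`-subgroup) transports along a group isomorphism.
-/

set_option autoImplicit false

namespace Cfsg.Agent.Lib.Helper85.StSU

open Cfsg

/-- a group isomorphism maps the centre onto the centre -/
theorem map_center_mulEquiv {G G' : Type*} [Group G] [Group G'] (e : G ≃* G') :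
    (Subgroup.center G).map (e : G →* G') = Subgroup.center G' := by
  ext x
  constructor
  · rintro ⟨z, hz, rfl⟩
    rw [Subgroup.mem_center_iff]
    intro g'
    obtain ⟨g, rfl⟩ := e.surjective g'
    have h1 := Subgroup.mem_center_iff.mp hz g
    show e g * e z = e z * e g
    rw [← map_mul, ← map_mul, h1]
  · intro hx
    refine ⟨e.symm x, Subgroup.mem_center_iff.mpr ?_, by simp⟩
    intro g
    have h1 := Subgroup.mem_center_iff.mp hx (e g)
    apply e.injective
    rw [map_mul, map_mul, e.apply_symm_apply]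
    exact h1

/-- **K-StSU-A5** -/
theorem steinberg_transport {G G' : Type*} [Group G] [Group G'] [Finite G] (e : G ≃* G') (p : ℕ)
    [Fact p.Prime]
    (h : ∃ χ : G' ⧸ Subgroup.center G' → ℂ, Cfsg.IsIrrCharacter (G' ⧸ Subgroup.center G') χ ∧
      ∀ Q : Sylow p (G' ⧸ Subgroup.center G'), χ 1 = Nat.card Q ∧
        ∀ x : G' ⧸ Subgroup.center G', x ∈ Q → x ≠ 1 → χ x = 0) :
    ∃ χ : G ⧸ Subgroup.center G → ℂ, Cfsg.IsIrrCharacter (G ⧸ Subgroup.center G) χ ∧
      ∀ Q : Sylow p (G ⧸ Subgroup.center G), χ 1 = Nat.card Q ∧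
        ∀ x : G ⧸ Subgroup.center G, x ∈ Q → x ≠ 1 → χ x = 0 := by
  obtain ⟨χ', hirr, hχ'⟩ := h
  obtain ⟨f⟩ : Nonempty (G ⧸ Subgroup.center G ≃* G' ⧸ Subgroup.center G') :=
    ⟨QuotientGroup.congr _ _ e (map_center_mulEquiv e)⟩
  have hfs : Function.Surjective
      (f.toMonoidHom : G ⧸ Subgroup.center G →* G' ⧸ Subgroup.center G') := f.surjective
  refine ⟨fun x => χ' (f.toMonoidHom x),
    Cfsg.Agent.Lib.Helper33.isIrrCharacter_comp_of_surjective f.toMonoidHom hfs hirr, ?_⟩
  intro Q
  have hQ' := hχ' (Q.mapSurjective hfs)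
  have hcard : Nat.card ↥(Q.mapSurjective hfs) = Nat.card ↥Q := by
    show Nat.card ↥((Q : Subgroup (G ⧸ Subgroup.center G)).map f.toMonoidHom) =
      Nat.card ↥(Q : Subgroup (G ⧸ Subgroup.center G))
    exact Subgroup.card_map_of_injective f.injective
  refine ⟨?_, ?_⟩
  · show χ' (f.toMonoidHom 1) = _
    rw [map_one, hQ'.1]
    exact congrArg _ hcard
  · intro x hx hx1
    apply hQ'.2 (f.toMonoidHom x)
    · exact Subgroup.mem_map_of_mem _ hx
    · intro h1
      apply hx1
      exact f.injective (h1.trans (map_one f).symm)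

end Cfsg.Agent.Lib.Helper85.StSU
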