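import Mathlib
import Cfsg.Agent.Lib.Helper49.StSpDefs

/-!
# K-StSp pack (S2545), keystone F1S: `decomp_short`

`b ∈ B ⇒ b = b' * x_{i,i+1}(t)` with `b' ∈ B` and `s b' s⁻¹ ∈ B`, where `s` is the short
simple reflection `e_i ↔ e_{i+1}`.
-/

set_option autoImplicit false
set_option linter.unusedSectionVars false
set_option linter.unusedSimpArgs false

namespace Cfsg.Agent.Lib.Helper85.StSp

open Matrix Cfsg Cfsg.Agent.Lib.Helper49.StSp

variable {m : ℕ} {F : Type*} [Field F]

/-- column relation of a symplectic matrix -/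
theorem f1s_symp_col (A : Matrix (Fin m ⊕ Fin m) (Fin m ⊕ Fin m) F)
    (hA : A ∈ Matrix.symplecticGroup (Fin m) F) (c d : Fin m ⊕ Fin m) :
    ∑ k : Fin m, (A (Sum.inr k) c * A (Sum.inl k) d - A (Sum.inl k) c * A (Sum.inr k) d)
      = Matrix.J (Fin m) F c d := by
  have h := (SymplecticGroup.mem_iff'.1 hA)
  have h2 := congrFun (congrFun h c) d
  rw [← h2]
  simp only [Matrix.mul_apply, Matrix.transpose_apply, Fintype.sum_sum_type, Matrix.J,
    Matrix.fromBlocks_apply₁₁, Matrix.fromBlocks_apply₁₂, Matrix.fromBlocks_apply₂₁,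
    Matrix.fromBlocks_apply₂₂, Matrix.zero_apply, Matrix.neg_apply, Matrix.one_apply,
    mul_zero, Finset.sum_const_zero, zero_add, add_zero, mul_neg, mul_ite, mul_one,
    Finset.sum_neg_distrib, Finset.sum_ite_eq', Finset.mem_univ, if_true,
    neg_mul, Finset.sum_sub_distrib]
  ring

/-- for `g ∈ B` the diagonal entries at `e_k`, `f_k` are inverse to each other -/
theorem f1s_diag_mul (g : SpG m F) (hg : g ∈ Bsub m F) (k : Fin m) :
    (g.1 : Matrix _ _ F) (Sum.inl k) (Sum.inl k) * (g.1 : Matrix _ _ F) (Sum.inr k) (Sum.inr k)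
      = 1 := by
  have hB := (mem_Bsub_iff g).1 hg
  have h := f1s_symp_col g.1 g.2 (Sum.inl k) (Sum.inr k)
  rw [Finset.sum_eq_single k] at h
  · have h0 : (g.1 : Matrix _ _ F) (Sum.inr k) (Sum.inl k) = 0 := by
      apply hB; simp only [pos]; have := k.2; omega
    rw [h0, zero_mul, zero_sub] at h
    have hJ : Matrix.J (Fin m) F (Sum.inl k) (Sum.inr k) = -1 := by
      simp [Matrix.J]
    rw [hJ] at h
    exact neg_injective h
  · intro k' _ hk'
    have h0 : (g.1 : Matrix _ _ F) (Sum.inr k') (Sum.inl k) = 0 := by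
      apply hB; simp only [pos]; have := k.2; have := k'.2; omega
    rw [h0, zero_mul, zero_sub, neg_eq_zero]
    rcases lt_or_gt_of_ne (fun e => hk' (Fin.ext e) : k'.val ≠ k.val) with hlt | hlt
    · have h1 : (g.1 : Matrix _ _ F) (Sum.inr k') (Sum.inr k) = 0 := by
        apply hB; simp only [pos]; have := k.2; have := k'.2; omega
      rw [h1, mul_zero]
    · have h1 : (g.1 : Matrix _ _ F) (Sum.inl k') (Sum.inl k) = 0 := by
        apply hB; simp only [pos]; exact hlt
      rw [h1, zero_mul]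
  · intro h'; exact absurd (Finset.mem_univ k) h'

theorem f1s_diag_ne_zero (g : SpG m F) (hg : g ∈ Bsub m F) (k : Fin m) :
    (g.1 : Matrix _ _ F) (Sum.inl k) (Sum.inl k) ≠ 0 := by
  intro h
  have := f1s_diag_mul g hg k
  rw [h, zero_mul] at this
  exact zero_ne_one this

/-- for `g ∈ B` with `g(e_i, e_{i+1}) = 0` also `g(f_{i+1}, f_i) = 0` -/
theorem f1s_lower_zero (g : SpG m F) (hg : g ∈ Bsub m F) (i j : Fin m) (hij : j.val = i.val + 1)
    (h0 : (g.1 : Matrix _ _ F) (Sum.inl i) (Sum.inl j) = 0) :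
    (g.1 : Matrix _ _ F) (Sum.inr j) (Sum.inr i) = 0 := by
  have hB := (mem_Bsub_iff g).1 hg
  have h := f1s_symp_col g.1 g.2 (Sum.inl j) (Sum.inr i)
  rw [Finset.sum_eq_single j] at h
  · have h1 : (g.1 : Matrix _ _ F) (Sum.inr j) (Sum.inl j) = 0 := by
      apply hB; simp only [pos]; have := j.2; omega
    rw [h1, zero_mul, zero_sub] at h
    have hJ : Matrix.J (Fin m) F (Sum.inl j) (Sum.inr i) = 0 := by
      have hne : j ≠ i := by intro e; rw [e] at hij; omega
      simp [Matrix.J, Matrix.one_apply, hne]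
    rw [hJ, neg_eq_zero] at h
    rcases mul_eq_zero.1 h with h | h
    · exact absurd h (f1s_diag_ne_zero g hg j)
    · exact h
  · intro k _ hk
    have h1 : (g.1 : Matrix _ _ F) (Sum.inr k) (Sum.inl j) = 0 := by
      apply hB; simp only [pos]; have := j.2; have := k.2; omega
    rw [h1, zero_mul, zero_sub, neg_eq_zero]
    have hkv : k.val ≠ j.val := fun e => hk (Fin.ext e)
    by_cases hki : k = i
    · rw [hki, h0, zero_mul]
    · have hkv' : k.val ≠ i.val := fun e => hki (Fin.ext e)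
      rcases lt_or_gt_of_ne hkv with hlt | hlt
      · have h2 : (g.1 : Matrix _ _ F) (Sum.inr k) (Sum.inr i) = 0 := by
          apply hB; simp only [pos]; have := i.2; have := k.2; omega
        rw [h2, mul_zero]
      · have h2 : (g.1 : Matrix _ _ F) (Sum.inl k) (Sum.inl j) = 0 := by
          apply hB; simp only [pos]; exact hlt
        rw [h2, zero_mul]
  · intro h'; exact absurd (Finset.mem_univ j) h'

/-- the short root elements of positive roots lie in `B` -/
theorem f1s_xS_mem (i j : Fin m) (hij : i ≠ j) (hlt : i.val < j.val) (s : F) :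
    xS m F i j hij s ∈ Bsub m F := by
  rw [mem_Bsub_iff]
  intro a c hac
  show xShortMat m F i j s a c = 0
  unfold xShortMat
  rcases a with a | a <;> rcases c with c | c <;> simp only [pos] at hac
  · rw [Matrix.fromBlocks_apply₁₁, Matrix.transvection, Matrix.add_apply, Matrix.one_apply,
      Matrix.single_apply]
    have h1 : a ≠ c := by intro h; rw [h] at hac; exact lt_irrefl _ hac
    have h2 : ¬ (i = a ∧ j = c) := by rintro ⟨rfl, rfl⟩; omega
    rw [if_neg h1, if_neg h2, add_zero]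
  · rfl
  · rfl
  · rw [Matrix.fromBlocks_apply₂₂, Matrix.transvection, Matrix.add_apply, Matrix.one_apply,
      Matrix.single_apply]
    have h1 : a ≠ c := by intro h; rw [h] at hac; exact lt_irrefl _ hac
    have h2 : ¬ (j = a ∧ i = c) := by
      rintro ⟨rfl, rfl⟩; have := i.2; have := j.2; omega
    rw [if_neg h1, if_neg h2, add_zero]

theorem f1s_xS_mul (i j : Fin m) (hij : i ≠ j) (s t : F) :
    xS m F i j hij s * xS m F i j hij t = xS m F i j hij (s + t) := by
  apply Subtype.ext
  show xShortMat m F i j s * xShortMat m F i j t = xShortMat m F i j (s + t)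
  unfold xShortMat
  rw [Matrix.fromBlocks_multiply, Matrix.transvection_mul_transvection_same _ _ hij,
    Matrix.transvection_mul_transvection_same _ _ hij.symm]
  simp only [Matrix.mul_zero, Matrix.zero_mul, add_zero, zero_add, neg_add]

theorem f1s_xS_zero (i j : Fin m) (hij : i ≠ j) : xS m F i j hij 0 = 1 := by
  apply Subtype.ext
  show xShortMat m F i j 0 = 1
  unfold xShortMat
  rw [neg_zero, Matrix.transvection_zero, Matrix.transvection_zero, Matrix.fromBlocks_one]

theorem f1s_mul_xS_apply (M : Matrix (Fin m ⊕ Fin m) (Fin m ⊕ Fin m) F) (i j : Fin m) (s : F)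
    (a : Fin m ⊕ Fin m) :
    (M * xShortMat m F i j s) a (Sum.inl j) = M a (Sum.inl j) + s * M a (Sum.inl i) := by
  conv_lhs => rw [← Matrix.fromBlocks_toBlocks M]
  unfold xShortMat
  rw [Matrix.fromBlocks_multiply]
  rcases a with a | a
  · rw [Matrix.fromBlocks_apply₁₁, Matrix.mul_zero, add_zero,
      Matrix.mul_transvection_apply_same]
    rfl
  · rw [Matrix.fromBlocks_apply₂₁, Matrix.mul_zero, add_zero,
      Matrix.mul_transvection_apply_same]
    rfl

theorem f1s_sShort_mul_self (i j : Fin m) : sShort m F i j * sShort m F i j = 1 := by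
  apply Subtype.ext
  show sShortMat m F i j * sShortMat m F i j = 1
  unfold sShortMat
  rw [Matrix.fromBlocks_multiply]
  simp only [Matrix.mul_zero, Matrix.zero_mul, add_zero, zero_add, ← Matrix.permMatrix_mul,
    Equiv.swap_mul_self, Matrix.permMatrix_one, Matrix.fromBlocks_one]

theorem f1s_sShort_inv (i j : Fin m) : (sShort m F i j)⁻¹ = sShort m F i j :=
  inv_eq_of_mul_eq_one_right (f1s_sShort_mul_self i j)

theorem f1s_conj_apply (i j : Fin m) (M : Matrix (Fin m ⊕ Fin m) (Fin m ⊕ Fin m) F)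
    (a c : Fin m ⊕ Fin m) :
    (sShortMat m F i j * M * sShortMat m F i j) a c =
      M (Sum.map (Equiv.swap i j) (Equiv.swap i j) a)
        (Sum.map (Equiv.swap i j) (Equiv.swap i j) c) := by
  conv_lhs => rw [← Matrix.fromBlocks_toBlocks M]
  unfold sShortMat
  rw [Matrix.fromBlocks_multiply, Matrix.fromBlocks_multiply]
  simp only [Matrix.zero_mul, Matrix.mul_zero, add_zero, zero_add, Equiv.Perm.permMatrix,
    PEquiv.toMatrix_toPEquiv_mul, PEquiv.mul_toMatrix_toPEquiv, Equiv.symm_swap]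
  rcases a with a | a <;> rcases c with c | c <;>
    simp [Matrix.toBlocks₁₁, Matrix.toBlocks₁₂, Matrix.toBlocks₂₁, Matrix.toBlocks₂₂]

theorem f1s_swap_cases (i j : Fin m) (x : Fin m) :
    ((Equiv.swap i j x).val = x.val ∧ x.val ≠ i.val ∧ x.val ≠ j.val) ∨
      (x.val = i.val ∧ Equiv.swap i j x = j) ∨ (x.val = j.val ∧ Equiv.swap i j x = i) := by
  by_cases h1 : x = i
  · right; left; subst h1; exact ⟨rfl, Equiv.swap_apply_left _ _⟩
  · by_cases h2 : x = j
    · right; right; subst h2; exact ⟨rfl, Equiv.swap_apply_right _ _⟩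
    · left
      rw [Equiv.swap_apply_of_ne_of_ne h1 h2]
      exact ⟨rfl, fun e => h1 (Fin.ext e), fun e => h2 (Fin.ext e)⟩

theorem f1s_decomp_aux (i j : Fin m) (hij : i ≠ j) (hjv : j.val = i.val + 1) (b : SpG m F)
    (hb : b ∈ Bsub m F) :
    ∃ b' ∈ Bsub m F, ∃ t : F, b = b' * xS m F i j hij t ∧
      sShort m F i j * b' * (sShort m F i j)⁻¹ ∈ Bsub m F := by
  have hd := f1s_diag_ne_zero b hb i
  obtain ⟨t, ht⟩ : ∃ t : F, t = (b.1 : Matrix _ _ F) (Sum.inl i) (Sum.inl j) /
      (b.1 : Matrix _ _ F) (Sum.inl i) (Sum.inl i) := ⟨_, rfl⟩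
  have hinv : xS m F i j hij (-t) * xS m F i j hij t = 1 := by
    rw [f1s_xS_mul, neg_add_cancel, f1s_xS_zero]
  have hb' : b * xS m F i j hij (-t) ∈ Bsub m F :=
    (Bsub m F).mul_mem hb (f1s_xS_mem i j hij (by omega) _)
  have hB := (mem_Bsub_iff _).1 hb'
  have hz : ((b * xS m F i j hij (-t)).1 : Matrix _ _ F) (Sum.inl i) (Sum.inl j) = 0 := by
    show ((b.1 : Matrix _ _ F) * xShortMat m F i j (-t)) (Sum.inl i) (Sum.inl j) = 0
    rw [f1s_mul_xS_apply, ht]
    field_simp
    ring
  have hz' := f1s_lower_zero _ hb' i j hjv hz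
  refine ⟨b * xS m F i j hij (-t), hb', t, ?_, ?_⟩
  · rw [mul_assoc, hinv, mul_one]
  · rw [f1s_sShort_inv, mem_Bsub_iff]
    intro a c hac
    show (sShortMat m F i j * ((b * xS m F i j hij (-t)).1 : Matrix _ _ F) * sShortMat m F i j) a c
      = 0
    rw [f1s_conj_apply]
    rcases a with a | a <;> rcases c with c | c <;>
      simp only [pos, Sum.map_inl, Sum.map_inr] at hac ⊢
    · by_cases hlt : (Equiv.swap i j c).val < (Equiv.swap i j a).val
      · apply hB; simp only [pos]; exact hlt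
      · rcases f1s_swap_cases i j a with ⟨ha1, ha2, ha3⟩ | ⟨ha1, ha2⟩ | ⟨ha1, ha2⟩ <;>
          rcases f1s_swap_cases i j c with ⟨hc1, hc2, hc3⟩ | ⟨hc1, hc2⟩ | ⟨hc1, hc2⟩
        · omega
        · rw [hc2] at hlt; omega
        · rw [hc2] at hlt; omega
        · rw [ha2] at hlt; omega
        · rw [ha2, hc2] at hlt; omega
        · omega
        · rw [ha2] at hlt; omega
        · rw [ha2, hc2]; exact hz
        · omega
    · exfalso; have := a.2; have := c.2; omega
    · apply hB; simp only [pos]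
      have := (Equiv.swap i j a).2; have := (Equiv.swap i j c).2; omega
    · by_cases hlt : (Equiv.swap i j a).val < (Equiv.swap i j c).val
      · apply hB; simp only [pos]
        have := (Equiv.swap i j a).2; have := (Equiv.swap i j c).2; omega
      · have := a.2; have := c.2
        rcases f1s_swap_cases i j a with ⟨ha1, ha2, ha3⟩ | ⟨ha1, ha2⟩ | ⟨ha1, ha2⟩ <;>
          rcases f1s_swap_cases i j c with ⟨hc1, hc2, hc3⟩ | ⟨hc1, hc2⟩ | ⟨hc1, hc2⟩
        · omega
        · rw [hc2] at hlt; omega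
        · rw [hc2] at hlt; omega
        · rw [ha2] at hlt; omega
        · omega
        · rw [ha2, hc2]; exact hz'
        · rw [ha2] at hlt; omega
        · rw [ha2, hc2] at hlt; omega
        · omega

/-- **K-StSp-F1S** -/
theorem decomp_short (i : Fin m) (hi : i.val + 1 < m) (b : SpG m F) (hb : b ∈ Bsub m F) :
    ∃ b' ∈ Bsub m F, ∃ t : F, b = b' * xS m F i (nxt i hi) (ne_nxt i hi) t ∧
      sShort m F i (nxt i hi) * b' * (sShort m F i (nxt i hi))⁻¹ ∈ Bsub m F :=
  f1s_decomp_aux i (nxt i hi) (ne_nxt i hi) rfl b hb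

end Cfsg.Agent.Lib.Helper85.StSp
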