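import Cfsg.Agent.Lib.Helper53.StOmDefs

/-!
# K-StOm pack (S2549), keystone C5b: `w0` exchanges `B` and `B⁻`
(port of Lib/Helper15/StOC5b.lean; self-contained: the matrix of `w0` is computed here)
-/

set_option autoImplicit false
set_option linter.unusedSectionVars false
set_option linter.unusedVariables false

namespace Cfsg.Agent.Lib.Helper85.StOm

open Cfsg Cfsg.Agent.Lib.Helper53.StOm Matrix

variable {m : ℕ} {F : Type*} [Field F] {a b : F}

/-- the matrix of `w0` -/
theorem c5b_mat_w0 : mat (w0 m F a b) = w0Mat m F := by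
  refine mat_ofMat _ (exists_of_isometry ((dualE m).permMatrix F) ((dualE m)⁻¹.permMatrix F) ?_ ?_ ?_)
  · rw [← Matrix.permMatrix_mul, inv_mul_cancel, Matrix.permMatrix_one]
  · rw [← Matrix.permMatrix_mul, mul_inv_cancel, Matrix.permMatrix_one]
  · intro u
    rw [Matrix.permMatrix_mulVec]
    unfold Cfsg.quadFormMinus
    congr 1
    apply Finset.sum_congr rfl
    intro i _
    show u (fI i) * u (eI i) = u (eI i) * u (fI i)
    rw [mul_comm]

theorem c5b_pos_le (x : MI m) : pos m x ≤ 2 * m := by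
  rcases x with (x | x) | x <;> simp only [pos] <;> omega

theorem c5b_dualE_mul_self : dualE m * dualE m = 1 := by
  ext x
  exact dualE_dualE m x

theorem c5b_w0Mat_mul_self : w0Mat m F * w0Mat m F = 1 := by
  unfold w0Mat
  rw [← Matrix.permMatrix_mul, c5b_dualE_mul_self, Matrix.permMatrix_one]

theorem c5b_mat_w0_inv : mat (w0 m F a b)⁻¹ = w0Mat m F := by
  rw [mat_inv, c5b_mat_w0]
  exact Matrix.inv_eq_right_inv c5b_w0Mat_mul_self

theorem c5b_entry (M : Matrix (MI m) (MI m) F) (x y : MI m) :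
    (w0Mat m F * M * w0Mat m F) x y = M (dualE m x) (dualE m y) := by
  unfold w0Mat Equiv.Perm.permMatrix
  rw [PEquiv.mul_toMatrix_toPEquiv, Matrix.submatrix_apply, PEquiv.toMatrix_toPEquiv_mul,
    Matrix.submatrix_apply]
  have h : (dualE m).symm y = dualE m y := by
    rw [Equiv.symm_apply_eq, dualE_dualE]
  rw [h]
  rfl

/-- **K-StOm-C5b** -/
theorem conj_w0_mem_B_iff (g : OG m F a b) :
    (w0 m F a b)⁻¹ * g * w0 m F a b ∈ Bsub m F a b ↔ g ∈ Bminus m F a b := by
  rw [mem_Bsub_iff, mem_Bminus_iff]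
  have hmat : mat ((w0 m F a b)⁻¹ * g * w0 m F a b) = w0Mat m F * mat g * w0Mat m F := by
    rw [mat_mul, mat_mul, c5b_mat_w0_inv, c5b_mat_w0]
  rw [hmat]
  constructor
  · intro h x y hxy
    have h1 := h (dualE m x) (dualE m y) (by
      rw [pos_dualE, pos_dualE]
      have := c5b_pos_le x
      have := c5b_pos_le y
      omega)
    rw [c5b_entry, dualE_dualE, dualE_dualE] at h1
    exact h1
  · intro h x y hxy
    rw [c5b_entry]
    apply h
    rw [pos_dualE, pos_dualE]
    have := c5b_pos_le x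
    have := c5b_pos_le y
    omega

end Cfsg.Agent.Lib.Helper85.StOm
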