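import Mathlib
import Cfsg.Prelude.Def_GeometricClasses
import Cfsg.Agent.Lib.Helper69.SLTDefs

/-!
# K-SLT-1b (keystone 597902, architect helper69): eigenspaces of `1 ⊗ₖ B`
-/

set_option autoImplicit false

namespace Cfsg.Agent.Lib.Helper85.SLT

open Matrix Cfsg.Agent.Lib.Helper69.SLT
open scoped Kronecker

variable {F : Type*} [Field F]

theorem one_kron_mulVec {a b : ℕ} (B : Matrix (Fin b) (Fin b) F) (v : Fin a × Fin b → F)
    (i : Fin a) (j : Fin b) :
    (((1 : Matrix (Fin a) (Fin a) F) ⊗ₖ B) *ᵥ v) (i, j) = (B *ᵥ (fun j' => v (i, j'))) j := by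
  simp only [Matrix.mulVec, dotProduct, Fintype.sum_prod_type, Matrix.kroneckerMap_apply,
    Matrix.one_apply, ite_mul, one_mul, zero_mul]
  rw [Finset.sum_eq_single i]
  · simp
  · intro i' _ hi'
    simp [Ne.symm hi']
  · intro h
    exact absurd (Finset.mem_univ i) h

theorem mem_eig_one_kron {a b : ℕ} (B : Matrix (Fin b) (Fin b) F) (ν : F) (v : Fin a × Fin b → F) :
    v ∈ Module.End.eigenspace (Matrix.toLin' ((1 : Matrix (Fin a) (Fin a) F) ⊗ₖ B)) ν ↔
      ∀ i, (fun j => v (i, j)) ∈ Module.End.eigenspace (Matrix.toLin' B) ν := by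
  simp only [mem_eigenspace_toLin']
  constructor
  · intro h i
    funext j
    have := congrFun h (i, j)
    rw [one_kron_mulVec] at this
    rw [this]
    rfl
  · intro h
    funext ⟨i, j⟩
    rw [one_kron_mulVec, h i]
    rfl

/-- K-SLT-1b (597902). -/
theorem eigDim_one_kron {a b : ℕ} (B : Matrix (Fin b) (Fin b) F) (ν : F) :
    eigDim ((1 : Matrix (Fin a) (Fin a) F) ⊗ₖ B) ν = a * eigDim B ν := by
  unfold eigDim
  let φ : ↥(Module.End.eigenspace (Matrix.toLin' ((1 : Matrix (Fin a) (Fin a) F) ⊗ₖ B)) ν) ≃ₗ[F]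
      (Fin a → ↥(Module.End.eigenspace (Matrix.toLin' B) ν)) :=
    { toFun := fun v i => ⟨fun j => v.1 (i, j), (mem_eig_one_kron B ν v.1).mp v.2 i⟩
      map_add' := fun v w => rfl
      map_smul' := fun c v => rfl
      invFun := fun f => ⟨fun ij => (f ij.1).1 ij.2,
        (mem_eig_one_kron B ν _).mpr (fun i => (f i).2)⟩
      left_inv := fun v => rfl
      right_inv := fun f => rfl }
  rw [φ.finrank_eq, Module.finrank_pi_fintype]
  simp

end Cfsg.Agent.Lib.Helper85.SLT
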