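import Mathlib
import Cfsg.Agent.Lib.Helper72.SNCDefs

/-!
K-SNC-1 `nnt_of_equiv` (pack of helper72/helper5 for S4073): NNT transports along an isomorphism.
-/

set_option autoImplicit false

namespace Cfsg.Agent.Lib.Helper85.SNC

open Cfsg.Agent.Lib.Helper72.SNC

universe u v

/-- 407301 SNC-1. -/
theorem nnt_of_equiv {X : Type u} {Y : Type v} [Group X] [Group Y] (e : X ≃* Y) (h : NNT Y) : NNT X := by
  intro N hN hnc
  have hN' : (N.map e.toMonoidHom).Normal := hN.map e.toMonoidHom e.surjective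
  have hnc' : ¬ IsMulCommutative ↥(N.map e.toMonoidHom) := by
    intro hc
    apply hnc
    refine ⟨⟨fun a b => ?_⟩⟩
    have h1 := hc.is_comm.comm ⟨e a, ⟨a, a.2, rfl⟩⟩ ⟨e b, ⟨b, b.2, rfl⟩⟩
    have h2 : e (a * b : X) = e (b * a : X) := by
      rw [map_mul, map_mul]; exact congrArg Subtype.val h1
    exact Subtype.ext (e.injective h2)
  have htop := h _ hN' hnc'
  rw [Subgroup.eq_top_iff']
  intro x
  have hx : e x ∈ N.map e.toMonoidHom := htop ▸ Subgroup.mem_top _
  obtain ⟨n, hn, hne⟩ := hx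
  have : n = x := e.injective hne
  exact this ▸ hn

end Cfsg.Agent.Lib.Helper85.SNC
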