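import Mathlib
import Cfsg.Prelude.Def_GeometricClasses
import Cfsg.Agent.Lib.Helper73.SU6FDefs
import Cfsg.Agent.Lib.Helper99.FieldSub
import Cfsg.Agent.Lib.Helper19.Unitary
import Cfsg.Agent.Lib.Helper19.UnitaryDet

/-!
# K-SU6-K3 (keystone 580209, architect helper73): the normaliser of the degree-3 field in `GU_6(2)` maps the `F₂`-structure
`V₀ = K₀ u + K₀ v` onto `l V₀` for some `l ∈ K` of norm one
-/

set_option autoImplicit false

namespace Cfsg.Agent.Lib.Helper85.SU6K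

open Cfsg Cfsg.Geo Cfsg.Agent.Lib.Helper73.SU6
open Cfsg.Agent.Lib.Helper84.AschU (adj adj_adj adj_mul adj_apply herm_mulVec_left herm_mulVec_right
  eq_zero_of_herm_left eq_zero_of_herm_right adj_mem_of_isAdjointClosedFor herm_zero_left herm_sub_right)
open Cfsg.Agent.Lib.Helper19 (hermForm_add_left hermForm_add_right hermForm_conj add_pow_q)
open scoped Matrix MatrixGroups

/-- four elements satisfying the relations of a unitary `2 × 2` matrix for a hyperbolic pair lie on one line over the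
fixed field, spanned by an element of norm one -/
theorem su6k3_one_line {L : Type*} [Field L] (φ : L → L) (hmul : ∀ x y, φ (x * y) = φ x * φ y)
    (hadd : ∀ x y, φ (x + y) = φ x + φ y) (hone : φ 1 = 1) (hφ : ∀ x, φ (φ x) = x)
    (h64 : ∀ x : L, x ^ 64 = x)
    (α β γ δ : L) (h1 : φ (α * φ γ) = α * φ γ) (h2 : φ (β * φ δ) = β * φ δ)
    (h3 : α * φ δ + γ * φ β = 1) :
    ∃ l α' β' γ' δ' : L, l * φ l = 1 ∧ φ α' = α' ∧ φ β' = β' ∧ φ γ' = γ' ∧ φ δ' = δ' ∧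
      α = l * α' ∧ β = l * β' ∧ γ = l * γ' ∧ δ = l * δ' := by
  have hzero : φ 0 = 0 := by
    have := hadd 0 0
    simpa using this
  let Φ : L →+* L :=
    { toFun := φ, map_one' := hone, map_mul' := hmul, map_zero' := hzero, map_add' := hadd }
  have hΦ : ∀ x, Φ x = φ x := fun _ => rfl
  have h1' : φ α * γ = α * φ γ := by rw [← h1, hmul, hφ]
  have h2' : φ β * δ = β * φ δ := by rw [← h2, hmul, hφ]
  have h3' : φ α * δ + φ γ * β = 1 := by
    have := congrArg φ h3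
    rwa [hadd, hmul, hmul, hφ, hφ, hone] at this
  have hne : ∀ x, x ≠ 0 → φ x ≠ 0 := by
    intro x hx h
    apply hx
    rw [← hφ x, h, hzero]
  obtain ⟨z, hz, hPα, hPβ, hPγ, hPδ⟩ : ∃ z : L, z ≠ 0 ∧ φ α * z = α * φ z ∧ φ β * z = β * φ z ∧
      φ γ * z = γ * φ z ∧ φ δ * z = δ * φ z := by
    by_cases hα : α = 0
    · subst hα
      rw [hzero] at h3'
      have hβ : β ≠ 0 := by
        rintro rfl
        rw [hzero] at h3
        simp at h3
      refine ⟨β, hβ, ?_, mul_comm _ _, ?_, ?_⟩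
      · rw [hzero]; ring
      · grind
      · grind
    · have hA := hne α hα
      refine ⟨α, hα, mul_comm _ _, ?_, ?_, ?_⟩
      · grind
      · grind
      · grind
  have hZ := hne z hz
  have hN0 : z * φ z ≠ 0 := mul_ne_zero hz hZ
  have hN : φ (z * φ z) = z * φ z := by rw [hmul, hφ, mul_comm]
  obtain ⟨t, ht0, htφ, ht2⟩ : ∃ t : L, t ≠ 0 ∧ φ t = t ∧ t ^ 2 * (z * φ z) = 1 := by
    refine ⟨((z * φ z)⁻¹) ^ 32, pow_ne_zero _ (inv_ne_zero hN0), ?_, ?_⟩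
    · rw [← hΦ, map_pow, map_inv₀, hΦ, hN]
    · rw [← pow_mul, h64]
      exact inv_mul_cancel₀ hN0
  have hl0 : z * t ≠ 0 := mul_ne_zero hz ht0
  have hφl : φ (z * t) = φ z * t := by rw [hmul, htφ]
  have hφl0 : φ z * t ≠ 0 := mul_ne_zero hZ ht0
  have key : ∀ x, φ x * z = x * φ z → φ (x / (z * t)) = x / (z * t) := by
    intro x hx
    rw [← hΦ, map_div₀, hΦ, hΦ, hφl, div_eq_div_iff hφl0 hl0]
    linear_combination t * hx
  refine ⟨z * t, α / (z * t), β / (z * t), γ / (z * t), δ / (z * t), ?_, key α hPα, key β hPβ,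
    key γ hPγ, key δ hPδ, ?_, ?_, ?_, ?_⟩
  · rw [hφl]
    linear_combination ht2
  · rw [mul_div_cancel₀ _ hl0]
  · rw [mul_div_cancel₀ _ hl0]
  · rw [mul_div_cancel₀ _ hl0]
  · rw [mul_div_cancel₀ _ hl0]

set_option linter.unusedSectionVars false

variable {F : Type*} [Field F] [Fintype F]

local notation "Mat" => Matrix (Fin 6) (Fin 6) F
local notation "𝔥" => hermForm 6 F 2

theorem k3_two_eq_zero (hF : Fintype.card F = 2 ^ 2) : (2 : F) = 0 := by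
  have hF4 : Fintype.card F = 4 := by rw [hF]; norm_num
  have e2 := FiniteField.pow_card (2 : F)
  have e3 := FiniteField.pow_card (3 : F)
  rw [hF4] at e2 e3
  linear_combination (-11 : F) * e2 + 2 * e3

theorem k3_adj_add (hF : Fintype.card F = 2 ^ 2) (M N : Mat) :
    adj hF (M + N) = adj hF M + adj hF N := by
  ext i j
  rw [Matrix.add_apply, adj_apply, adj_apply, adj_apply, Matrix.add_apply, add_pow_q hF]

theorem k3_adj_smul_one (hF : Fintype.card F = 2 ^ 2) (c : F) :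
    adj hF (c • (1 : Mat)) = c ^ 2 • (1 : Mat) := by
  ext i j
  rw [adj_apply, Matrix.smul_apply, Matrix.smul_apply, Matrix.one_apply, Matrix.one_apply]
  by_cases hij : i = j
  · subst hij; simp
  · rw [if_neg hij, if_neg (Ne.symm hij)]; simp

theorem k3_adj_one (hF : Fintype.card F = 2 ^ 2) : adj hF (1 : Mat) = 1 := by
  have := k3_adj_smul_one hF (1 : F)
  simpa using this

theorem k3_adj_pow (hF : Fintype.card F = 2 ^ 2) (M : Mat) (n : ℕ) :
    adj hF (M ^ n) = (adj hF M) ^ n := by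
  induction n with
  | zero => rw [pow_zero, pow_zero, k3_adj_one]
  | succ n ih => rw [pow_succ, adj_mul, ih, pow_succ']

theorem k3_tau_adj (hF : Fintype.card F = 2 ^ 2) (K : Subalgebra F Mat)
    (hadj : IsAdjointClosedFor 𝔥 K) (u v : Fin 6 → F) (huv : IsHypPair K u v) (k : Mat) (hk : k ∈ K) :
    𝔥 (adj hF k *ᵥ u) v = (𝔥 (k *ᵥ u) v) ^ 2 := by
  have hk' := adj_mem_of_isAdjointClosedFor hF K hadj k hk
  have h1 := huv.pair k hk
  have h2 := huv.pair _ hk'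
  have h3 : (𝔥 (adj hF k *ᵥ u) v) • (1 : Mat) = (𝔥 (k *ᵥ u) v) ^ 2 • (1 : Mat) := by
    rw [h2, ← k3_adj_smul_one hF, h1, k3_adj_add, k3_adj_add, k3_adj_pow, k3_adj_pow]
  have := congrFun (congrFun h3 0) 0
  simpa using this

theorem k3_cf (hF : Fintype.card F = 2 ^ 2) (K : Subalgebra F Mat)
    (hadj : IsAdjointClosedFor 𝔥 K) (u v : Fin 6 → F) (huv : IsHypPair K u v)
    (a b c d : Mat) (ha : a ∈ K) (hb : b ∈ K) (hc : c ∈ K) (hd : d ∈ K) :
    𝔥 (a *ᵥ u + b *ᵥ v) (c *ᵥ u + d *ᵥ v) =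
      𝔥 ((adj hF d * a) *ᵥ u) v + 𝔥 ((adj hF c * b) *ᵥ u) v := by
  have hb' := adj_mem_of_isAdjointClosedFor hF K hadj b hb
  have hc' := adj_mem_of_isAdjointClosedFor hF K hadj c hc
  have hd' := adj_mem_of_isAdjointClosedFor hF K hadj d hd
  have e1 : 𝔥 (a *ᵥ u) (c *ᵥ u) = 0 := by
    rw [← herm_mulVec_right hF, Matrix.mulVec_mulVec]
    exact huv.iso_u _ (K.mul_mem hc' ha)
  have e2 : 𝔥 (a *ᵥ u) (d *ᵥ v) = 𝔥 ((adj hF d * a) *ᵥ u) v := by
    rw [← herm_mulVec_right hF, Matrix.mulVec_mulVec]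
  have e3 : 𝔥 (b *ᵥ v) (d *ᵥ v) = 0 := by
    rw [← herm_mulVec_right hF, Matrix.mulVec_mulVec]
    exact huv.iso_v _ (K.mul_mem hd' hb)
  have e4 : 𝔥 (b *ᵥ v) (c *ᵥ u) = 𝔥 ((adj hF c * b) *ᵥ u) v := by
    rw [← hermForm_conj hF, ← herm_mulVec_right hF, Matrix.mulVec_mulVec,
      ← k3_tau_adj hF K hadj u v huv _ (K.mul_mem hb' hc), adj_mul, adj_adj]
  rw [hermForm_add_left, hermForm_add_right hF, hermForm_add_right hF, e1, e2, e3, e4, zero_add,
    add_zero]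

theorem k3_nondeg (hF : Fintype.card F = 2 ^ 2) (K : Subalgebra F Mat) (hK : IsFieldSubalgebra 3 K)
    (hadj : IsAdjointClosedFor 𝔥 K) (u v : Fin 6 → F) (huv : IsHypPair K u v) (z : Mat) (hz : z ∈ K)
    (h : ∀ k ∈ K, 𝔥 ((k * z) *ᵥ u) v = 0) : z = 0 := by
  by_contra hz0
  have h1 : z *ᵥ u = 0 := by
    apply eq_zero_of_herm_left hF
    intro x
    obtain ⟨a, ha, b, hb, rfl⟩ := huv.span x
    have ha' := adj_mem_of_isAdjointClosedFor hF K hadj a ha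
    have hb' := adj_mem_of_isAdjointClosedFor hF K hadj b hb
    rw [hermForm_add_right hF, ← herm_mulVec_right hF, ← herm_mulVec_right hF (M := b),
      Matrix.mulVec_mulVec, Matrix.mulVec_mulVec, huv.iso_u _ (K.mul_mem ha' hz), h _ hb', add_zero]
  have hu : u = 0 := Cfsg.Agent.Lib.Helper99.FieldSub.eq_zero_of_mulVec_eq_zero K hK hz hz0 h1
  have h2 := huv.pair 1 K.one_mem
  rw [Matrix.one_mulVec, hu, herm_zero_left, zero_smul] at h2
  have h3 := congrFun (congrFun h2 0) 0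
  have h4 := k3_two_eq_zero hF
  simp at h3
  apply one_ne_zero (α := F)
  linear_combination 2 * h4 + h3

theorem k3_tau_conj (K : Subalgebra F Mat) (u v : Fin 6 → F) (huv : IsHypPair K u v)
    (g : GL (Fin 6) F) (k : Mat) (hk : k ∈ K)
    (hk' : ((g⁻¹ : GL (Fin 6) F) : Mat) * k * (g : Mat) ∈ K) :
    𝔥 ((((g⁻¹ : GL (Fin 6) F) : Mat) * k * (g : Mat)) *ᵥ u) v = 𝔥 (k *ᵥ u) v := by
  have h1 := huv.pair k hk
  have h2 := huv.pair _ hk'
  have h3 : (𝔥 ((((g⁻¹ : GL (Fin 6) F) : Mat) * k * (g : Mat)) *ᵥ u) v) • (1 : Mat) =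
      (𝔥 (k *ᵥ u) v) • (1 : Mat) := by
    rw [h2, Units.conj_pow', Units.conj_pow', ← add_mul, ← add_mul, ← mul_add, ← mul_add, ← h1]
    simp
  have := congrFun (congrFun h3 0) 0
  simpa using this

theorem k3_adj_mul_self (hF : Fintype.card F = 2 ^ 2) (g : GL (Fin 6) F) (hgU : g ∈ GU 6 F 2) :
    adj hF (g : Mat) * (g : Mat) = 1 := by
  have hGU := (Cfsg.Agent.Lib.Helper19.mem_GU_iff g).mp hgU
  rw [Matrix.ext_iff_mulVec]
  intro y
  rw [Matrix.one_mulVec, ← Matrix.mulVec_mulVec]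
  have h0 : adj hF (g : Mat) *ᵥ ((g : Mat) *ᵥ y) - y = 0 := by
    apply eq_zero_of_herm_right hF
    intro x
    rw [herm_sub_right hF, ← herm_mulVec_left hF, hGU, sub_self]
  exact sub_eq_zero.mp h0

/-- **K-SU6-K3**. -/
theorem normalizer_decomp (hF : Fintype.card F = 2 ^ 2) (K : Subalgebra F (Matrix (Fin 6) (Fin 6) F))
    (hK : IsFieldSubalgebra 3 K) (hadj : IsAdjointClosedFor (hermForm 6 F 2) K)
    (u v : Fin 6 → F) (huv : IsHypPair K u v) (g : GL (Fin 6) F) (hgN : g ∈ subalgebraNormalizer K)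
    (hgU : g ∈ GU 6 F 2) :
    ∃ l ∈ K, l * adj hF l = 1 ∧
      ∀ x, InV0 hF K u v x → ∃ y, InV0 hF K u v y ∧ (g : Matrix (Fin 6) (Fin 6) F) *ᵥ x = l *ᵥ y := by
  classical
  let _ : Field ↥K := (Cfsg.Agent.Lib.Helper99.FieldSub.isField K hK).toField
  have h2F := k3_two_eq_zero hF
  have hmem := adj_mem_of_isAdjointClosedFor hF K hadj
  have hconj : ∀ k ∈ K, (g : Mat) * k * ((g⁻¹ : GL (Fin 6) F) : Mat) ∈ K := fun k hk => (hgN k).mp hk
  have hconj' : ∀ k ∈ K, ((g⁻¹ : GL (Fin 6) F) : Mat) * k * (g : Mat) ∈ K := by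
    intro k hk
    rw [hgN]
    have h1 : (g : Mat) * (((g⁻¹ : GL (Fin 6) F) : Mat) * k * (g : Mat)) * ((g⁻¹ : GL (Fin 6) F) : Mat) = k := by
      rw [mul_assoc, mul_assoc, Units.mul_inv, mul_one, Units.mul_inv_cancel_left]
    rw [h1]
    exact hk
  obtain ⟨α, hα, γ, hγ, hgu⟩ := huv.span ((g : Mat) *ᵥ u)
  obtain ⟨β, hβ, δ, hδ, hgv⟩ := huv.span ((g : Mat) *ᵥ v)
  have hGU := (Cfsg.Agent.Lib.Helper19.mem_GU_iff g).mp hgU
  have hkg : ∀ (k : Mat) (w : Fin 6 → F), k *ᵥ ((g : Mat) *ᵥ w) =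
      (g : Mat) *ᵥ ((((g⁻¹ : GL (Fin 6) F) : Mat) * k * (g : Mat)) *ᵥ w) := by
    intro k w
    rw [Matrix.mulVec_mulVec, Matrix.mulVec_mulVec, mul_assoc, Units.mul_inv_cancel_left]
  have E1 : ∀ k ∈ K, 𝔥 (k *ᵥ ((g : Mat) *ᵥ u)) ((g : Mat) *ᵥ u) = 0 := by
    intro k hk
    rw [hkg, hGU]
    exact huv.iso_u _ (hconj' k hk)
  have E2 : ∀ k ∈ K, 𝔥 (k *ᵥ ((g : Mat) *ᵥ v)) ((g : Mat) *ᵥ v) = 0 := by
    intro k hk
    rw [hkg, hGU]
    exact huv.iso_v _ (hconj' k hk)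
  have E3 : ∀ k ∈ K, 𝔥 (k *ᵥ ((g : Mat) *ᵥ u)) ((g : Mat) *ᵥ v) = 𝔥 (k *ᵥ u) v := by
    intro k hk
    rw [hkg, hGU]
    exact k3_tau_conj K u v huv g k hk (hconj' k hk)
  -- the subtype level
  let φ : ↥K → ↥K := fun k => ⟨adj hF k.1, hmem k.1 k.2⟩
  let τ : ↥K → F := fun k => 𝔥 (k.1 *ᵥ u) v
  have hφmul : ∀ x y : ↥K, φ (x * y) = φ x * φ y := by
    intro x y
    apply Subtype.ext
    show adj hF (x.1 * y.1) = adj hF x.1 * adj hF y.1
    rw [adj_mul]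
    exact hK.comm _ (hmem _ y.2) _ (hmem _ x.2)
  have hφadd : ∀ x y : ↥K, φ (x + y) = φ x + φ y := fun x y => Subtype.ext (k3_adj_add hF x.1 y.1)
  have hφone : φ 1 = 1 := Subtype.ext (k3_adj_one hF)
  have hφφ : ∀ x : ↥K, φ (φ x) = x := fun x => Subtype.ext (adj_adj hF x.1)
  have h64 : ∀ x : ↥K, x ^ 64 = x := by
    intro x
    apply Subtype.ext
    show x.1 ^ 64 = x.1
    have h1 := Cfsg.Agent.Lib.Helper99.FieldSub.pow_card_pow K hK x.2
    have h3 : Fintype.card F ^ 3 = 64 := by rw [hF]; norm_num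
    rwa [h3] at h1
  have hchar : ∀ x : ↥K, x + x = 0 := by
    intro x
    apply Subtype.ext
    show x.1 + x.1 = 0
    rw [← two_smul F x.1, h2F, zero_smul]
  have τ_add : ∀ a b : ↥K, τ (a + b) = τ a + τ b := by
    intro a b
    show 𝔥 ((a.1 + b.1) *ᵥ u) v = 𝔥 (a.1 *ᵥ u) v + 𝔥 (b.1 *ᵥ u) v
    rw [Matrix.add_mulVec, hermForm_add_left]
  have τ_nd : ∀ z : ↥K, (∀ k : ↥K, τ (k * z) = 0) → z = 0 := by
    intro z hz
    apply Subtype.ext
    exact k3_nondeg hF K hK hadj u v huv z.1 z.2 (fun k hk => hz ⟨k, hk⟩)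
  have CF : ∀ a b c d : ↥K, 𝔥 (a.1 *ᵥ u + b.1 *ᵥ v) (c.1 *ᵥ u + d.1 *ᵥ v) =
      τ (φ d * a + φ c * b) := by
    intro a b c d
    rw [τ_add]
    exact k3_cf hF K hadj u v huv a.1 b.1 c.1 d.1 a.2 b.2 c.2 d.2
  let αs : ↥K := ⟨α, hα⟩
  let βs : ↥K := ⟨β, hβ⟩
  let γs : ↥K := ⟨γ, hγ⟩
  let δs : ↥K := ⟨δ, hδ⟩
  have R1 : αs * φ γs + γs * φ αs = 0 := by
    apply τ_nd
    intro k
    have h1 := E1 k.1 k.2
    rw [hgu, Matrix.mulVec_add, Matrix.mulVec_mulVec, Matrix.mulVec_mulVec] at h1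
    have h2 := CF (k * αs) (k * γs) αs γs
    have h3 : φ γs * (k * αs) + φ αs * (k * γs) = k * (αs * φ γs + γs * φ αs) := by ring
    rw [← h3, ← h2]
    exact h1
  have R2 : βs * φ δs + δs * φ βs = 0 := by
    apply τ_nd
    intro k
    have h1 := E2 k.1 k.2
    rw [hgv, Matrix.mulVec_add, Matrix.mulVec_mulVec, Matrix.mulVec_mulVec] at h1
    have h2 := CF (k * βs) (k * δs) βs δs
    have h3 : φ δs * (k * βs) + φ βs * (k * δs) = k * (βs * φ δs + δs * φ βs) := by ring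
    rw [← h3, ← h2]
    exact h1
  have R3 : αs * φ δs + γs * φ βs = 1 := by
    have h0 : αs * φ δs + γs * φ βs - 1 = 0 := by
      apply τ_nd
      intro k
      have h1 := E3 k.1 k.2
      rw [hgu, hgv, Matrix.mulVec_add, Matrix.mulVec_mulVec, Matrix.mulVec_mulVec] at h1
      have h2 := CF (k * αs) (k * γs) βs δs
      have h3 : φ δs * (k * αs) + φ βs * (k * γs) = k * (αs * φ δs + γs * φ βs - 1) + k := by ring
      have h4 : τ (k * (αs * φ δs + γs * φ βs - 1)) + τ k = τ k := by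
        rw [← τ_add, ← h3, ← h2]
        exact h1
      linear_combination h4
    linear_combination h0
  have h1 : φ (αs * φ γs) = αs * φ γs := by
    rw [hφmul, hφφ]
    have := hchar (γs * φ αs)
    linear_combination (-1 : ↥K) * R1 + this
  have h2 : φ (βs * φ δs) = βs * φ δs := by
    rw [hφmul, hφφ]
    have := hchar (δs * φ βs)
    linear_combination (-1 : ↥K) * R2 + this
  obtain ⟨l, α', β', γ', δ', hl, hα', hβ', hγ', hδ', eα, eβ, eγ, eδ⟩ :=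
    su6k3_one_line φ hφmul hφadd hφone hφφ h64 αs βs γs δs h1 h2 R3
  refine ⟨l.1, l.2, congrArg Subtype.val hl, ?_⟩
  rintro x ⟨a, b, ha, hb, rfl⟩
  -- conjugates of `a`, `b`
  have hgadj : adj hF (g : Mat) = ((g⁻¹ : GL (Fin 6) F) : Mat) := by
    have h5 := k3_adj_mul_self hF g hgU
    calc adj hF (g : Mat) = adj hF (g : Mat) * ((g : Mat) * ((g⁻¹ : GL (Fin 6) F) : Mat)) := by
          rw [Units.mul_inv, mul_one]
      _ = ((g⁻¹ : GL (Fin 6) F) : Mat) := by rw [← mul_assoc, h5, one_mul]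
  have hgadj' : adj hF ((g⁻¹ : GL (Fin 6) F) : Mat) = (g : Mat) := by rw [← hgadj, adj_adj]
  have hSAconj : ∀ c : Mat, IsSA hF K c →
      adj hF ((g : Mat) * c * ((g⁻¹ : GL (Fin 6) F) : Mat)) = (g : Mat) * c * ((g⁻¹ : GL (Fin 6) F) : Mat) := by
    intro c hc
    rw [adj_mul, adj_mul, hgadj, hgadj', hc.2, mul_assoc]
  let as : ↥K := ⟨(g : Mat) * a * ((g⁻¹ : GL (Fin 6) F) : Mat), hconj a ha.1⟩
  let bs : ↥K := ⟨(g : Mat) * b * ((g⁻¹ : GL (Fin 6) F) : Mat), hconj b hb.1⟩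
  have has : φ as = as := Subtype.ext (hSAconj a ha)
  have hbs : φ bs = bs := Subtype.ext (hSAconj b hb)
  let y1 : ↥K := as * α' + bs * β'
  let y2 : ↥K := as * γ' + bs * δ'
  have hy1 : φ y1 = y1 := by
    show φ (as * α' + bs * β') = as * α' + bs * β'
    rw [hφadd, hφmul, hφmul, has, hbs, hα', hβ']
  have hy2 : φ y2 = y2 := by
    show φ (as * γ' + bs * δ') = as * γ' + bs * δ'
    rw [hφadd, hφmul, hφmul, has, hbs, hγ', hδ']
  have e1 : as * αs + bs * βs = l * y1 := by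
    show as * αs + bs * βs = l * (as * α' + bs * β')
    rw [eα, eβ]; ring
  have e2 : as * γs + bs * δs = l * y2 := by
    show as * γs + bs * δs = l * (as * γ' + bs * δ')
    rw [eγ, eδ]; ring
  refine ⟨y1.1 *ᵥ u + y2.1 *ᵥ v, ⟨y1.1, y2.1, ⟨y1.2, congrArg Subtype.val hy1⟩,
    ⟨y2.2, congrArg Subtype.val hy2⟩, rfl⟩, ?_⟩
  have e1' : as.1 * α + bs.1 * β = l.1 * y1.1 := congrArg Subtype.val e1
  have e2' : as.1 * γ + bs.1 * δ = l.1 * y2.1 := congrArg Subtype.val e2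
  calc (g : Mat) *ᵥ (a *ᵥ u + b *ᵥ v)
      = as.1 *ᵥ ((g : Mat) *ᵥ u) + bs.1 *ᵥ ((g : Mat) *ᵥ v) := by
        rw [Matrix.mulVec_add, Matrix.mulVec_mulVec, Matrix.mulVec_mulVec, Matrix.mulVec_mulVec,
          Matrix.mulVec_mulVec]
        show ((g : Mat) * a) *ᵥ u + ((g : Mat) * b) *ᵥ v =
          ((g : Mat) * a * ((g⁻¹ : GL (Fin 6) F) : Mat) * (g : Mat)) *ᵥ u +
            ((g : Mat) * b * ((g⁻¹ : GL (Fin 6) F) : Mat) * (g : Mat)) *ᵥ v
        rw [Units.inv_mul_cancel_right, Units.inv_mul_cancel_right]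
    _ = (as.1 * α + bs.1 * β) *ᵥ u + (as.1 * γ + bs.1 * δ) *ᵥ v := by
        rw [hgu, hgv, Matrix.mulVec_add, Matrix.mulVec_add, Matrix.mulVec_mulVec, Matrix.mulVec_mulVec,
          Matrix.mulVec_mulVec, Matrix.mulVec_mulVec, Matrix.add_mulVec, Matrix.add_mulVec]
        abel
    _ = l.1 *ᵥ (y1.1 *ᵥ u + y2.1 *ᵥ v) := by
        rw [e1', e2', Matrix.mulVec_add, Matrix.mulVec_mulVec, Matrix.mulVec_mulVec]

end Cfsg.Agent.Lib.Helper85.SU6K
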