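import Mathlib

set_option autoImplicit false

namespace Cfsg.Agent.Lib.Helper85

open scoped BigOperators

/-- Weighted orbit counting: if `w` is an invariant weight on a finite `G`-set, every orbit of a
non-fixed point has size divisible by `p`, and `p` divides the weight of every fixed point, then
`p` divides the total weight. -/
theorem dvd_sum_of_orbits {G α : Type*} [Group G] [MulAction G α] [Fintype α] (p : ℕ) (w : α → ℕ)
    (hw : ∀ (g : G) (x : α), w (g • x) = w x)
    (horb : ∀ x : α, (∃ g : G, g • x ≠ x) → p ∣ (MulAction.orbit G x).ncard)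
    (hfix : ∀ x : α, (∀ g : G, g • x = x) → p ∣ w x) : p ∣ ∑ x, w x := by
  classical
  have : Fintype (MulAction.orbitRel.Quotient G α) := Fintype.ofFinite _
  rw [← Finset.sum_fiberwise (Finset.univ : Finset α)
    (fun x => (Quotient.mk (MulAction.orbitRel G α) x : MulAction.orbitRel.Quotient G α)) w]
  apply Finset.dvd_sum
  intro q _
  obtain ⟨x₀, rfl⟩ := Quotient.exists_rep q
  have hfiber : Finset.univ.filter (fun x : α => (Quotient.mk (MulAction.orbitRel G α) x :
      MulAction.orbitRel.Quotient G α) = Quotient.mk (MulAction.orbitRel G α) x₀) =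
      (MulAction.orbit G x₀).toFinset := by
    ext x
    simp only [Finset.mem_filter, Finset.mem_univ, true_and, Set.mem_toFinset]
    rw [Quotient.eq]
    exact MulAction.orbitRel_apply
  rw [hfiber]
  have hconst : ∀ x ∈ (MulAction.orbit G x₀).toFinset, w x = w x₀ := by
    intro x hx
    rw [Set.mem_toFinset] at hx
    obtain ⟨g, rfl⟩ := hx
    exact hw g x₀
  rw [Finset.sum_congr rfl hconst, Finset.sum_const, smul_eq_mul]
  by_cases hx₀ : ∀ g : G, g • x₀ = x₀
  · exact Dvd.dvd.mul_left (hfix x₀ hx₀) _
  · push Not at hx₀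
    have := horb x₀ hx₀
    rw [Set.ncard_eq_toFinset_card'] at this
    exact Dvd.dvd.mul_right this _

end Cfsg.Agent.Lib.Helper85
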