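import Mathlib
import Cfsg.Agent.Lib.Helper85.CliffordRel
import Cfsg.Agent.Lib.Helper85.OrbitSum
import Cfsg.Agent.Lib.Helper84.NormalAction

set_option autoImplicit false

namespace Cfsg.Agent.Lib.Helper85

open scoped ComplexConjugate
open Cfsg Cfsg.Agent.Lib.Helper83

universe u

/-- Step B of Dade's theorem: `D` normal of `p`-power index in `E`, `r` and `f` `E`-invariant
characters of `D` with `p ∤ [f r, r]`. Then some `E`-invariant irreducible character `ξ` of `D` has
multiplicity prime to `p` in `r`. -/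
theorem exists_invariant_constituent {E : Type u} [Group E] [Fintype E] (p : ℕ) (hp : p.Prime)
    (D : Subgroup E) [hD : D.Normal] [Fintype D] (hind : ∃ k : ℕ, D.index = p ^ k)
    (r f : D → ℂ) (hr : IsCharacter D r) (hf : IsCharacter D f)
    (hrinv : ∀ (g : E) (x : D), r ⟨g * x * g⁻¹, hD.conj_mem x x.2 g⟩ = r x)
    (hfinv : ∀ (g : E) (x : D), f ⟨g * x * g⁻¹, hD.conj_mem x x.2 g⟩ = f x)
    (I : ℕ) (hI : classInner (f * r) r = I) (hpI : ¬ p ∣ I) :
    ∃ ξ : D → ℂ, IsIrrCharacter D ξ ∧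
      (∀ (g : E) (x : D), ξ ⟨g * x * g⁻¹, hD.conj_mem x x.2 g⟩ = ξ x) ∧
      ∃ m : ℕ, ¬ p ∣ m ∧ classInner r ξ = m := by
  classical
  let _ := Cfsg.Agent.Lib.Helper84.irrAction D
  have : Fintype (IrrCharacter D) := Fintype.ofFinite _
  -- multiplicities
  set a : IrrCharacter D → ℕ := fun ξ => irrMult r ξ with ha
  have hacast : ∀ ξ : IrrCharacter D, (a ξ : ℂ) = classInner r (ξ : D → ℂ) := fun ξ =>
    irrMult_cast hr ξ
  have hbex : ∀ ξ : IrrCharacter D, ∃ n : ℕ, classInner (f * (ξ : D → ℂ)) r = n := fun ξ =>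
    classInner_char_nat (isCharacter_mul hf (IrrCharacter_isCharacter ξ)) hr
  choose b hb using hbex
  have hdecomp : r = ∑ ξ : IrrCharacter D, (a ξ : ℂ) • (ξ : D → ℂ) := char_eq_sum_irrMult hr
  have hfr : f * r = ∑ ξ : IrrCharacter D, (a ξ : ℂ) • (f * (ξ : D → ℂ)) := by
    conv_lhs => rw [hdecomp]
    rw [Finset.mul_sum]
    apply Finset.sum_congr rfl
    intro ξ _
    funext x
    simp only [Pi.mul_apply, Pi.smul_apply, smul_eq_mul]
    ring
  have hIsum : I = ∑ ξ : IrrCharacter D, a ξ * b ξ := by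
    have h1 : (I : ℂ) = ((∑ ξ : IrrCharacter D, a ξ * b ξ : ℕ) : ℂ) := by
      rw [← hI, hfr, classInner_sum_left]
      push_cast
      apply Finset.sum_congr rfl
      intro ξ _
      rw [classInner_smul_left, hb]
    exact_mod_cast h1
  -- invariance under the action
  have hact : ∀ (g : E) (ξ : IrrCharacter D) (k : D),
      ((g • ξ : IrrCharacter D) : D → ℂ) k =
        (ξ : D → ℂ) ((MulAut.conjNormal g⁻¹ : MulAut D) k) := fun g ξ k => rfl
  have hrα : ∀ (g : E) (k : D), r ((MulAut.conjNormal g : MulAut D) k) = r k := by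
    intro g k
    exact hrinv g k
  have hfα : ∀ (g : E) (k : D), f ((MulAut.conjNormal g : MulAut D) k) = f k := by
    intro g k
    exact hfinv g k
  have hainv : ∀ (g : E) (ξ : IrrCharacter D), a (g • ξ) = a ξ := by
    intro g ξ
    have h1 : (a (g • ξ) : ℂ) = (a ξ : ℂ) := by
      rw [hacast, hacast]
      have h2 := classInner_comp_mulEquiv (MulAut.conjNormal g⁻¹ : MulAut D) r (ξ : D → ℂ)
      rw [← h2]
      congr 1
      · funext k
        exact (hrα g⁻¹ k).symm
    exact_mod_cast h1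
  have hbinv : ∀ (g : E) (ξ : IrrCharacter D), b (g • ξ) = b ξ := by
    intro g ξ
    have h1 : (b (g • ξ) : ℂ) = (b ξ : ℂ) := by
      rw [← hb, ← hb]
      have h2 := classInner_comp_mulEquiv (MulAut.conjNormal g⁻¹ : MulAut D)
        (f * (ξ : D → ℂ)) r
      rw [← h2]
      congr 1
      · funext k
        simp only [Pi.mul_apply]
        rw [hact, hfα g⁻¹ k]
      · funext k
        exact (hrα g⁻¹ k).symm
    exact_mod_cast h1
  -- orbit sizes
  obtain ⟨k, hk⟩ := hind
  have hDstab : ∀ ξ : IrrCharacter D, D ≤ MulAction.stabilizer E ξ := by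
    intro ξ d hd
    rw [MulAction.mem_stabilizer_iff]
    apply Subtype.ext
    funext x
    rw [hact]
    have hcl := char_isClassFunction (IrrCharacter_isCharacter ξ)
    have := hcl x ⟨d⁻¹, D.inv_mem hd⟩
    rw [← this]
    congr 1
  have horb : ∀ ξ : IrrCharacter D, (∃ g : E, g • ξ ≠ ξ) →
      p ∣ (MulAction.orbit E ξ).ncard := by
    intro ξ ⟨g, hg⟩
    rw [← MulAction.index_stabilizer]
    have hdvd : (MulAction.stabilizer E ξ).index ∣ p ^ k := by
      rw [← hk]
      exact Subgroup.index_dvd_of_le (hDstab ξ)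
    obtain ⟨j, -, hj⟩ := (Nat.dvd_prime_pow hp).mp hdvd
    rw [hj]
    rcases Nat.eq_zero_or_pos j with h0 | hpos
    · exfalso
      rw [h0, pow_zero, Subgroup.index_eq_one] at hj
      apply hg
      have : g ∈ MulAction.stabilizer E ξ := by rw [hj]; exact Subgroup.mem_top g
      exact MulAction.mem_stabilizer_iff.mp this
    · exact dvd_pow_self p hpos.ne'
  -- main counting
  by_contra hcon
  push Not at hcon
  apply hpI
  rw [hIsum]
  apply dvd_sum_of_orbits (G := E) p (fun ξ => a ξ * b ξ)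
  · intro g ξ
    simp only [hainv, hbinv]
  · exact horb
  · intro ξ hξ
    apply Dvd.dvd.mul_right
    by_contra hnd
    have hinvξ : ∀ (g : E) (x : D), (ξ : D → ℂ) ⟨g * x * g⁻¹, hD.conj_mem x x.2 g⟩ =
        (ξ : D → ℂ) x := by
      intro g x
      have h1 := hξ g⁻¹
      have h2 : ((g⁻¹ • ξ : IrrCharacter D) : D → ℂ) x = (ξ : D → ℂ) x := by rw [h1]
      rw [hact, inv_inv] at h2
      exact h2
    exact hcon ξ.1 ξ.2 hinvξ (a ξ) hnd (hacast ξ).symm

section StepA

variable {G : Type u} [Group G]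

/-- `|ϑ|²` extended by zero: a real class function supported on `N`. -/
noncomputable def sqExt (N : Subgroup G) (ϑ : N → ℂ) : G → ℂ :=
  fun g => extendByZero N ϑ g * conj (extendByZero N ϑ g)

theorem sqExt_conj (N : Subgroup G) (ϑ : N → ℂ) (g : G) :
    conj (sqExt N ϑ g) = sqExt N ϑ g := by
  unfold sqExt
  rw [map_mul, Complex.conj_conj, mul_comm]

theorem extendByZero_conj_invariant (N : Subgroup G) [hN : N.Normal] (ϑ : N → ℂ)
    (hinv : ∀ (g : G) (n : N), ϑ ⟨g * n * g⁻¹, hN.conj_mem n n.2 g⟩ = ϑ n) (g h : G) :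
    extendByZero N ϑ (h * g * h⁻¹) = extendByZero N ϑ g := by
  by_cases hg : g ∈ N
  · rw [Cfsg.Agent.Lib.Helper04.extendByZero_apply_of_mem N ϑ _ (hN.conj_mem g hg h),
      Cfsg.Agent.Lib.Helper04.extendByZero_apply_of_mem N ϑ _ hg]
    exact hinv h ⟨g, hg⟩
  · have hg' : h * g * h⁻¹ ∉ N := by
      intro hc
      apply hg
      have := hN.conj_mem _ hc h⁻¹
      simpa [mul_assoc] using this
    rw [Cfsg.Agent.Lib.Helper04.extendByZero_apply_not_mem N ϑ _ hg',
      Cfsg.Agent.Lib.Helper04.extendByZero_apply_not_mem N ϑ _ hg]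

theorem sqExt_isClassFunction (N : Subgroup G) [hN : N.Normal] (ϑ : N → ℂ)
    (hinv : ∀ (g : G) (n : N), ϑ ⟨g * n * g⁻¹, hN.conj_mem n n.2 g⟩ = ϑ n) :
    IsClassFunction G (sqExt N ϑ) := by
  intro g h
  unfold sqExt
  rw [extendByZero_conj_invariant N ϑ hinv g h]

theorem classInner_const_sqExt [Fintype G] (N : Subgroup G) [Fintype N] (ϑ : N → ℂ)
    (hϑ : IsIrrCharacter N ϑ) (c : ℂ) :
    classInner (fun _ : G => c) (sqExt N ϑ) = c * (N.index : ℂ)⁻¹ := by
  rw [classInner_def]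
  have h1 : ∑ g : G, c * conj (sqExt N ϑ g) = c * ∑ n : N, ϑ n * conj (ϑ n) := by
    rw [← Finset.mul_sum]
    congr 1
    have := Cfsg.Agent.Lib.Helper04.sum_extendByZero_mul N ϑ
      (fun g => conj (extendByZero N ϑ g))
    simp only [sqExt_conj]
    unfold sqExt
    rw [this]
    apply Finset.sum_congr rfl
    intro n _
    rw [Cfsg.Agent.Lib.Helper04.extendByZero_apply_mem]
  rw [h1]
  have h2 : ∑ n : N, ϑ n * conj (ϑ n) = (Nat.card N : ℂ) := by
    have h3 := irr_inner_self (⟨ϑ, hϑ⟩ : IrrCharacter N)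
    rw [classInner_def] at h3
    have h4 : (Nat.card N : ℂ) ≠ 0 := by exact_mod_cast Nat.card_pos.ne'
    field_simp at h3
    exact h3
  rw [h2]
  have h5 : (Nat.card N : ℂ) * (N.index : ℂ) = (Nat.card G : ℂ) := by
    exact_mod_cast N.card_mul_index
  have h6 : (Nat.card G : ℂ) ≠ 0 := by exact_mod_cast Nat.card_pos.ne'
  have h7 : (N.index : ℂ) ≠ 0 := by
    intro h
    rw [h, mul_zero] at h5
    exact h6 h5.symm
  have h8 : (Nat.card N : ℂ) ≠ 0 := by exact_mod_cast Nat.card_pos.ne'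
  rw [← h5]
  field_simp

theorem classInner_indFun_sqExt [Fintype G] (N : Subgroup G) [hN : N.Normal] (ϑ : N → ℂ)
    (hinv : ∀ (g : G) (n : N), ϑ ⟨g * n * g⁻¹, hN.conj_mem n n.2 g⟩ = ϑ n)
    (E : Subgroup G) [Fintype E] [Fintype (N.subgroupOf E)] (φ : E → ℂ) :
    classInner (indFun E φ) (sqExt N ϑ) = ((N.relIndex E : ℕ) : ℂ)⁻¹ *
      classInner (fun d : N.subgroupOf E => φ d * ϑ ⟨((d : E) : G), Subgroup.mem_subgroupOf.mp d.2⟩)
        (fun d : N.subgroupOf E => ϑ ⟨((d : E) : G), Subgroup.mem_subgroupOf.mp d.2⟩) := by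
  classical
  rw [Cfsg.Agent.Lib.Helper04.frobenius_reciprocity E φ _ (sqExt_isClassFunction N ϑ hinv)]
  set r' : N.subgroupOf E → ℂ :=
    fun d => ϑ ⟨((d : E) : G), Subgroup.mem_subgroupOf.mp d.2⟩ with hr'
  have hB : ∀ h : E, sqExt N ϑ (h : G) =
      extendByZero (N.subgroupOf E) r' h * conj (extendByZero (N.subgroupOf E) r' h) := by
    intro h
    unfold sqExt
    by_cases hh : h ∈ N.subgroupOf E
    · rw [Cfsg.Agent.Lib.Helper04.extendByZero_apply_of_mem (N.subgroupOf E) r' h hh,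
        Cfsg.Agent.Lib.Helper04.extendByZero_apply_of_mem N ϑ _ (Subgroup.mem_subgroupOf.mp hh)]
    · have hh' : (h : G) ∉ N := fun hc => hh (Subgroup.mem_subgroupOf.mpr hc)
      rw [Cfsg.Agent.Lib.Helper04.extendByZero_apply_not_mem (N.subgroupOf E) r' h hh,
        Cfsg.Agent.Lib.Helper04.extendByZero_apply_not_mem N ϑ _ hh']
  rw [classInner_def, classInner_def]
  have h1 : ∑ h : E, φ h * conj (sqExt N ϑ (h : G)) =
      ∑ d : N.subgroupOf E, φ d * r' d * conj (r' d) := by
    have h2 : ∀ h : E, φ h * conj (sqExt N ϑ (h : G)) =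
        extendByZero (N.subgroupOf E) r' h *
          (φ h * conj (extendByZero (N.subgroupOf E) r' h)) := by
      intro h
      rw [sqExt_conj, hB]
      ring
    rw [Finset.sum_congr rfl (fun h _ => h2 h),
      Cfsg.Agent.Lib.Helper04.sum_extendByZero_mul (N.subgroupOf E) r'
        (fun h => φ h * conj (extendByZero (N.subgroupOf E) r' h))]
    apply Finset.sum_congr rfl
    intro d _
    rw [Cfsg.Agent.Lib.Helper04.extendByZero_apply_mem]
    ring
  rw [h1]
  have h5 : (Nat.card (N.subgroupOf E) : ℂ) * ((N.relIndex E : ℕ) : ℂ) = (Nat.card E : ℂ) := by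
    have := (N.subgroupOf E).card_mul_index
    rw [Subgroup.relIndex]
    exact_mod_cast this
  have h6 : (Nat.card E : ℂ) ≠ 0 := by exact_mod_cast Nat.card_pos.ne'
  have h7 : ((N.relIndex E : ℕ) : ℂ) ≠ 0 := by
    intro h
    rw [h, mul_zero] at h5
    exact h6 h5.symm
  have h8 : (Nat.card (N.subgroupOf E) : ℂ) ≠ 0 := by exact_mod_cast Nat.card_pos.ne'
  rw [← h5]
  field_simp
  rfl

theorem classInner_list_sum [Fintype G] {ι : Type*} (l : List ι) (F : ι → G → ℂ) (B : G → ℂ) :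
    classInner (l.map F).sum B = (l.map (fun t => classInner (F t) B)).sum := by
  induction l with
  | nil => simp [classInner_zero_left]
  | cons a l ih =>
    rw [List.map_cons, List.sum_cons, classInner_add_left, ih, List.map_cons, List.sum_cons]

end StepA

end Cfsg.Agent.Lib.Helper85
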