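import Mathlib
import Cfsg.Agent.Lib.Helper85.Dade

set_option autoImplicit false

namespace Cfsg.Agent.Lib.Helper85

open scoped ComplexConjugate
open Cfsg Cfsg.Agent.Lib.Helper83

universe u

/-- A homomorphism to `ℂˣ` from a subgroup meeting the commutator subgroup trivially extends to
the whole finite group. -/
theorem exists_hom_extension_of_inf_commutator {E : Type*} [Group E] [Finite E] (D : Subgroup E)
    (hDE : D ⊓ commutator E = ⊥) (φ : D →* ℂˣ) :
    ∃ ψ : E →* ℂˣ, ∀ d : D, ψ d = φ d := by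
  classical
  let f : E →* Abelianization E := Abelianization.of
  let g : D →* Abelianization E := f.comp D.subtype
  have hg : Function.Injective g := by
    rw [injective_iff_map_eq_one]
    intro d hd
    have h1 : (d : E) ∈ commutator E := by
      have : f (d : E) = 1 := hd
      rw [← MonoidHom.mem_ker] at this
      rwa [Abelianization.ker_of] at this
    have h2 : (d : E) ∈ D ⊓ commutator E := ⟨d.2, h1⟩
    rw [hDE, Subgroup.mem_bot] at h2
    exact Subtype.ext h2
  let e : D ≃* g.range := MonoidHom.ofInjective hg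
  let φbar : g.range →* ℂˣ := φ.comp e.symm.toMonoidHom
  have : Finite (Abelianization E) := inferInstance
  have hne : NeZero ((Monoid.exponent (Abelianization E) : ℕ) : ℂ) :=
    ⟨by exact_mod_cast Monoid.exponent_ne_zero_of_finite⟩
  obtain ⟨ψ, hψ⟩ := MonoidHom.domRestrict_surjective (G := Abelianization E) (M := ℂ) g.range φbar
  refine ⟨ψ.comp f, fun d => ?_⟩
  have h3 : ψ (g d) = φbar ⟨g d, ⟨d, rfl⟩⟩ := by
    rw [← hψ]
    rfl
  have h4 : e.symm ⟨g d, ⟨d, rfl⟩⟩ = d := by
    have : e d = ⟨g d, ⟨d, rfl⟩⟩ := rfl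
    rw [← this, MulEquiv.symm_apply_apply]
  change ψ (g d) = φ d
  rw [h3]
  change φ (e.symm ⟨g d, ⟨d, rfl⟩⟩) = φ d
  rw [h4]

variable {G : Type u} [Group G]

/-- Induction of an invariant function from a normal subgroup is the index times its extension
by zero. -/
theorem indFun_of_invariant [Fintype G] (N : Subgroup G) [hN : N.Normal] (ϑ : N → ℂ)
    (hinv : ∀ (g : G) (n : N), ϑ ⟨g * n * g⁻¹, hN.conj_mem n n.2 g⟩ = ϑ n) (g : G) :
    indFun N ϑ g = (N.index : ℂ) * extendByZero N ϑ g := by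
  rw [Cfsg.Agent.Lib.Helper04.indFun_apply]
  have h1 : ∀ x : G, extendByZero N ϑ (x⁻¹ * g * x) = extendByZero N ϑ g := by
    intro x
    have := extendByZero_conj_invariant N ϑ hinv g x⁻¹
    rwa [inv_inv] at this
  rw [Finset.sum_congr rfl (fun x _ => h1 x), Finset.sum_const, Finset.card_univ, nsmul_eq_mul]
  have h5 : (Nat.card N : ℂ) * (N.index : ℂ) = (Nat.card G : ℂ) := by
    exact_mod_cast N.card_mul_index
  have h8 : (Nat.card N : ℂ) ≠ 0 := by exact_mod_cast Nat.card_pos.ne'
  rw [← Nat.card_eq_fintype_card, ← h5]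
  field_simp

/-- Inner product over a subgroup `E` of the restriction of the induced function `ϑ^G` (for
invariant `ϑ` on a normal subgroup) with any function. -/
theorem classInner_restrict_indFun_invariant [Fintype G] (N : Subgroup G) [hN : N.Normal]
    (ϑ : N → ℂ) (hinv : ∀ (g : G) (n : N), ϑ ⟨g * n * g⁻¹, hN.conj_mem n n.2 g⟩ = ϑ n)
    (E : Subgroup G) [Fintype E] [Fintype (N.subgroupOf E)] (Φ : E → ℂ) :
    classInner (fun e : E => indFun N ϑ e) Φ = ((N.index : ℂ) / ((N.relIndex E : ℕ) : ℂ)) *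
      classInner (fun d : N.subgroupOf E => ϑ ⟨((d : E) : G), Subgroup.mem_subgroupOf.mp d.2⟩)
        (fun d : N.subgroupOf E => Φ d) := by
  classical
  set r' : N.subgroupOf E → ℂ :=
    fun d => ϑ ⟨((d : E) : G), Subgroup.mem_subgroupOf.mp d.2⟩ with hr'
  have hB : ∀ h : E, extendByZero N ϑ (h : G) = extendByZero (N.subgroupOf E) r' h := by
    intro h
    by_cases hh : h ∈ N.subgroupOf E
    · rw [Cfsg.Agent.Lib.Helper04.extendByZero_apply_of_mem (N.subgroupOf E) r' h hh,
        Cfsg.Agent.Lib.Helper04.extendByZero_apply_of_mem N ϑ _ (Subgroup.mem_subgroupOf.mp hh)]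
    · have hh' : (h : G) ∉ N := fun hc => hh (Subgroup.mem_subgroupOf.mpr hc)
      rw [Cfsg.Agent.Lib.Helper04.extendByZero_apply_not_mem (N.subgroupOf E) r' h hh,
        Cfsg.Agent.Lib.Helper04.extendByZero_apply_not_mem N ϑ _ hh']
  rw [classInner_def, classInner_def]
  have h1 : ∑ h : E, indFun N ϑ (h : G) * conj (Φ h) =
      (N.index : ℂ) * ∑ d : N.subgroupOf E, r' d * conj (Φ d) := by
    have h2 : ∀ h : E, indFun N ϑ (h : G) * conj (Φ h) =
        (N.index : ℂ) * (extendByZero (N.subgroupOf E) r' h * conj (Φ h)) := by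
      intro h
      rw [indFun_of_invariant N ϑ hinv, hB]
      ring
    rw [Finset.sum_congr rfl (fun h _ => h2 h), ← Finset.mul_sum,
      Cfsg.Agent.Lib.Helper04.sum_extendByZero_mul (N.subgroupOf E) r' (fun h => conj (Φ h))]
  rw [h1]
  have h5 : (Nat.card (N.subgroupOf E) : ℂ) * ((N.relIndex E : ℕ) : ℂ) = (Nat.card E : ℂ) := by
    have := (N.subgroupOf E).card_mul_index
    rw [Subgroup.relIndex]
    exact_mod_cast this
  have h6 : (Nat.card E : ℂ) ≠ 0 := by exact_mod_cast Nat.card_pos.ne'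
  have h7 : ((N.relIndex E : ℕ) : ℂ) ≠ 0 := by
    intro h
    rw [h, mul_zero] at h5
    exact h6 h5.symm
  have h8 : (Nat.card (N.subgroupOf E) : ℂ) ≠ 0 := by exact_mod_cast Nat.card_pos.ne'
  rw [← h5]
  field_simp

end Cfsg.Agent.Lib.Helper85
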