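import Mathlib
import Cfsg.Prelude.Def_BrauerPairs
import Cfsg.Agent.Lib.Helper81.BPDefect
import Cfsg.Agent.Lib.Helper81.BPStabDefect
import Cfsg.Agent.Lib.Helper22.DefectConj
import Cfsg.Agent.S4491
import Cfsg.Agent.S0941
import Cfsg.Agent.Lib.Helper04.CoprimeDegree

set_option autoImplicit false
set_option linter.unusedSectionVars false
set_option linter.style.haveILetI false

/-!
# Brauer pairs above a pair `(Q, f)` whose subgroup centralizes `Q`

For `Q ≤ P ≤ C_G(Q)` (for instance `P` abelian) a Brauer pair `(P, e)` of `G` above `(Q, f)` is the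
same thing as a Brauer pair of the block `f` of the group `H = C_G(Q)`.  This is used to show that
the maximal pairs above `(Q, f)` are conjugate under `C_G(Q)`.
-/

namespace Cfsg.Agent.Lib.Helper85.AbelianDefect

open Cfsg
open Cfsg.Agent.Lib.Helper21 Cfsg.Agent.Lib.Helper82 Cfsg.Agent.Lib.Helper83
open Cfsg.Agent.Lib.Helper81

universe u

variable {G : Type u} [Group G] [Fintype G]

local notation "C(" R ")" => Subgroup.centralizer ((R : Subgroup G) : Set G)
local notation "N(" R ")" => Subgroup.normalizer ((R : Subgroup G) : Set G)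

section Transport

variable {P Q : Subgroup G}

/-- the subgroup `P`, read inside `H = C_G(Q)` -/
abbrev subH (P Q : Subgroup G) : Subgroup C(Q) := P.subgroupOf C(Q)

theorem mem_centralizer_subH_iff (hQP : Q ≤ P) (hPC : P ≤ C(Q)) (h : C(Q)) :
    h ∈ Subgroup.centralizer ((subH P Q : Subgroup C(Q)) : Set C(Q)) ↔ (h : G) ∈ C(P) := by
  rw [Subgroup.mem_centralizer_iff, Subgroup.mem_centralizer_iff]
  constructor
  · intro hh u hu
    have := hh ⟨u, hPC hu⟩ (Subgroup.mem_subgroupOf.2 hu)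
    exact congrArg Subtype.val this
  · intro hh u hu
    apply Subtype.ext
    exact hh (u : G) (Subgroup.mem_subgroupOf.1 hu)

/-- For `Q ≤ P ≤ C_G(Q)`: the centralizer of `P` computed inside `H = C_G(Q)` is `C_G(P)`. -/
def centIso (hQP : Q ≤ P) (hPC : P ≤ C(Q)) :
    Subgroup.centralizer ((subH P Q : Subgroup C(Q)) : Set C(Q)) ≃* C(P) where
  toFun y := ⟨((y : C(Q)) : G), (mem_centralizer_subH_iff hQP hPC y.1).1 y.2⟩
  invFun c := ⟨⟨(c : G), Subgroup.centralizer_le hQP c.2⟩,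
    (mem_centralizer_subH_iff hQP hPC ⟨(c : G), Subgroup.centralizer_le hQP c.2⟩).2 c.2⟩
  left_inv y := by apply Subtype.ext; apply Subtype.ext; rfl
  right_inv c := by apply Subtype.ext; rfl
  map_mul' a b := by apply Subtype.ext; rfl

@[simp] theorem centIso_apply (hQP : Q ≤ P) (hPC : P ≤ C(Q))
    (y : Subgroup.centralizer ((subH P Q : Subgroup C(Q)) : Set C(Q))) :
    ((centIso hQP hPC y : C(P)) : G) = ((y : C(Q)) : G) := rfl

/-- a set of characters of `C_G(P)`, read on the centralizer of `P` inside `H = C_G(Q)` -/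
def tb (hQP : Q ≤ P) (hPC : P ≤ C(Q)) (e : Set (IrrCharacter C(P))) :
    Set (IrrCharacter (Subgroup.centralizer ((subH P Q : Subgroup C(Q)) : Set C(Q)))) :=
  {ξ' | irrComp (centIso hQP hPC).symm ξ' ∈ e}

theorem tb_blockOf (M : Ideal AlgInt) (hQP : Q ≤ P) (hPC : P ≤ C(Q)) (ξ₀ : IrrCharacter C(P)) :
    tb hQP hPC (blockOf M (ξ₀ : C(P) → ℂ)) =
      blockOf M (irrComp (centIso hQP hPC) ξ₀ : _ → ℂ) := by
  ext ξ'
  rw [mem_blockOf_irrComp_iff]
  rfl

theorem isPBlock_tb {M : Ideal AlgInt} (hQP : Q ≤ P) (hPC : P ≤ C(Q))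
    {e : Set (IrrCharacter C(P))} (he : IsPBlock M e) : IsPBlock M (tb hQP hPC e) := by
  obtain ⟨ξ₀, rfl⟩ := he
  exact ⟨irrComp (centIso hQP hPC) ξ₀, tb_blockOf M hQP hPC ξ₀⟩

/-- the idempotent of the transported block is the restriction of the idempotent -/
theorem sbc_tb {M : Ideal AlgInt} (hQP : Q ≤ P) (hPC : P ≤ C(Q))
    {e : Set (IrrCharacter C(P))} (he : IsPBlock M e) (h : C(Q)) :
    subgroupBlockCoeff (Subgroup.centralizer ((subH P Q : Subgroup C(Q)) : Set C(Q)))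
      (tb hQP hPC e) h = subgroupBlockCoeff C(P) e (h : G) := by
  classical
  haveI : Fintype C(Q) := Fintype.ofFinite _
  haveI : Fintype C(P) := Fintype.ofFinite _
  haveI : Finite (IrrCharacter C(P)) := irr_finite
  haveI : Fintype (IrrCharacter C(P)) := Fintype.ofFinite _
  haveI : Fintype (Subgroup.centralizer ((subH P Q : Subgroup C(Q)) : Set C(Q))) :=
    Fintype.ofFinite _
  haveI : Finite (IrrCharacter (Subgroup.centralizer ((subH P Q : Subgroup C(Q)) : Set C(Q)))) :=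
    irr_finite
  haveI : Fintype (IrrCharacter
      (Subgroup.centralizer ((subH P Q : Subgroup C(Q)) : Set C(Q)))) := Fintype.ofFinite _
  obtain ⟨ξ₀, rfl⟩ := he
  rw [tb_blockOf]
  by_cases hh : h ∈ Subgroup.centralizer ((subH P Q : Subgroup C(Q)) : Set C(Q))
  · have hh' : (h : G) ∈ C(P) := (mem_centralizer_subH_iff hQP hPC h).1 hh
    rw [sbc_of_mem _ _ hh, sbc_of_mem _ _ hh', blockCoeff_blockOf_irrComp]
    rfl
  · have hh' : (h : G) ∉ C(P) := fun hc => hh ((mem_centralizer_subH_iff hQP hPC h).2 hc)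
    rw [sbc_of_not_mem _ _ hh, sbc_of_not_mem _ _ hh']

/-- the Brauer functional at `P` inside `H = C_G(Q)` of the idempotent of `f` -/
theorem brauerOmega_tb (hQP : Q ≤ P) (hPC : P ≤ C(Q)) (f : Set (IrrCharacter C(Q)))
    (ξ' : IrrCharacter (Subgroup.centralizer ((subH P Q : Subgroup C(Q)) : Set C(Q)))) :
    brauerOmega (subH P Q) (blockCoeff f) (ξ' : _ → ℂ) =
      brauerOmega P (subgroupBlockCoeff C(Q) f)
        (irrComp (centIso hQP hPC).symm ξ' : C(P) → ℂ) := by
  classical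
  haveI : Fintype C(Q) := Fintype.ofFinite _
  haveI : Fintype C(P) := Fintype.ofFinite _
  haveI : Fintype (Subgroup.centralizer ((subH P Q : Subgroup C(Q)) : Set C(Q))) :=
    Fintype.ofFinite _
  haveI : Finite (IrrCharacter C(Q)) := irr_finite
  haveI : Fintype (IrrCharacter C(Q)) := Fintype.ofFinite _
  haveI : Finite (IrrCharacter G) := irr_finite
  haveI : Fintype (IrrCharacter G) := Fintype.ofFinite _
  rw [brauerOmega_eq_omega_rs, brauerOmega_eq_omega_rs]
  rw [← omega_comp (centIso hQP hPC)]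
  congr 1
  · funext y
    show blockCoeff f (y : C(Q)) = subgroupBlockCoeff C(Q) f ((centIso hQP hPC y : C(P)) : G)
    rw [centIso_apply, sbc_of_mem _ _ (y : C(Q)).2]

/-- a pair `(P, e)` above `(Q, f)` with `P ≤ C_G(Q)` is a Brauer pair of the block `f` of
`H = C_G(Q)` -/
theorem isBrauerPairOf_tb {p : ℕ} [Fact p.Prime] {M : Ideal AlgInt} (hMod : IsPModular p M)
    (hQP : Q ≤ P) (hPC : P ≤ C(Q)) {e : Set (IrrCharacter C(P))}
    {f : Set (IrrCharacter C(Q))} (hPe : IsBrauerPair p M P e) (hf : IsPBlock M f)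
    (hle : SubpairLE p M Q f P e) :
    IsBrauerPairOf p M f (subH P Q) (tb hQP hPC e) := by
  classical
  have hM : M.IsPrime := hMod.2.1.isPrime
  haveI : Fintype C(Q) := Fintype.ofFinite _
  haveI : Finite (IrrCharacter C(Q)) := irr_finite
  haveI : Fintype (IrrCharacter C(Q)) := Fintype.ofFinite _
  refine ⟨⟨hPe.1.comap_subtype, isPBlock_tb hQP hPC hPe.2⟩, hf, fun ξ' hξ' => ?_⟩
  rw [brauerOmega_tb hQP hPC f ξ']
  obtain ⟨ξ, hξ⟩ := IsPBlock.nonempty hM hf
  have hεR : ∀ x, MemLocalRing M (subgroupBlockCoeff C(Q) f x) := sbc_memLocalRing _ hM hf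
  have hεC : ConjInv C(Q) (subgroupBlockCoeff C(Q) f) := sbc_conjInv_self C(Q) f
  have h1 := subpairLE_brauerOmega_congr hMod hle hf hεR (hεC.mono hPC) hεC hξ hξ'
  rw [brauerOmega_sbc_self, if_pos hξ] at h1
  exact h1

end Transport

section Claims

variable {p : ℕ} [Fact p.Prime] {M : Ideal AlgInt}

theorem card_subH {P Q : Subgroup G} (hPC : P ≤ C(Q)) : Nat.card (subH P Q) = Nat.card P :=
  Nat.card_congr (Subgroup.subgroupOfEquivOfLe hPC).toEquiv

theorem card_cj (x : G) (K : Subgroup G) : Nat.card (cj x K) = Nat.card K :=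
  Subgroup.card_map_of_injective (MulAut.conj x).injective

/-- **Claim A.** A pair `(P₁, e₁)` above `(Q, f)` with `P₁ ≤ C_G(Q)` whose order is at least the
order of the maximal pairs has `P₁` as a defect group of `f`. -/
theorem isDefectGroup_subH (hMod : IsPModular p M) {B : Set (IrrCharacter G)}
    {P Q P₁ : Subgroup G} {e : Set (IrrCharacter C(P))} {f : Set (IrrCharacter C(Q))}
    {e₁ : Set (IrrCharacter C(P₁))} (hmax : IsMaximalBrauerPair p M B P e)
    (hle : SubpairLE p M Q f P e) (hf : IsPBlock M f) (hP₁ : IsBrauerPair p M P₁ e₁)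
    (hle₁ : SubpairLE p M Q f P₁ e₁) (hPC : P₁ ≤ C(Q)) (hcard : Nat.card P ≤ Nat.card P₁) :
    IsDefectGroup p M f (subH P₁ Q) := by
  classical
  haveI : Fintype C(Q) := Fintype.ofFinite _
  haveI : Finite (IrrCharacter C(Q)) := irr_finite
  haveI : Fintype (IrrCharacter C(Q)) := Fintype.ofFinite _
  have hHst : ConjInv C(Q) (subgroupBlockCoeff C(Q) f) := sbc_conjInv_self C(Q) f
  have hFc : ∀ h : C(Q), blockCoeff f h = subgroupBlockCoeff C(Q) f h :=
    fun h => (sbc_of_mem C(Q) f h.2).symm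
  obtain ⟨D, hD, hDle⟩ := exists_defectGroup_ge hMod hP₁ hle₁ hf le_rfl hHst hf hFc
  obtain ⟨x, -, hx⟩ := exists_conj_defect_le hMod hmax hle hf
    (Subgroup.centralizer_le_normalizer _) hHst hFc hD
  have h1 : Nat.card D ≤ Nat.card P := by
    have h := card_le_card_of_le hx
    rw [card_cj, Subgroup.card_map_of_injective (Subgroup.subtype_injective _)] at h
    exact h
  have h2 : subH P₁ Q ≤ D := fun r hr => hDle (by
    rw [Subgroup.mem_subgroupOf] at hr ⊢
    exact ⟨hr, r.2⟩)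
  have h3 : Nat.card (subH P₁ Q) = Nat.card P₁ := card_subH hPC
  have h4 : subH P₁ Q = D := Subgroup.eq_of_le_of_card_ge h2 (by omega)
  rw [h4]
  exact hD

/-- **Claim B.** Two pairs on the same subgroup `P ≤ C_G(Q)` above `(Q, f)`, with `P` a defect group
of `f`, are conjugate under `C_G(Q) ∩ N_G(P)`. -/
theorem exists_centralizer_conj (hMod : IsPModular p M) {P Q : Subgroup G}
    {e e₃ : Set (IrrCharacter C(P))} {f : Set (IrrCharacter C(Q))}
    (hQP : Q ≤ P) (hPC : P ≤ C(Q)) (hPe : IsBrauerPair p M P e) (hPe₃ : IsBrauerPair p M P e₃)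
    (hf : IsPBlock M f) (hle : SubpairLE p M Q f P e) (hle₃ : SubpairLE p M Q f P e₃)
    (hD : IsDefectGroup p M f (subH P Q)) :
    ∃ n ∈ C(Q), n ∈ N(P) ∧
      subgroupBlockCoeff C(P) e₃ = conjF n (subgroupBlockCoeff C(P) e) := by
  classical
  haveI : Fintype C(Q) := Fintype.ofFinite _
  haveI : Fintype C(P) := Fintype.ofFinite _
  haveI : Finite (IrrCharacter C(P)) := irr_finite
  haveI : Fintype (IrrCharacter C(P)) := Fintype.ofFinite _
  haveI : Finite (IrrCharacter C(Q)) := irr_finite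
  haveI : Fintype (IrrCharacter C(Q)) := Fintype.ofFinite _
  haveI : Fintype (Subgroup.normalizer ((subH P Q : Subgroup C(Q)) : Set C(Q))) :=
    Fintype.ofFinite _
  haveI : Finite (IrrCharacter (Subgroup.normalizer ((subH P Q : Subgroup C(Q)) : Set C(Q)))) :=
    irr_finite
  haveI : Fintype (IrrCharacter (Subgroup.normalizer ((subH P Q : Subgroup C(Q)) : Set C(Q)))) :=
    Fintype.ofFinite _
  haveI : Fintype (Subgroup.centralizer ((subH P Q : Subgroup C(Q)) : Set C(Q))) :=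
    Fintype.ofFinite _
  haveI : Finite (IrrCharacter (Subgroup.centralizer ((subH P Q : Subgroup C(Q)) : Set C(Q)))) :=
    irr_finite
  haveI : Fintype (IrrCharacter (Subgroup.centralizer ((subH P Q : Subgroup C(Q)) : Set C(Q)))) :=
    Fintype.ofFinite _
  obtain ⟨n, hn, heq⟩ := exists_normalizer_conj hMod (isBrauerPairOf_tb hMod hQP hPC hPe hf hle)
    (isBrauerPairOf_tb hMod hQP hPC hPe₃ hf hle₃) hD
  have hCC : C(P) ≤ C(Q) := Subgroup.centralizer_le hQP
  refine ⟨(n : G), n.2, ?_, ?_⟩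
  · rw [Subgroup.mem_normalizer_iff] at hn ⊢
    intro g
    constructor
    · intro hg
      have := (hn ⟨g, hPC hg⟩).1 (Subgroup.mem_subgroupOf.2 hg)
      exact Subgroup.mem_subgroupOf.1 this
    · intro hg
      have hgH : g ∈ C(Q) := by
        have h1 : (n : G) * g * (n : G)⁻¹ ∈ C(Q) := hPC hg
        have := C(Q).mul_mem (C(Q).mul_mem (C(Q).inv_mem n.2) h1) n.2
        simpa [mul_assoc] using this
      have := (hn ⟨g, hgH⟩).2 (Subgroup.mem_subgroupOf.2 hg)
      exact Subgroup.mem_subgroupOf.1 this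
  · funext g
    by_cases hg : g ∈ C(Q)
    · have h1 := congrFun heq ⟨g, hg⟩
      rw [sbc_tb hQP hPC hPe₃.2] at h1
      rw [show subgroupBlockCoeff C(P) e₃ g = subgroupBlockCoeff C(P) e₃ ((⟨g, hg⟩ : C(Q)) : G)
        from rfl, h1]
      show subgroupBlockCoeff _ (tb hQP hPC e) (n⁻¹ * ⟨g, hg⟩ * n) = _
      rw [sbc_tb hQP hPC hPe.2]
      rfl
    · rw [sbc_of_not_mem _ _ (fun h => hg (hCC h))]
      show (0 : ℂ) = subgroupBlockCoeff C(P) e ((n : G)⁻¹ * g * (n : G))
      rw [sbc_of_not_mem]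
      intro h
      apply hg
      have := C(Q).mul_mem (C(Q).mul_mem n.2 (hCC h)) (C(Q).inv_mem n.2)
      simpa [mul_assoc] using this

theorem mem_normalizer_of_cj_eq {w : G} {P : Subgroup G} (h : cj w P = P) : w ∈ N(P) := by
  rw [Subgroup.mem_normalizer_iff]
  intro g
  constructor
  · intro hg
    rw [← h]
    exact conj_mem_cj hg
  · intro hg
    rw [← h] at hg
    obtain ⟨u, hu, hu'⟩ := mem_cj.1 hg
    have : g = u := mul_left_cancel (mul_right_cancel hu')
    rw [this]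
    exact hu

theorem conj_mem_centralizer {Q : Subgroup G} {y c : G} (hy : y ∈ N(Q)) (hc : c ∈ C(Q)) :
    y⁻¹ * c * y ∈ C(Q) := by
  have hy' : y⁻¹ ∈ N(C(Q)) :=
    Subgroup.inv_mem _ (normalizer_le_normalizer_centralizer Q hy)
  have := (Subgroup.mem_normalizer_iff.1 hy' c).1 hc
  simpa using this

/-- **Factorization of the stabilizer.** For an abelian `P` and `(Q, f) ≤ (P, e)` with `(P, e)`
maximal, every element of `N_G(Q, f)` is the product of an element of `N_G(P, e) ∩ N_G(Q)` and an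
element of `C_G(Q)`. -/
theorem stabilizer_factor (hMod : IsPModular p M) {B : Set (IrrCharacter G)} {P Q : Subgroup G}
    {e : Set (IrrCharacter C(P))} {f : Set (IrrCharacter C(Q))}
    (hmax : IsMaximalBrauerPair p M B P e) (hab : ∀ x ∈ P, ∀ y ∈ P, x * y = y * x)
    (hf : IsPBlock M f) (hle : SubpairLE p M Q f P e) {x : G} (hxN : x ∈ N(Q))
    (hxf : StabilizesBlock C(Q) f x) :
    ∃ y : G, y ∈ N(P) ∧ StabilizesBlock C(P) e y ∧ y ∈ N(Q) ∧ ∃ c ∈ C(Q), x = y * c := by
  classical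
  have hM : M.IsPrime := hMod.2.1.isPrime
  haveI : Fintype C(Q) := Fintype.ofFinite _
  haveI : Finite (IrrCharacter C(Q)) := irr_finite
  haveI : Fintype (IrrCharacter C(Q)) := Fintype.ofFinite _
  haveI : Fintype C(P) := Fintype.ofFinite _
  haveI : Finite (IrrCharacter C(P)) := irr_finite
  haveI : Fintype (IrrCharacter C(P)) := Fintype.ofFinite _
  obtain ⟨⟨hPp, he⟩, hB, -⟩ := id hmax.1
  have hQP : Q ≤ P := subpairLE_le hMod hle hf
  have hPC : P ≤ C(Q) := by
    intro u hu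
    rw [Subgroup.mem_centralizer_iff]
    intro q hq
    exact hab q (hQP hq) u hu
  set ε : G → ℂ := subgroupBlockCoeff C(P) e with hε
  set φ : G → ℂ := subgroupBlockCoeff C(Q) f with hφ
  have hxφ : conjF x φ = φ := ((stabilizesBlock_iff_conjF C(Q) hM hf x).1 hxf).2
  have hpair : ∀ w : G, w ∈ N(Q) → conjF w φ = φ →
      (⟨cj w Q, conjBlock Q w f⟩ : BrauerPairIdx G) = ⟨Q, f⟩ := by
    intro w hw hwφ
    apply pair_eq_of_sbc_eq hM (cj_eq_of_mem_normalizer hw) (isPBlock_conjBlock w Q hf) hf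
    rw [sbc_conjBlock w Q hf]
    exact hwφ
  have hle₁ : SubpairLE p M Q f (cj x P) (conjBlock P x e) := by
    have h := subpairLE_conj hMod x hle
    unfold SubpairLE at h ⊢
    rw [hpair x hxN hxφ] at h
    exact h
  have he₁ : IsPBlock M (conjBlock P x e) := isPBlock_conjBlock x P he
  have hP₁p : IsPGroup p (cj x P) := hPp.map _
  have hP₁C : cj x P ≤ C(Q) := by
    have hQP₁ : Q ≤ cj x P := subpairLE_le hMod hle₁ hf
    intro u hu
    rw [Subgroup.mem_centralizer_iff]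
    intro q hq
    obtain ⟨u', hu', rfl⟩ := mem_cj.1 hu
    obtain ⟨q', hq', rfl⟩ := mem_cj.1 (hQP₁ hq)
    have := hab q' hq' u' hu'
    calc x * q' * x⁻¹ * (x * u' * x⁻¹) = x * (q' * u') * x⁻¹ := by group
      _ = x * (u' * q') * x⁻¹ := by rw [this]
      _ = x * u' * x⁻¹ * (x * q' * x⁻¹) := by group
  have hD : IsDefectGroup p M f (subH P Q) :=
    isDefectGroup_subH hMod hmax hle hf ⟨hPp, he⟩ hle hPC le_rfl
  have hD₁ : IsDefectGroup p M f (subH (cj x P) Q) :=
    isDefectGroup_subH hMod hmax hle hf ⟨hP₁p, he₁⟩ hle₁ hP₁C (by rw [card_cj])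
  obtain ⟨t, ht⟩ := Cfsg.Agent.Lib.Helper22.IsDefectGroup.exists_conj hMod hf hD hD₁
  have hcj : cj x P = cj (t : G) P := by
    ext v
    constructor
    · intro hv
      have hvH : v ∈ C(Q) := hP₁C hv
      have h1 : (⟨v, hvH⟩ : C(Q)) ∈ subH (cj x P) Q := Subgroup.mem_subgroupOf.2 hv
      rw [ht] at h1
      obtain ⟨u, hu, hu'⟩ := Subgroup.mem_map.1 h1
      rw [mem_cj]
      refine ⟨(u : G), Subgroup.mem_subgroupOf.1 hu, ?_⟩
      have h2 := congrArg Subtype.val hu'
      simpa [MulAut.conj_apply] using h2.symm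
    · intro hv
      obtain ⟨u, hu, rfl⟩ := mem_cj.1 hv
      have h1 : (MulAut.conj t).toMonoidHom ⟨u, hPC hu⟩ ∈
          (subH P Q).map (MulAut.conj t).toMonoidHom :=
        Subgroup.mem_map_of_mem _ (Subgroup.mem_subgroupOf.2 hu)
      rw [← ht] at h1
      have h2 := Subgroup.mem_subgroupOf.1 h1
      simpa [MulAut.conj_apply] using h2
  set w : G := (t : G)⁻¹ * x with hw
  have hwP : cj w P = P := by
    rw [hw, cj_mul, hcj, ← cj_mul, inv_mul_cancel]
    ext v
    rw [mem_cj]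
    constructor
    · rintro ⟨u, hu, rfl⟩
      simpa using hu
    · intro hv
      exact ⟨v, hv, by simp⟩
  have hwNP : w ∈ N(P) := mem_normalizer_of_cj_eq hwP
  have htN : (t : G)⁻¹ ∈ N(Q) :=
    Subgroup.centralizer_le_normalizer _ (C(Q).inv_mem t.2)
  have hwNQ : w ∈ N(Q) := Subgroup.mul_mem _ htN hxN
  have htφ : conjF (t : G)⁻¹ φ = φ :=
    ((stabilizesBlock_iff_conjF C(Q) hM hf _).1
      (stabilizesBlock_of_mem_centralizer hM hf (C(Q).inv_mem t.2))).2
  have hwφ : conjF w φ = φ := by rw [hw, conjF_mul, hxφ, htφ]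
  obtain ⟨ξ₀, hξ₀⟩ := id he
  have hwNC : w ∈ N(C(P)) := normalizer_le_normalizer_centralizer P hwNP
  set e₃ : Set (IrrCharacter C(P)) :=
    blockOf M (irrComp (conjEquivN C(P) w hwNC).symm ξ₀ : C(P) → ℂ) with he₃def
  have he₃ : IsPBlock M e₃ := ⟨_, rfl⟩
  have hε₃ : subgroupBlockCoeff C(P) e₃ = conjF w ε := by
    rw [hε, hξ₀, conjF_sbc_blockOf M C(P) hwNC ξ₀]
  have hle₃ : SubpairLE p M Q f P e₃ := by
    have h := subpairLE_conj hMod w hle
    unfold SubpairLE at h ⊢
    rw [hpair w hwNQ hwφ] at h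
    have h2 : (⟨cj w P, conjBlock P w e⟩ : BrauerPairIdx G) = ⟨P, e₃⟩ := by
      apply pair_eq_of_sbc_eq hM hwP (isPBlock_conjBlock w P he) he₃
      rw [sbc_conjBlock w P he, hε₃]
    rw [h2] at h
    exact h
  obtain ⟨n, hnC, hnN, hn⟩ := exists_centralizer_conj hMod hQP hPC ⟨hPp, he⟩ ⟨hPp, he₃⟩ hf hle
    hle₃ hD
  rw [hε₃] at hn
  set y : G := n⁻¹ * w with hy
  have hyε : conjF y ε = ε := by
    rw [hy, conjF_mul, hn, conjF_inv_conjF]
  have hyNP : y ∈ N(P) := Subgroup.mul_mem _ (Subgroup.inv_mem _ hnN) hwNP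
  have hnNQ : n⁻¹ ∈ N(Q) := Subgroup.centralizer_le_normalizer _ (C(Q).inv_mem hnC)
  have hyNQ : y ∈ N(Q) := Subgroup.mul_mem _ hnNQ hwNQ
  refine ⟨y, hyNP, ?_, hyNQ, y⁻¹ * ((t : G) * n) * y,
    conj_mem_centralizer hyNQ (C(Q).mul_mem t.2 hnC), ?_⟩
  · rw [stabilizesBlock_iff_conjF C(P) hM he]
    exact ⟨normalizer_le_normalizer_centralizer P hyNP, hyε⟩
  · rw [hy, hw]
    group

end Claims

section Index

variable {p : ℕ} [Fact p.Prime] {M : Ideal AlgInt}

/-- the coefficient at `1` of the idempotent of a set of characters -/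
theorem blockCoeff_one_eq {X : Type u} [Group X] [Finite X] (F : Set (IrrCharacter X)) :
    blockCoeff F 1 = (Nat.card X : ℂ)⁻¹ *
      ((∑ᶠ χ ∈ F, charDegree (χ : X → ℂ) ^ 2 : ℕ) : ℂ) := by
  haveI : Finite (IrrCharacter X) := irr_finite
  unfold blockCoeff
  congr 1
  have hfin : F.Finite := Set.toFinite F
  rw [← Nat.coe_castAddMonoidHom, AddMonoidHom.map_finsum_mem _ _ hfin]
  apply finsum_mem_congr rfl
  intro χ _
  obtain ⟨d, -, hd1, -, hd2⟩ := Cfsg.Agent.Lib.Helper04.exists_nat_degree χ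
  rw [hd1, hd2]
  simp [pow_two]

/-- **Index prime to `p`.** For a maximal pair `(P, e)` with `P` abelian, the index of `C_G(P)`
in the stabilizer `N_G(P, e)` is not divisible by `p`. -/
theorem not_dvd_index_centralizer (hMod : IsPModular p M) {B : Set (IrrCharacter G)}
    {P : Subgroup G} {e : Set (IrrCharacter C(P))} (hmax : IsMaximalBrauerPair p M B P e)
    (hab : ∀ x ∈ P, ∀ y ∈ P, x * y = y * x) {T : Subgroup G}
    (hT : ∀ y : G, y ∈ T ↔ y ∈ N(P) ∧ StabilizesBlock C(P) e y) :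
    ¬ p ∣ ((C(P)).subgroupOf T).index := by
  classical
  have hM : M.IsPrime := hMod.2.1.isPrime
  have hp : p.Prime := Fact.out
  haveI : Fintype C(P) := Fintype.ofFinite _
  haveI : Finite (IrrCharacter C(P)) := irr_finite
  haveI : Fintype (IrrCharacter C(P)) := Fintype.ofFinite _
  obtain ⟨⟨hPp, he⟩, hB, -⟩ := id hmax.1
  have hle : SubpairLE p M P e P e := Relation.ReflTransGen.refl
  have hPC : P ≤ C(P) := by
    intro u hu
    rw [Subgroup.mem_centralizer_iff]
    intro q hq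
    exact hab q hq u hu
  have hCT : C(P) ≤ T := centralizer_le_stabilizer hM he hT
  have hPT : P ≤ T := hPC.trans hCT
  have hTN : T ≤ N(P) := fun y hy => ((hT y).1 hy).1
  have hTst := conjInv_of_stabilizer hM he hT
  obtain ⟨⟨F, hF, hFc, D, hD, hDle⟩, -⟩ := stabilizer_defect hMod hmax he hle hT
  obtain ⟨x, -, hx⟩ := exists_conj_defect_le hMod hmax hle he hTN hTst hFc hD
  have h1 : Nat.card D ≤ Nat.card P := by
    have h := card_le_card_of_le hx
    rw [card_cj, Subgroup.card_map_of_injective (Subgroup.subtype_injective _)] at h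
    exact h
  have h2 : Nat.card P ≤ Nat.card D := by
    have h3 : Nat.card ((P ⊓ N(P)).subgroupOf T) = Nat.card P := by
      rw [inf_eq_left.2 Subgroup.le_normalizer]
      exact Nat.card_congr (Subgroup.subgroupOfEquivOfLe hPT).toEquiv
    rw [← h3]
    exact card_le_card_of_le hDle
  have hdF : Nat.card P = p ^ blockDefect p F := by
    rw [← Cfsg.Agent.Lib.Helper22.IsDefectGroup.card_eq hMod hF hD]
    omega
  have hDe : IsDefectGroup p M e (subH P P) :=
    isDefectGroup_subH hMod hmax hle he ⟨hPp, he⟩ hle hPC le_rfl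
  have hde : Nat.card P = p ^ blockDefect p e := by
    rw [← Cfsg.Agent.Lib.Helper22.IsDefectGroup.card_eq hMod he hDe, card_subH hPC]
  have hdd : blockDefect p F = blockDefect p e :=
    Nat.pow_right_injective hp.two_le (hdF.symm.trans hde)
  have hSF := Cfsg.Agent.S4491.result p M hMod F hF
  have hSe := Cfsg.Agent.S4491.result p M hMod e he
  set SF : ℕ := ∑ᶠ χ ∈ F, charDegree (χ : T → ℂ) ^ 2 with hSFdef
  set Se : ℕ := ∑ᶠ χ ∈ e, charDegree (χ : C(P) → ℂ) ^ 2 with hSedef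
  set d := blockDefect p e with hd
  rw [hdd] at hSF
  -- the dimension identity
  have hone : blockCoeff F 1 = blockCoeff e 1 := by
    have := hFc 1
    rw [this]
    exact sbc_of_mem C(P) e (Subgroup.one_mem _)
  rw [blockCoeff_one_eq, blockCoeff_one_eq] at hone
  have hcT : (Nat.card T : ℂ) ≠ 0 := by exact_mod_cast Nat.card_pos.ne'
  have hcC : (Nat.card C(P) : ℂ) ≠ 0 := by exact_mod_cast Nat.card_pos.ne'
  have hnat : SF * Nat.card C(P) = Se * Nat.card T := by
    have : (SF : ℂ) * (Nat.card C(P) : ℂ) = (Se : ℂ) * (Nat.card T : ℂ) := by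
      field_simp at hone
      linear_combination hone
    exact_mod_cast this
  -- the index
  have hidx : Nat.card C(P) * ((C(P)).subgroupOf T).index = Nat.card T := by
    have := Subgroup.card_mul_index ((C(P)).subgroupOf T)
    rw [Nat.card_congr (Subgroup.subgroupOfEquivOfLe hCT).toEquiv] at this
    exact this
  set k := ((C(P)).subgroupOf T).index with hk
  have hk0 : k ≠ 0 := by
    intro h0
    rw [h0, mul_zero] at hidx
    exact Nat.card_pos.ne' hidx.symm
  have hSe0 : Se ≠ 0 := by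
    intro h0
    have hb := Cfsg.Agent.S0941.blockCoeff_one_ne_zero e
    obtain ⟨ξ, hξ⟩ := IsPBlock.nonempty hM he
    have := hb ξ hξ
    rw [blockCoeff_one_eq, ← hSedef, h0] at this
    simp at this
  have hSF0 : SF ≠ 0 := by
    intro h0
    rw [h0, zero_mul] at hnat
    rcases Nat.mul_eq_zero.1 hnat.symm with h | h
    · exact hSe0 h
    · exact Nat.card_pos.ne' h
  have hcC0 : Nat.card C(P) ≠ 0 := Nat.card_pos.ne'
  have hcT0 : Nat.card T ≠ 0 := Nat.card_pos.ne'
  have hfac := congrArg (fun n => n.factorization p) hnat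
  simp only [Nat.factorization_mul hSF0 hcC0, Nat.factorization_mul hSe0 hcT0,
    Finsupp.add_apply] at hfac
  have hfac2 := congrArg (fun n => n.factorization p) hidx
  simp only [Nat.factorization_mul hcC0 hk0, Finsupp.add_apply] at hfac2
  -- `d ≤ a_C`
  have hdle : d ≤ (Nat.card C(P)).factorization p := by
    have hdvd : p ^ d ∣ Nat.card C(P) := by
      rw [← hde]
      exact Subgroup.card_dvd_of_le hPC
    exact (hp.pow_dvd_iff_le_factorization hcC0).1 hdvd
  have hk_zero : k.factorization p = 0 := by omega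
  intro hdvd
  have := (hp.dvd_iff_one_le_factorization hk0).1 hdvd
  omega

/-- the stabilizer of a pair as a subgroup -/
noncomputable def stab (P : Subgroup G) (e : Set (IrrCharacter C(P))) : Subgroup G :=
  N(P) ⊓ Cfsg.Agent.Lib.Helper81.conjStab (subgroupBlockCoeff C(P) e)

theorem mem_stab_iff (hM : M.IsPrime) {P : Subgroup G} {e : Set (IrrCharacter C(P))}
    (he : IsPBlock M e) (y : G) :
    y ∈ stab P e ↔ y ∈ N(P) ∧ StabilizesBlock C(P) e y := by
  classical
  haveI : Fintype C(P) := Fintype.ofFinite _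
  haveI : Finite (IrrCharacter C(P)) := irr_finite
  haveI : Fintype (IrrCharacter C(P)) := Fintype.ofFinite _
  rw [stab, Subgroup.mem_inf, Cfsg.Agent.Lib.Helper81.mem_conjStab, stabilizesBlock_iff_conjF C(P) hM he]
  constructor
  · rintro ⟨h1, h2⟩
    exact ⟨h1, normalizer_le_normalizer_centralizer P h1, h2⟩
  · rintro ⟨h1, -, h2⟩
    exact ⟨h1, h2⟩

/-- an element with a `p`-regular power and a power of exponent prime to `p` in a subgroup lies in
the subgroup -/
theorem mem_of_pow_mem_of_coprime {K : Subgroup G} {x : G} {a b : ℕ} (hab : Nat.Coprime a b)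
    (ha : x ^ a ∈ K) (hb : x ^ b ∈ K) : x ∈ K := by
  have h := Nat.gcd_eq_gcd_ab a b
  rw [hab] at h
  have hx : x = (x ^ a) ^ (Nat.gcdA a b) * (x ^ b) ^ (Nat.gcdB a b) := by
    rw [← zpow_natCast x a, ← zpow_natCast x b, ← zpow_mul, ← zpow_mul, ← zpow_add, ← h]
    simp
  rw [hx]
  exact K.mul_mem (K.zpow_mem ha _) (K.zpow_mem hb _)

/-- **S4687.** -/
theorem nilpotent_iff (hMod : IsPModular p M) {B : Set (IrrCharacter G)}
    {P : Subgroup G} {e : Set (IrrCharacter C(P))} (hmax : IsMaximalBrauerPair p M B P e)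
    (hab : ∀ x ∈ P, ∀ y ∈ P, x * y = y * x) :
    IsNilpotentBlock p M B ↔
      ∀ x : G, x ∈ N(P) → StabilizesBlock C(P) e x → x ∈ C(P) := by
  classical
  have hM : M.IsPrime := hMod.2.1.isPrime
  have hp : p.Prime := Fact.out
  obtain ⟨⟨hPp, he⟩, hB, -⟩ := id hmax.1
  constructor
  · intro hnil x hxN hxe
    have hT := mem_stab_iff hM he (P := P)
    have hxT : x ∈ stab P e := (hT x).2 ⟨hxN, hxe⟩
    have hndvd := not_dvd_index_centralizer hMod hmax hab hT
    have hCT : C(P) ≤ stab P e := centralizer_le_stabilizer hM he hT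
    have hTN : stab P e ≤ N(P) := fun y hy => ((hT y).1 hy).1
    haveI : ((C(P)).subgroupOf (stab P e)).Normal :=
      (Subgroup.normal_subgroupOf_iff_le_normalizer hCT).2
        (hTN.trans (normalizer_le_normalizer_centralizer P))
    set k := ((C(P)).subgroupOf (stab P e)).index with hk
    have h1 : x ^ k ∈ C(P) := by
      have := Subgroup.pow_index_mem ((C(P)).subgroupOf (stab P e)) ⟨x, hxT⟩
      exact Subgroup.mem_subgroupOf.1 this
    -- the `p`-regular power
    have hox : orderOf x ≠ 0 := (orderOf_pos x).ne'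
    obtain ⟨a, m, hm, hom⟩ := Nat.exists_eq_pow_mul_and_not_dvd hox p hp.ne_one
    have h2 : x ^ (p ^ a) ∈ C(P) := by
      have hzT : x ^ (p ^ a) ∈ stab P e := Subgroup.pow_mem _ hxT _
      have hz := (hT _).1 hzT
      apply hnil.2 P e hmax.1 _ hz.1 hz.2
      show ¬ p ∣ orderOf (x ^ (p ^ a))
      rw [orderOf_pow' x (pow_ne_zero a hp.ne_zero), hom,
        Nat.gcd_eq_right (Dvd.intro _ rfl), Nat.mul_div_cancel_left _ (pow_pos hp.pos a)]
      exact hm
    have hcop : Nat.Coprime (p ^ a) k :=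
      Nat.Coprime.pow_left a ((Nat.Prime.coprime_iff_not_dvd hp).2 hndvd)
    exact mem_of_pow_mem_of_coprime hcop h2 h1
  · intro hN
    refine ⟨hB, fun Q f hQf x hxN hxf _ => ?_⟩
    have hf : IsPBlock M f := hQf.1.2
    obtain ⟨g, hg⟩ := exists_conj_subpairLE hMod hmax hQf
    have hf' : IsPBlock M (conjBlock Q g f) := isPBlock_conjBlock g Q hf
    have hT := mem_stab_iff hM hf (P := Q)
    have hT' := mem_stab_iff hM hf' (P := cj g Q)
    have hx' : g * x * g⁻¹ ∈ stab (cj g Q) (conjBlock Q g f) := by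
      rw [mem_stabilizer_conj_iff hM hf g hT hT']
      have : g⁻¹ * (g * x * g⁻¹) * g = x := by group
      rw [this]
      exact (hT x).2 ⟨hxN, hxf⟩
    obtain ⟨hx'N, hx'f⟩ := (hT' _).1 hx'
    obtain ⟨y, hyN, hye, -, c, hc, hxyc⟩ := stabilizer_factor hMod hmax hab hf' hg hx'N hx'f
    have hQP : cj g Q ≤ P := subpairLE_le hMod hg hf'
    have hy : y ∈ C(cj g Q) := Subgroup.centralizer_le hQP (hN y hyN hye)
    have h3 : g * x * g⁻¹ ∈ C(cj g Q) := by
      rw [hxyc]
      exact Subgroup.mul_mem _ hy hc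
    have h4 := mem_centralizer_cj_iff.1 h3
    have : g⁻¹ * (g * x * g⁻¹) * g = x := by group
    rwa [this] at h4

/-- an element of `N_G(P, e) ∩ N_G(Q)` stabilizes the pair `(Q, f)` below `(P, e)` -/
theorem stabilizer_le (hMod : IsPModular p M) {P Q : Subgroup G}
    {e : Set (IrrCharacter C(P))} {f : Set (IrrCharacter C(Q))} (hPe : IsBrauerPair p M P e)
    (hf : IsPBlock M f) (hle : SubpairLE p M Q f P e) {y : G} (hyP : y ∈ N(P))
    (hye : StabilizesBlock C(P) e y) (hyQ : y ∈ N(Q)) : StabilizesBlock C(Q) f y := by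
  classical
  have hM : M.IsPrime := hMod.2.1.isPrime
  haveI : Fintype C(Q) := Fintype.ofFinite _
  haveI : Finite (IrrCharacter C(Q)) := irr_finite
  haveI : Fintype (IrrCharacter C(Q)) := Fintype.ofFinite _
  haveI : Fintype C(P) := Fintype.ofFinite _
  haveI : Finite (IrrCharacter C(P)) := irr_finite
  haveI : Fintype (IrrCharacter C(P)) := Fintype.ofFinite _
  have he : IsPBlock M e := hPe.2
  have hQP : Q ≤ P := subpairLE_le hMod hle hf
  have hyε := ((stabilizesBlock_iff_conjF C(P) hM he y).1 hye).2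
  obtain ⟨ξf, hξf⟩ := id hf
  have hyNC : y ∈ N(C(Q)) := normalizer_le_normalizer_centralizer Q hyQ
  set f₃ : Set (IrrCharacter C(Q)) :=
    blockOf M (irrComp (conjEquivN C(Q) y hyNC).symm ξf : C(Q) → ℂ) with hf₃def
  have hf₃ : IsPBlock M f₃ := ⟨_, rfl⟩
  have hφ₃ : subgroupBlockCoeff C(Q) f₃ = conjF y (subgroupBlockCoeff C(Q) f) := by
    rw [hξf, conjF_sbc_blockOf M C(Q) hyNC ξf]
  have hle₃ : SubpairLE p M Q f₃ P e := by
    have h := subpairLE_conj hMod y hle
    unfold SubpairLE at h ⊢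
    have h1 : (⟨cj y P, conjBlock P y e⟩ : BrauerPairIdx G) = ⟨P, e⟩ := by
      apply pair_eq_of_sbc_eq hM (cj_eq_of_mem_normalizer hyP) (isPBlock_conjBlock y P he) he
      rw [sbc_conjBlock y P he, hyε]
    have h2 : (⟨cj y Q, conjBlock Q y f⟩ : BrauerPairIdx G) = ⟨Q, f₃⟩ := by
      apply pair_eq_of_sbc_eq hM (cj_eq_of_mem_normalizer hyQ) (isPBlock_conjBlock y Q hf) hf₃
      rw [sbc_conjBlock y Q hf, hφ₃]
    rw [h1, h2] at h
    exact h
  have hff : f₃ = f := (existsUnique_subpair hMod hPe hQP).unique ⟨hf₃, hle₃⟩ ⟨hf, hle⟩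
  rw [stabilizesBlock_iff_conjF C(Q) hM hf]
  refine ⟨hyNC, ?_⟩
  rw [← hφ₃, hff]

/-- **S4682.** -/
theorem stabilizer_index (hMod : IsPModular p M) {B : Set (IrrCharacter G)} {P Q : Subgroup G}
    {e : Set (IrrCharacter C(P))} {f : Set (IrrCharacter C(Q))}
    (hmax : IsMaximalBrauerPair p M B P e) (hab : ∀ x ∈ P, ∀ y ∈ P, x * y = y * x)
    (hf : IsPBlock M f) (hle : SubpairLE p M Q f P e) {TQ TP : Subgroup G}
    (hTQ : ∀ y : G, y ∈ TQ ↔ y ∈ N(Q) ∧ StabilizesBlock C(Q) f y)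
    (hTP : ∀ y : G, y ∈ TP ↔ y ∈ N(P) ∧ StabilizesBlock C(P) e y) :
    (∀ x ∈ TQ, ∃ y ∈ TP, ∃ c ∈ C(Q), x = y * c) ∧
      ((C(Q)).subgroupOf TQ).index = ((TP ⊓ C(Q)).subgroupOf (TP ⊓ N(Q))).index := by
  classical
  have hM : M.IsPrime := hMod.2.1.isPrime
  obtain ⟨⟨hPp, he⟩, hB, -⟩ := id hmax.1
  have hfac : ∀ x ∈ TQ, ∃ y ∈ TP ⊓ N(Q), ∃ c ∈ C(Q), x = y * c := by
    intro x hx
    obtain ⟨hxN, hxf⟩ := (hTQ x).1 hx
    obtain ⟨y, hyN, hye, hyQ, c, hc, hxyc⟩ := stabilizer_factor hMod hmax hab hf hle hxN hxf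
    exact ⟨y, ⟨(hTP y).2 ⟨hyN, hye⟩, hyQ⟩, c, hc, hxyc⟩
  refine ⟨fun x hx => ?_, ?_⟩
  · obtain ⟨y, hy, c, hc, h⟩ := hfac x hx
    exact ⟨y, hy.1, c, hc, h⟩
  · have hA : TP ⊓ N(Q) ≤ TQ := by
      intro y hy
      obtain ⟨hyP, hye⟩ := (hTP y).1 hy.1
      exact (hTQ y).2 ⟨hy.2, stabilizer_le hMod ⟨hPp, he⟩ hf hle hyP hye hy.2⟩
    have hCTQ : C(Q) ≤ TQ := centralizer_le_stabilizer hM hf hTQ
    have hTQN : TQ ≤ N(Q) := fun y hy => ((hTQ y).1 hy).1
    haveI hnorm : ((C(Q)).subgroupOf TQ).Normal :=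
      (Subgroup.normal_subgroupOf_iff_le_normalizer hCTQ).2
        (hTQN.trans (normalizer_le_normalizer_centralizer Q))
    set ψ : ↥(TP ⊓ N(Q)) →* TQ ⧸ (C(Q)).subgroupOf TQ :=
      (QuotientGroup.mk' _).comp (Subgroup.inclusion hA) with hψ
    have hsurj : Function.Surjective ψ := by
      intro q
      obtain ⟨t, rfl⟩ := QuotientGroup.mk_surjective q
      obtain ⟨y, hy, c, hc, h⟩ := hfac (t : G) t.2
      refine ⟨⟨y, hy⟩, ?_⟩
      show ((Subgroup.inclusion hA ⟨y, hy⟩ : TQ) : TQ ⧸ (C(Q)).subgroupOf TQ) = (t : _)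
      rw [QuotientGroup.eq]
      rw [Subgroup.mem_subgroupOf]
      show (y : G)⁻¹ * (t : G) ∈ C(Q)
      rw [h]
      simpa using hc
    have hker : ψ.ker = (TP ⊓ C(Q)).subgroupOf (TP ⊓ N(Q)) := by
      ext y
      rw [MonoidHom.mem_ker, Subgroup.mem_subgroupOf]
      show ((Subgroup.inclusion hA y : TQ) : TQ ⧸ (C(Q)).subgroupOf TQ) = 1 ↔ _
      rw [QuotientGroup.eq_one_iff, Subgroup.mem_subgroupOf]
      show (y : G) ∈ C(Q) ↔ (y : G) ∈ TP ⊓ C(Q)
      exact ⟨fun h => ⟨y.2.1, h⟩, fun h => h.2⟩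
    rw [← hker, Subgroup.index_ker, MonoidHom.range_eq_top.2 hsurj, Subgroup.card_top,
      Subgroup.index_eq_card]

end Index

end Cfsg.Agent.Lib.Helper85.AbelianDefect
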