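import Mathlib
import Cfsg.Prelude.Def_BrauerPairs
import Cfsg.Agent.Lib.Helper85.AbelianDefect
import Cfsg.Agent.Lib.Helper83.Quotient
import Cfsg.Agent.Lib.Helper82.DefectRank
import Cfsg.Agent.S4434
import Cfsg.Agent.S0969
import Cfsg.Agent.S0911

set_option autoImplicit false
set_option linter.unusedSectionVars false
set_option linter.style.haveILetI false

/-!
# Characterization of the maximal Brauer pairs
-/

namespace Cfsg.Agent.Lib.Helper85.MaxPair

open Cfsg
open Cfsg.Agent.Lib.Helper21 Cfsg.Agent.Lib.Helper82 Cfsg.Agent.Lib.Helper83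
open Cfsg.Agent.Lib.Helper81 Cfsg.Agent.Lib.Helper85.AbelianDefect

universe u

variable {G : Type u} [Group G] [Fintype G]

local notation "C(" R ")" => Subgroup.centralizer ((R : Subgroup G) : Set G)
local notation "N(" R ")" => Subgroup.normalizer ((R : Subgroup G) : Set G)

variable {p : ℕ} [Fact p.Prime] {M : Ideal AlgInt}

theorem sbc_eq_of_subpairLE_of_eq (hMod : IsPModular p M) {R P : Subgroup G}
    {g : Set (IrrCharacter C(R))} {e : Set (IrrCharacter C(P))}
    (h : SubpairLE p M R g P e) (hRP : R = P) :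
    subgroupBlockCoeff C(R) g = subgroupBlockCoeff C(P) e := by
  subst hRP
  rw [subpairLE_same hMod h]

/-- the centre part `P ∩ C_G(P)` of the subgroup of a maximal pair is a defect group of `e` -/
theorem isDefectGroup_center (hMod : IsPModular p M) {B : Set (IrrCharacter G)}
    {P : Subgroup G} {e : Set (IrrCharacter C(P))} (hmax : IsMaximalBrauerPair p M B P e) :
    IsDefectGroup p M e ((P ⊓ C(P)).subgroupOf C(P)) := by
  classical
  have hM : M.IsPrime := hMod.2.1.isPrime
  haveI : Fintype C(P) := Fintype.ofFinite _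
  haveI : Finite (IrrCharacter C(P)) := irr_finite
  haveI : Fintype (IrrCharacter C(P)) := Fintype.ofFinite _
  obtain ⟨⟨hPp, he⟩, hB, -⟩ := id hmax.1
  have hle : SubpairLE p M P e P e := Relation.ReflTransGen.refl
  have hHst : ConjInv C(P) (subgroupBlockCoeff C(P) e) := sbc_conjInv_self C(P) e
  have hFc : ∀ h : C(P), blockCoeff e h = subgroupBlockCoeff C(P) e h :=
    fun h => (sbc_of_mem C(P) e h.2).symm
  obtain ⟨x, hx, hall⟩ := exists_conj_isDefectGroup hMod hmax hle he le_rfl
    (Subgroup.centralizer_le_normalizer _) hHst he hFc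
  have hcj : cj x P = P := by
    apply Subgroup.eq_of_le_of_card_ge (subpairLE_le hMod hx (isPBlock_conjBlock x P he))
    rw [card_cj]
  have hxN : x ∈ N(P) := mem_normalizer_of_cj_eq hcj
  have hxNC : x⁻¹ ∈ N(C(P)) :=
    Subgroup.inv_mem _ (normalizer_le_normalizer_centralizer P hxN)
  have hsbc := sbc_eq_of_subpairLE_of_eq hMod hx hcj
  refine hall C(P) (fun y => ?_) e he (fun t => ?_)
  · have := (Subgroup.mem_normalizer_iff.1 hxNC y)
    simpa using this
  · rw [hsbc]
    exact hFc t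

/-- **The order of the stabilizer of a maximal pair**, `p`-parts:
`|N_G(P,e)|_p · |Z(P)| = |C_G(P)|_p · |P|`. -/
theorem factorization_card_stabilizer (hMod : IsPModular p M) {B : Set (IrrCharacter G)}
    {P : Subgroup G} {e : Set (IrrCharacter C(P))} (hmax : IsMaximalBrauerPair p M B P e)
    {T : Subgroup G} (hT : ∀ y : G, y ∈ T ↔ y ∈ N(P) ∧ StabilizesBlock C(P) e y) :
    (Nat.card T).factorization p + (Nat.card (P ⊓ C(P) : Subgroup G)).factorization p =
      (Nat.card C(P)).factorization p + (Nat.card P).factorization p := by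
  classical
  have hM : M.IsPrime := hMod.2.1.isPrime
  have hp : p.Prime := Fact.out
  haveI : Fintype C(P) := Fintype.ofFinite _
  haveI : Finite (IrrCharacter C(P)) := irr_finite
  haveI : Fintype (IrrCharacter C(P)) := Fintype.ofFinite _
  obtain ⟨⟨hPp, he⟩, hB, -⟩ := id hmax.1
  have hle : SubpairLE p M P e P e := Relation.ReflTransGen.refl
  have hCT : C(P) ≤ T := centralizer_le_stabilizer hM he hT
  have hPT : P ≤ T := le_stabilizer hM he hT
  have hTN : T ≤ N(P) := fun y hy => ((hT y).1 hy).1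
  have hTst := conjInv_of_stabilizer hM he hT
  obtain ⟨⟨F, hF, hFc, D, hD, hDle⟩, -⟩ := stabilizer_defect hMod hmax he hle hT
  obtain ⟨x, -, hx⟩ := exists_conj_defect_le hMod hmax hle he hTN hTst hFc hD
  have h1 : Nat.card D ≤ Nat.card P := by
    have h := card_le_card_of_le hx
    rw [card_cj, Subgroup.card_map_of_injective (Subgroup.subtype_injective _)] at h
    exact h
  have h2 : Nat.card P ≤ Nat.card D := by
    have h3 : Nat.card ((P ⊓ N(P)).subgroupOf T) = Nat.card P := by
      rw [inf_eq_left.2 Subgroup.le_normalizer]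
      exact Nat.card_congr (Subgroup.subgroupOfEquivOfLe hPT).toEquiv
    rw [← h3]
    exact card_le_card_of_le hDle
  have hdF : Nat.card P = p ^ blockDefect p F := by
    rw [← Cfsg.Agent.Lib.Helper22.IsDefectGroup.card_eq hMod hF hD]
    omega
  have hDe := isDefectGroup_center hMod hmax
  have hde : Nat.card (P ⊓ C(P) : Subgroup G) = p ^ blockDefect p e := by
    rw [← Cfsg.Agent.Lib.Helper22.IsDefectGroup.card_eq hMod he hDe]
    exact (Nat.card_congr (Subgroup.subgroupOfEquivOfLe inf_le_right).toEquiv).symm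
  have hSF := Cfsg.Agent.S4491.result p M hMod F hF
  have hSe := Cfsg.Agent.S4491.result p M hMod e he
  set SF : ℕ := ∑ᶠ χ ∈ F, charDegree (χ : T → ℂ) ^ 2 with hSFdef
  set Se : ℕ := ∑ᶠ χ ∈ e, charDegree (χ : C(P) → ℂ) ^ 2 with hSedef
  have hone : blockCoeff F 1 = blockCoeff e 1 := by
    have := hFc 1
    rw [this]
    exact sbc_of_mem C(P) e (Subgroup.one_mem _)
  rw [blockCoeff_one_eq, blockCoeff_one_eq] at hone
  have hcT : (Nat.card T : ℂ) ≠ 0 := by exact_mod_cast Nat.card_pos.ne'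
  have hcC : (Nat.card C(P) : ℂ) ≠ 0 := by exact_mod_cast Nat.card_pos.ne'
  have hnat : SF * Nat.card C(P) = Se * Nat.card T := by
    have : (SF : ℂ) * (Nat.card C(P) : ℂ) = (Se : ℂ) * (Nat.card T : ℂ) := by
      field_simp at hone
      linear_combination hone
    exact_mod_cast this
  have hSe0 : Se ≠ 0 := by
    intro h0
    have hb := Cfsg.Agent.S0941.blockCoeff_one_ne_zero e
    obtain ⟨ξ, hξ⟩ := IsPBlock.nonempty hM he
    have := hb ξ hξ
    rw [blockCoeff_one_eq, ← hSedef, h0] at this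
    simp at this
  have hcC0 : Nat.card C(P) ≠ 0 := Nat.card_pos.ne'
  have hcT0 : Nat.card T ≠ 0 := Nat.card_pos.ne'
  have hSF0 : SF ≠ 0 := by
    intro h0
    rw [h0, zero_mul] at hnat
    rcases Nat.mul_eq_zero.1 hnat.symm with h | h
    · exact hSe0 h
    · exact hcT0 h
  have hfac := congrArg (fun n => n.factorization p) hnat
  simp only [Nat.factorization_mul hSF0 hcC0, Nat.factorization_mul hSe0 hcT0,
    Finsupp.add_apply] at hfac
  have hdF' : (Nat.card P).factorization p = blockDefect p F := by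
    rw [hdF, hp.factorization_pow]
    simp
  have hde' : (Nat.card (P ⊓ C(P) : Subgroup G)).factorization p = blockDefect p e := by
    rw [hde, hp.factorization_pow]
    simp
  have hdFle : blockDefect p F ≤ (Nat.card T).factorization p := by
    have hdvd : p ^ blockDefect p F ∣ Nat.card T := by
      rw [← hdF]
      exact Subgroup.card_dvd_of_le hPT
    exact (hp.pow_dvd_iff_le_factorization hcT0).1 hdvd
  have hdele : blockDefect p e ≤ (Nat.card C(P)).factorization p := by
    have hdvd : p ^ blockDefect p e ∣ Nat.card C(P) := by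
      rw [← hde]
      exact Subgroup.card_dvd_of_le inf_le_right
    exact (hp.pow_dvd_iff_le_factorization hcC0).1 hdvd
  omega

theorem card_sup_mul_card_inf {Γ : Type*} [Group Γ] [Finite Γ] (A K : Subgroup Γ) [K.Normal] :
    Nat.card (A ⊔ K : Subgroup Γ) * Nat.card (K ⊓ A : Subgroup Γ) = Nat.card A * Nat.card K := by
  have h1 : K.relIndex (A ⊔ K) = K.relIndex A := Subgroup.relIndex_sup_right A K
  have h2 : K.relIndex (A ⊔ K) * Nat.card K = Nat.card (A ⊔ K : Subgroup Γ) := by
    have := Subgroup.index_mul_card (K.subgroupOf (A ⊔ K))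
    rw [Nat.card_congr (Subgroup.subgroupOfEquivOfLe (le_sup_right : K ≤ A ⊔ K)).toEquiv] at this
    exact this
  have h3 : K.relIndex A * Nat.card (K ⊓ A : Subgroup Γ) = Nat.card A := by
    have := Subgroup.index_mul_card ((K ⊓ A).subgroupOf A)
    rw [Nat.card_congr (Subgroup.subgroupOfEquivOfLe (inf_le_right : K ⊓ A ≤ A)).toEquiv] at this
    rw [← Subgroup.inf_relIndex_right K A]
    exact this
  rw [← h2, h1, ← h3]
  ring

/-- **`p`-elements of the stabilizer of a maximal pair lie in `P·C_G(P)`.** -/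
theorem mem_sup_of_pElement (hMod : IsPModular p M) {B : Set (IrrCharacter G)}
    {P : Subgroup G} {e : Set (IrrCharacter C(P))} (hmax : IsMaximalBrauerPair p M B P e)
    {g : G} (hgN : g ∈ N(P)) (hge : StabilizesBlock C(P) e g) (hgp : ∃ k : ℕ, orderOf g = p ^ k) :
    g ∈ P ⊔ C(P) := by
  classical
  have hM : M.IsPrime := hMod.2.1.isPrime
  have hp : p.Prime := Fact.out
  obtain ⟨⟨hPp, he⟩, hB, -⟩ := id hmax.1
  have hT := mem_stab_iff hM he (P := P)
  set T := stab P e with hTdef
  have hgT : g ∈ T := (hT g).2 ⟨hgN, hge⟩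
  have hcount := factorization_card_stabilizer hMod hmax hT
  have hCT : C(P) ≤ T := centralizer_le_stabilizer hM he hT
  have hPT : P ≤ T := le_stabilizer hM he hT
  have hTN : T ≤ N(P) := fun y hy => ((hT y).1 hy).1
  haveI hPn : (P.subgroupOf T).Normal :=
    (Subgroup.normal_subgroupOf_iff_le_normalizer hPT).2 hTN
  haveI hCn : ((C(P)).subgroupOf T).Normal :=
    (Subgroup.normal_subgroupOf_iff_le_normalizer hCT).2
      (hTN.trans (normalizer_le_normalizer_centralizer P))
  set PT : Subgroup T := P.subgroupOf T with hPTdef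
  set CT : Subgroup T := (C(P)).subgroupOf T with hCTdef
  have hcard := card_sup_mul_card_inf PT CT
  have hcP : Nat.card PT = Nat.card P :=
    Nat.card_congr (Subgroup.subgroupOfEquivOfLe hPT).toEquiv
  have hcC : Nat.card CT = Nat.card C(P) :=
    Nat.card_congr (Subgroup.subgroupOfEquivOfLe hCT).toEquiv
  have hcI : Nat.card (CT ⊓ PT : Subgroup T) = Nat.card (P ⊓ C(P) : Subgroup G) := by
    have : CT ⊓ PT = (P ⊓ C(P)).subgroupOf T := by
      ext y
      simp only [Subgroup.mem_inf, Subgroup.mem_subgroupOf, hPTdef, hCTdef]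
      tauto
    rw [this]
    exact Nat.card_congr (Subgroup.subgroupOfEquivOfLe (inf_le_left.trans hPT)).toEquiv
  rw [hcP, hcC, hcI] at hcard
  set X : Subgroup T := PT ⊔ CT with hX
  have hX0 : Nat.card X ≠ 0 := Nat.card_pos.ne'
  have hI0 : Nat.card (P ⊓ C(P) : Subgroup G) ≠ 0 := Nat.card_pos.ne'
  have hP0 : Nat.card P ≠ 0 := Nat.card_pos.ne'
  have hC0 : Nat.card C(P) ≠ 0 := Nat.card_pos.ne'
  have hfac := congrArg (fun n => n.factorization p) hcard
  simp only [Nat.factorization_mul hX0 hI0, Nat.factorization_mul hP0 hC0,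
    Finsupp.add_apply] at hfac
  have hidx := Subgroup.card_mul_index X
  have hk0 : X.index ≠ 0 := by
    intro h0
    rw [h0, mul_zero] at hidx
    exact Nat.card_pos.ne' hidx.symm
  have hfac2 := congrArg (fun n => n.factorization p) hidx
  simp only [Nat.factorization_mul hX0 hk0, Finsupp.add_apply] at hfac2
  have hndvd : ¬ p ∣ X.index := by
    intro hdvd
    have := (hp.dvd_iff_one_le_factorization hk0).1 hdvd
    omega
  obtain ⟨k, hk⟩ := hgp
  have h1 : (⟨g, hgT⟩ : T) ^ X.index ∈ X := Subgroup.pow_index_mem X _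
  have h2 : (⟨g, hgT⟩ : T) ^ (p ^ k) ∈ X := by
    have : (⟨g, hgT⟩ : T) ^ (p ^ k) = 1 := by
      apply Subtype.ext
      show g ^ (p ^ k) = 1
      rw [← hk]
      exact pow_orderOf_eq_one g
    rw [this]
    exact X.one_mem
  have hcop : Nat.Coprime (p ^ k) X.index :=
    Nat.Coprime.pow_left k ((Nat.Prime.coprime_iff_not_dvd hp).2 hndvd)
  have h3 : (⟨g, hgT⟩ : T) ∈ X := by
    have hgen : ∀ {Γ : Type u} [Group Γ] {K : Subgroup Γ} {x : Γ} {a b : ℕ},
        Nat.Coprime a b → x ^ a ∈ K → x ^ b ∈ K → x ∈ K := by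
      intro Γ _ K x a b hab ha hb
      have h := Nat.gcd_eq_gcd_ab a b
      rw [hab] at h
      have hx : x = (x ^ a) ^ (Nat.gcdA a b) * (x ^ b) ^ (Nat.gcdB a b) := by
        rw [← zpow_natCast x a, ← zpow_natCast x b, ← zpow_mul, ← zpow_mul, ← zpow_add, ← h]
        simp
      rw [hx]
      exact K.mul_mem (K.zpow_mem ha _) (K.zpow_mem hb _)
    exact hgen hcop h2 h1
  have h4 : X = (P ⊔ C(P)).subgroupOf T := (Subgroup.subgroupOf_sup hPT hCT).symm
  rw [h4] at h3
  exact Subgroup.mem_subgroupOf.1 h3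

/-- the centre part of `Q`, inside `C_G(Q)` -/
abbrev zsub (Q : Subgroup G) : Subgroup C(Q) := (Q ⊓ C(Q)).subgroupOf C(Q)

theorem zsub_le_center (Q : Subgroup G) : zsub Q ≤ Subgroup.center C(Q) := by
  intro z hz
  rw [Subgroup.mem_center_iff]
  intro c
  apply Subtype.ext
  have hzQ : (z : G) ∈ Q := (Subgroup.mem_subgroupOf.1 hz).1
  exact (Subgroup.mem_centralizer_iff.1 c.2 (z : G) hzQ).symm

instance zsub_normal (Q : Subgroup G) : (zsub Q).Normal := by
  constructor
  intro n hn g
  have := Subgroup.mem_center_iff.1 (zsub_le_center Q hn) g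
  rw [this]
  simpa using hn

theorem card_zsub (Q : Subgroup G) : Nat.card (zsub Q) = Nat.card (Q ⊓ C(Q) : Subgroup G) :=
  Nat.card_congr (Subgroup.subgroupOfEquivOfLe inf_le_right).toEquiv

/-- **The canonical character of a maximal pair.** -/
theorem exists_canonical (hMod : IsPModular p M) {B : Set (IrrCharacter G)}
    {Q : Subgroup G} {e : Set (IrrCharacter C(Q))} (hmax : IsMaximalBrauerPair p M B Q e) :
    ∃ θ ∈ e, (∀ z : C(Q), (z : G) ∈ Q → (θ : C(Q) → ℂ) z = (θ : C(Q) → ℂ) 1) ∧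
      (charDegree (θ : C(Q) → ℂ)).factorization p +
        (Nat.card (Q ⊓ C(Q) : Subgroup G)).factorization p =
        (Nat.card C(Q)).factorization p := by
  classical
  have hM : M.IsPrime := hMod.2.1.isPrime
  have hp : p.Prime := Fact.out
  obtain ⟨⟨hQp, he⟩, hB, -⟩ := id hmax.1
  have hZp : IsPGroup p (zsub Q) := (hQp.to_le inf_le_left).comap_subtype
  obtain ⟨ebar, hebar, hinfl, hdef⟩ := Cfsg.Agent.S4434.result p M hMod (zsub Q) hZp e he
  have hDe : IsDefectGroup p M e (zsub Q) := isDefectGroup_center hMod hmax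
  have hDbar : IsDefectGroup p M ebar ((zsub Q).map (QuotientGroup.mk' (zsub Q))) :=
    (hdef _).2 ⟨zsub Q, hDe, rfl⟩
  have hbot : (zsub Q).map (QuotientGroup.mk' (zsub Q)) = ⊥ := QuotientGroup.map_mk'_self _
  rw [hbot] at hDbar
  have hd0 : blockDefect p ebar = 0 := by
    have h := Cfsg.Agent.Lib.Helper22.IsDefectGroup.card_eq hMod hebar hDbar
    rw [Subgroup.card_bot] at h
    by_contra hne
    have : 1 < p ^ blockDefect p ebar := Nat.one_lt_pow hne hp.one_lt
    omega
  obtain ⟨χb, hχb⟩ := IsPBlock.nonempty hM hebar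
  have hge := (blockDefect_eq_zero_iff (p := p) ⟨χb, hχb⟩).1 hd0 χb hχb
  obtain ⟨d, hd0', hd1, hddvd, hd2⟩ := Cfsg.Agent.Lib.Helper04.exists_nat_degree χb
  set θ := (irrInflate (zsub Q) χb).1 with hθ
  have hθe : θ ∈ e := by
    apply hinfl χb hχb θ
    funext c
    exact irrInflate_apply (zsub Q) χb c
  refine ⟨θ, hθe, fun z hz => ?_, ?_⟩
  · exact (irrInflate (zsub Q) χb).2 z (Subgroup.mem_subgroupOf.2 ⟨hz, z.2⟩)
  · have hdeg : charDegree (θ : C(Q) → ℂ) = d := by
      apply Cfsg.Agent.Lib.Helper04.charDegree_eq_of_apply_one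
      rw [hθ, irrInflate_apply]
      exact hd1
    rw [hdeg]
    rw [hd2] at hge
    have hq0 : Nat.card (C(Q) ⧸ zsub Q) ≠ 0 := Nat.card_pos.ne'
    have hle : d.factorization p ≤ (Nat.card (C(Q) ⧸ zsub Q)).factorization p :=
      (Nat.factorization_le_iff_dvd hd0'.ne' hq0).2 hddvd p
    have hcard : Nat.card C(Q) = Nat.card (C(Q) ⧸ zsub Q) * Nat.card (zsub Q) :=
      Subgroup.card_eq_card_quotient_mul_card_subgroup _
    have hz0 : Nat.card (zsub Q) ≠ 0 := Nat.card_pos.ne'
    rw [hcard, Nat.factorization_mul hq0 hz0, Finsupp.add_apply, card_zsub]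
    omega


/-- Dedekind-type step: `Q ≤ S ≤ Q·C_G(Q)` and `S ∩ C_G(Q) ≤ Q` force `S ≤ Q`. -/
theorem le_of_le_sup_centralizer {Q S : Subgroup G} (hQS : Q ≤ S) (hS : S ≤ Q ⊔ C(Q))
    (hSC : S ⊓ C(Q) ≤ Q) : S ≤ Q := by
  intro s hs
  have h1 : s ∈ ((Q ⊔ C(Q) : Subgroup G) : Set G) := hS hs
  rw [Subgroup.coe_mul_of_left_le_normalizer_right Q C(Q)
    (Subgroup.le_normalizer.trans (normalizer_le_normalizer_centralizer Q))] at h1
  obtain ⟨q, hq, c, hc, rfl⟩ := h1
  have hcS : c ∈ S := by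
    have : c = q⁻¹ * (q * c) := by group
    rw [this]
    exact S.mul_mem (S.inv_mem (hQS hq)) hs
  exact Q.mul_mem hq (hSC ⟨hcS, hc⟩)

/-- if `Z(Q)` is a defect group of `e`, a normal step `(Q, e) ⊴ (S, g')` adds nothing inside
`C_G(Q)` -/
theorem inf_centralizer_le_of_normalSubpair (hMod : IsPModular p M) {Q S : Subgroup G}
    {e : Set (IrrCharacter C(Q))} {g' : Set (IrrCharacter C(S))}
    (hn : IsNormalSubpair p M Q e S g') (hD : IsDefectGroup p M e (zsub Q)) :
    S ⊓ C(Q) ≤ Q := by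
  classical
  have hM : M.IsPrime := hMod.2.1.isPrime
  have hp : p.Prime := Fact.out
  haveI : Fintype C(Q) := Fintype.ofFinite _
  haveI : Finite (IrrCharacter C(Q)) := irr_finite
  haveI : Fintype (IrrCharacter C(Q)) := Fintype.ofFinite _
  have hle : SubpairLE p M Q e S g' := Relation.ReflTransGen.single hn
  obtain ⟨⟨hQp, he⟩, ⟨hSp, hg'⟩, hQS, hSN, hstab, hbr⟩ := hn
  have hinv : ConjInv S (subgroupBlockCoeff C(Q) e) :=
    fun t ht => ((stabilizesBlock_iff C(Q) hM he t).1 (hstab t ht)).2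
  obtain ⟨c, hcS, hc⟩ := exists_not_memLocalIdeal_of_subpairLE hMod hle he hinv
  have hcQ : c ∈ C(Q) := Subgroup.centralizer_le hQS hcS
  rw [sbc_of_mem C(Q) e hcQ] at hc
  obtain ⟨g₀, hg₀, P, hP⟩ := hD
  have hR : MemLocalRing M (blockCoeff e ⟨c, hcQ⟩) := by
    obtain ⟨χ₀, rfl⟩ := he
    exact memLocalRing_blockCoeff_blockOf hM χ₀ _
  set c' : C(Q) := ⟨c, hcQ⟩ with hc'
  obtain ⟨x, Q', hQ'⟩ := (Cfsg.Agent.S0911.result p M hMod e he g₀ hg₀ P c').1 hR hc
  rw [← hP] at hQ'
  have hnorm : ∀ z : C(Q), (zsub Q).map (MulAut.conj z).toMonoidHom = zsub Q :=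
    fun z => Subgroup.Normal.map_conj_eq (zsub Q) z
  rw [hnorm x] at hQ'
  set R : Subgroup C(Q) := (S ⊓ C(Q)).subgroupOf C(Q) with hRdef
  have hRp : IsPGroup p R := (hSp.to_le inf_le_left).comap_subtype
  have hRK : R ≤ Subgroup.centralizer ({c'} : Set C(Q)) := by
    intro r hr
    rw [Subgroup.mem_centralizer_iff]
    intro h hh
    rw [Set.mem_singleton_iff] at hh
    subst hh
    apply Subtype.ext
    have hrS : (r : G) ∈ S := (Subgroup.mem_subgroupOf.1 hr).1
    exact Subgroup.mem_centralizer_iff.1 hcS (r : G) hrS |>.symm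
  obtain ⟨z, hz⟩ := exists_conj_le_of_isPGroup hRp hRK Q'
  have hRz : R ≤ zsub Q := by
    refine hz.trans ?_
    rw [← hnorm z]
    exact Subgroup.map_mono hQ'
  intro s hs
  have hsC : s ∈ C(Q) := hs.2
  have : (⟨s, hsC⟩ : C(Q)) ∈ zsub Q := hRz (Subgroup.mem_subgroupOf.2 hs)
  exact (Subgroup.mem_subgroupOf.1 this).1

/-- **The converse: a pair with a canonical character whose stabilizer has no extra
`p`-elements is maximal.** -/
theorem isMaximal_of_canonical (hMod : IsPModular p M) {Q : Subgroup G}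
    {e : Set (IrrCharacter C(Q))} {B : Set (IrrCharacter G)}
    (hB : IsBrauerPairOf p M B Q e) {θ : IrrCharacter C(Q)} (hθ : θ ∈ e)
    (hdeg : (charDegree (θ : C(Q) → ℂ)).factorization p +
        (Nat.card (Q ⊓ C(Q) : Subgroup G)).factorization p =
        (Nat.card C(Q)).factorization p)
    (hpel : ∀ g : G, g ∈ N(Q) → StabilizesBlock C(Q) e g → (∃ k : ℕ, orderOf g = p ^ k) →
      g ∈ Q ⊔ C(Q)) :
    IsMaximalBrauerPair p M B Q e := by
  classical
  have hM : M.IsPrime := hMod.2.1.isPrime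
  have hp : p.Prime := Fact.out
  obtain ⟨⟨hQp, he⟩, hBb, -⟩ := id hB
  have hZp : IsPGroup p (zsub Q) := (hQp.to_le inf_le_left).comap_subtype
  have hdeg' : (charDegree (θ : C(Q) → ℂ)).factorization p =
      (zsub Q).index.factorization p := by
    have hidx := Subgroup.card_mul_index (zsub Q)
    have hz0 : Nat.card (zsub Q) ≠ 0 := Nat.card_pos.ne'
    have hi0 : (zsub Q).index ≠ 0 := Subgroup.index_ne_zero_of_finite
    have hfac : (Nat.card (zsub Q) * (zsub Q).index).factorization p =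
        (Nat.card C(Q)).factorization p := by rw [hidx]
    rw [Nat.factorization_mul hz0 hi0, Finsupp.add_apply, card_zsub] at hfac
    omega
  have hD : IsDefectGroup p M e (zsub Q) := by
    have h := (Cfsg.Agent.S0969.result p M hMod (zsub Q) hZp (zsub_le_center Q) θ hdeg').1
    rw [← IsPBlock.eq_blockOf hM he hθ] at h
    exact h
  refine ⟨hB, fun R g hRg hle => ?_⟩
  by_contra hne
  obtain ⟨c, hlt, hn, -⟩ := exists_proper_step hMod hle (fun h => hne h.symm)
  obtain ⟨S, g'⟩ := c
  change Q < S at hlt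
  change IsNormalSubpair p M Q e S g' at hn
  have hSC : S ⊓ C(Q) ≤ Q := inf_centralizer_le_of_normalSubpair hMod hn hD
  obtain ⟨-, ⟨hSp, hg'⟩, hQS, hSN, hstab, -⟩ := id hn
  have hS : S ≤ Q ⊔ C(Q) := by
    intro s hs
    refine hpel s (hSN hs) (hstab s hs) ?_
    obtain ⟨k, hk⟩ := hSp ⟨s, hs⟩
    have hk' : s ^ p ^ k = 1 := by
      have := congrArg (Subtype.val) hk
      simpa using this
    exact (Nat.dvd_prime_pow hp).1 (orderOf_dvd_of_pow_eq_one hk') |>.imp fun j hj => hj.2
  exact absurd (le_of_le_sup_centralizer hQS hS hSC) (not_le_of_gt hlt)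

end Cfsg.Agent.Lib.Helper85.MaxPair
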