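import Mathlib
import Cfsg.Prelude.Def_BlockFusion
import Cfsg.Agent.Lib.Helper85.MaxPair
import Cfsg.Agent.Lib.Helper81.BPFusion
import Cfsg.Agent.S4658
import Cfsg.Agent.S5083
import Cfsg.Agent.Lib.Helper81.BPSylow

set_option autoImplicit false
set_option linter.unusedSectionVars false
set_option linter.style.haveILetI false

/-!
# Nilpotent blocks and the inner fusion system
-/

namespace Cfsg.Agent.Lib.Helper85.NilFusion

open Cfsg
open Cfsg.Agent.Lib.Helper21 Cfsg.Agent.Lib.Helper82 Cfsg.Agent.Lib.Helper83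
open Cfsg.Agent.Lib.Helper81 Cfsg.Agent.Lib.Helper85.AbelianDefect
open Cfsg.Agent.Lib.Helper85.MaxPair

universe u

variable {G : Type u} [Group G] [Fintype G]

local notation "C(" R ")" => Subgroup.centralizer ((R : Subgroup G) : Set G)
local notation "N(" R ")" => Subgroup.normalizer ((R : Subgroup G) : Set G)

variable {p : ℕ} [Fact p.Prime] {M : Ideal AlgInt}

/-- two pairs below `(P, e)` on the same subgroup have the same idempotent -/
theorem sbc_eq_of_subpairLE_of_eq' (hMod : IsPModular p M) {R Q P : Subgroup G}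
    {g : Set (IrrCharacter C(R))} {f : Set (IrrCharacter C(Q))} {e : Set (IrrCharacter C(P))}
    (hPe : IsBrauerPair p M P e) (hg : IsPBlock M g) (hf : IsPBlock M f)
    (h1 : SubpairLE p M R g P e) (h2 : SubpairLE p M Q f P e) (hRQ : R = Q) :
    subgroupBlockCoeff C(R) g = subgroupBlockCoeff C(Q) f := by
  subst hRQ
  have hRP : R ≤ P := subpairLE_le hMod h1 hg
  rw [(existsUnique_subpair hMod hPe hRP).unique ⟨hg, h1⟩ ⟨hf, h2⟩]

/-- an element normalizing `Q` and carrying `(Q, f) ≤ (P, e)` to a pair below `(P, e)` stabilizes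
`f` -/
theorem stabilizes_of_conj_subpairLE (hMod : IsPModular p M) {Q P : Subgroup G}
    {f : Set (IrrCharacter C(Q))} {e : Set (IrrCharacter C(P))}
    (hPe : IsBrauerPair p M P e) (hf : IsPBlock M f)
    (hle : SubpairLE p M Q f P e) {g : G} (hgQ : cj g Q = Q)
    (hle' : SubpairLE p M (cj g Q) (conjBlock Q g f) P e) :
    g ∈ N(Q) ∧ StabilizesBlock C(Q) f g := by
  classical
  have hM : M.IsPrime := hMod.2.1.isPrime
  haveI : Fintype C(Q) := Fintype.ofFinite _
  haveI : Finite (IrrCharacter C(Q)) := irr_finite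
  haveI : Fintype (IrrCharacter C(Q)) := Fintype.ofFinite _
  have hgN : g ∈ N(Q) := mem_normalizer_of_cj_eq hgQ
  have h := sbc_eq_of_subpairLE_of_eq' hMod hPe (isPBlock_conjBlock g Q hf) hf hle' hle hgQ
  rw [sbc_conjBlock g Q hf] at h
  exact ⟨hgN, (stabilizesBlock_iff_conjF C(Q) hM hf g).2
    ⟨normalizer_le_normalizer_centralizer Q hgN, h⟩⟩


/-- the automorphisms of `Q` induced by conjugation with the elements of a subgroup `T` -/
def autStab (Q T : Subgroup G) : Subgroup (MulAut Q) where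
  carrier := {α | ∃ g ∈ T, ∀ u : Q, ((α u : Q) : G) = g * (u : G) * g⁻¹}
  one_mem' := ⟨1, T.one_mem, fun u => by simp⟩
  mul_mem' := by
    rintro α β ⟨g, hg, hα⟩ ⟨h, hh, hβ⟩
    refine ⟨g * h, T.mul_mem hg hh, fun u => ?_⟩
    rw [MulAut.mul_apply, hα, hβ]
    group
  inv_mem' := by
    rintro α ⟨g, hg, hα⟩
    refine ⟨g⁻¹, T.inv_mem hg, fun u => ?_⟩
    have h := hα (α⁻¹ u)
    rw [MulAut.apply_inv_self] at h
    rw [h]
    group

theorem mem_autStab {Q T : Subgroup G} {α : MulAut Q} :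
    α ∈ autStab Q T ↔ ∃ g ∈ T, ∀ u : Q, ((α u : Q) : G) = g * (u : G) * g⁻¹ := Iff.rfl

theorem pow_apply_of_conj {Q : Subgroup G} {α : MulAut Q} {g : G}
    (hα : ∀ u : Q, ((α u : Q) : G) = g * (u : G) * g⁻¹) (m : ℕ) (u : Q) :
    (((α ^ m) u : Q) : G) = g ^ m * (u : G) * (g ^ m)⁻¹ := by
  induction m generalizing u with
  | zero => simp
  | succ m ih =>
    rw [pow_succ, MulAut.mul_apply, ih, hα, pow_succ]
    group

/-- if the `p`-regular elements of `T` centralize `Q`, the automorphisms induced by `T` form a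
`p`-group -/
theorem isPGroup_autStab {Q T : Subgroup G} (hT : ∀ g ∈ T, IsPRegular p g → g ∈ C(Q)) :
    IsPGroup p (autStab Q T) := by
  have hp : p.Prime := Fact.out
  rintro ⟨α, g, hg, hα⟩
  set n := orderOf g with hn
  have hn0 : n ≠ 0 := (orderOf_pos g).ne'
  set k := n.factorization p with hk
  refine ⟨k, ?_⟩
  apply Subtype.ext
  rw [Subgroup.coe_pow, Subgroup.coe_one]
  have hreg : IsPRegular p (g ^ p ^ k) := by
    unfold IsPRegular
    rw [orderOf_pow, ← hn, Nat.gcd_eq_right (Nat.ordProj_dvd n p)]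
    exact Nat.not_dvd_ordCompl hp hn0
  have hc : g ^ p ^ k ∈ C(Q) := hT _ (T.pow_mem hg _) hreg
  ext u
  rw [pow_apply_of_conj hα, MulAut.one_apply]
  have := Subgroup.mem_centralizer_iff.1 hc (u : G) u.2
  rw [← this]
  group

/-- **For a nilpotent block the automorphism groups of its fusion system are `p`-groups.** -/
theorem isPGroup_autGroup (hMod : IsPModular p M) {B : Set (IrrCharacter G)} {P : Subgroup G}
    {e : Set (IrrCharacter C(P))} (hnil : IsNilpotentBlock p M B) {F : FusionSystem P}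
    (hF : IsBlockFusionSystemOn p M B P e F) {Q : Subgroup G} (hQP : Q ≤ P) :
    IsPGroup p (F.autGroup Q) := by
  classical
  have hM : M.IsPrime := hMod.2.1.isPrime
  obtain ⟨hmax, hHom⟩ := hF
  obtain ⟨⟨hPp, he⟩, hB, -⟩ := id hmax.1
  obtain ⟨f, ⟨hf, hle⟩, huniq⟩ := existsUnique_subpair hMod ⟨hPp, he⟩ hQP
  have hQf : IsBrauerPairOf p M B Q f :=
    (Cfsg.Agent.S4658.result p M hMod P Q e f ⟨hPp, he⟩ ⟨hPp.to_le hQP, hf⟩ hle B hB).1 hmax.1
  have hT := mem_stab_iff hM hf (P := Q)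
  have hTreg : ∀ g ∈ stab Q f, IsPRegular p g → g ∈ C(Q) := by
    intro g hg hreg
    obtain ⟨hgN, hgst⟩ := (hT g).1 hg
    exact hnil.2 Q f hQf g hgN hgst hreg
  refine (isPGroup_autStab hTreg).to_le ?_
  unfold FusionSystem.autGroup
  rw [Subgroup.closure_le]
  intro α hα
  obtain ⟨-, g, hg, hgP, f', hle1, hle2⟩ := (hHom Q _).1 hα
  have hf' : IsPBlock M f' := isPBlock_of_subpairLE he hle1
  have hff : f' = f := huniq f' ⟨hf', hle1⟩
  subst hff
  have hgQ : cj g Q = Q := by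
    apply Subgroup.eq_of_le_of_card_ge
    · rintro _ ⟨u, hu, rfl⟩
      have := hg ⟨u, hu⟩
      simp only [MonoidHom.coe_comp, Function.comp_apply, Subgroup.coe_subtype,
        MulEquiv.coe_toMonoidHom] at this
      show (MulAut.conj g) u ∈ Q
      rw [MulAut.conj_apply, ← this]
      exact (α ⟨u, hu⟩).2
    · rw [card_cj]
  obtain ⟨hgN, hgst⟩ := stabilizes_of_conj_subpairLE hMod ⟨hPp, he⟩ hf' hle1 hgQ hle2
  refine ⟨g, (hT g).2 ⟨hgN, hgst⟩, fun u => ?_⟩
  have := hg u
  simpa using this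


/-- a fusion system is determined by its maps -/
theorem fusionSystem_ext {Ω : Type*} [Group Ω] {S : Subgroup Ω} (F F' : FusionSystem S)
    (h : ∀ Q : Subgroup Ω, F.Hom Q = F'.Hom Q) : F = F' := by
  cases F with
  | mk Hom a b c d e' =>
    cases F' with
    | mk Hom' a' b' c' d' e'' =>
      have hh : Hom = Hom' := funext h
      subst hh
      rfl

/-- **Nilpotent blocks have the inner fusion system**, given saturation of the block fusion
system. -/
theorem hom_eq_inner_of_nilpotent (hMod : IsPModular p M) {B : Set (IrrCharacter G)}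
    {P : Subgroup G} {e : Set (IrrCharacter C(P))} (hnil : IsNilpotentBlock p M B)
    {F : FusionSystem P} (hF : IsBlockFusionSystemOn p M B P e F)
    (hsat : ∃ F₀ : FusionSystem P, IsBlockFusionSystemOn p M B P e F₀ ∧ F₀.IsSaturated p)
    (Q : Subgroup G) : F.Hom Q = (innerFusionSystem P).Hom Q := by
  obtain ⟨F₀, hF₀, hsat₀⟩ := hsat
  have hFF : F = F₀ := by
    apply fusionSystem_ext
    intro R
    ext φ
    exact (hF.2 R φ).trans (hF₀.2 R φ).symm
  subst hFF
  have hPp : IsPGroup p P := hF.1.1.1.1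
  have := Cfsg.Agent.S5083.result p hPp F hsat₀
    (fun R hRP => isPGroup_autGroup hMod hnil hF hRP)
  rw [this]

/-- a pair fixed by `x` is equal to its conjugate by `x` -/
theorem conjPair_eq_of_stabilizes (hM : M.IsPrime) {Q : Subgroup G}
    {f : Set (IrrCharacter C(Q))} (hf : IsPBlock M f) {x : G} (hxN : x ∈ N(Q))
    (hxst : StabilizesBlock C(Q) f x) :
    (⟨cj x Q, conjBlock Q x f⟩ : BrauerPairIdx G) = ⟨Q, f⟩ := by
  classical
  haveI : Fintype C(Q) := Fintype.ofFinite _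
  haveI : Finite (IrrCharacter C(Q)) := irr_finite
  haveI : Fintype (IrrCharacter C(Q)) := Fintype.ofFinite _
  have hcj : cj x Q = Q := by
    apply Subgroup.eq_of_le_of_card_ge
    · rintro _ ⟨u, hu, rfl⟩
      show (MulAut.conj x) u ∈ Q
      rw [MulAut.conj_apply]
      exact (Subgroup.mem_normalizer_iff.1 hxN u).1 hu
    · rw [card_cj]
  apply pair_eq_of_sbc_eq hM hcj (isPBlock_conjBlock x Q hf) hf
  rw [sbc_conjBlock x Q hf]
  exact ((stabilizesBlock_iff_conjF C(Q) hM hf x).1 hxst).2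

theorem conj_pow_eq_of_conj_eq {Q : Subgroup G} {x u : G} (hxN : x ∈ N(Q))
    (h : ∀ v ∈ Q, x * v * x⁻¹ = u * v * u⁻¹) (m : ℕ) :
    ∀ v ∈ Q, x ^ m * v * (x ^ m)⁻¹ = u ^ m * v * (u ^ m)⁻¹ := by
  induction m with
  | zero => intro v _; simp
  | succ m ih =>
    intro v hv
    have hw : x * v * x⁻¹ ∈ Q := (Subgroup.mem_normalizer_iff.1 hxN v).1 hv
    have h1 := ih _ hw
    rw [h v hv] at h1
    rw [pow_succ, pow_succ]
    calc x ^ m * x * v * (x ^ m * x)⁻¹ = x ^ m * (x * v * x⁻¹) * (x ^ m)⁻¹ := by group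
      _ = x ^ m * (u * v * u⁻¹) * (x ^ m)⁻¹ := by rw [h v hv]
      _ = u ^ m * (u * v * u⁻¹) * (u ^ m)⁻¹ := h1
      _ = u ^ m * u * v * (u ^ m * u)⁻¹ := by group

/-- **A block with inner fusion system is nilpotent.** -/
theorem nilpotent_of_hom_eq_inner (hMod : IsPModular p M) {B : Set (IrrCharacter G)}
    {P : Subgroup G} {e : Set (IrrCharacter C(P))}
    {F : FusionSystem P} (hF : IsBlockFusionSystemOn p M B P e F)
    (hin : ∀ Q : Subgroup G, F.Hom Q = (innerFusionSystem P).Hom Q) :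
    IsNilpotentBlock p M B := by
  classical
  have hM : M.IsPrime := hMod.2.1.isPrime
  have hp : p.Prime := Fact.out
  obtain ⟨hmax, hHom⟩ := hF
  obtain ⟨⟨hPp, he⟩, hB, -⟩ := id hmax.1
  refine ⟨hB, fun Q f hQf x hxN hxst hxreg => ?_⟩
  obtain ⟨⟨hQp, hf⟩, -, -⟩ := id hQf
  obtain ⟨y, hle⟩ := exists_conj_subpairLE hMod hmax hQf
  set Q' := cj y Q with hQ'
  set f' := conjBlock Q y f with hf'def
  have hf' : IsPBlock M f' := isPBlock_conjBlock y Q hf
  have hQ'P : Q' ≤ P := subpairLE_le hMod hle hf'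
  set x' := y * x * y⁻¹ with hx'
  have hT := mem_stab_iff hM hf (P := Q)
  have hT' := mem_stab_iff hM hf' (P := Q')
  have hx'T : x' ∈ stab Q' f' := by
    rw [mem_stabilizer_conj_iff hM hf y hT hT' x']
    have : y⁻¹ * x' * y = x := by rw [hx']; group
    rw [this]
    exact (hT x).2 ⟨hxN, hxst⟩
  obtain ⟨hx'N, hx'st⟩ := (hT' x').1 hx'T
  have hpair := conjPair_eq_of_stabilizes hM hf' hx'N hx'st
  have hle2 : SubpairLE p M (cj x' Q') (conjBlock Q' x' f') P e := by
    unfold SubpairLE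
    rw [hpair]
    exact hle
  have hcjle : cj x' Q' ≤ P := subpairLE_le hMod hle2 (isPBlock_conjBlock x' Q' hf')
  have hmem : conjHom Q' x' ∈ F.Hom Q' :=
    (hHom Q' _).2 ⟨hQ'P, x', fun u => rfl, hcjle, f', hle, hle2⟩
  rw [hin Q'] at hmem
  obtain ⟨-, u, huP, hu⟩ := hmem
  have hconj : ∀ v ∈ Q', x' * v * x'⁻¹ = u * v * u⁻¹ := fun v hv => hu ⟨v, hv⟩
  obtain ⟨k, hk⟩ := (IsPGroup.iff_orderOf.1 hPp) ⟨u, huP⟩
  have huk : u ^ p ^ k = 1 := by
    have h1 : orderOf u = p ^ k := by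
      rw [← hk]
      exact (Subgroup.orderOf_mk u huP).symm
    rw [← h1]
    exact pow_orderOf_eq_one u
  have h1 : x' ^ p ^ k ∈ C(Q') := by
    rw [Subgroup.mem_centralizer_iff]
    intro v hv
    have := conj_pow_eq_of_conj_eq hx'N hconj (p ^ k) v hv
    rw [huk] at this
    simp only [inv_one, mul_one, one_mul] at this
    calc v * x' ^ p ^ k = (x' ^ p ^ k * v * (x' ^ p ^ k)⁻¹) * x' ^ p ^ k := by rw [this]
      _ = x' ^ p ^ k * v := by group
  have h2 : x' ^ orderOf x' ∈ C(Q') := by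
    rw [pow_orderOf_eq_one]
    exact Subgroup.one_mem _
  have hord : orderOf x' = orderOf x := by
    have : x' = MulAut.conj y x := by rw [hx', MulAut.conj_apply]
    rw [this]
    exact MulEquiv.orderOf_eq (MulAut.conj y) x
  have hcop : Nat.Coprime (p ^ k) (orderOf x') := by
    rw [hord]
    exact Nat.Coprime.pow_left k ((Nat.Prime.coprime_iff_not_dvd hp).2 hxreg)
  have h3 : x' ∈ C(Q') := mem_of_pow_mem_of_coprime hcop h1 h2
  have h4 := mem_centralizer_cj_iff.1 h3
  have : y⁻¹ * x' * y = x := by rw [hx']; group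
  rw [this] at h4
  exact h4

end Cfsg.Agent.Lib.Helper85.NilFusion
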