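import Mathlib
import Cfsg.Prelude.Def_BlockFusion
import Cfsg.Agent.Lib.Helper85.NilFusion

set_option autoImplicit false
set_option linter.unusedSectionVars false
set_option linter.style.haveILetI false

/-!
# Brauer pairs of a block `f` of `C_G(Q)` as pairs of `G` above `(Q, f)`

For a Brauer pair `(R, g)` of the block `f` of `H = C_G(Q)`, the pair `(QR, g)` of `G` contains
`(Q, f)` as a normal subpair.  Consequently the blocks of the Brauer pairs of a nilpotent block
are nilpotent.
-/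

namespace Cfsg.Agent.Lib.Helper85.CentPair

open Cfsg
open Cfsg.Agent.Lib.Helper21 Cfsg.Agent.Lib.Helper82 Cfsg.Agent.Lib.Helper83
open Cfsg.Agent.Lib.Helper81 Cfsg.Agent.Lib.Helper85.AbelianDefect
open Cfsg.Agent.Lib.Helper85.MaxPair Cfsg.Agent.Lib.Helper85.NilFusion

universe u

variable {G : Type u} [Group G] [Fintype G]

local notation "C(" R ")" => Subgroup.centralizer ((R : Subgroup G) : Set G)
local notation "N(" R ")" => Subgroup.normalizer ((R : Subgroup G) : Set G)

variable {p : ℕ} [Fact p.Prime] {M : Ideal AlgInt}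

section Transport

/-- the subgroup `Q·R` of `G` -/
abbrev supG (Q : Subgroup G) (R : Subgroup C(Q)) : Subgroup G := Q ⊔ R.map (C(Q)).subtype

variable (Q : Subgroup G) (R : Subgroup (Subgroup.centralizer (Q : Set G)))

theorem le_supG : Q ≤ supG Q R := le_sup_left

theorem map_le_supG : R.map (C(Q)).subtype ≤ supG Q R := le_sup_right

theorem mem_centralizer_supG_iff (h : C(Q)) :
    h ∈ Subgroup.centralizer ((R : Subgroup C(Q)) : Set C(Q)) ↔ (h : G) ∈ C(supG Q R) := by
  constructor
  · intro hh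
    rw [Subgroup.mem_centralizer_iff]
    have hK : supG Q R ≤ Subgroup.centralizer ({(h : G)} : Set G) := by
      apply sup_le
      · intro q hq
        rw [Subgroup.mem_centralizer_iff]
        intro k hk
        rw [Set.mem_singleton_iff] at hk
        subst hk
        exact (Subgroup.mem_centralizer_iff.1 h.2 q hq).symm
      · rintro _ ⟨r, hr, rfl⟩
        rw [Subgroup.mem_centralizer_iff]
        intro k hk
        rw [Set.mem_singleton_iff] at hk
        subst hk
        have := Subgroup.mem_centralizer_iff.1 hh r hr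
        exact (congrArg Subtype.val this).symm
    intro s hs
    have := Subgroup.mem_centralizer_iff.1 (hK hs) (h : G) rfl
    exact this.symm
  · intro hh
    rw [Subgroup.mem_centralizer_iff]
    intro r hr
    apply Subtype.ext
    exact Subgroup.mem_centralizer_iff.1 hh (r : G) (map_le_supG Q R ⟨r, hr, rfl⟩)

/-- the centralizer of `R` inside `H = C_G(Q)` is `C_G(QR)` -/
def centIsoS : Subgroup.centralizer ((R : Subgroup C(Q)) : Set C(Q)) ≃* C(supG Q R) where
  toFun y := ⟨((y : C(Q)) : G), (mem_centralizer_supG_iff Q R y.1).1 y.2⟩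
  invFun c := ⟨⟨(c : G), Subgroup.centralizer_le (le_supG Q R) c.2⟩,
    (mem_centralizer_supG_iff Q R ⟨(c : G), Subgroup.centralizer_le (le_supG Q R) c.2⟩).2 c.2⟩
  left_inv y := by apply Subtype.ext; apply Subtype.ext; rfl
  right_inv c := by apply Subtype.ext; rfl
  map_mul' a b := by apply Subtype.ext; rfl

@[simp] theorem centIsoS_apply (y : Subgroup.centralizer ((R : Subgroup C(Q)) : Set C(Q))) :
    ((centIsoS Q R y : C(supG Q R)) : G) = ((y : C(Q)) : G) := rfl

@[simp] theorem centIsoS_symm_apply (c : C(supG Q R)) :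
    ((((centIsoS Q R).symm c : Subgroup.centralizer ((R : Subgroup C(Q)) : Set C(Q))) : C(Q)) : G)
      = (c : G) := rfl

/-- a set of characters of `C_H(R)`, read on `C_G(QR)` -/
def gG (g : Set (IrrCharacter (Subgroup.centralizer ((R : Subgroup C(Q)) : Set C(Q))))) :
    Set (IrrCharacter C(supG Q R)) :=
  {ξ | irrComp (centIsoS Q R) ξ ∈ g}

theorem gG_blockOf (M : Ideal AlgInt)
    (χ₀ : IrrCharacter (Subgroup.centralizer ((R : Subgroup C(Q)) : Set C(Q)))) :
    gG Q R (blockOf M (χ₀ : _ → ℂ)) =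
      blockOf M (irrComp (centIsoS Q R).symm χ₀ : C(supG Q R) → ℂ) := by
  ext ξ
  rw [mem_blockOf_irrComp_iff]
  rfl

theorem isPBlock_gG {M : Ideal AlgInt}
    {g : Set (IrrCharacter (Subgroup.centralizer ((R : Subgroup C(Q)) : Set C(Q))))}
    (hg : IsPBlock M g) : IsPBlock M (gG Q R g) := by
  obtain ⟨χ₀, rfl⟩ := hg
  exact ⟨irrComp (centIsoS Q R).symm χ₀, gG_blockOf Q R M χ₀⟩

/-- the Brauer functional at `QR` in `G` of the idempotent of `f` is the Brauer functional at `R`
inside `H = C_G(Q)` -/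
theorem brauerOmega_gG (f : Set (IrrCharacter C(Q))) (ξ : IrrCharacter C(supG Q R)) :
    brauerOmega (supG Q R) (subgroupBlockCoeff C(Q) f) (ξ : C(supG Q R) → ℂ) =
      brauerOmega R (blockCoeff f) (irrComp (centIsoS Q R) ξ : _ → ℂ) := by
  classical
  haveI : Fintype C(Q) := Fintype.ofFinite _
  haveI : Fintype C(supG Q R) := Fintype.ofFinite _
  haveI : Fintype (Subgroup.centralizer ((R : Subgroup C(Q)) : Set C(Q))) := Fintype.ofFinite _
  haveI : Finite (IrrCharacter C(Q)) := irr_finite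
  haveI : Fintype (IrrCharacter C(Q)) := Fintype.ofFinite _
  haveI : Finite (IrrCharacter G) := irr_finite
  haveI : Fintype (IrrCharacter G) := Fintype.ofFinite _
  rw [brauerOmega_eq_omega_rs, brauerOmega_eq_omega_rs]
  rw [← omega_comp (centIsoS Q R)]
  congr 1
  funext y
  show subgroupBlockCoeff C(Q) f ((centIsoS Q R y : C(supG Q R)) : G) = blockCoeff f (y : C(Q))
  rw [centIsoS_apply, sbc_of_mem _ _ (y : C(Q)).2]

end Transport


theorem cj_eq_of_mem_normalizer {x : G} {Q : Subgroup G} (hx : x ∈ N(Q)) : cj x Q = Q := by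
  apply Subgroup.eq_of_le_of_card_ge
  · rintro _ ⟨u, hu, rfl⟩
    show (MulAut.conj x) u ∈ Q
    rw [MulAut.conj_apply]
    exact (Subgroup.mem_normalizer_iff.1 hx u).1 hu
  · rw [card_cj]

/-- a Brauer pair `(R, g)` of the block `f` of `H = C_G(Q)` gives a normal inclusion
`(Q, f) ⊴ (QR, g)` of Brauer pairs of `G` -/
theorem isNormalSubpair_supG (hMod : IsPModular p M) {Q : Subgroup G} (hQ : IsPGroup p Q)
    {f : Set (IrrCharacter C(Q))} {R : Subgroup C(Q)}
    {g : Set (IrrCharacter (Subgroup.centralizer ((R : Subgroup C(Q)) : Set C(Q))))}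
    (h : IsBrauerPairOf p M f R g) :
    IsNormalSubpair p M Q f (supG Q R) (gG Q R g) := by
  classical
  have hM : M.IsPrime := hMod.2.1.isPrime
  obtain ⟨⟨hRp, hg⟩, hf, hbr⟩ := h
  have hR'p : IsPGroup p (R.map (C(Q)).subtype) := hRp.map _
  have hR'C : R.map (C(Q)).subtype ≤ C(Q) := by
    rintro _ ⟨r, -, rfl⟩
    exact r.2
  have hSp : IsPGroup p (supG Q R) :=
    IsPGroup.to_sup_of_normal_left' hQ hR'p (hR'C.trans (Subgroup.centralizer_le_normalizer _))
  have hT := mem_stab_iff hM hf (P := Q)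
  refine ⟨⟨hQ, hf⟩, ⟨hSp, isPBlock_gG Q R hg⟩, le_supG Q R, ?_, ?_, ?_⟩
  · exact sup_le Subgroup.le_normalizer (hR'C.trans (Subgroup.centralizer_le_normalizer _))
  · intro x hx
    have hle : supG Q R ≤ stab Q f :=
      sup_le (le_stabilizer hM hf hT) (hR'C.trans (centralizer_le_stabilizer hM hf hT))
    exact ((hT x).1 (hle hx)).2
  · intro ξ hξ
    rw [brauerOmega_gG]
    exact hbr _ hξ

/-- **The blocks of the Brauer pairs of a nilpotent block are nilpotent.** -/
theorem isNilpotentBlock_centralizer (hMod : IsPModular p M) {B : Set (IrrCharacter G)}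
    (hnil : IsNilpotentBlock p M B) {Q : Subgroup G} {f : Set (IrrCharacter C(Q))}
    (hQf : IsBrauerPairOf p M B Q f) : IsNilpotentBlock p M f := by
  classical
  have hM : M.IsPrime := hMod.2.1.isPrime
  obtain ⟨⟨hQp, hf⟩, hB, -⟩ := id hQf
  refine ⟨hf, fun R g hRg x hxN hxst hxreg => ?_⟩
  have hn := isNormalSubpair_supG hMod hQp hRg
  have hSg : IsBrauerPairOf p M B (supG Q R) (gG Q R g) :=
    (Cfsg.Agent.S4658.result p M hMod (supG Q R) Q (gG Q R g) f hn.2.1 hn.1
      (Relation.ReflTransGen.single hn) B hB).2 hQf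
  rw [mem_centralizer_supG_iff]
  have hxNS : (x : G) ∈ N(supG Q R) := by
    apply mem_normalizer_of_cj_eq
    show (supG Q R).map (MulAut.conj (x : G)).toMonoidHom = supG Q R
    rw [Subgroup.map_sup]
    have h1 : Q.map (MulAut.conj (x : G)).toMonoidHom = Q :=
      cj_eq_of_mem_normalizer (Subgroup.centralizer_le_normalizer _ x.2)
    have h2 : (R.map (C(Q)).subtype).map (MulAut.conj (x : G)).toMonoidHom =
        R.map (C(Q)).subtype := by
      apply Subgroup.eq_of_le_of_card_ge
      · rintro _ ⟨_, ⟨r, hr, rfl⟩, rfl⟩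
        refine ⟨x * r * x⁻¹, (Subgroup.mem_normalizer_iff.1 hxN r).1 hr, ?_⟩
        simp [MulAut.conj_apply]
      · exact le_of_eq (Subgroup.card_map_of_injective (MulAut.conj (x : G)).injective).symm
    rw [h1, h2]
  apply hnil.2 _ _ hSg (x : G) hxNS
  · refine ⟨normalizer_le_normalizer_centralizer _ hxNS, fun ξ hξ => ?_⟩
    obtain ⟨χ', hχ', hconj⟩ := hxst.2 (irrComp (centIsoS Q R) ξ) hξ
    refine ⟨irrComp (centIsoS Q R).symm χ', ?_, ?_⟩
    · show irrComp (centIsoS Q R) (irrComp (centIsoS Q R).symm χ') ∈ g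
      rw [irrComp_irrComp_symm]
      exact hχ'
    · intro k k' hkk'
      have h1 := hconj ((centIsoS Q R).symm k) ((centIsoS Q R).symm k') (by
        apply Subtype.ext
        simpa using hkk')
      rw [irrComp_apply] at h1 ⊢
      rw [h1]
      simp
  · unfold IsPRegular at hxreg ⊢
    rwa [Subgroup.orderOf_coe]


theorem inf_centralizer_cj {u : G} {P : Subgroup G} (hu : u ∈ P) (Q : Subgroup G) :
    P ⊓ C(cj u Q) = cj u (P ⊓ C(Q)) := by
  ext v
  rw [Subgroup.mem_inf, mem_cj, mem_centralizer_cj_iff]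
  constructor
  · rintro ⟨hvP, hvC⟩
    refine ⟨u⁻¹ * v * u, ⟨P.mul_mem (P.mul_mem (P.inv_mem hu) hvP) hu, hvC⟩, ?_⟩
    group
  · rintro ⟨w, ⟨hwP, hwC⟩, rfl⟩
    refine ⟨P.mul_mem (P.mul_mem hu hwP) (P.inv_mem hu), ?_⟩
    have : u⁻¹ * (u * w * u⁻¹) * u = w := by group
    rw [this]
    exact hwC

/-- **In a nilpotent block `C_P(Q)` is a defect group of `f` for every `(Q, f) ≤ (P, e)`**, given
saturation of the block fusion system. -/
theorem isDefectGroup_inf_centralizer_of_nilpotent (hMod : IsPModular p M)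
    {B : Set (IrrCharacter G)} {P : Subgroup G} {e : Set (IrrCharacter C(P))}
    (hnil : IsNilpotentBlock p M B)
    (hsat : ∃ F₀ : FusionSystem P, IsBlockFusionSystemOn p M B P e F₀ ∧ F₀.IsSaturated p)
    {Q : Subgroup G} {f : Set (IrrCharacter C(Q))} (hf : IsPBlock M f)
    (hle : SubpairLE p M Q f P e) :
    IsDefectGroup p M f ((P ⊓ C(Q)).subgroupOf C(Q)) := by
  classical
  obtain ⟨F₀, hF₀, hsat₀⟩ := hsat
  have hin := hom_eq_inner_of_nilpotent hMod hnil hF₀ ⟨F₀, hF₀, hsat₀⟩
  rw [← isFullyCentralized_iff hMod hF₀ hf hle]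
  have hQP : Q ≤ P := subpairLE_le hMod hle hf
  refine ⟨hQP, fun R hR => ?_⟩
  obtain ⟨φ, hφ, hrange⟩ := hR
  rw [hin Q] at hφ
  obtain ⟨-, u, huP, hu⟩ := hφ
  have hR : R = cj u Q := by
    rw [← hrange]
    ext v
    constructor
    · rintro ⟨q, rfl⟩
      rw [hu]
      exact conj_mem_cj q.2
    · intro hv
      obtain ⟨q, hq, rfl⟩ := mem_cj.1 hv
      exact ⟨⟨q, hq⟩, hu ⟨q, hq⟩⟩
  rw [hR]
  unfold FusionSystem.centralizerIn
  rw [inf_centralizer_cj huP Q, card_cj]

end Cfsg.Agent.Lib.Helper85.CentPair
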