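import Mathlib
import Cfsg.Prelude.Def_BrauerPairs
import Cfsg.Prelude.Def_BlockLocal
import Cfsg.Agent.Lib.Helper85.AbelianDefect
import Cfsg.Agent.Lib.Helper81.BPSylow
import Cfsg.Agent.Lib.Helper81.BPUnique
import Cfsg.Agent.Lib.Helper21.InducedSum
import Cfsg.Agent.Lib.Helper21.BlockPartVal
import Cfsg.Agent.S0919
import Cfsg.Agent.S4659
import Cfsg.Agent.Lib.Helper81.DefectBasic

set_option autoImplicit false
set_option linter.unusedSectionVars false
set_option linter.style.haveILetI false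

/-!
# Brauer pairs on abelian subgroups and induced blocks

For an abelian `p`-subgroup `P`, `(P, c)` is a Brauer pair of `B` iff `c` induces `B`.  A pair of
`B` whose subgroup is a defect group of `B` is maximal.  Induction of blocks from `C_G(P)` to
`C_G(Q)`, computed inside `C_G(Q)`, is compared with inclusion of Brauer pairs.
-/

namespace Cfsg.Agent.Lib.Helper85.InducedPair

open Cfsg
open Cfsg.Agent.Lib.Helper21 Cfsg.Agent.Lib.Helper82 Cfsg.Agent.Lib.Helper83
open Cfsg.Agent.Lib.Helper81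
open Cfsg.Agent.Lib.Helper85.AbelianDefect

universe u

variable {G : Type u} [Group G] [Fintype G]

local notation "C(" R ")" => Subgroup.centralizer ((R : Subgroup G) : Set G)
local notation "N(" R ")" => Subgroup.normalizer ((R : Subgroup G) : Set G)

section General

variable {p : ℕ} [Fact p.Prime] {M : Ideal AlgInt}

theorem brauerOmega_eq_omega_restrict (P : Subgroup G) [Fintype C(P)] (β : G → ℂ)
    (ξ : C(P) → ℂ) :
    brauerOmega P β ξ = omega (fun h : C(P) => β (h : G)) ξ := by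
  classical
  unfold brauerOmega omega
  rw [finsum_eq_sum_of_fintype, Finset.sum_div]

/-- a block of `C_G(P)` inducing `B` gives a Brauer pair of `B` -/
theorem isBrauerPairOf_of_isInducedBlock (hMod : IsPModular p M) {P : Subgroup G}
    (hP : IsPGroup p P) {c : Set (IrrCharacter C(P))} {B : Set (IrrCharacter G)}
    (hind : IsInducedBlock M C(P) c B) : IsBrauerPairOf p M B P c := by
  classical
  have hM : M.IsPrime := hMod.2.1.isPrime
  haveI : Fintype C(P) := Fintype.ofFinite _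
  haveI : Finite (IrrCharacter C(P)) := irr_finite
  haveI : Fintype (IrrCharacter C(P)) := Fintype.ofFinite _
  haveI : Finite (IrrCharacter G) := irr_finite
  haveI : Fintype (IrrCharacter G) := Fintype.ofFinite _
  refine ⟨⟨hP, hind.1⟩, hind.2.1, fun ξ hξ => ?_⟩
  rw [brauerOmega_eq_omega_restrict]
  exact omega_restrict_blockCoeff_sub_one C(P) hM hind hξ

/-- a Brauer pair `(P, c)` of `B` with `P` abelian: `c` induces `B` -/
theorem isInducedBlock_of_isBrauerPairOf (hMod : IsPModular p M) {P : Subgroup G}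
    (hPC : P ≤ C(P)) {c : Set (IrrCharacter C(P))} {B : Set (IrrCharacter G)}
    (hBe : IsBrauerPairOf p M B P c) : IsInducedBlock M C(P) c B := by
  classical
  haveI : Finite (IrrCharacter G) := irr_finite
  haveI : Fintype (IrrCharacter G) := Fintype.ofFinite _
  haveI : Fintype C(P) := Fintype.ofFinite _
  haveI : Finite (IrrCharacter C(P)) := irr_finite
  haveI : Fintype (IrrCharacter C(P)) := Fintype.ofFinite _
  have hMpr : M.IsPrime := hMod.2.1.isPrime
  obtain ⟨⟨hP, he⟩, hB, hcong⟩ := hBe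
  obtain ⟨B', hind'⟩ := Cfsg.Agent.S0919.result p M hMod P C(P) hP hPC le_rfl
    (Subgroup.centralizer_le_normalizer _) c he
  obtain ⟨χ₁, rfl⟩ := hB
  obtain ⟨χ₀', hB'⟩ := hind'.2.1
  obtain ⟨ξ, rfl⟩ := he
  have hξ : ξ ∈ blockOf M (ξ : C(P) → ℂ) := mem_blockOf_self hMpr ξ
  have hχ₀' : χ₀' ∈ B' := hB' ▸ mem_blockOf_self hMpr χ₀'
  have h1 := omega_restrict_blockCoeff_sub_ite C(P) hMpr hind' hξ hχ₀' χ₁
  have h2 := hcong ξ hξ
  rw [brauerOmega_eq_omega_restrict] at h2
  by_cases hmem : χ₀' ∈ blockOf M (χ₁ : G → ℂ)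
  · have : B' = blockOf M (χ₁ : G → ℂ) := by
      rw [hB']
      exact (blockOf_eq_of_sameBlock hMpr (mem_blockOf_iff.1 hmem)).symm
    rw [← this]
    exact hind'
  · exfalso
    rw [if_neg hmem, sub_zero] at h1
    have h3 := memLocalIdeal_sub hMpr h1 h2
    rw [sub_sub_cancel] at h3
    exact not_memLocalIdeal_one hMpr h3

/-- a Brauer pair of `B` on a defect group of `B` is maximal -/
theorem isMaximal_of_isDefectGroup (hMod : IsPModular p M) {P : Subgroup G}
    {c : Set (IrrCharacter C(P))} {B : Set (IrrCharacter G)}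
    (hBe : IsBrauerPairOf p M B P c) (hD : IsDefectGroup p M B P) :
    IsMaximalBrauerPair p M B P c := by
  classical
  refine ⟨hBe, fun R g hRg hle => ?_⟩
  obtain ⟨P₂, e₂, hmax₂, hle₂⟩ := exists_maximal_above hMod hRg
  have hD₂ : IsDefectGroup p M B P₂ := Cfsg.Agent.S4659.result p M hMod B P₂ e₂ hmax₂
  have hB : IsPBlock M B := hBe.2.1
  have hcard : Nat.card P₂ = Nat.card P := by
    rw [Cfsg.Agent.Lib.Helper22.IsDefectGroup.card_eq hMod hB hD₂,
      Cfsg.Agent.Lib.Helper22.IsDefectGroup.card_eq hMod hB hD]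
  have h1 : P ≤ R := subpairLE_le hMod hle hBe.1.2
  have h2 : R ≤ P₂ := subpairLE_le hMod hle₂ hRg.1.2
  have h3 : P = P₂ := Subgroup.eq_of_le_of_card_ge (h1.trans h2) hcard.le
  exact le_antisymm (h3 ▸ h2) h1

end General

section Transport

variable {p : ℕ} [Fact p.Prime] {M : Ideal AlgInt} {P Q : Subgroup G}

local notation "K'(" P "," Q ")" =>
  Subgroup.centralizer ((subH P Q : Subgroup (Subgroup.centralizer ((Q : Subgroup G) : Set G))) :
    Set (Subgroup.centralizer ((Q : Subgroup G) : Set G)))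

/-- the induced central character computed inside `C_G(Q)` is the induced central character in the
group `C_G(Q)` -/
theorem inducedCentralChar_tb (hQP : Q ≤ P) (hPC : P ≤ C(Q)) (ξ : IrrCharacter C(P))
    (h : C(Q)) :
    inducedCentralChar K'(P, Q) (irrComp (centIso hQP hPC) ξ : K'(P, Q) → ℂ) h =
      inducedCentralCharIn C(Q) C(P) (ξ : C(P) → ℂ) (h : G) := by
  classical
  unfold inducedCentralChar inducedCentralCharIn
  apply finsum_mem_eq_of_bijOn (centIso hQP hPC)
  · apply (centIso hQP hPC).toEquiv.bijOn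
    intro k'
    show (∃ x : C(Q), (x : G) * ((centIso hQP hPC k' : C(P)) : G) * (x : G)⁻¹ = (h : G)) ↔
      IsConj h (k' : C(Q))
    rw [isConj_iff]
    constructor
    · rintro ⟨x, hx⟩
      refine ⟨x⁻¹, ?_⟩
      apply Subtype.ext
      rw [centIso_apply] at hx
      push_cast
      rw [← hx]
      group
    · rintro ⟨x, hx⟩
      refine ⟨x⁻¹, ?_⟩
      rw [centIso_apply, ← hx]
      push_cast
      group
  · intro k' _
    rw [irrComp_apply, irrComp_apply, map_one]

/-- induction inside `C_G(Q)` from `C_G(P)` is induction in the group `C_G(Q)` -/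
theorem isInducedBlockIn_iff (hQP : Q ≤ P) (hPC : P ≤ C(Q)) {c : Set (IrrCharacter C(P))}
    (hc : IsPBlock M c) {f : Set (IrrCharacter C(Q))} :
    IsInducedBlockIn M C(Q) C(P) c f ↔ IsInducedBlock M K'(P, Q) (tb hQP hPC c) f := by
  constructor
  · rintro ⟨-, hf, h3⟩
    refine ⟨isPBlock_tb hQP hPC hc, hf, fun ξ' hξ' χ hχ h => ?_⟩
    have := h3 (irrComp (centIso hQP hPC).symm ξ') hξ' χ hχ h
    rw [← inducedCentralChar_tb hQP hPC, irrComp_irrComp_symm] at this
    exact this
  · rintro ⟨-, hf, h3⟩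
    refine ⟨hc, hf, fun ξ hξ χ hχ h => ?_⟩
    have hmem : irrComp (centIso hQP hPC) ξ ∈ tb hQP hPC c := by
      show irrComp (centIso hQP hPC).symm (irrComp (centIso hQP hPC) ξ) ∈ c
      rw [irrComp_symm_irrComp]
      exact hξ
    have := h3 _ hmem χ hχ h
    rw [inducedCentralChar_tb hQP hPC] at this
    exact this

/-- a Brauer pair of the block `f` of `C_G(Q)` on `P` gives a normal inclusion `(Q, f) ≤ (P, c)` -/
theorem isNormalSubpair_of_isBrauerPairOf_tb (hMod : IsPModular p M) (hQP : Q ≤ P)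
    (hPC : P ≤ C(Q)) (hP : IsPGroup p P) {c : Set (IrrCharacter C(P))} (hc : IsPBlock M c)
    {f : Set (IrrCharacter C(Q))}
    (hBf : IsBrauerPairOf p M f (subH P Q) (tb hQP hPC c)) :
    IsNormalSubpair p M Q f P c := by
  classical
  have hM : M.IsPrime := hMod.2.1.isPrime
  have hf : IsPBlock M f := hBf.2.1
  refine ⟨⟨hP.to_le hQP, hf⟩, ⟨hP, hc⟩, hQP,
    hPC.trans (Subgroup.centralizer_le_normalizer _), fun x hx => ?_, fun ξ hξ => ?_⟩
  · have h1 : C(Q) ≤ stab Q f := centralizer_le_stabilizer hM hf (mem_stab_iff hM hf)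
    exact ((mem_stab_iff hM hf x).1 (h1 (hPC hx))).2
  · have hmem : irrComp (centIso hQP hPC) ξ ∈ tb hQP hPC c := by
      show irrComp (centIso hQP hPC).symm (irrComp (centIso hQP hPC) ξ) ∈ c
      rw [irrComp_symm_irrComp]
      exact hξ
    have := hBf.2.2 _ hmem
    rw [brauerOmega_tb hQP hPC, irrComp_symm_irrComp] at this
    exact this

theorem mem_normalizer_subH_iff (hPC : P ≤ C(Q)) (h : C(Q)) :
    h ∈ Subgroup.normalizer ((subH P Q : Subgroup C(Q)) : Set C(Q)) ↔ (h : G) ∈ N(P) := by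
  rw [Subgroup.mem_normalizer_iff, Subgroup.mem_normalizer_iff]
  constructor
  · intro hh u
    constructor
    · intro hu
      have := (hh ⟨u, hPC hu⟩).1 (Subgroup.mem_subgroupOf.2 hu)
      exact Subgroup.mem_subgroupOf.1 this
    · intro hu
      have huH : u ∈ C(Q) := by
        have h1 : (h : G)⁻¹ * ((h : G) * u * (h : G)⁻¹) * (h : G) ∈ C(Q) :=
          Subgroup.mul_mem _ (Subgroup.mul_mem _ (Subgroup.inv_mem _ h.2) (hPC hu)) h.2
        have h2 : (h : G)⁻¹ * ((h : G) * u * (h : G)⁻¹) * (h : G) = u := by group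
        rwa [h2] at h1
      have := (hh ⟨u, huH⟩).2 (Subgroup.mem_subgroupOf.2 hu)
      exact Subgroup.mem_subgroupOf.1 this
  · intro hh u
    rw [Subgroup.mem_subgroupOf, Subgroup.mem_subgroupOf]
    exact hh (u : G)

/-- stabilizing the transported block in `C_G(Q)` is stabilizing the block in `G` -/
theorem stabilizesBlock_tb_iff (hM : M.IsPrime) (hQP : Q ≤ P) (hPC : P ≤ C(Q))
    {c : Set (IrrCharacter C(P))} (hc : IsPBlock M c) (h : C(Q)) (hN : (h : G) ∈ N(P)) :
    StabilizesBlock K'(P, Q) (tb hQP hPC c) h ↔ StabilizesBlock C(P) c (h : G) := by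
  classical
  haveI : Fintype C(Q) := Fintype.ofFinite _
  haveI : Fintype C(P) := Fintype.ofFinite _
  haveI : Finite (IrrCharacter C(P)) := irr_finite
  haveI : Fintype (IrrCharacter C(P)) := Fintype.ofFinite _
  haveI : Fintype K'(P, Q) := Fintype.ofFinite _
  haveI : Finite (IrrCharacter K'(P, Q)) := irr_finite
  haveI : Fintype (IrrCharacter K'(P, Q)) := Fintype.ofFinite _
  rw [stabilizesBlock_iff_conjF K'(P, Q) hM (isPBlock_tb hQP hPC hc),
    stabilizesBlock_iff_conjF C(P) hM hc]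
  have hN1 : (h : G) ∈ Subgroup.normalizer ((C(P) : Subgroup G) : Set G) :=
    normalizer_le_normalizer_centralizer P hN
  have hN2 : h ∈ Subgroup.normalizer ((K'(P, Q) : Subgroup C(Q)) : Set C(Q)) :=
    normalizer_le_normalizer_centralizer (subH P Q) ((mem_normalizer_subH_iff hPC h).2 hN)
  constructor
  · rintro ⟨-, hh⟩
    refine ⟨hN1, ?_⟩
    funext x
    show subgroupBlockCoeff C(P) c ((h : G)⁻¹ * x * (h : G)) = subgroupBlockCoeff C(P) c x
    by_cases hx : x ∈ C(Q)
    · have h1 := congrFun hh ⟨x, hx⟩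
      have h2 : conjF h (subgroupBlockCoeff K'(P, Q) (tb hQP hPC c)) ⟨x, hx⟩ =
          subgroupBlockCoeff K'(P, Q) (tb hQP hPC c) (h⁻¹ * ⟨x, hx⟩ * h) := rfl
      rw [h2, sbc_tb hQP hPC hc, sbc_tb hQP hPC hc] at h1
      exact h1
    · have hx' : x ∉ C(P) := fun hc' => hx (Subgroup.centralizer_le hQP hc')
      have hx2 : (h : G)⁻¹ * x * (h : G) ∉ C(P) := by
        intro hc'
        apply hx
        have h1 : (h : G) * ((h : G)⁻¹ * x * (h : G)) * (h : G)⁻¹ ∈ C(Q) :=
          Subgroup.mul_mem _ (Subgroup.mul_mem _ h.2 (Subgroup.centralizer_le hQP hc'))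
            (Subgroup.inv_mem _ h.2)
        have h2 : (h : G) * ((h : G)⁻¹ * x * (h : G)) * (h : G)⁻¹ = x := by group
        rwa [h2] at h1
      rw [sbc_of_not_mem _ _ hx', sbc_of_not_mem _ _ hx2]
  · rintro ⟨-, hh⟩
    refine ⟨hN2, ?_⟩
    funext y
    show subgroupBlockCoeff K'(P, Q) (tb hQP hPC c) (h⁻¹ * y * h) =
      subgroupBlockCoeff K'(P, Q) (tb hQP hPC c) y
    rw [sbc_tb hQP hPC hc, sbc_tb hQP hPC hc]
    exact congrFun hh (y : G)

end Transport

section Main

variable {p : ℕ} [Fact p.Prime] {M : Ideal AlgInt} {P Q : Subgroup G}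

local notation "K'(" P "," Q ")" =>
  Subgroup.centralizer ((subH P Q : Subgroup (Subgroup.centralizer ((Q : Subgroup G) : Set G))) :
    Set (Subgroup.centralizer ((Q : Subgroup G) : Set G)))

/-- For a maximal pair `(P, c)` of `B` with `P` abelian and a block `f` of `C_G(Q)`, `Q ≤ P`, of
which `(P, c)` is a Brauer pair: `f` is nilpotent iff the stabilizer of `(P, c)` in `C_G(Q)` is
`C_G(P)`. -/
theorem nilpotent_iff_of_pair (hMod : IsPModular p M) {B : Set (IrrCharacter G)}
    {c : Set (IrrCharacter C(P))} (hmax : IsMaximalBrauerPair p M B P c)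
    (hPab : ∀ x ∈ P, ∀ y ∈ P, x * y = y * x) (hQP : Q ≤ P) (hPC : P ≤ C(Q))
    {f : Set (IrrCharacter C(Q))}
    (hBf : IsBrauerPairOf p M f (subH P Q) (tb hQP hPC c)) :
    IsNilpotentBlock p M f ↔
      ∀ g ∈ C(Q), g ∈ N(P) → StabilizesBlock C(P) c g → g ∈ C(P) := by
  classical
  have hM : M.IsPrime := hMod.2.1.isPrime
  haveI : Fintype C(Q) := Fintype.ofFinite _
  obtain ⟨⟨hP, hc⟩, hB, -⟩ := id hmax.1
  have hf : IsPBlock M f := hBf.2.1
  have hns := isNormalSubpair_of_isBrauerPairOf_tb hMod hQP hPC hP hc hBf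
  have hle : SubpairLE p M Q f P c := Relation.ReflTransGen.single hns
  have hDf : IsDefectGroup p M f (subH P Q) :=
    isDefectGroup_subH hMod hmax hle hf ⟨hP, hc⟩ hle hPC le_rfl
  have hmaxH : IsMaximalBrauerPair p M f (subH P Q) (tb hQP hPC c) :=
    isMaximal_of_isDefectGroup hMod hBf hDf
  have habH : ∀ x ∈ subH P Q, ∀ y ∈ subH P Q, x * y = y * x := by
    intro x hx y hy
    apply Subtype.ext
    exact hPab _ (Subgroup.mem_subgroupOf.1 hx) _ (Subgroup.mem_subgroupOf.1 hy)
  rw [nilpotent_iff hMod hmaxH habH]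
  constructor
  · intro hh g hgQ hgN hgc
    have h1 := hh ⟨g, hgQ⟩ ((mem_normalizer_subH_iff hPC ⟨g, hgQ⟩).2 hgN)
      ((stabilizesBlock_tb_iff hM hQP hPC hc ⟨g, hgQ⟩ hgN).2 hgc)
    exact (mem_centralizer_subH_iff hQP hPC ⟨g, hgQ⟩).1 h1
  · intro hh h hhN hhc
    have hgN : (h : G) ∈ N(P) := (mem_normalizer_subH_iff hPC h).1 hhN
    have h1 := hh (h : G) h.2 hgN ((stabilizesBlock_tb_iff hM hQP hPC hc h hgN).1 hhc)
    exact (mem_centralizer_subH_iff hQP hPC h).2 h1

/-- **S4650.** -/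
theorem free_iff_local_nilpotent (hMod : IsPModular p M) {B : Set (IrrCharacter G)}
    (hPD : IsDefectGroup p M B P) (hPab : ∀ x ∈ P, ∀ y ∈ P, x * y = y * x)
    {c : Set (IrrCharacter C(P))} (hc : IsInducedBlock M C(P) c B) {T : Subgroup G}
    (hT : ∀ g : G, g ∈ T ↔ (g ∈ N(P) ∧ StabilizesBlock C(P) c g)) :
    (∀ g ∈ T, ∀ x ∈ P, x ≠ 1 → g * x * g⁻¹ = x → g ∈ C(P)) ↔
      ∀ Q : Subgroup G, Q ≤ P → Q ≠ ⊥ → ∀ f : Set (IrrCharacter C(Q)),
        IsInducedBlockIn M C(Q) C(P) c f → IsNilpotentBlock p M f := by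
  classical
  have hM : M.IsPrime := hMod.2.1.isPrime
  have hP : IsPGroup p P := isPGroup_of_isDefectGroup' hPD
  have hBe : IsBrauerPairOf p M B P c := isBrauerPairOf_of_isInducedBlock hMod hP hc
  have hmax : IsMaximalBrauerPair p M B P c := isMaximal_of_isDefectGroup hMod hBe hPD
  have hcb : IsPBlock M c := hc.1
  have hPCQ : ∀ Q : Subgroup G, Q ≤ P → P ≤ C(Q) := by
    intro Q hQP u hu
    rw [Subgroup.mem_centralizer_iff]
    intro v hv
    exact hPab v (hQP hv) u hu
  have habH : ∀ (Q : Subgroup G) (hQP : Q ≤ P),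
      subH P Q ≤ Subgroup.centralizer ((subH P Q : Subgroup C(Q)) : Set C(Q)) := by
    intro Q hQP u hu
    rw [Subgroup.mem_centralizer_iff]
    intro v hv
    apply Subtype.ext
    exact hPab _ (Subgroup.mem_subgroupOf.1 hv) _ (Subgroup.mem_subgroupOf.1 hu)
  constructor
  · intro hfree Q hQP hQ1 f hin
    have hPC := hPCQ Q hQP
    haveI : Fintype C(Q) := Fintype.ofFinite _
    have hind := (isInducedBlockIn_iff hQP hPC hcb).1 hin
    have hBf : IsBrauerPairOf p M f (subH P Q) (tb hQP hPC c) :=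
      isBrauerPairOf_of_isInducedBlock hMod hP.comap_subtype hind
    rw [nilpotent_iff_of_pair hMod hmax hPab hQP hPC hBf]
    intro g hgQ hgN hgc
    obtain ⟨x, hxQ, hx1⟩ : ∃ x ∈ Q, x ≠ 1 := by
      by_contra hno
      push Not at hno
      exact hQ1 ((Subgroup.eq_bot_iff_forall Q).2 hno)
    have hcomm : x * g = g * x := (Subgroup.mem_centralizer_iff.1 hgQ) x hxQ
    refine hfree g ((hT g).2 ⟨hgN, hgc⟩) x (hQP hxQ) hx1 ?_
    rw [← hcomm]
    group
  · intro hnil g hgT x hxP hx1 hgx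
    obtain ⟨hgN, hgc⟩ := (hT g).1 hgT
    have hQP : Subgroup.zpowers x ≤ P := (Subgroup.zpowers_le).2 hxP
    have hQ1 : Subgroup.zpowers x ≠ ⊥ := (Subgroup.zpowers_ne_bot).2 hx1
    have hPC := hPCQ _ hQP
    haveI : Fintype C(Subgroup.zpowers x) := Fintype.ofFinite _
    have hgQ : g ∈ C(Subgroup.zpowers x) := by
      rw [Subgroup.mem_centralizer_iff]
      intro u hu
      obtain ⟨k, rfl⟩ := Subgroup.mem_zpowers_iff.1 hu
      have hc1 : Commute g x := by
        show g * x = x * g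
        calc g * x = (g * x * g⁻¹) * g := by group
          _ = x * g := by rw [hgx]
      exact ((hc1.zpow_right k).eq).symm
    obtain ⟨f, ⟨hf, hle⟩, -⟩ := existsUnique_subpair hMod (⟨hP, hcb⟩ : IsBrauerPair p M P c) hQP
    have hBf : IsBrauerPairOf p M f (subH P (Subgroup.zpowers x)) (tb hQP hPC c) :=
      isBrauerPairOf_tb hMod hQP hPC ⟨hP, hcb⟩ hf hle
    have hind := isInducedBlock_of_isBrauerPairOf hMod (habH _ hQP) hBf
    have hin := (isInducedBlockIn_iff hQP hPC hcb).2 hind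
    have hfn := hnil _ hQP hQ1 f hin
    exact (nilpotent_iff_of_pair hMod hmax hPab hQP hPC hBf).1 hfn g hgQ hgN hgc

end Main

end Cfsg.Agent.Lib.Helper85.InducedPair
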