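import Mathlib
import Cfsg.Agent.Lib.Helper05.A10Defs

/-!
# Pack K-A10 (S3489), leaf D1 (348912): `sum_actQ_eq_zero`
-/

set_option autoImplicit false

namespace Cfsg.Agent.Lib.Helper85.A10Iso

open Matrix Cfsg.Agent.Lib.Helper05.A10Iso

/-- an element with matrix `-1` acts as `-1` on the odd functions -/
theorem actQ_of_neg_one (g : GL4) (hg : ((g : GL4) : M4) = -1) (f : ↥Qodd) : actQ g f = -f := by
  have hgg : g * g = 1 := by
    apply Units.ext
    rw [Units.val_mul, hg, Units.val_one, neg_mul_neg, one_mul]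
  have hinv : g⁻¹ = g := inv_eq_of_mul_eq_one_right hgg
  apply Subtype.ext
  funext v
  rw [actQ_apply, hinv, hg, Matrix.neg_mulVec, Matrix.one_mulVec]
  exact f.2 v

/-- LEAF D1 (348912) -/
theorem sum_actQ_eq_zero (k : GL4) (h : ℕ) (hk : ((k ^ h : GL4) : M4) = -1) (f : ↥Qodd) :
    ∑ i ∈ Finset.range (2 * h), actQ (k ^ i) f = 0 := by
  rw [two_mul, Finset.sum_range_add]
  have key : ∀ i, actQ (k ^ (h + i)) f = - actQ (k ^ i) f := by
    intro i
    rw [pow_add, actQ_mul, actQ_of_neg_one _ hk]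
  simp only [key, Finset.sum_neg_distrib, add_neg_cancel]

end Cfsg.Agent.Lib.Helper85.A10Iso
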