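import Mathlib
import Cfsg.Agent.Lib.Helper72.A4ODefs

/-!
K-A4O-L6 `solvable_of_cyclic_sylow2` (pack of helper72 for S4068): cyclic Sylow 2-subgroups and even
order give a normal 2-complement (Mathlib `IsCyclic.normalizer_le_centralizer` + Burnside transfer);
the complement has odd order, the quotient embeds in the cyclic Sylow 2-subgroup.
-/

set_option autoImplicit false

namespace Cfsg.Agent.Lib.Helper85.A4O

open Cfsg.Agent.Lib.Helper72.A4O

universe u

/-- 406806 A4O-L6. -/
theorem solvable_of_cyclic_sylow2 {G : Type u} [Group G] [Finite G] (hep : EPO G)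
    (heven : Even (Nat.card G)) (hcyc : ∀ P : Sylow 2 G, IsCyclic ↥P)
    (hodd : ∀ K : Subgroup G, Odd (Nat.card K) → Group.IsSolvable K) : Group.IsSolvable G := by
  have hmin : (Nat.card G).minFac = 2 := by
    rw [Nat.minFac_eq_two_iff]; exact heven.two_dvd
  haveI : Fact (Nat.Prime 2) := ⟨Nat.prime_two⟩
  obtain ⟨P⟩ : Nonempty (Sylow 2 G) := inferInstance
  have hP : IsCyclic ↥P := hcyc P
  have hle := hP.normalizer_le_centralizer hmin
  have hK : Odd (Nat.card (MonoidHom.transferSylow P hle).ker) := by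
    rw [← Nat.not_even_iff_odd, even_iff_two_dvd]
    exact MonoidHom.not_dvd_card_ker_transferSylow P hle
  haveI hKs : Group.IsSolvable (MonoidHom.transferSylow P hle).ker := hodd _ hK
  haveI hPs : Group.IsSolvable ↥(P : Subgroup G) := by
    obtain ⟨g, hg⟩ := hP.exists_generator
    refine isSolvable_of_comm (fun a b => ?_)
    obtain ⟨m, rfl⟩ := Subgroup.mem_zpowers_iff.1 (hg a)
    obtain ⟨n, rfl⟩ := Subgroup.mem_zpowers_iff.1 (hg b)
    exact (Commute.refl g).zpow_zpow m n
  exact solvable_of_ker_le_range (MonoidHom.transferSylow P hle).ker.subtype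
    (MonoidHom.transferSylow P hle) (by simp)

end Cfsg.Agent.Lib.Helper85.A4O
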