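import Mathlib
import Cfsg.Prelude.Def_BlockFusion
import Cfsg.Agent.Lib.Helper85.NilFusion

set_option autoImplicit false
set_option linter.unusedSectionVars false
set_option linter.style.haveILetI false

/-!
# Construction of the fusion system of a block on a maximal Brauer pair
-/

namespace Cfsg.Agent.Lib.Helper85.BlockFS

open Cfsg
open Cfsg.Agent.Lib.Helper21 Cfsg.Agent.Lib.Helper82 Cfsg.Agent.Lib.Helper83
open Cfsg.Agent.Lib.Helper81 Cfsg.Agent.Lib.Helper85.AbelianDefect
open Cfsg.Agent.Lib.Helper85.MaxPair Cfsg.Agent.Lib.Helper85.NilFusion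

universe u

variable {G : Type u} [Group G] [Fintype G]

local notation "C(" R ")" => Subgroup.centralizer ((R : Subgroup G) : Set G)
local notation "N(" R ")" => Subgroup.normalizer ((R : Subgroup G) : Set G)

variable {p : ℕ} [Fact p.Prime] {M : Ideal AlgInt}

theorem cj_cj (k g : G) (Q : Subgroup G) : cj k (cj g Q) = cj (k * g) Q := by
  ext v
  simp only [mem_cj]
  constructor
  · rintro ⟨w, ⟨u, hu, rfl⟩, rfl⟩
    exact ⟨u, hu, by group⟩
  · rintro ⟨u, hu, rfl⟩
    exact ⟨g * u * g⁻¹, ⟨u, hu, rfl⟩, by group⟩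

theorem cj_one (Q : Subgroup G) : cj 1 Q = Q := by
  ext v
  simp only [mem_cj]
  constructor
  · rintro ⟨u, hu, rfl⟩
    simpa using hu
  · intro hv
    exact ⟨v, hv, by simp⟩

/-- conjugating a pair twice -/
theorem conjPair_mul (hM : M.IsPrime) (k g : G) {Q : Subgroup G}
    {f : Set (IrrCharacter C(Q))} (hf : IsPBlock M f) :
    (⟨cj k (cj g Q), conjBlock (cj g Q) k (conjBlock Q g f)⟩ : BrauerPairIdx G) =
      ⟨cj (k * g) Q, conjBlock Q (k * g) f⟩ := by
  apply pair_eq_of_sbc_eq hM (cj_cj k g Q)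
    (isPBlock_conjBlock k _ (isPBlock_conjBlock g Q hf)) (isPBlock_conjBlock (k * g) Q hf)
  rw [sbc_conjBlock k _ (isPBlock_conjBlock g Q hf), sbc_conjBlock g Q hf,
    sbc_conjBlock (k * g) Q hf, conjF_mul]

/-- conjugating a pair by the identity -/
theorem conjPair_one' (hM : M.IsPrime) {x : G} (hx : x = 1) {Q : Subgroup G}
    {f : Set (IrrCharacter C(Q))} (hf : IsPBlock M f) :
    (⟨cj x Q, conjBlock Q x f⟩ : BrauerPairIdx G) = ⟨Q, f⟩ := by
  subst hx
  apply pair_eq_of_sbc_eq hM (cj_one Q) (isPBlock_conjBlock 1 Q hf) hf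
  rw [sbc_conjBlock 1 Q hf, conjF_one]

/-- the maps of the block fusion system with source `Q` -/
def homSet (p : ℕ) (M : Ideal AlgInt) (P : Subgroup G) (e : Set (IrrCharacter C(P)))
    (Q : Subgroup G) : Set (Q →* G) :=
  {φ | Q ≤ P ∧ ∃ g : G, (∀ u : Q, φ u = g * (u : G) * g⁻¹) ∧
      Q.map (MulAut.conj g).toMonoidHom ≤ P ∧
      ∃ f : Set (IrrCharacter C(Q)),
        SubpairLE p M Q f P e ∧
          SubpairLE p M (Q.map (MulAut.conj g).toMonoidHom) (conjBlock Q g f) P e}

/-- an element of `P` fixes the pair `(P, e)` -/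
theorem conjPair_of_mem (hM : M.IsPrime) {P : Subgroup G} {e : Set (IrrCharacter C(P))}
    (he : IsPBlock M e) {g : G} (hg : g ∈ P) :
    (⟨cj g P, conjBlock P g e⟩ : BrauerPairIdx G) = ⟨P, e⟩ := by
  classical
  haveI : Fintype C(P) := Fintype.ofFinite _
  haveI : Finite (IrrCharacter C(P)) := irr_finite
  haveI : Fintype (IrrCharacter C(P)) := Fintype.ofFinite _
  exact conjPair_eq_of_stabilizes hM he (Subgroup.le_normalizer hg)
    (stabilizesBlock_of_mem hM he hg)

/-- conjugation by an element of `P` keeps a pair below `(P, e)` -/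
theorem subpairLE_conj_of_mem (hMod : IsPModular p M) {P Q : Subgroup G}
    {e : Set (IrrCharacter C(P))} {f : Set (IrrCharacter C(Q))} (he : IsPBlock M e)
    (hle : SubpairLE p M Q f P e) {g : G} (hg : g ∈ P) :
    SubpairLE p M (cj g Q) (conjBlock Q g f) P e := by
  have hM : M.IsPrime := hMod.2.1.isPrime
  have h := subpairLE_conj hMod g hle
  unfold SubpairLE at h ⊢
  rw [conjPair_of_mem hM he hg] at h
  exact h

/-- a pair below `(P, e)` on a subgroup of `S ≤ P` lies below the pair of `S` -/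
theorem subpairLE_of_le (hMod : IsPModular p M) {P Q S : Subgroup G}
    {e : Set (IrrCharacter C(P))} {f : Set (IrrCharacter C(Q))} {g : Set (IrrCharacter C(S))}
    (hPe : IsBrauerPair p M P e) (hf : IsPBlock M f) (hg : IsPBlock M g)
    (hle : SubpairLE p M Q f P e) (hleS : SubpairLE p M S g P e) (hQS : Q ≤ S) :
    SubpairLE p M Q f S g := by
  have hSP : S ≤ P := subpairLE_le hMod hleS hg
  obtain ⟨g', hg', h1, h2⟩ := subpairLE_factor hMod hPe hle hf hQS hSP
  have : g' = g := (existsUnique_subpair hMod hPe hSP).unique ⟨hg', h2⟩ ⟨hg, hleS⟩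
  rw [this] at h1
  exact h1


/-- the inverse of a map of the block fusion system -/
theorem exists_inv_pair (hMod : IsPModular p M) {P Q : Subgroup G}
    {e : Set (IrrCharacter C(P))} {f : Set (IrrCharacter C(Q))} (he : IsPBlock M e) {g : G}
    (hle1 : SubpairLE p M Q f P e) (hle2 : SubpairLE p M (cj g Q) (conjBlock Q g f) P e)
    (R : Subgroup G) (hR : R = cj g Q) :
    ∃ f' : Set (IrrCharacter C(R)), SubpairLE p M R f' P e ∧
      SubpairLE p M (cj g⁻¹ R) (conjBlock R g⁻¹ f') P e := by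
  have hM : M.IsPrime := hMod.2.1.isPrime
  subst hR
  have hf : IsPBlock M f := isPBlock_of_subpairLE he hle1
  refine ⟨conjBlock Q g f, hle2, ?_⟩
  unfold SubpairLE
  rw [conjPair_mul hM g⁻¹ g hf, conjPair_one' hM (inv_mul_cancel g) hf]
  exact hle1

/-- **The fusion system of a block on a maximal Brauer pair.** -/
noncomputable def blockFS (hMod : IsPModular p M) {B : Set (IrrCharacter G)} {P : Subgroup G}
    {e : Set (IrrCharacter C(P))} (hmax : IsMaximalBrauerPair p M B P e) : FusionSystem P where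
  Hom Q := homSet p M P e Q
  le_of_mem := by
    rintro Q φ ⟨hQP, g, hg, hgP, -⟩
    refine ⟨hQP, fun x => ?_⟩
    rw [hg]
    exact hgP ⟨x, x.2, rfl⟩
  injective_of_mem := by
    rintro Q φ ⟨-, g, hg, -⟩ a b hab
    have h : g * (a : G) * g⁻¹ = g * (b : G) * g⁻¹ := ((hg a).symm.trans hab).trans (hg b)
    exact Subtype.ext (mul_left_cancel (mul_right_cancel h))
  conj_mem := by
    intro Q g hQP hgP
    have hPe : IsBrauerPair p M P e := hmax.1.1
    obtain ⟨f, ⟨hf, hle⟩, -⟩ := existsUnique_subpair hMod hPe hQP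
    have hle2 := subpairLE_conj_of_mem hMod hPe.2 hle hgP
    exact ⟨hQP, g, fun u => rfl, subpairLE_le hMod hle2 (isPBlock_conjBlock g Q hf), f, hle, hle2⟩
  comp_mem := by
    rintro Q Q₂ φ ψ ⟨hQP, g, hg, hgP, f, hle1, hle2⟩ ⟨hQ₂P, k, hk, hkP, f₂, hle3, hle4⟩ h
    have hM : M.IsPrime := hMod.2.1.isPrime
    have hPe : IsBrauerPair p M P e := hmax.1.1
    have hf : IsPBlock M f := isPBlock_of_subpairLE hPe.2 hle1
    have hf₂ : IsPBlock M f₂ := isPBlock_of_subpairLE hPe.2 hle3
    have hgQ₂ : cj g Q ≤ Q₂ := by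
      rintro _ ⟨u, hu, rfl⟩
      have := h ⟨u, hu⟩
      rw [hg] at this
      exact this
    have h5 : SubpairLE p M (cj g Q) (conjBlock Q g f) Q₂ f₂ :=
      subpairLE_of_le hMod hPe (isPBlock_conjBlock g Q hf) hf₂ hle2 hle3 hgQ₂
    have h6 := subpairLE_conj hMod k h5
    have h7 : SubpairLE p M (cj k (cj g Q)) (conjBlock (cj g Q) k (conjBlock Q g f)) P e :=
      Relation.ReflTransGen.trans h6 hle4
    unfold SubpairLE at h7
    rw [conjPair_mul hM k g hf] at h7
    refine ⟨hQP, k * g, fun u => ?_,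
      subpairLE_le hMod h7 (isPBlock_conjBlock (k * g) Q hf), f, hle1, h7⟩
    show ψ (φ.codRestrict Q₂ h u) = _
    rw [hk]
    show k * φ u * k⁻¹ = _
    rw [hg, mul_inv_rev]
    simp only [mul_assoc]
  inv_mem := by
    rintro Q φ ⟨hQP, g, hg, hgP, f, hle1, hle2⟩
    have hPe : IsBrauerPair p M P e := hmax.1.1
    have hrange : φ.range = cj g Q := by
      ext v
      constructor
      · rintro ⟨q, rfl⟩
        rw [hg]
        exact conj_mem_cj q.2
      · intro hv
        obtain ⟨q, hq, rfl⟩ := mem_cj.1 hv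
        exact ⟨⟨q, hq⟩, hg ⟨q, hq⟩⟩
    obtain ⟨f', h1, h2⟩ := exists_inv_pair hMod hPe.2 hle1 hle2 φ.range hrange
    have hf' : IsPBlock M f' := isPBlock_of_subpairLE hPe.2 h1
    refine ⟨conjHom φ.range g⁻¹, ⟨subpairLE_le hMod h1 hf', g⁻¹, fun u => rfl,
      subpairLE_le hMod h2 (isPBlock_conjBlock g⁻¹ _ hf'), f', h1, h2⟩, fun x => ?_⟩
    show g⁻¹ * φ x * g⁻¹⁻¹ = x
    rw [hg, inv_inv]
    simp only [mul_assoc, inv_mul_cancel, mul_one, inv_mul_cancel_left]

theorem isBlockFusionSystemOn_blockFS (hMod : IsPModular p M) {B : Set (IrrCharacter G)}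
    {P : Subgroup G} {e : Set (IrrCharacter C(P))} (hmax : IsMaximalBrauerPair p M B P e) :
    IsBlockFusionSystemOn p M B P e (blockFS hMod hmax) :=
  ⟨hmax, fun _ _ => Iff.rfl⟩

end Cfsg.Agent.Lib.Helper85.BlockFS
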