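import Mathlib
import Cfsg.Agent.Lib.Helper82.BlockRank
import Cfsg.Agent.Lib.Helper82.BlockBasic
import Cfsg.Agent.Lib.Helper83.Quotient

set_option autoImplicit false

namespace Cfsg.Agent.Lib.Helper85

open scoped ComplexConjugate
open Cfsg Cfsg.Agent.Lib.Helper82 Cfsg.Agent.Lib.Helper83

universe u
variable {G : Type u} [Group G]

/-- The image of a `p`-regular element in a quotient is `p`-regular. -/
theorem not_dvd_orderOf_mk {p : ℕ} (Q : Subgroup G) [Q.Normal] {g : G}
    (hg : ¬ p ∣ orderOf g) : ¬ p ∣ orderOf (QuotientGroup.mk g : G ⧸ Q) := by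
  intro h
  apply hg
  have h1 : orderOf (QuotientGroup.mk g : G ⧸ Q) ∣ orderOf g := by
    apply orderOf_dvd_of_pow_eq_one
    rw [← QuotientGroup.mk_pow, pow_orderOf_eq_one]
    rfl
  exact h.trans h1

/-- A `p`-regular element of a quotient of a finite group has a `p`-regular preimage. -/
theorem exists_regular_preimage [Finite G] {p : ℕ} (hp : p.Prime) (Q : Subgroup G) [Q.Normal]
    (q : G ⧸ Q) (hq : ¬ p ∣ orderOf q) :
    ∃ g : G, ¬ p ∣ orderOf g ∧ (QuotientGroup.mk g : G ⧸ Q) = q := by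
  obtain ⟨g, rfl⟩ := QuotientGroup.mk_surjective q
  -- write `orderOf g = p ^ a * m`
  have hg0 : orderOf g ≠ 0 := (orderOf_pos g).ne'
  obtain ⟨a, m, hm, hgm⟩ := Nat.exists_eq_pow_mul_and_not_dvd hg0 p hp.ne_one
  have hcop : Nat.Coprime (p ^ a) m :=
    Nat.Coprime.pow_left a ((Nat.Prime.coprime_iff_not_dvd hp).2 hm)
  have hm0 : m ≠ 0 := by
    rintro rfl; rw [mul_zero] at hgm; exact hg0 hgm
  -- `k = p ^ a * t ≡ 1 (mod m)`
  obtain ⟨t, ht⟩ : ∃ t, p ^ a * t ≡ 1 [MOD m] := by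
    by_cases hm1 : m = 1
    · exact ⟨0, by rw [hm1]; exact Nat.modEq_one⟩
    · exact Nat.exists_mul_mod_eq_one_of_coprime hcop (by omega) |>.imp fun t ht => by
        have : 1 % m = 1 := Nat.mod_eq_of_lt (by omega)
        rw [Nat.ModEq, ht.2, this]
  refine ⟨g ^ (p ^ a * t), ?_, ?_⟩
  · intro hdvd
    have h1 : orderOf (g ^ (p ^ a * t)) ∣ m := by
      apply orderOf_dvd_of_pow_eq_one
      rw [← pow_mul]
      have : p ^ a * t * m = orderOf g * t := by rw [hgm]; ring
      rw [this, pow_mul, pow_orderOf_eq_one, one_pow]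
    exact hm (hdvd.trans h1)
  · rw [QuotientGroup.mk_pow]
    have h1 : orderOf (QuotientGroup.mk g : G ⧸ Q) ∣ m := by
      have h2 : orderOf (QuotientGroup.mk g : G ⧸ Q) ∣ p ^ a * m := by
        rw [← hgm]
        apply orderOf_dvd_of_pow_eq_one
        rw [← QuotientGroup.mk_pow, pow_orderOf_eq_one]; rfl
      have h3 : Nat.Coprime (orderOf (QuotientGroup.mk g : G ⧸ Q)) (p ^ a) :=
        Nat.Coprime.pow_right a (((Nat.Prime.coprime_iff_not_dvd hp).2 hq).symm)
      exact h3.dvd_of_dvd_mul_left h2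
    have h4 : p ^ a * t ≡ 1 [MOD orderOf (QuotientGroup.mk g : G ⧸ Q)] := ht.of_dvd h1
    rw [← pow_one (QuotientGroup.mk g : G ⧸ Q)]
    rw [← pow_mul, one_mul]
    exact pow_eq_pow_iff_modEq.2 h4

/-- Coset averaging: if every `p`-regular element centralizes the normal `p`-subgroup `Q`,
then on `p`-regular elements an irreducible character is a combination of the irreducible
characters having `Q` in their kernel, with coefficients `|Q|⟨χ⁰, ψ⟩`. -/
theorem apply_regular_eq_sum_kernel [Fintype G] [Fintype (IrrCharacter G)] {p : ℕ}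
    (hp : p.Prime) (Q : Subgroup G) [Q.Normal] [Fintype Q] (hQ : IsPGroup p Q)
    (hcent : ∀ x : G, ¬ p ∣ orderOf x → ∀ z ∈ Q, x * z = z * x)
    (χ : IrrCharacter G) (x : G) (hx : ¬ p ∣ orderOf x)
    [DecidablePred fun ψ : IrrCharacter G => ∀ n ∈ Q, (ψ : G → ℂ) n = (ψ : G → ℂ) 1] :
    (χ : G → ℂ) x = ∑ ψ : IrrCharacter G,
      if (∀ n ∈ Q, (ψ : G → ℂ) n = (ψ : G → ℂ) 1) then
        classInner (pRegularPart p (χ : G → ℂ)) (ψ : G → ℂ) * (Fintype.card Q : ℂ) *
          (ψ : G → ℂ) x else 0 := by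
  classical
  have hexp : ∀ y : G, pRegularPart p (χ : G → ℂ) y =
      ∑ ψ : IrrCharacter G,
        classInner (pRegularPart p (χ : G → ℂ)) (ψ : G → ℂ) * (ψ : G → ℂ) y := by
    intro y
    have h := congrFun (pRegularPart_eq_sum_irr (p := p) χ) y
    rw [Finset.sum_apply] at h
    simpa only [Pi.smul_apply, smul_eq_mul] using h
  have hS1 : ∑ z : Q, pRegularPart p (χ : G → ℂ) (x * z) = (χ : G → ℂ) x := by
    rw [Finset.sum_eq_single (1 : Q)]
    · rw [Subgroup.coe_one, mul_one, pRegularPart_of_regular _ hx]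
    · intro z _ hz
      apply pRegularPart_of_singular
      have hcomm : Commute x (z : G) := hcent x hx z z.2
      obtain ⟨k', hk'⟩ := hQ z
      have hdvd : orderOf z ∣ p ^ k' := orderOf_dvd_of_pow_eq_one hk'
      obtain ⟨k, _, hk⟩ := (Nat.dvd_prime_pow hp).1 hdvd
      have hzo : orderOf (z : G) = p ^ k := by rw [← hk, Subgroup.orderOf_coe]
      have hk0 : k ≠ 0 := by
        rintro rfl
        rw [pow_zero, orderOf_eq_one_iff] at hzo
        exact hz (Subtype.ext hzo)
      have hcop : (orderOf x).Coprime (orderOf (z : G)) := by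
        rw [hzo]
        exact Nat.Coprime.pow_right k ((Nat.Prime.coprime_iff_not_dvd hp).2 hx).symm
      rw [hcomm.orderOf_mul_eq_mul_orderOf_of_coprime hcop, hzo]
      exact Dvd.dvd.mul_left (dvd_pow_self p hk0) _
    · intro h; exact absurd (Finset.mem_univ _) h
  rw [← hS1, Finset.sum_congr rfl (fun (z : Q) _ => hexp (x * (z : G))), Finset.sum_comm]
  apply Finset.sum_congr rfl
  intro ψ _
  rw [← Finset.mul_sum]
  by_cases hker : ∀ n ∈ Q, (ψ : G → ℂ) n = (ψ : G → ℂ) 1
  · rw [if_pos hker]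
    have h1 : ∀ z : Q, (ψ : G → ℂ) (x * z) = (ψ : G → ℂ) x := fun z =>
      char_mul_of_mem_ker' (IrrCharacter_isCharacter ψ) (hker z z.2) x
    rw [Finset.sum_congr rfl (fun z _ => h1 z), Finset.sum_const, Finset.card_univ,
      nsmul_eq_mul]
    ring
  · rw [if_neg hker]
    push Not at hker
    obtain ⟨n, hn, hne⟩ := hker
    rw [irr_sum_coset_eq_zero ψ Q ⟨n, hn, hne⟩ x, mul_zero]

end Cfsg.Agent.Lib.Helper85
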