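import Mathlib

set_option autoImplicit false

namespace Cfsg.Agent.Lib.Helper85

open Finset Polynomial

/-- Positive reals with product at least one have sum at least their number. -/
theorem card_le_sum_of_one_le_prod {ι : Type*} (s : Finset ι) (z : ι → ℝ)
    (hz : ∀ i ∈ s, 0 < z i) (hp : 1 ≤ ∏ i ∈ s, z i) : (s.card : ℝ) ≤ ∑ i ∈ s, z i := by
  have h1 : ∑ i ∈ s, Real.log (z i) ≤ ∑ i ∈ s, (z i - 1) :=
    Finset.sum_le_sum fun i hi => Real.log_le_sub_one_of_pos (hz i hi)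
  have h2 : Real.log (∏ i ∈ s, z i) = ∑ i ∈ s, Real.log (z i) :=
    Real.log_prod fun i hi => (hz i hi).ne'
  have h3 : 0 ≤ Real.log (∏ i ∈ s, z i) := Real.log_nonneg hp
  rw [Finset.sum_sub_distrib, Finset.sum_const, nsmul_eq_mul, mul_one] at h1
  linarith

/-- Auxiliary form of the key inequality, with a cyclotomic extension `L` of `ℚ` given. -/
theorem totient_le_sum_normSq_aux {ι : Type*} [Fintype ι] (N : ℕ) (hN : 0 < N) (a : ι → ℕ)
    (ζ : ℂ) (hζ : IsPrimitiveRoot ζ N) (h : ∑ i, ζ ^ a i ≠ 0)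
    (L : Type) [Field L] [Algebra ℚ L] [IsCyclotomicExtension {N} ℚ L] :
    (N.totient : ℝ) ≤ ∑ ξ ∈ primitiveRoots N ℂ, ‖∑ i, ξ ^ a i‖ ^ 2 := by
  classical
  have : NeZero N := ⟨hN.ne'⟩
  have hirr : Irreducible (cyclotomic N ℚ) := cyclotomic.irreducible_rat hN
  let z : L := IsCyclotomicExtension.zeta N ℚ L
  have hz : IsPrimitiveRoot z N := IsCyclotomicExtension.zeta_spec N ℚ L
  let α : L := ∑ i, z ^ a i
  let E : (L →ₐ[ℚ] ℂ) ≃ primitiveRoots N ℂ := hz.embeddingsEquivPrimitiveRoots ℂ hirr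
  have hE : ∀ σ : L →ₐ[ℚ] ℂ, ((E σ : primitiveRoots N ℂ) : ℂ) = σ z := fun σ =>
    hz.embeddingsEquivPrimitiveRoots_apply_coe ℂ hirr σ
  have hσα : ∀ σ : L →ₐ[ℚ] ℂ, σ α = ∑ i, (σ z) ^ a i := by
    intro σ
    simp only [α, map_sum, map_pow]
  -- α is nonzero
  have hα0 : α ≠ 0 := by
    intro h0
    have hmem : ζ ∈ primitiveRoots N ℂ := (mem_primitiveRoots hN).mpr hζ
    have := hσα (E.symm ⟨ζ, hmem⟩)
    rw [h0, map_zero] at this
    have h2 : (E.symm ⟨ζ, hmem⟩) z = ζ := by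
      rw [← hE, E.apply_symm_apply]
    rw [h2] at this
    exact h this.symm
  -- α is integral
  have hαint : IsIntegral ℤ α := by
    apply IsIntegral.sum
    intro i _
    exact (hz.isIntegral hN).pow _
  have hfd : FiniteDimensional ℚ L := IsCyclotomicExtension.finiteDimensional {N} ℚ L
  have hnorm_int : IsIntegral ℤ (Algebra.norm ℚ α) := Algebra.isIntegral_norm ℚ hαint
  obtain ⟨y, hy⟩ := IsIntegrallyClosed.isIntegral_iff.mp hnorm_int
  have hnorm0 : Algebra.norm ℚ α ≠ 0 := Algebra.norm_ne_zero_iff.mpr hα0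
  have hy0 : y ≠ 0 := by
    rintro rfl
    rw [map_zero] at hy
    exact hnorm0 hy.symm
  have hprod : (algebraMap ℚ ℂ) (Algebra.norm ℚ α) = ∏ σ : L →ₐ[ℚ] ℂ, σ α :=
    Algebra.norm_eq_prod_embeddings ℚ ℂ α
  have hprodnorm : (1 : ℝ) ≤ ∏ σ : L →ₐ[ℚ] ℂ, ‖σ α‖ ^ 2 := by
    rw [Finset.prod_pow, ← norm_prod, ← hprod, ← hy]
    have : ‖(algebraMap ℚ ℂ) ((algebraMap ℤ ℚ) y)‖ = |(y : ℝ)| := by
      simp
    rw [this]
    have h1 : (1 : ℝ) ≤ |(y : ℝ)| := by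
      have : (1 : ℤ) ≤ |y| := Int.one_le_abs hy0
      exact_mod_cast this
    nlinarith
  have hpos : ∀ σ ∈ (Finset.univ : Finset (L →ₐ[ℚ] ℂ)), 0 < ‖σ α‖ ^ 2 := by
    intro σ _
    have hne : σ α ≠ 0 := by
      intro h0
      exact hα0 ((map_eq_zero_iff σ σ.toRingHom.injective).mp h0)
    positivity
  have hsum := card_le_sum_of_one_le_prod (Finset.univ : Finset (L →ₐ[ℚ] ℂ))
    (fun σ => ‖σ α‖ ^ 2) hpos hprodnorm
  have hcard : (Finset.univ : Finset (L →ₐ[ℚ] ℂ)).card = N.totient := by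
    rw [Finset.card_univ, Fintype.card_congr E, Fintype.card_coe, Complex.card_primitiveRoots]
  rw [hcard] at hsum
  calc (N.totient : ℝ) ≤ ∑ σ : L →ₐ[ℚ] ℂ, ‖σ α‖ ^ 2 := hsum
    _ = ∑ ξ : primitiveRoots N ℂ, ‖∑ i, (ξ : ℂ) ^ a i‖ ^ 2 := by
        apply Fintype.sum_equiv E
        intro σ
        rw [hσα, hE]
    _ = ∑ ξ ∈ primitiveRoots N ℂ, ‖∑ i, ξ ^ a i‖ ^ 2 :=
        Finset.sum_coe_sort (primitiveRoots N ℂ) (fun ξ => ‖∑ i, ξ ^ a i‖ ^ 2)

/-- The key arithmetic inequality: for a nonzero sum of `N`-th roots of unity, the sum of the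
squared absolute values of its conjugates is at least `φ N`. -/
theorem totient_le_sum_normSq {ι : Type*} [Fintype ι] (N : ℕ) (hN : 0 < N) (a : ι → ℕ)
    (ζ : ℂ) (hζ : IsPrimitiveRoot ζ N) (h : ∑ i, ζ ^ a i ≠ 0) :
    (N.totient : ℝ) ≤ ∑ ξ ∈ primitiveRoots N ℂ, ‖∑ i, ξ ^ a i‖ ^ 2 :=
  @totient_le_sum_normSq_aux ι _ N hN a ζ hζ h (CyclotomicField N ℚ) _
    (CyclotomicField.algebra N ℚ) _

end Cfsg.Agent.Lib.Helper85
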