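import Mathlib
import Cfsg.Prelude.Def_Characters
import Cfsg.Agent.Lib.Helper05.CharValues
import Cfsg.Agent.Lib.Helper85.NormAMGM

set_option autoImplicit false

namespace Cfsg.Agent.Lib.Helper85

open Finset

/-- Sums over primitive roots as sums over coprime exponents. -/
theorem sum_primitiveRoots_eq (N : ℕ) (hN : 0 < N) (ζ : ℂ) (hζ : IsPrimitiveRoot ζ N)
    (F : ℂ → ℝ) :
    ∑ ξ ∈ primitiveRoots N ℂ, F ξ = ∑ k ∈ (range N).filter (Nat.Coprime N), F (ζ ^ k) := by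
  have : NeZero N := ⟨hN.ne'⟩
  symm
  refine Finset.sum_bij (fun i _ ↦ ζ ^ i) ?_ ?_ ?_ ?_
  · simp only [mem_filter, mem_range, and_imp]
    rintro i - hi
    rw [mem_primitiveRoots hN]
    exact hζ.pow_of_coprime i hi.symm
  · simp only [mem_filter, mem_range, and_imp]
    rintro i hi - j hj - H
    exact hζ.pow_inj hi hj H
  · simp only [mem_filter, mem_range]
    intro ξ hξ
    rw [mem_primitiveRoots hN, hζ.isPrimitiveRoot_iff] at hξ
    rcases hξ with ⟨i, hin, hi, H⟩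
    exact ⟨i, ⟨hin, hi.symm⟩, H⟩
  · intro i _
    rfl

/-- Burnside's inequality: if a character does not vanish at `g`, then the sum of `|χ(g^k)|²`
over the exponents `k` prime to the order of `g` is at least `φ(o(g))`. -/
theorem char_sum_normSq_ge {G : Type*} [Group G] [Finite G] {χ : G → ℂ}
    (hχ : Cfsg.IsCharacter G χ) (g : G) (hne : χ g ≠ 0) :
    ((orderOf g).totient : ℝ) ≤
      ∑ k ∈ (range (orderOf g)).filter (Nat.Coprime (orderOf g)), ‖χ (g ^ k)‖ ^ 2 := by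
  classical
  obtain ⟨n, ρ, rfl⟩ := hχ
  have hfin : IsOfFinOrder g := isOfFinOrder_of_finite g
  have hN : 0 < orderOf g := hfin.orderOf_pos
  have : NeZero (orderOf g) := ⟨hN.ne'⟩
  obtain ⟨b, μ, hμ, -, hchar, -⟩ := Cfsg.Agent.Lib.Helper05.exists_eigenvalues ρ g hfin
  set N := orderOf g with hNdef
  set ζ : ℂ := Complex.exp (2 * Real.pi * Complex.I / N) with hζdef
  have hζ : IsPrimitiveRoot ζ N := Complex.isPrimitiveRoot_exp N hN.ne'
  have hex : ∀ i, ∃ a : ℕ, ζ ^ a = μ i := by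
    intro i
    obtain ⟨a, -, ha⟩ := hζ.eq_pow_of_pow_eq_one (hμ i)
    exact ⟨a, ha⟩
  choose a ha using hex
  have hval : ∀ k : ℕ, ρ.character (g ^ k) = ∑ i, (ζ ^ k) ^ a i := by
    intro k
    rw [hchar k]
    apply Finset.sum_congr rfl
    intro i _
    rw [← ha i, ← pow_mul, ← pow_mul, mul_comm]
  have h1 : ∑ i, ζ ^ a i ≠ 0 := by
    have := hval 1
    rw [pow_one, pow_one] at this
    rw [← this]
    exact hne
  have key := totient_le_sum_normSq N hN a ζ hζ h1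
  rw [sum_primitiveRoots_eq N hN ζ hζ (fun ξ => ‖∑ i, ξ ^ a i‖ ^ 2)] at key
  refine key.trans (le_of_eq ?_)
  apply Finset.sum_congr rfl
  intro k _
  rw [hval k]

/-- Burnside's inequality with a uniform modulus: if `g ^ M = 1` and a character does not vanish
at `g`, then the sum of `|χ(g^k)|²` over `k < M` prime to `M` is at least `φ(M)`. -/
theorem char_sum_normSq_ge' {G : Type*} [Group G] [Finite G] {χ : G → ℂ}
    (hχ : Cfsg.IsCharacter G χ) (g : G) (M : ℕ) (hM : 0 < M) (hgM : g ^ M = 1) (hne : χ g ≠ 0) :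
    (M.totient : ℝ) ≤ ∑ k ∈ (range M).filter (Nat.Coprime M), ‖χ (g ^ k)‖ ^ 2 := by
  classical
  obtain ⟨n, ρ, rfl⟩ := hχ
  have hfin : IsOfFinOrder g := isOfFinOrder_of_finite g
  have : NeZero M := ⟨hM.ne'⟩
  obtain ⟨b, μ, hμ, -, hchar, -⟩ := Cfsg.Agent.Lib.Helper05.exists_eigenvalues ρ g hfin
  have hμM : ∀ i, μ i ^ M = 1 := by
    intro i
    obtain ⟨c, hc⟩ := orderOf_dvd_of_pow_eq_one hgM
    rw [hc, pow_mul, hμ i, one_pow]
  set ζ : ℂ := Complex.exp (2 * Real.pi * Complex.I / M) with hζdef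
  have hζ : IsPrimitiveRoot ζ M := Complex.isPrimitiveRoot_exp M hM.ne'
  have hex : ∀ i, ∃ a : ℕ, ζ ^ a = μ i := by
    intro i
    obtain ⟨a, -, ha⟩ := hζ.eq_pow_of_pow_eq_one (hμM i)
    exact ⟨a, ha⟩
  choose a ha using hex
  have hval : ∀ k : ℕ, ρ.character (g ^ k) = ∑ i, (ζ ^ k) ^ a i := by
    intro k
    rw [hchar k]
    apply Finset.sum_congr rfl
    intro i _
    rw [← ha i, ← pow_mul, ← pow_mul, mul_comm]
  have h1 : ∑ i, ζ ^ a i ≠ 0 := by
    have := hval 1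
    rw [pow_one, pow_one] at this
    rw [← this]
    exact hne
  have key := totient_le_sum_normSq M hM a ζ hζ h1
  rw [sum_primitiveRoots_eq M hM ζ hζ (fun ξ => ‖∑ i, ξ ^ a i‖ ^ 2)] at key
  refine key.trans (le_of_eq ?_)
  apply Finset.sum_congr rfl
  intro k _
  rw [hval k]

end Cfsg.Agent.Lib.Helper85
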