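import Mathlib

set_option autoImplicit false

namespace Cfsg.Agent.Lib.Helper85

open Finset

section ring
variable {R : Type*} [Ring R]

theorem natCast_sub_geom_sum (x : R) (n : ℕ) :
    (n : R) - ∑ i ∈ range n, x ^ i = (1 - x) * ∑ i ∈ range n, ∑ k ∈ range i, x ^ k := by
  rw [Finset.mul_sum]
  simp_rw [mul_neg_geom_sum]
  rw [Finset.sum_sub_distrib]
  simp

end ring

section main
variable {R M : Type*} [Ring R] [AddCommGroup M] [Module R M]

/-- The two-variable map whose kernel we count. -/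
def fmap (σ τ : R) : M × M →+ M :=
  AddMonoidHom.mk' (fun p => (1 - τ) • p.1 - (1 - σ) • p.2) (by
    intro p q
    simp only [Prod.fst_add, Prod.snd_add, smul_add]
    abel)

/-- The norm map. -/
def nmap (σ τ : R) (a b : ℕ) : M →+ M :=
  AddMonoidHom.mk' (fun m => ((∑ i ∈ range a, σ ^ i) * (∑ j ∈ range b, τ ^ j)) • m) (by
    intro p q
    rw [smul_add])

variable (σ τ : R) (a b : ℕ)

theorem nmap_comp_fmap (hc : Commute σ τ) (ha : σ ^ a = 1) (hb : τ ^ b = 1) (p : M × M) :
    nmap σ τ a b (fmap σ τ p) = 0 := by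
  simp only [nmap, fmap, AddMonoidHom.mk'_apply]
  rw [smul_sub, smul_smul, smul_smul]
  have h1 : ((∑ i ∈ range a, σ ^ i) * ∑ j ∈ range b, τ ^ j) * (1 - τ) = 0 := by
    rw [mul_assoc, geom_sum_mul_neg, hb, sub_self, mul_zero]
  have hcomm : Commute (∑ j ∈ range b, τ ^ j) (1 - σ) := by
    apply Commute.sum_left
    intro j _
    apply Commute.pow_left
    exact (Commute.one_right τ).sub_right hc.symm
  have h2 : ((∑ i ∈ range a, σ ^ i) * ∑ j ∈ range b, τ ^ j) * (1 - σ) = 0 := by
    rw [mul_assoc, hcomm.eq, ← mul_assoc, geom_sum_mul_neg, ha, sub_self, zero_mul]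
  rw [h1, h2, zero_smul, zero_smul, sub_zero]

theorem nmap_fixed (m : M) (h1 : σ • m = m) (h2 : τ • m = m) :
    nmap σ τ a b m = (a * b) • m := by
  simp only [nmap, AddMonoidHom.mk'_apply]
  have hp : ∀ (x : R) (m : M), x • m = m → ∀ i : ℕ, x ^ i • m = m := by
    intro x m hx i
    induction i with
    | zero => simp
    | succ k ih => rw [pow_succ, mul_smul, hx, ih]
  have hs : ∀ (x : R) (m : M) (n : ℕ), x • m = m → (∑ i ∈ range n, x ^ i) • m = n • m := by
    intro x m n hx
    rw [Finset.sum_smul]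
    simp_rw [hp x m hx]
    simp
  rw [mul_smul, hs τ m b h2, smul_comm, hs σ m a h1, smul_smul, mul_comm]

theorem sigma_nmap (ha : σ ^ a = 1) (m : M) : σ • nmap σ τ a b m = nmap σ τ a b m := by
  simp only [nmap, AddMonoidHom.mk'_apply]
  rw [smul_smul, ← mul_assoc]
  have : σ * ∑ i ∈ range a, σ ^ i = ∑ i ∈ range a, σ ^ i := by
    have h := mul_neg_geom_sum σ a
    rw [ha, sub_self, sub_mul, one_mul, sub_eq_zero] at h
    exact h.symm
  rw [this]

theorem tau_nmap (hc : Commute σ τ) (hb : τ ^ b = 1) (m : M) :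
    τ • nmap σ τ a b m = nmap σ τ a b m := by
  simp only [nmap, AddMonoidHom.mk'_apply]
  rw [smul_smul, ← mul_assoc]
  have hcomm : Commute τ (∑ i ∈ range a, σ ^ i) := by
    apply Commute.sum_right
    intro j _
    exact hc.symm.pow_right j
  have : τ * ∑ i ∈ range b, τ ^ i = ∑ i ∈ range b, τ ^ i := by
    have h := mul_neg_geom_sum τ b
    rw [hb, sub_self, sub_mul, one_mul, sub_eq_zero] at h
    exact h.symm
  rw [hcomm.eq, mul_assoc, this]

theorem ab_sub_nmap_mem_range (m : M) :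
    (a * b) • m - nmap σ τ a b m ∈ (fmap (M := M) σ τ).range := by
  set Q := ∑ i ∈ range a, ∑ k ∈ range i, σ ^ k with hQ
  set Q' := ∑ j ∈ range b, ∑ k ∈ range j, τ ^ k with hQ'
  set P := ∑ i ∈ range a, σ ^ i with hP
  set P' := ∑ j ∈ range b, τ ^ j with hP'
  have e1 : (a : R) - P = (1 - σ) * Q := natCast_sub_geom_sum σ a
  have e2 : (b : R) - P' = (1 - τ) * Q' := natCast_sub_geom_sum τ b
  have key : ((a * b : ℕ) : R) - P * P' = (1 - τ) * ((a : R) * Q') - (1 - σ) * (-(Q * P')) := by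
    have hcomm : Commute (a : R) (1 - τ) := Nat.cast_commute a _
    rw [← mul_assoc, ← hcomm.eq, mul_assoc, ← e2, mul_neg, sub_neg_eq_add, ← mul_assoc, ← e1]
    push_cast
    noncomm_ring
  refine ⟨(((a : R) * Q') • m, (-(Q * P')) • m), ?_⟩
  simp only [fmap, nmap, AddMonoidHom.mk'_apply]
  rw [smul_smul, smul_smul, ← sub_smul, ← key, sub_smul, Nat.cast_smul_eq_nsmul]

end main

section count
variable {R M : Type*} [Ring R] [AddCommGroup M] [Module R M] [Finite M]
variable (σ τ : R) (a b : ℕ)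

theorem ker_nmap_eq (hc : Commute σ τ) (ha : σ ^ a = 1) (hb : τ ^ b = 1)
    (hcop : (Nat.card M).Coprime (a * b)) :
    (nmap (M := M) σ τ a b).ker = (fmap (M := M) σ τ).range := by
  apply le_antisymm
  · intro m hm
    rw [AddMonoidHom.mem_ker] at hm
    have h1 := ab_sub_nmap_mem_range σ τ a b m
    rw [hm, sub_zero] at h1
    -- coprimality inside the subgroup
    have hcop' : (Nat.card (fmap (M := M) σ τ).range).Coprime (a * b) :=
      Nat.Coprime.coprime_dvd_left (AddSubgroup.card_addSubgroup_dvd_card _) hcop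
    obtain ⟨y, hy⟩ := (Nat.Coprime.nsmul_right_bijective hcop').2 ⟨(a * b) • m, h1⟩
    have hy' : (a * b) • (y : M) = (a * b) • m := by
      have := congrArg Subtype.val hy
      simpa using this
    have := (Nat.Coprime.nsmul_right_bijective hcop).1 hy'
    rw [← this]
    exact y.2
  · rintro _ ⟨p, rfl⟩
    rw [AddMonoidHom.mem_ker]
    exact nmap_comp_fmap σ τ a b hc ha hb p

/-- The subgroup of common fixed points. -/
def fixedPts : AddSubgroup M where
  carrier := {m | σ • m = m ∧ τ • m = m}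
  zero_mem' := by simp
  add_mem' := by
    rintro x y ⟨h1, h2⟩ ⟨h3, h4⟩
    exact ⟨by rw [smul_add, h1, h3], by rw [smul_add, h2, h4]⟩
  neg_mem' := by
    rintro x ⟨h1, h2⟩
    exact ⟨by rw [smul_neg, h1], by rw [smul_neg, h2]⟩

theorem range_nmap_eq (hc : Commute σ τ) (ha : σ ^ a = 1) (hb : τ ^ b = 1)
    (hcop : (Nat.card M).Coprime (a * b)) :
    (nmap (M := M) σ τ a b).range = fixedPts (M := M) σ τ := by
  apply le_antisymm
  · rintro _ ⟨m, rfl⟩
    exact ⟨sigma_nmap σ τ a b ha m, tau_nmap σ τ a b hc hb m⟩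
  · intro c hc'
    have hcop' : (Nat.card (fixedPts (M := M) σ τ)).Coprime (a * b) :=
      Nat.Coprime.coprime_dvd_left (AddSubgroup.card_addSubgroup_dvd_card _) hcop
    obtain ⟨y, hy⟩ := (Nat.Coprime.nsmul_right_bijective hcop').2 ⟨c, hc'⟩
    have hy' : (a * b) • (y : M) = c := by
      have := congrArg Subtype.val hy
      simpa using this
    refine ⟨(y : M), ?_⟩
    rw [nmap_fixed σ τ a b (y : M) y.2.1 y.2.2, hy']

theorem card_ker_mul_card_range {A B : Type*} [AddGroup A] [AddGroup B] [Finite A]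
    (f : A →+ B) : Nat.card f.ker * Nat.card f.range = Nat.card A := by
  rw [← AddSubgroup.index_ker, AddSubgroup.card_mul_index]

theorem card_ker_fmap (hc : Commute σ τ) (ha : σ ^ a = 1) (hb : τ ^ b = 1)
    (hcop : (Nat.card M).Coprime (a * b)) :
    Nat.card (fmap (M := M) σ τ).ker = Nat.card M * Nat.card (fixedPts (M := M) σ τ) := by
  have h1 := card_ker_mul_card_range (fmap (M := M) σ τ)
  have h2 := card_ker_mul_card_range (nmap (M := M) σ τ a b)
  rw [ker_nmap_eq σ τ a b hc ha hb hcop, range_nmap_eq σ τ a b hc ha hb hcop] at h2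
  rw [Nat.card_prod] at h1
  have hpos : 0 < Nat.card (fmap (M := M) σ τ).range := Nat.card_pos
  apply Nat.eq_of_mul_eq_mul_right hpos
  rw [h1, mul_assoc, mul_comm (Nat.card (fixedPts (M := M) σ τ)), h2]

/-- Counting solutions of `u + σ w = w + τ u`. -/
theorem card_solutions (hc : Commute σ τ) (ha : σ ^ a = 1) (hb : τ ^ b = 1)
    (hcop : (Nat.card M).Coprime (a * b)) :
    Nat.card {p : M × M // p.1 + σ • p.2 = p.2 + τ • p.1} =
      Nat.card M * Nat.card {m : M // σ • m = m ∧ τ • m = m} := by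
  have h := card_ker_fmap σ τ a b hc ha hb hcop
  have e1 : {p : M × M // p.1 + σ • p.2 = p.2 + τ • p.1} ≃ (fmap (M := M) σ τ).ker := by
    refine Equiv.subtypeEquivRight fun p => ?_
    rw [AddMonoidHom.mem_ker]
    simp only [fmap, AddMonoidHom.mk'_apply, sub_smul, one_smul]
    constructor
    · intro h
      have : p.1 - τ • p.1 - (p.2 - σ • p.2) = (p.1 + σ • p.2) - (p.2 + τ • p.1) := by abel
      rw [this, h, sub_self]
    · intro h
      have : p.1 - τ • p.1 - (p.2 - σ • p.2) = (p.1 + σ • p.2) - (p.2 + τ • p.1) := by abel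
      rw [this, sub_eq_zero] at h
      exact h
  rw [Nat.card_congr e1, h]
  rfl

end count

end Cfsg.Agent.Lib.Helper85
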