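import Mathlib
import Cfsg.Agent.Lib.Helper85.Coprime

set_option autoImplicit false

namespace Cfsg.Agent.Lib.Helper85

section
variable {A : Type*} [CommGroup A]

/-- Automorphisms of a commutative group as additive endomorphisms of `Additive A`. -/
def autToEnd : MulAut A →* AddMonoid.End (Additive A) where
  toFun φ := (MulEquiv.toAdditive φ).toAddMonoidHom
  map_one' := rfl
  map_mul' _ _ := rfl

theorem autToEnd_apply (φ : MulAut A) (x : A) :
    autToEnd φ (Additive.ofMul x) = Additive.ofMul (φ x) := rfl

/-- Multiplicative version of the counting lemma. -/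
theorem card_solutions_mul [Finite A] (φ ψ : MulAut A) (a b : ℕ) (hc : Commute φ ψ)
    (ha : φ ^ a = 1) (hb : ψ ^ b = 1) (hcop : (Nat.card A).Coprime (a * b)) :
    Nat.card {p : A × A // p.1 * φ p.2 = p.2 * ψ p.1} =
      Nat.card A * Nat.card {x : A // φ x = x ∧ ψ x = x} := by
  have hfin : Finite (Additive A) := inferInstanceAs (Finite A)
  have h := card_solutions (M := Additive A) (autToEnd φ) (autToEnd ψ) a b
    (hc.map autToEnd) (by rw [← map_pow, ha, map_one]) (by rw [← map_pow, hb, map_one]) hcop
  exact h

end

end Cfsg.Agent.Lib.Helper85
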