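import Mathlib
import Cfsg.Agent.Lib.Helper22.AvgIntegral
import Cfsg.Agent.Lib.Helper83.SecondOrth
import Cfsg.Agent.Lib.Helper83.LinearCount
import Cfsg.Agent.Lib.Helper83.Linear
import Cfsg.Agent.Lib.Helper83.Decompose

set_option autoImplicit false

namespace Cfsg.Agent.Lib.Helper85

open scoped ComplexConjugate
open Cfsg Cfsg.Agent.Lib.Helper83

universe u
variable {G : Type u} [Group G]

/-- The coefficient of `μ` in the expansion of `u ↦ χ (g u)` on the subgroup `D`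
(without complex conjugation). -/
noncomputable def cosetCoeff (D : Subgroup G) [Fintype D] (χ : G → ℂ) (g : G) (μ : D → ℂ) : ℂ :=
  (Fintype.card D : ℂ)⁻¹ * ∑ u : D, χ (g * u) * μ u

/-- Expansion of `χ g` through the irreducible characters of a subgroup `D`:
`χ g = ∑_μ μ(1) · |D|⁻¹ ∑_u χ(g u) μ(u)`. -/
theorem apply_eq_sum_cosetCoeff [Finite G] (D : Subgroup G) [Fintype D]
    [Fintype (IrrCharacter D)] (χ : G → ℂ) (g : G) :
    χ g = ∑ μ : IrrCharacter D, (μ : D → ℂ) 1 * cosetCoeff D χ g (μ : D → ℂ) := by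
  classical
  unfold cosetCoeff
  have h1 : ∀ μ : IrrCharacter D, (μ : D → ℂ) 1 * ((Fintype.card D : ℂ)⁻¹ *
      ∑ u : D, χ (g * u) * (μ : D → ℂ) u) =
      (Fintype.card D : ℂ)⁻¹ * ∑ u : D, χ (g * u) * ((μ : D → ℂ) 1 * (μ : D → ℂ) u) := by
    intro μ
    rw [Finset.mul_sum, Finset.mul_sum, Finset.mul_sum]
    apply Finset.sum_congr rfl
    intro u _
    ring
  rw [Finset.sum_congr rfl (fun μ _ => h1 μ), ← Finset.mul_sum, Finset.sum_comm]
  have h2 : ∀ u : D, ∑ μ : IrrCharacter D, χ (g * u) * ((μ : D → ℂ) 1 * (μ : D → ℂ) u) =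
      if u = 1 then χ (g * u) * (Nat.card D : ℂ) else 0 := by
    intro u
    rw [← Finset.mul_sum, sum_irr_degree_mul (G := D) u]
    split_ifs <;> simp
  rw [Finset.sum_congr rfl (fun u _ => h2 u), Finset.sum_ite_eq' Finset.univ (1 : D)]
  simp only [Finset.mem_univ, if_true, Subgroup.coe_one, mul_one]
  have hc : (Fintype.card D : ℂ) ≠ 0 := Nat.cast_ne_zero.2 Fintype.card_ne_zero
  rw [Nat.card_eq_fintype_card]
  field_simp

/-- The coefficients `|D|⁻¹ ∑_u χ(g u) μ(u)` are algebraic integers when `g` centralizes `D`. -/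
theorem isIntegral_cosetCoeff [Finite G] (D : Subgroup G) [Fintype D] {χ : G → ℂ}
    (hχ : IsCharacter G χ) {μ : D → ℂ} (hμ : IsCharacter D μ) (g : G)
    (hg : ∀ u ∈ D, g * u = u * g) : IsIntegral ℤ (cosetCoeff D χ g μ) := by
  classical
  unfold cosetCoeff
  -- the character `(x, v) ↦ χ x * μ v` of `G × D`
  have hΨ : IsCharacter (G × D) (fun x : G × D => χ x.1 * μ x.2) := by
    have h1 : IsCharacter (G × D) (fun x : G × D => χ (MonoidHom.fst G D x)) :=
      isCharacter_comp_hom (MonoidHom.fst G D) hχ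
    have h2 : IsCharacter (G × D) (fun x : G × D => μ (MonoidHom.snd G D x)) :=
      isCharacter_comp_hom (MonoidHom.snd G D) hμ
    exact isCharacter_mul h1 h2
  let φ : D →* G × D := MonoidHom.prod D.subtype (MonoidHom.id D)
  have hφinj : Function.Injective φ := by
    intro a b hab
    have := congrArg Prod.snd hab
    simpa [φ] using this
  let Δ : Subgroup (G × D) := φ.range
  let _ : Fintype Δ := Fintype.ofFinite _
  have key := Cfsg.Agent.Lib.Helper22.isIntegral_avg_coset hΨ Δ ((g, 1) : G × D) (by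
    rintro _ ⟨u, rfl⟩
    ext
    · simpa [φ] using hg u u.2
    · simp [φ])
  let e : D ≃ Δ := (MonoidHom.ofInjective hφinj).toEquiv
  have hcard : Fintype.card Δ = Fintype.card D := (Fintype.card_congr e).symm
  have hsum : ∑ δ : Δ, (fun x : G × D => χ x.1 * μ x.2) ((g, 1) * (δ : G × D)) =
      ∑ u : D, χ (g * u) * μ u := by
    rw [← Equiv.sum_comp e]
    apply Finset.sum_congr rfl
    intro u _
    have : ((e u : Δ) : G × D) = ((u : G), u) := rfl
    rw [this]
    simp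
  rw [hcard, hsum] at key
  exact key

/-- Translating by a central element: the coefficient is multiplied by
`(χ z / χ 1) * (μ z / μ 1)`. -/
theorem cosetCoeff_central [Finite G] (D : Subgroup G) [Fintype D] (χ : IrrCharacter G)
    (μ : IrrCharacter D) (g : G) {z : G} (hz : z ∈ Subgroup.center G) (hzD : z ∈ D) :
    cosetCoeff D (χ : G → ℂ) g (μ : D → ℂ) =
      ((χ : G → ℂ) z / (χ : G → ℂ) 1) * ((μ : D → ℂ) ⟨z, hzD⟩ / (μ : D → ℂ) 1) *
        cosetCoeff D (χ : G → ℂ) g (μ : D → ℂ) := by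
  classical
  have hzD' : (⟨z, hzD⟩ : D) ∈ Subgroup.center D := by
    rw [Subgroup.mem_center_iff]
    intro u
    apply Subtype.ext
    exact Subgroup.mem_center_iff.1 hz (u : G)
  unfold cosetCoeff
  have h1 : ∑ u : D, (χ : G → ℂ) (g * u) * (μ : D → ℂ) u =
      ∑ u : D, (χ : G → ℂ) (g * ((u * ⟨z, hzD⟩ : D) : G)) * (μ : D → ℂ) (u * ⟨z, hzD⟩) :=
    (Equiv.sum_comp (Equiv.mulRight (⟨z, hzD⟩ : D))
      (fun u : D => (χ : G → ℂ) (g * u) * (μ : D → ℂ) u)).symm
  have h2 : ∀ u : D, (χ : G → ℂ) (g * ((u * ⟨z, hzD⟩ : D) : G)) * (μ : D → ℂ) (u * ⟨z, hzD⟩) =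
      ((χ : G → ℂ) z / (χ : G → ℂ) 1) * ((μ : D → ℂ) ⟨z, hzD⟩ / (μ : D → ℂ) 1) *
        ((χ : G → ℂ) (g * u) * (μ : D → ℂ) u) := by
    intro u
    have e1 : g * ((u * ⟨z, hzD⟩ : D) : G) = (g * u) * z := by
      simp [mul_assoc]
    rw [e1, irr_mul_central χ hz (g * u), irr_mul_central μ hzD' u]
    ring
  conv_lhs => rw [h1, Finset.sum_congr rfl (fun u _ => h2 u), ← Finset.mul_sum]
  ring

end Cfsg.Agent.Lib.Helper85
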