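import Mathlib
import Cfsg.Agent.Lib.Helper96.FC91Defs

/-!
# K-S4291-R4: `A₄` and `S₄` are rigid
(keystone for S4291, architect helper96)
-/

set_option autoImplicit false
set_option linter.style.haveILetI false

namespace Cfsg.Agent.Lib.Helper85.FC91

open Cfsg.Agent.Lib.Helper96.FC91

/-- a group with two distinct commuting involutions has a non-cyclic Sylow `2`-subgroup. -/
theorem not_forall_sylow_cyclic_of_klein {A : Type*} [Group A] [Finite A] (x y : A)
    (hx2 : x ^ 2 = 1) (hy2 : y ^ 2 = 1) (hxy : x * y = y * x) (hx1 : x ≠ 1) (hy1 : y ≠ 1)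
    (hne : x ≠ y) : ¬ ∀ P : Sylow 2 A, IsCyclic P := by
  intro hcyc
  classical
  haveI : Fact (Nat.Prime 2) := ⟨Nat.prime_two⟩
  have hZx : IsPGroup 2 (Subgroup.zpowers x) := by
    apply IsPGroup.of_card (n := 1)
    rw [Nat.card_zpowers, pow_one]
    exact orderOf_eq_prime hx2 hx1
  have hZy : IsPGroup 2 (Subgroup.zpowers y) := by
    apply IsPGroup.of_card (n := 1)
    rw [Nat.card_zpowers, pow_one]
    exact orderOf_eq_prime hy2 hy1
  have hnorm : Subgroup.zpowers x ≤ Subgroup.normalizer (Subgroup.zpowers y : Set A) := by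
    rw [Subgroup.zpowers_le]
    rw [Subgroup.mem_normalizer_iff]
    intro h
    have hc : ∀ k : A, k ∈ Subgroup.zpowers y → x * k * x⁻¹ = k := by
      intro k hk
      obtain ⟨i, rfl⟩ := Subgroup.mem_zpowers_iff.mp hk
      have hcomm : Commute x (y ^ i) := Commute.zpow_right hxy i
      rw [hcomm.eq, mul_inv_cancel_right]
    constructor
    · intro hh
      rw [hc h hh]
      exact hh
    · intro hh
      have h2 : h = x⁻¹ * (x * h * x⁻¹) * x := by group
      have h3 : x⁻¹ * (x * h * x⁻¹) * x = x * h * x⁻¹ := by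
        have hcomm : Commute x (x * h * x⁻¹) := by
          obtain ⟨i, hi⟩ := Subgroup.mem_zpowers_iff.mp hh
          rw [← hi]
          exact Commute.zpow_right hxy i
        calc x⁻¹ * (x * h * x⁻¹) * x = x⁻¹ * ((x * h * x⁻¹) * x) := by group
          _ = x⁻¹ * (x * (x * h * x⁻¹)) := by rw [hcomm.eq]
          _ = x * h * x⁻¹ := by group
      rw [h2, h3]
      exact hh
  have hV : IsPGroup 2 (Subgroup.zpowers x ⊔ Subgroup.zpowers y : Subgroup A) :=
    IsPGroup.to_sup_of_normal_right' hZx hZy hnorm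
  obtain ⟨P, hP⟩ := hV.exists_le_sylow
  haveI : IsCyclic P := hcyc P
  have hxP : x ∈ (P : Subgroup A) := hP (Subgroup.mem_sup_left (Subgroup.mem_zpowers x))
  have hyP : y ∈ (P : Subgroup A) := hP (Subgroup.mem_sup_right (Subgroup.mem_zpowers y))
  haveI : Fintype P := Fintype.ofFinite P
  have hle := IsCyclic.card_pow_eq_one_le (α := P) (n := 2) (by norm_num)
  have hcard : ({1, ⟨x, hxP⟩, ⟨y, hyP⟩} : Finset P).card = 3 := by
    rw [Finset.card_insert_of_notMem, Finset.card_insert_of_notMem, Finset.card_singleton]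
    · simp only [Finset.mem_singleton]
      intro h
      exact hne (congrArg Subtype.val h)
    · simp only [Finset.mem_insert, Finset.mem_singleton]
      rintro (h | h)
      · exact hx1 (congrArg Subtype.val h).symm
      · exact hy1 (congrArg Subtype.val h).symm
  have h3 : 3 ≤ 2 := by
    refine le_trans ?_ hle
    rw [← hcard]
    apply Finset.card_le_card
    intro a ha
    simp only [Finset.mem_insert, Finset.mem_singleton] at ha
    simp only [Finset.mem_filter, Finset.mem_univ, true_and]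
    rcases ha with rfl | rfl | rfl
    · simp
    · apply Subtype.ext
      simpa using hx2
    · apply Subtype.ext
      simpa using hy2
  omega

open Equiv

/-- the double transposition `(0 1)(2 3)`. -/
def c₁ : Perm (Fin 4) := swap (0 : Fin 4) 1 * swap 2 3

/-- the double transposition `(1 2)(0 3)`, conjugate of `c₁` under the `3`-cycle `(0 1 2)`. -/
def c₂ : Perm (Fin 4) := swap (1 : Fin 4) 2 * swap 0 3

/-- an even permutation conjugating `c₁` to `c₂`. -/
def g₀ : Perm (Fin 4) := swap (0 : Fin 4) 1 * swap 1 2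

theorem g₀_sign : Perm.sign g₀ = 1 := by decide

theorem g₀_conj : g₀ * c₁ * g₀⁻¹ = c₂ := by decide

theorem c_facts : c₁ ^ 2 = 1 ∧ c₂ ^ 2 = 1 ∧ c₁ * c₂ = c₂ * c₁ ∧ c₁ ≠ 1 ∧ c₂ ≠ 1 ∧ c₁ ≠ c₂ := by
  decide

set_option maxRecDepth 100000 in
theorem key4 : ∀ a : Perm (Fin 4), a ≠ 1 → ∃ g h : Perm (Fin 4),
    c₁ = g * a * g⁻¹ ∨ c₁ = (g * a * g⁻¹) * (h * a * h⁻¹) ∨
    c₁ = (g * a * g⁻¹) * (h * a⁻¹ * h⁻¹) := by
  unfold c₁
  decide

set_option maxRecDepth 100000 in
theorem key4A : ∀ a : Perm (Fin 4), Perm.sign a = 1 → a ≠ 1 → ∃ g h : Perm (Fin 4),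
    Perm.sign g = 1 ∧ Perm.sign h = 1 ∧
    (c₁ = g * a * g⁻¹ ∨ c₁ = (g * a * g⁻¹) * (h * a⁻¹ * h⁻¹)) := by
  unfold c₁
  decide

/-- **K-S4291-R4**, `S₄`. -/
theorem rigid_perm4 : Rigid (Equiv.Perm (Fin 4)) := by
  refine ⟨?_, ?_⟩
  · rw [Nat.card_eq_fintype_card, Fintype.card_perm, Fintype.card_fin]
    decide
  · intro A hA hcyc
    by_contra hne
    obtain ⟨a, haA, ha1⟩ := (Subgroup.ne_bot_iff_exists_ne_one).mp hne |>.imp
      (fun a h => h) |> fun ⟨a, h⟩ => (⟨(a : Perm (Fin 4)), a.2, fun h1 => h (Subtype.ext h1)⟩ :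
        ∃ a : Perm (Fin 4), a ∈ A ∧ a ≠ 1)
    have hconj : ∀ g : Perm (Fin 4), ∀ b ∈ A, g * b * g⁻¹ ∈ A := fun g b hb => hA.conj_mem b hb g
    have hc₁ : c₁ ∈ A := by
      obtain ⟨g, h, hgh⟩ := key4 a ha1
      rcases hgh with h1 | h1 | h1
      · rw [h1]; exact hconj g a haA
      · rw [h1]; exact A.mul_mem (hconj g a haA) (hconj h a haA)
      · rw [h1]; exact A.mul_mem (hconj g a haA) (hconj h a⁻¹ (A.inv_mem haA))
    have hc₂ : c₂ ∈ A := by
      rw [← g₀_conj]
      exact hconj g₀ c₁ hc₁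
    obtain ⟨f1, f2, f3, f4, f5, f6⟩ := c_facts
    refine not_forall_sylow_cyclic_of_klein (A := A) ⟨c₁, hc₁⟩ ⟨c₂, hc₂⟩ ?_ ?_ ?_ ?_ ?_ ?_ hcyc
    · apply Subtype.ext; simpa using f1
    · apply Subtype.ext; simpa using f2
    · apply Subtype.ext; simpa using f3
    · intro h; exact f4 (congrArg Subtype.val h)
    · intro h; exact f5 (congrArg Subtype.val h)
    · intro h; exact f6 (congrArg Subtype.val h)

/-- **K-S4291-R4**, `A₄`. -/
theorem rigid_alt4 : Rigid (alternatingGroup (Fin 4)) := by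
  refine ⟨?_, ?_⟩
  · rw [Nat.card_eq_fintype_card]
    have h := two_mul_card_alternatingGroup (α := Fin 4)
    rw [Fintype.card_perm, Fintype.card_fin] at h
    have : Nat.factorial 4 = 24 := by decide
    omega
  · intro A hA hcyc
    by_contra hne
    obtain ⟨a', ha'⟩ := (Subgroup.ne_bot_iff_exists_ne_one).mp hne
    -- `a' : A`, `(a' : alternatingGroup (Fin 4))`
    set a : Perm (Fin 4) := ((a' : alternatingGroup (Fin 4)) : Perm (Fin 4)) with hadef
    have hasign : Perm.sign a = 1 := Equiv.Perm.mem_alternatingGroup.mp (a' : alternatingGroup (Fin 4)).2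
    have ha1 : a ≠ 1 := by
      intro h
      apply ha'
      apply Subtype.ext
      apply Subtype.ext
      exact h
    -- membership of a permutation in `A`
    have hmem : ∀ b : Perm (Fin 4), ∀ hb : Perm.sign b = 1, ∀ g : Perm (Fin 4),
        ∀ hg : Perm.sign g = 1,
        (⟨b, Equiv.Perm.mem_alternatingGroup.mpr hb⟩ : alternatingGroup (Fin 4)) ∈ A →
        (⟨g * b * g⁻¹, Equiv.Perm.mem_alternatingGroup.mpr (by simp [hb])⟩ :
          alternatingGroup (Fin 4)) ∈ A := by
      intro b hb g hg hbA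
      have := hA.conj_mem _ hbA (⟨g, Equiv.Perm.mem_alternatingGroup.mpr hg⟩ : alternatingGroup (Fin 4))
      exact this
    have haA : (⟨a, Equiv.Perm.mem_alternatingGroup.mpr hasign⟩ : alternatingGroup (Fin 4)) ∈ A :=
      a'.2
    have hainvA : (⟨a⁻¹, Equiv.Perm.mem_alternatingGroup.mpr (by simp [hasign])⟩ :
        alternatingGroup (Fin 4)) ∈ A := A.inv_mem haA
    have hc₁s : Perm.sign c₁ = 1 := by decide
    have hc₂s : Perm.sign c₂ = 1 := by decide
    have hc₁ : (⟨c₁, Equiv.Perm.mem_alternatingGroup.mpr hc₁s⟩ : alternatingGroup (Fin 4)) ∈ A := by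
      obtain ⟨g, h, hg, hh, hgh⟩ := key4A a hasign ha1
      rcases hgh with h1 | h1
      · have := hmem a hasign g hg haA
        convert this using 2
      · have e1 := hmem a hasign g hg haA
        have e2 := hmem a⁻¹ (by simp [hasign]) h hh hainvA
        have := A.mul_mem e1 e2
        convert this using 2
        exact h1
    have hc₂ : (⟨c₂, Equiv.Perm.mem_alternatingGroup.mpr hc₂s⟩ : alternatingGroup (Fin 4)) ∈ A := by
      have := hmem c₁ hc₁s g₀ g₀_sign hc₁
      convert this using 2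
      exact g₀_conj.symm
    obtain ⟨f1, f2, f3, f4, f5, f6⟩ := c_facts
    refine not_forall_sylow_cyclic_of_klein (A := A) ⟨_, hc₁⟩ ⟨_, hc₂⟩ ?_ ?_ ?_ ?_ ?_ ?_ hcyc
    · apply Subtype.ext; apply Subtype.ext; simpa using f1
    · apply Subtype.ext; apply Subtype.ext; simpa using f2
    · apply Subtype.ext; apply Subtype.ext; simpa using f3
    · intro h; exact f4 (congrArg (fun z : A => ((z : alternatingGroup (Fin 4)) : Perm (Fin 4))) h)
    · intro h; exact f5 (congrArg (fun z : A => ((z : alternatingGroup (Fin 4)) : Perm (Fin 4))) h)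
    · intro h; exact f6 (congrArg (fun z : A => ((z : alternatingGroup (Fin 4)) : Perm (Fin 4))) h)

end Cfsg.Agent.Lib.Helper85.FC91
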