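import Mathlib
import Cfsg.Prelude
import Cfsg.Agent.Lib.Helper01.PCore
import Cfsg.Agent.Lib.Helper01.PPrimeCore
import Cfsg.Agent.Lib.Helper81.PSolvable
import Cfsg.Agent.Lib.Helper29.PCore

/-!
# The centre of `O_p(G / O_{p'}(G))` in a `p`-solvable group

For a finite `p`-solvable group `G` with `N = O_{p'}(G)` and a Sylow `p`-subgroup `P`, there is a
normal subgroup `A ≥ N` with `A / N` an abelian `p`-group of order at least `|Z(P)|`.
-/

set_option autoImplicit false

namespace Cfsg.Agent.Lib.Helper85.PSolvCenter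

open Cfsg

variable {G : Type*} [Group G]

/-- the index of the centre is an isomorphism invariant -/
theorem center_index_congr {H K : Type*} [Group H] [Group K] [Finite H] (e : H ≃* K) :
    (Subgroup.center H).index = (Subgroup.center K).index := by
  haveI : Finite K := Finite.of_equiv H e.toEquiv
  have h1 := Subgroup.card_mul_index (Subgroup.center H)
  have h2 := Subgroup.card_mul_index (Subgroup.center K)
  have h3 : Nat.card (Subgroup.center H) = Nat.card (Subgroup.center K) :=
    Nat.card_congr (Subgroup.centerCongr e).toEquiv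
  have h4 : Nat.card H = Nat.card K := Nat.card_congr e.toEquiv
  rw [h3, h4, ← h2] at h1
  exact Nat.eq_of_mul_eq_mul_left Nat.card_pos h1

/-- In a finite `p`-solvable group `G` with `N = O_{p'}(G)` there is a normal subgroup `A ≥ N` with
`A / N` an abelian `p`-group of order at least `|Z(P)|`, `P` a Sylow `p`-subgroup. -/
theorem exists_abelian_section [Finite G] {p : ℕ} [hp : Fact p.Prime] (hG : IsPSolvable p G)
    (N : Subgroup G) [hN : N.Normal] (hNdef : N = pPrimeCore p G) (P : Sylow p G) :
    ∃ A : Subgroup G, A.Normal ∧ N ≤ A ∧ (∀ x ∈ A, ∀ y ∈ A, x * y * x⁻¹ * y⁻¹ ∈ N) ∧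
      ∃ k : ℕ, Nat.card A = Nat.card N * p ^ k ∧
        Nat.card (Subgroup.center (P : Subgroup G)) ≤ p ^ k := by
  classical
  subst hNdef
  set N := pPrimeCore p G with hNd
  have hNcop : (Nat.card N).Coprime p := Cfsg.Agent.Lib.Helper01.pPrimeCore_card_coprime p
  let π : G →* G ⧸ N := QuotientGroup.mk' N
  have hπs : Function.Surjective π := QuotientGroup.mk'_surjective N
  have hker : ∀ x : G, π x = 1 ↔ x ∈ N := fun x => QuotientGroup.eq_one_iff x
  have hGbar : IsPSolvable p (G ⧸ N) :=
    Cfsg.Agent.Lib.Helper81.IsPSolvable.quotient hp.out hG N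
  have hbot : pPrimeCore p (G ⧸ N) = ⊥ := Cfsg.Agent.Lib.Helper29.pPrimeCore_quotient_eq_bot p
  have hHH := Cfsg.Agent.Lib.Helper81.centralizer_pCore_le hGbar hbot
  set O : Subgroup (G ⧸ N) := pCore p (G ⧸ N) with hOd
  haveI hOn : O.Normal := Cfsg.Agent.Lib.Helper01.pCore_normal p
  have hOp : IsPGroup p O := Cfsg.Agent.Lib.Helper01.pCore_isPGroup p
  let Z : Subgroup (G ⧸ N) := (Subgroup.center O).map O.subtype
  haveI hZn : Z.Normal := ConjAct.normal_of_characteristic_of_normal
  have hZmem : ∀ x : G ⧸ N, x ∈ Z ↔ x ∈ O ∧ ∀ o ∈ O, o * x = x * o := by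
    intro x
    constructor
    · rintro ⟨z, hz, rfl⟩
      refine ⟨z.2, fun o ho => ?_⟩
      have := Subgroup.mem_center_iff.1 hz ⟨o, ho⟩
      exact congrArg Subtype.val this
    · rintro ⟨hx, hc⟩
      refine ⟨⟨x, hx⟩, ?_, rfl⟩
      show (⟨x, hx⟩ : O) ∈ Subgroup.center O
      rw [Subgroup.mem_center_iff]
      intro o
      exact Subtype.ext (hc o o.2)
  have hZO : Z ≤ O := fun x hx => ((hZmem x).1 hx).1
  have hZp : IsPGroup p Z := hOp.to_le hZO
  refine ⟨Z.comap π, inferInstance, ?_, ?_, ?_⟩
  · intro n hn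
    show π n ∈ Z
    rw [(hker n).2 hn]
    exact Z.one_mem
  · intro x hx y hy
    have hx' : π x ∈ Z := hx
    have hy' : π y ∈ Z := hy
    rw [← hker]
    have hc := ((hZmem (π x)).1 hx').2 (π y) (hZO hy')
    rw [map_mul, map_mul, map_mul, map_inv, map_inv, ← hc]
    group
  · obtain ⟨k, hk⟩ := hZp.exists_card_eq
    refine ⟨k, ?_, ?_⟩
    · have h1 : (Z.comap π).index = Z.index := Subgroup.index_comap_of_surjective Z hπs
      have h2 := Subgroup.card_eq_card_quotient_mul_card_subgroup N
      have h3 := Subgroup.card_mul_index Z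
      have h4 := Subgroup.card_mul_index (Z.comap π)
      have hpos : 0 < Z.index := Nat.pos_of_ne_zero Subgroup.index_ne_zero_of_finite
      rw [h1] at h4
      rw [← hk]
      apply Nat.eq_of_mul_eq_mul_right hpos
      rw [h4, h2, ← h3]
      ring
    · rw [← hk]
      have hPN : (P : Subgroup G) ⊓ N = ⊥ := by
        rw [← disjoint_iff]
        apply Subgroup.disjoint_of_coprime_natCard
        obtain ⟨n, hn⟩ := P.2.exists_card_eq
        rw [hn]
        exact (Nat.Coprime.pow_right n hNcop).symm
      have hOP : O ≤ (P : Subgroup G).map π := by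
        have := Cfsg.Agent.Lib.Helper01.pCore_le_sylow (P.mapSurjective hπs)
        rwa [Sylow.coe_mapSurjective] at this
      have hmem : ∀ z : Subgroup.center (P : Subgroup G), π ((z : (P : Subgroup G)) : G) ∈ Z := by
        intro z
        have hzc : ∀ x ∈ (P : Subgroup G), x * ((z : (P : Subgroup G)) : G) =
            ((z : (P : Subgroup G)) : G) * x := by
          intro x hx
          have := Subgroup.mem_center_iff.1 z.2 ⟨x, hx⟩
          exact congrArg Subtype.val this
        have hcent : ∀ o ∈ O, o * π ((z : (P : Subgroup G)) : G) =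
            π ((z : (P : Subgroup G)) : G) * o := by
          intro o ho
          obtain ⟨x, hx, rfl⟩ := hOP ho
          rw [← map_mul, ← map_mul, hzc x hx]
        rw [hZmem]
        refine ⟨hHH ?_, hcent⟩
        rw [Subgroup.mem_centralizer_iff]
        intro o ho
        exact hcent o ho
      let f : Subgroup.center (P : Subgroup G) → Z := fun z => ⟨_, hmem z⟩
      have hf : Function.Injective f := by
        intro z z' h
        have h' : π ((z : (P : Subgroup G)) : G) = π ((z' : (P : Subgroup G)) : G) :=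
          congrArg Subtype.val h
        have h1 : ((z : (P : Subgroup G)) : G)⁻¹ * ((z' : (P : Subgroup G)) : G) ∈ N := by
          rw [← hker, map_mul, map_inv, h', inv_mul_cancel]
        have h2 : ((z : (P : Subgroup G)) : G)⁻¹ * ((z' : (P : Subgroup G)) : G) ∈
            (P : Subgroup G) := (P : Subgroup G).mul_mem ((P : Subgroup G).inv_mem z.1.2) z'.1.2
        have h3 : ((z : (P : Subgroup G)) : G)⁻¹ * ((z' : (P : Subgroup G)) : G) ∈
            (P : Subgroup G) ⊓ N := ⟨h2, h1⟩
        rw [hPN, Subgroup.mem_bot, inv_mul_eq_one] at h3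
        exact Subtype.ext (Subtype.ext h3)
      exact Nat.card_le_card_of_injective f hf

end Cfsg.Agent.Lib.Helper85.PSolvCenter
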