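import Mathlib
import Cfsg.Prelude
import Cfsg.Agent.Lib.Helper85.PSolvCenter
import Cfsg.Agent.Lib.Helper85.Gallagher
import Cfsg.Agent.Lib.Helper85.CliffordAbelian
import Cfsg.Agent.Lib.Helper04.CoprimeDegree
import Cfsg.Agent.Lib.Helper21.FongPSolv
import Cfsg.Agent.Lib.Helper21.CoverGen
import Cfsg.Agent.Lib.Helper40.PSolv
import Cfsg.Agent.Lib.Helper81.DefectBasic
import Cfsg.Agent.Lib.Helper22.DefectConj
import Cfsg.Agent.S0887
import Cfsg.Agent.S4492

/-!
# Heights in blocks of `p`-solvable groups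

For a block `B` of a finite `p`-solvable group with defect group `P`, every `χ ∈ B` has height at
most `ν_p |P : Z(P)|`.
-/

set_option autoImplicit false
set_option linter.unusedSectionVars false
set_option linter.style.haveILetI false

namespace Cfsg.Agent.Lib.Helper85.HeightBound

open Cfsg
open Cfsg.Agent.Lib.Helper81 (irrComp irrComp_apply)

universe u

/-- **Gallagher, degree form.** If `X / M` is abelian of order prime to `|M|` and `θ ∈ Irr(M)` is
`X`-invariant, every irreducible character of `X` over `θ` has the degree of `θ`. -/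
theorem apply_one_eq_of_abelian_coprime {X : Type u} [Group X] [Fintype X] (M : Subgroup X)
    [hM : M.Normal] [Fintype M] (hcop : (Nat.card M).Coprime M.index)
    (hab : ∀ x y : X, x * y * x⁻¹ * y⁻¹ ∈ M) (θ : IrrCharacter M)
    (hθ : Cfsg.Agent.Lib.Helper04.FullInv M (θ : M → ℂ)) {η : X → ℂ} (hη : IsIrrCharacter X η)
    (hηθ : classInner (fun m : M => η m) (θ : M → ℂ) ≠ 0) : η 1 = (θ : M → ℂ) 1 := by
  obtain ⟨ϑ, hϑ, hres⟩ := Cfsg.Agent.Lib.Helper04.exists_ext_fullInv M hcop θ hθ
  have hres' : (fun h : M => ϑ h) = (θ : M → ℂ) := funext hres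
  have hϑM : IsIrrCharacter M (fun h : M => ϑ h) := by rw [hres']; exact θ.2
  obtain ⟨β, hβ⟩ := (Cfsg.Agent.Lib.Helper85.gallagher M hϑ hϑM).2 η hη (by rw [hres']; exact hηθ)
  have hcomm : ∀ a b : X ⧸ M, a * b = b * a := by
    intro a b
    induction a using QuotientGroup.induction_on with
    | H a =>
      induction b using QuotientGroup.induction_on with
      | H b =>
        rw [← QuotientGroup.mk_mul, ← QuotientGroup.mk_mul, QuotientGroup.eq]
        have := hab b⁻¹ a⁻¹
        rw [inv_inv, inv_inv] at this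
        convert this using 1
        group
  have hβ1 : (β : X ⧸ M → ℂ) 1 = 1 := Cfsg.Agent.Lib.Helper85.irr_apply_one_of_comm hcomm β.2
  rw [hβ]
  show (β : X ⧸ M → ℂ) (QuotientGroup.mk (1 : X)) * ϑ 1 = _
  rw [QuotientGroup.mk_one, hβ1, one_mul]
  exact hres 1

theorem factorization_pow_self {p : ℕ} (hp : p.Prime) (k : ℕ) : (p ^ k).factorization p = k := by
  rw [Nat.Prime.factorization_pow hp, Finsupp.single_eq_same]

/-- The degree bound over an invariant character of the `p'`-core. -/
theorem factorization_degree_le {G : Type u} [Group G] [Fintype G] {p : ℕ} [hp : Fact p.Prime]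
    (hsolv : IsPSolvable p G) (N : Subgroup G) [hN : N.Normal] [Fintype N]
    (hNdef : N = pPrimeCore p G) (θ : IrrCharacter N)
    (hinv : ∀ (g : G) (n : N), (θ : N → ℂ) ⟨g * n * g⁻¹, hN.conj_mem n n.2 g⟩ = (θ : N → ℂ) n)
    (χ : IrrCharacter G) (hχθ : classInner (fun n : N => (χ : G → ℂ) n) (θ : N → ℂ) ≠ 0)
    (P : Sylow p G) :
    (charDegree (χ : G → ℂ)).factorization p ≤
      ((Subgroup.center (P : Subgroup G)).index).factorization p := by
  classical
  have hNcop : (Nat.card N).Coprime p := by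
    rw [hNdef]; exact Cfsg.Agent.Lib.Helper01.pPrimeCore_card_coprime p
  obtain ⟨A, hAn, hNA, hab, k, hcardA, hZk⟩ :=
    Cfsg.Agent.Lib.Helper85.PSolvCenter.exists_abelian_section hsolv N hNdef P
  haveI := hAn
  letI : Fintype A := Fintype.ofFinite _
  letI : Fintype (N.subgroupOf A) := Fintype.ofFinite _
  obtain ⟨η, hχη, hηθ⟩ := Cfsg.Agent.Lib.Helper21.exists_mid_constituent hNA χ θ hχθ
  set e := Subgroup.subgroupOfEquivOfLe hNA with he
  set θ' := irrComp e θ with hθ'
  have hcardM : Nat.card (N.subgroupOf A) = Nat.card N := Nat.card_congr e.toEquiv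
  have hidx : (N.subgroupOf A).index = p ^ k := by
    have := Subgroup.card_mul_index (N.subgroupOf A)
    rw [hcardM, hcardA] at this
    exact Nat.eq_of_mul_eq_mul_left Nat.card_pos this
  have hcop : (Nat.card (N.subgroupOf A)).Coprime (N.subgroupOf A).index := by
    rw [hcardM, hidx]; exact Nat.Coprime.pow_right k hNcop
  have hab' : ∀ x y : A, x * y * x⁻¹ * y⁻¹ ∈ N.subgroupOf A := by
    intro x y
    rw [Subgroup.mem_subgroupOf]
    exact hab x x.2 y y.2
  have hfull : Cfsg.Agent.Lib.Helper04.FullInv (N.subgroupOf A) (θ' : N.subgroupOf A → ℂ) := by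
    intro g n
    rw [hθ', irrComp_apply, irrComp_apply]
    have := hinv (g : G) (e n)
    convert this using 2
    exact Subtype.ext rfl
  have h1 := apply_one_eq_of_abelian_coprime (N.subgroupOf A) hcop hab' θ' hfull η.2 hηθ
  have h2 : (θ' : N.subgroupOf A → ℂ) 1 = (θ : N → ℂ) 1 := by
    rw [hθ', irrComp_apply, map_one]
  obtain ⟨c, hc0, hc1, hcdvd, hcdeg⟩ := Cfsg.Agent.Lib.Helper04.exists_nat_degree χ
  obtain ⟨d, hd0, hd1, hddvd, hddeg⟩ := Cfsg.Agent.Lib.Helper04.exists_nat_degree θ
  obtain ⟨hdc, hcd⟩ := Cfsg.Agent.S0887.result A (χ : G → ℂ) χ.2 (η : A → ℂ) η.2 hχη c d hc1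
    (by rw [h1, h2, hd1])
  have hp' := hp.out
  have hpd : ¬ p ∣ d := by
    intro h
    have h' : p ∣ Nat.card N := h.trans hddvd
    have := Nat.Coprime.eq_one_of_dvd hNcop.symm h'
    exact hp'.one_lt.ne' this
  rw [hcdeg]
  have hcd0 : c / d ≠ 0 := by
    intro h
    have := Nat.mul_div_cancel' hdc
    rw [h, mul_zero] at this
    omega
  have hAidx0 : A.index ≠ 0 := Subgroup.index_ne_zero_of_finite
  have e1 : c.factorization p = (c / d).factorization p := by
    conv_lhs => rw [← Nat.mul_div_cancel' hdc]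
    rw [Nat.factorization_mul hd0.ne' hcd0, Finsupp.add_apply,
      Nat.factorization_eq_zero_of_not_dvd hpd, zero_add]
  have e2 : (c / d).factorization p ≤ A.index.factorization p :=
    (Nat.factorization_le_iff_dvd hcd0 hAidx0).2 hcd p
  -- orders
  have hG : Nat.card G = Nat.card N * p ^ k * A.index := by
    rw [← hcardA]; exact (Subgroup.card_mul_index A).symm
  have e3 : (Nat.card G).factorization p = k + A.index.factorization p := by
    rw [hG, Nat.factorization_mul (mul_ne_zero Nat.card_pos.ne' (pow_ne_zero k hp'.ne_zero)) hAidx0,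
      Nat.factorization_mul Nat.card_pos.ne' (pow_ne_zero k hp'.ne_zero), Finsupp.add_apply,
      Finsupp.add_apply, factorization_pow_self hp',
      Nat.factorization_eq_zero_of_not_dvd (fun h => hp'.one_lt.ne'
        (Nat.Coprime.eq_one_of_dvd hNcop.symm h)), zero_add]
  have hPcard : Nat.card (P : Subgroup G) = p ^ (Nat.card G).factorization p :=
    Sylow.card_eq_multiplicity P
  have hZp : IsPGroup p (Subgroup.center (P : Subgroup G)) := P.2.to_subgroup _
  obtain ⟨j, hj⟩ := hZp.exists_card_eq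
  have hjk : j ≤ k := by
    rw [hj] at hZk
    exact (Nat.pow_le_pow_iff_right hp'.one_lt).1 hZk
  have hZidx0 : (Subgroup.center (P : Subgroup G)).index ≠ 0 := Subgroup.index_ne_zero_of_finite
  have e4 : (Nat.card G).factorization p =
      j + (Subgroup.center (P : Subgroup G)).index.factorization p := by
    have := Subgroup.card_mul_index (Subgroup.center (P : Subgroup G))
    rw [hj, hPcard] at this
    have h' : (p ^ j * (Subgroup.center (P : Subgroup G)).index).factorization p =
        (p ^ (Nat.card G).factorization p).factorization p := by rw [this]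
    rw [Nat.factorization_mul (pow_ne_zero j hp'.ne_zero) hZidx0, Finsupp.add_apply,
      factorization_pow_self hp', factorization_pow_self hp'] at h'
    exact h'.symm
  omega

/-- The main theorem, by induction on the order. -/
theorem blockHeight_le_aux (p : ℕ) [hp : Fact p.Prime] (M : Ideal AlgInt) (hM : IsPModular p M) :
    ∀ (n : ℕ) (G : Type u) [Group G] [Finite G], Nat.card G = n → IsPSolvable p G →
      ∀ B : Set (IrrCharacter G), IsPBlock M B → ∀ P : Subgroup G, IsDefectGroup p M B P →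
        ∀ χ : IrrCharacter G, χ ∈ B →
          blockHeight p B (χ : G → ℂ) ≤ ((Subgroup.center P).index).factorization p := by
  intro n
  induction n using Nat.strong_induction_on with
  | _ n ih =>
  intro G _ _ hcard hsolv B hB P hP χ hχ
  classical
  have hMp : M.IsPrime := hM.2.1.isPrime
  letI : Fintype G := Fintype.ofFinite G
  set N : Subgroup G := pPrimeCore p G with hNdef
  haveI hN : N.Normal := Cfsg.Agent.Lib.Helper01.pPrimeCore_normal p
  letI : Fintype N := Fintype.ofFinite N
  have hNcop : (Nat.card N).Coprime p := Cfsg.Agent.Lib.Helper01.pPrimeCore_card_coprime p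
  have hpN : ¬ p ∣ Nat.card N := fun h => hp.out.one_lt.ne'
    (Nat.Coprime.eq_one_of_dvd hNcop.symm h)
  -- a constituent of `χ_N`
  have hχN : IsCharacter N (fun n : N => (χ : G → ℂ) n) :=
    Cfsg.Agent.Lib.Helper83.isCharacter_restrict N
      (Cfsg.Agent.Lib.Helper83.IrrCharacter_isCharacter χ)
  have hχ1 : (fun n : N => (χ : G → ℂ) n) 1 ≠ 0 :=
    Cfsg.Agent.Lib.Helper82.IsIrrCharacter.apply_one_ne_zero χ.2
  obtain ⟨θ, hχθ⟩ := Cfsg.Agent.Lib.Helper21.exists_constituent hχN hχ1
  set b : Set (IrrCharacter N) := blockOf M (θ : N → ℂ) with hbdef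
  have hb : IsPBlock M b := Cfsg.Agent.Lib.Helper82.isPBlock_blockOf θ
  have hbs : b = {θ} := Cfsg.Agent.Lib.Helper21.blockOf_eq_singleton_of_coprime hM hpN θ
  have hθb : θ ∈ b := by rw [hbs]; rfl
  set T : Subgroup G := Cfsg.Agent.Lib.Helper21.blockStab hN b with hTdef
  letI : Fintype T := Fintype.ofFinite T
  have hstab : Cfsg.Agent.Lib.Helper21.StabBlock N T b :=
    Cfsg.Agent.Lib.Helper21.stabBlock_blockStab b
  have hmeet : Cfsg.Agent.Lib.Helper21.MeetBlock N T b :=
    Cfsg.Agent.Lib.Helper21.meetBlock_blockStab hMp hb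
  have hNT : N ≤ T := Cfsg.Agent.Lib.Helper21.le_blockStab b
  have hBχ : B = blockOf M (χ : G → ℂ) := Cfsg.Agent.Lib.Helper82.IsPBlock.eq_blockOf hMp hB hχ
  by_cases hT : T = ⊤
  · -- `θ` is invariant
    have hinv : ∀ (g : G) (n : N),
        (θ : N → ℂ) ⟨g * n * g⁻¹, hN.conj_mem n n.2 g⟩ = (θ : N → ℂ) n := by
      intro g n
      have hg : g ∈ T := by rw [hT]; exact Subgroup.mem_top g
      have h1 : Cfsg.Agent.Lib.Helper22.irrConj hN g θ ∈ b := (hg θ).1 hθb
      rw [hbs, Set.mem_singleton_iff] at h1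
      rw [← Cfsg.Agent.Lib.Helper22.irrConj_apply (hN := hN), h1]
    obtain ⟨B₀, hB₀, hmem, hsyl, hdef⟩ := Cfsg.Agent.S4492.result p M hM hsolv N hNdef θ hinv
    have hχB₀ : χ ∈ B₀ := (hmem χ).2 hχθ
    have hBB₀ : B = B₀ := by
      rw [hBχ, Cfsg.Agent.Lib.Helper82.IsPBlock.eq_blockOf hMp hB₀ hχB₀]
    obtain ⟨S, rfl⟩ := hdef P (hBB₀ ▸ hP)
    have := factorization_degree_le hsolv N hNdef θ hinv χ hχθ S
    unfold blockHeight
    exact (Nat.sub_le _ _).trans this
  · -- Fong–Reynolds reduction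
    obtain ⟨ψ, hov, hind⟩ :=
      Cfsg.Agent.Lib.Helper21.exists_indFun_eq_of_over hNT hθb hmeet χ hχθ
    set B' : Set (IrrCharacter T) := blockOf M (ψ : T → ℂ) with hB'def
    have hB' : IsPBlock M B' := Cfsg.Agent.Lib.Helper82.isPBlock_blockOf ψ
    have hψB' : ψ ∈ B' := Cfsg.Agent.Lib.Helper82.mem_blockOf_self hMp ψ
    have hIB : IsInducedBlock M T B' B := by
      rw [hBχ]
      exact Cfsg.Agent.Lib.Helper21.isInducedBlock_of_over hMp χ hind.symm
    have hcov : ∃ ψ' ∈ B', Cfsg.Agent.Lib.Helper21.OverBlock N T hNT b (ψ' : T → ℂ) :=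
      ⟨ψ, hψB', hov⟩
    obtain ⟨χ', hχ'B, hχ'ψ, hht⟩ :=
      (Cfsg.Agent.Lib.Helper21.fong_reynolds_height hNT p hM hb hstab hmeet B' hB' hcov B hIB).1
        ψ hψB'
    have hχχ' : (χ' : G → ℂ) = (χ : G → ℂ) := by rw [hχ'ψ, hind]
    obtain ⟨D, hD⟩ := Cfsg.Agent.Lib.Helper81.exists_isDefectGroup' hM hB'
    have hDG := Cfsg.Agent.Lib.Helper21.fong_reynolds_defectGroup hNT p hM hb hstab hmeet B' hB'
      hcov B hIB D hD
    obtain ⟨t, ht⟩ := Cfsg.Agent.Lib.Helper22.IsDefectGroup.exists_conj hM hB hDG hP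
    have hlt : Nat.card T < n := by
      rw [← hcard]
      have hle : Nat.card T ≤ Nat.card G := Subgroup.card_le_card_group T
      rcases hle.lt_or_eq with h | h
      · exact h
      · exact absurd (Subgroup.card_eq_iff_eq_top T |>.1 h) hT
    have hIH := ih (Nat.card T) hlt T rfl
      (Cfsg.Agent.Lib.Helper40.isPSolvable_subgroup hp.out hsolv T) B' hB' D hD ψ hψB'
    rw [← hχχ', hht]
    refine hIH.trans (le_of_eq ?_)
    -- `D ≃* P`
    have hinj : Function.Injective ((MulAut.conj t).toMonoidHom.comp T.subtype) :=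
      (MulAut.conj t).injective.comp T.subtype_injective
    have hPD : P = D.map ((MulAut.conj t).toMonoidHom.comp T.subtype) := by
      rw [ht, Subgroup.map_map]
    have e : D ≃* P := by
      rw [hPD]
      exact Subgroup.equivMapOfInjective D _ hinj
    rw [Cfsg.Agent.Lib.Helper85.PSolvCenter.center_index_congr e]

end Cfsg.Agent.Lib.Helper85.HeightBound
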