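import Mathlib

set_option autoImplicit false

namespace Cfsg.Agent.Lib.Helper85.J1Spec

/-- the element orders of a direct product are the lcm's of the element orders of the factors -/
theorem range_orderOf_prod (G H : Type*) [Monoid G] [Monoid H] :
    Set.range (orderOf : G × H → ℕ) =
      Set.image2 Nat.lcm (Set.range (orderOf : G → ℕ)) (Set.range (orderOf : H → ℕ)) := by
  ext n
  constructor
  · rintro ⟨⟨g, h⟩, rfl⟩
    exact ⟨orderOf g, ⟨g, rfl⟩, orderOf h, ⟨h, rfl⟩, (Prod.orderOf (g, h)).symm⟩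
  · rintro ⟨a, ⟨g, rfl⟩, b, ⟨h, rfl⟩, rfl⟩
    exact ⟨(g, h), Prod.orderOf (g, h)⟩

/-- the element orders of the dihedral group of order `38` -/
theorem range_orderOf_dihedral19 :
    Set.range (orderOf : DihedralGroup 19 → ℕ) = ((({1, 2, 19} : Finset ℕ) : Finset ℕ) : Set ℕ) := by
  ext n
  simp only [Set.mem_range, Finset.coe_insert, Finset.coe_singleton, Set.mem_insert_iff,
    Set.mem_singleton_iff]
  constructor
  · rintro ⟨x, rfl⟩
    cases x with
    | r i =>
      have h1 : orderOf (DihedralGroup.r i) ∣ 19 := by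
        rw [DihedralGroup.orderOf_r]
        exact Nat.div_dvd_of_dvd (Nat.gcd_dvd_left _ _)
      rcases (Nat.dvd_prime (by norm_num : Nat.Prime 19)).mp h1 with h | h
      · exact Or.inl h
      · exact Or.inr (Or.inr h)
    | sr i => exact Or.inr (Or.inl (DihedralGroup.orderOf_sr i))
  · rintro (rfl | rfl | rfl)
    · exact ⟨1, orderOf_one⟩
    · exact ⟨DihedralGroup.sr 0, DihedralGroup.orderOf_sr 0⟩
    · exact ⟨DihedralGroup.r 1, DihedralGroup.orderOf_r_one⟩

theorem prod4_finset_eq :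
    Finset.image₂ Nat.lcm ({1, 2, 3, 5, 6, 7, 10, 11, 15, 19} : Finset ℕ)
      (Finset.image₂ Nat.lcm ({1, 2, 3, 5, 6, 7, 10, 11, 15, 19} : Finset ℕ)
        (Finset.image₂ Nat.lcm ({1, 2, 3, 5, 6, 7, 10, 11, 15, 19} : Finset ℕ)
          ({1, 2, 3, 5, 6, 7, 10, 11, 15, 19} : Finset ℕ))) =
    Finset.image₂ Nat.lcm ({1, 2, 3, 5, 6, 7, 10, 11, 15, 19} : Finset ℕ)
      (Finset.image₂ Nat.lcm ({1, 2, 3, 5, 6, 7, 10, 11, 15, 19} : Finset ℕ)
        (Finset.image₂ Nat.lcm ({1, 2, 3, 5, 6, 7, 10, 11, 15, 19} : Finset ℕ)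
          ({1, 2, 19} : Finset ℕ))) := by
  decide +kernel

theorem range_orderOf_prod4 (J : Type) [Group J]
    (hJ : Set.range (orderOf : J → ℕ) = {1, 2, 3, 5, 6, 7, 10, 11, 15, 19}) :
    Set.range (orderOf : J × J × J × J → ℕ) =
      Set.range (orderOf : J × J × J × DihedralGroup 19 → ℕ) := by
  have hJ' : Set.range (orderOf : J → ℕ) =
      ((({1, 2, 3, 5, 6, 7, 10, 11, 15, 19} : Finset ℕ) : Finset ℕ) : Set ℕ) := by
    rw [hJ]; simp
  rw [range_orderOf_prod J (J × J × J), range_orderOf_prod J (J × J), range_orderOf_prod J J,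
    range_orderOf_prod J (J × J × DihedralGroup 19), range_orderOf_prod J (J × DihedralGroup 19),
    range_orderOf_prod J (DihedralGroup 19), range_orderOf_dihedral19, hJ']
  simp only [← Finset.coe_image₂]
  rw [prod4_finset_eq]

end Cfsg.Agent.Lib.Helper85.J1Spec
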