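/-
Keystone K-LC-A8c (640617) `mem_of_std` for S0406 (Conway's characterisation of the Leech lattice).
Architect: helper94.  Leaf by helper85.  Self-contained (only `LCDefs`): the direction `Σ d even → 4 d ∈ L` of A0 is proved
locally, and the all-ones word is in the code because `L` has an odd vector.
-/
import Cfsg.Agent.Lib.Helper94.LCDefs

set_option autoImplicit false
open Matrix

namespace Cfsg.Agent.Lib.Helper85.LC

open Cfsg.Agent.Lib.Helper94.LC

variable (L : AddSubgroup (Fin 24 → ℤ))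

/-- `Σ d` even ⟹ `4 d ∈ L` (one direction of LEAF A0) -/
theorem a8c_four_mul_mem (hL : CoordLattice L) (d : Fin 24 → ℤ) (h : (2 : ℤ) ∣ ∑ i, d i) :
    (fun i => 4 * d i) ∈ L := by
  obtain ⟨k, hk⟩ := h
  have key : (fun i => 4 * d i) =
      (∑ i, d i • ((Pi.single i (4 : ℤ) : Fin 24 → ℤ) - Pi.single 0 (4 : ℤ))) +
        k • (Pi.single 0 (8 : ℤ) : Fin 24 → ℤ) := by
    funext j
    simp only [Pi.add_apply, Finset.sum_apply, Pi.smul_apply, Pi.sub_apply, Pi.single_apply,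
      smul_eq_mul, mul_sub, Finset.sum_sub_distrib, mul_ite, mul_zero, Finset.sum_ite_eq,
      Finset.mem_univ, if_true]
    by_cases hj : j = 0
    · subst hj
      simp only [if_true, ← Finset.sum_mul, hk]
      ring
    · simp only [if_neg hj, Finset.sum_const_zero, sub_zero, mul_zero, add_zero]
      ring
  rw [key]
  refine L.add_mem (L.sum_mem fun i _ => L.zsmul_mem ?_ (d i)) (L.zsmul_mem (hL.h8 0) k)
  by_cases hi : i = 0
  · subst hi
    rw [sub_self]
    exact L.zero_mem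
  · exact hL.h4m i 0 hi

theorem a8c_zmod2_eq_one : ∀ z : ZMod 2, z ≠ 0 → z = 1 := by decide

theorem a8c_val_add : ∀ u v : ZMod 2,
    (4 : ℤ) ∣ 2 * ((u + v).val : ℤ) - (2 * (u.val : ℤ) - 2 * (v.val : ℤ)) := by decide

/-- the even case -/
theorem a8c_even (hL : CoordLattice L) (hone : (fun _ => (1 : ZMod 2)) ∈ codeOf L)
    (ε : Fin 24 → ℤ) (hε : ∀ i, ε i = 1 ∨ ε i = -1)
    (hsum : ∀ v ∈ L, (∀ i, (2 : ℤ) ∣ v i) → (8 : ℤ) ∣ ∑ i, ε i * v i)
    (x : Fin 24 → ℤ) (a : ℤ) (c : Fin 24 → ZMod 2) (hc : c ∈ codeOf L) (ha : (2 : ℤ) ∣ a)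
    (hcong : ∀ i, ε i * x i ≡ a + 2 * ((c i).val : ℤ) [ZMOD 4])
    (hsx : ∑ i, ε i * x i ≡ 4 * a [ZMOD 8]) : x ∈ L := by
  obtain ⟨b, rfl⟩ := ha
  -- the code word of `X / 2`
  have hw : (c + ((b : ℤ) : ZMod 2) • (fun _ => (1 : ZMod 2))) ∈ codeOf L :=
    (codeOf L).add_mem hc ((codeOf L).smul_mem _ hone)
  obtain ⟨y, hyL, hyw⟩ := mem_codeOf.1 hw
  have hy2 : ∀ i, (2 : ℤ) ∣ y i - (((c i).val : ℤ) + b) := by
    intro i
    have h1 := hyw i
    simp only [Pi.add_apply, Pi.smul_apply, smul_eq_mul, mul_one] at h1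
    have h2 : (((((c i).val : ℤ) + b : ℤ)) : ZMod 2) = ((y i : ℤ) : ZMod 2) := by
      rw [← h1]
      push_cast
      rw [ZMod.natCast_zmod_val]
    exact (ZMod.intCast_eq_intCast_iff_dvd_sub _ _ 2).1 h2
  have hd4 : ∀ i, ∃ di : ℤ, x i - 2 * y i = 4 * di := by
    intro i
    have h1 := (Int.modEq_iff_dvd.1 (hcong i))
    have h2 := hy2 i
    have h3 : (4 : ℤ) ∣ x i - 2 * y i := by
      rcases hε i with he | he
      · rw [he, one_mul] at h1
        omega
      · rw [he] at h1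
        omega
    exact h3
  choose d hd using hd4
  -- `Σ d` is even
  have h8x : (8 : ℤ) ∣ ∑ i, ε i * x i := by
    have := Int.modEq_iff_dvd.1 hsx
    omega
  have h8y : (8 : ℤ) ∣ ∑ i, ε i * (2 * y i) :=
    hsum (fun i => 2 * y i) hyL (fun i => ⟨y i, rfl⟩)
  have hsplit : ∑ i, ε i * x i = ∑ i, ε i * (2 * y i) + 4 * ∑ i, ε i * d i := by
    rw [Finset.mul_sum, ← Finset.sum_add_distrib]
    apply Finset.sum_congr rfl
    intro i _
    have := hd i
    have hx : x i = 2 * y i + 4 * d i := by linarith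
    rw [hx]; ring
  have h2εd : (2 : ℤ) ∣ ∑ i, ε i * d i := by
    rw [hsplit] at h8x
    omega
  have hdiff : (2 : ℤ) ∣ ∑ i, (ε i * d i - d i) := by
    apply Finset.dvd_sum
    intro i _
    rcases hε i with he | he
    · rw [he, one_mul, sub_self]; exact dvd_zero _
    · rw [he]; exact ⟨-d i, by ring⟩
  have h2d : (2 : ℤ) ∣ ∑ i, d i := by
    rw [Finset.sum_sub_distrib] at hdiff
    omega
  have h4d := a8c_four_mul_mem L hL d h2d
  have hxeq : x = (fun i => 2 * y i) + (fun i => 4 * d i) := by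
    funext i
    have := hd i
    simp only [Pi.add_apply]
    linarith
  rw [hxeq]
  exact L.add_mem hyL h4d

/-- **K-LC-A8c.** -/
theorem mem_of_std (hL : CoordLattice L) (hG : IsGolayType (codeOf L))
    (hodd : ∃ v ∈ L, ∀ i, ¬ (2 : ℤ) ∣ v i) (ε : Fin 24 → ℤ) (hε : ∀ i, ε i = 1 ∨ ε i = -1)
    (hsum : ∀ v ∈ L, (∀ i, (2 : ℤ) ∣ v i) → (8 : ℤ) ∣ ∑ i, ε i * v i)
    (hstd : ∀ x ∈ L, (fun i => ε i * x i) ∈ StdLeech (codeOf L))
    (x : Fin 24 → ℤ) (hx : (fun i => ε i * x i) ∈ StdLeech (codeOf L)) : x ∈ L := by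
  obtain ⟨a, c, hc, hcong, hsx⟩ := hx
  obtain ⟨v₀, hv₀L, hv₀odd⟩ := hodd
  have hcong' : ∀ i, ε i * x i ≡ a + 2 * ((c i).val : ℤ) [ZMOD 4] := fun i => hcong i
  have hsx' : ∑ i, ε i * x i ≡ 4 * a [ZMOD 8] := hsx
  -- the all-ones word
  have hone : (fun _ => (1 : ZMod 2)) ∈ codeOf L := by
    rw [mem_codeOf]
    refine ⟨v₀, ?_, ?_⟩
    · have := L.add_mem hv₀L hv₀L
      convert this using 1
      funext i
      simp [two_mul]
    · intro i
      symm
      apply a8c_zmod2_eq_one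
      intro h0
      exact hv₀odd i ((ZMod.intCast_zmod_eq_zero_iff_dvd _ 2).1 h0)
  by_cases ha : (2 : ℤ) ∣ a
  · exact a8c_even L hL hone ε hε hsum x a c hc ha hcong' hsx'
  · obtain ⟨a₀, c₀, hc₀, hcong₀, hs₀⟩ := hstd v₀ hv₀L
    have hcong₀' : ∀ i, ε i * v₀ i ≡ a₀ + 2 * ((c₀ i).val : ℤ) [ZMOD 4] := fun i => hcong₀ i
    have hs₀' : ∑ i, ε i * v₀ i ≡ 4 * a₀ [ZMOD 8] := hs₀
    have ha₀ : ¬ (2 : ℤ) ∣ a₀ := by
      intro h
      apply hv₀odd 0
      have h1 := Int.modEq_iff_dvd.1 (hcong₀' 0)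
      rcases hε 0 with he | he
      · rw [he, one_mul] at h1
        omega
      · rw [he] at h1
        omega
    have hsub : (fun i => x i - v₀ i) ∈ L := by
      apply a8c_even L hL hone ε hε hsum (fun i => x i - v₀ i) (a - a₀) (c + c₀)
        ((codeOf L).add_mem hc hc₀)
      · omega
      · intro i
        have h1 := Int.modEq_iff_dvd.1 (hcong' i)
        have h2 := Int.modEq_iff_dvd.1 (hcong₀' i)
        have h3 := a8c_val_add (c i) (c₀ i)
        rw [Int.modEq_iff_dvd]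
        simp only [Pi.add_apply, mul_sub]
        omega
      · have h1 := Int.modEq_iff_dvd.1 hsx'
        have h2 := Int.modEq_iff_dvd.1 hs₀'
        rw [Int.modEq_iff_dvd]
        simp only [mul_sub, Finset.sum_sub_distrib]
        omega
    have hxeq : x = (fun i => x i - v₀ i) + v₀ := by
      funext i
      simp
    rw [hxeq]
    exact L.add_mem hsub hv₀L

end Cfsg.Agent.Lib.Helper85.LC
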