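import Mathlib

set_option autoImplicit false
set_option linter.style.haveILetI false
set_option linter.unusedSectionVars false

/-!
# A lower bound for Galois sums of integral quadratic forms at cyclotomic vectors

Let `S` be a real symmetric positive semidefinite matrix whose quadratic form takes on integer
vectors only the value `0` or values at least `μ`.  For integers `n i` and `p ^ n`-th roots of
unity `ω i` the sum over the units `k` of `ZMod (p ^ n)` of the hermitian form of `S` at the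
vector `(n i * ω i ^ k)` is either `0` or at least `φ(p ^ n) μ`.
-/

namespace Cfsg.Agent.Lib.Helper85.QuadLB

open scoped ComplexConjugate


/-- Geometric sum of a root of unity. -/
theorem sum_range_pow_of_pow_eq_one {N : ℕ} (η : ℂ) (hη : η ^ N = 1) :
    ∑ m ∈ Finset.range N, η ^ m = if η = 1 then (N : ℂ) else 0 := by
  split_ifs with h
  · subst h; simp
  · rw [geom_sum_eq h, hη, sub_self, zero_div]

/-- Sum over the units of `ZMod N` as a sum over the residues prime to `N`. -/
theorem sum_units_val {N : ℕ} [NeZero N] (f : ℕ → ℂ) :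
    ∑ k : (ZMod N)ˣ, f (k : ZMod N).val =
      ∑ m ∈ (Finset.range N).filter (fun m => Nat.Coprime m N), f m := by
  classical
  refine Finset.sum_bij (fun k _ => (k : ZMod N).val) ?_ ?_ ?_ ?_
  · intro k _
    rw [Finset.mem_filter, Finset.mem_range]
    exact ⟨ZMod.val_lt _, ZMod.val_coe_unit_coprime k⟩
  · intro k _ k' _ h
    exact Units.ext (ZMod.val_injective N h)
  · intro m hm
    rw [Finset.mem_filter, Finset.mem_range] at hm
    refine ⟨ZMod.unitOfCoprime m hm.2, Finset.mem_univ _, ?_⟩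
    rw [ZMod.coe_unitOfCoprime, ZMod.val_natCast_of_lt hm.1]
  · intro k _
    rfl

/-- The Ramanujan sum of a prime power. -/
theorem ramanujan_prime_pow {N : ℕ} [NeZero N] {p n : ℕ} (hp : p.Prime) (hn : 1 ≤ n)
    (hN : N = p ^ n) (η : ℂ) (hη : η ^ N = 1) :
    ∑ k : (ZMod N)ˣ, η ^ (k : ZMod N).val =
      (if η = 1 then (N : ℂ) else 0) - (if η ^ p = 1 then ((p ^ (n - 1) : ℕ) : ℂ) else 0) := by
  classical
  rw [sum_units_val (fun m => η ^ m)]
  have hN' : N = p * p ^ (n - 1) := by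
    rw [hN, ← pow_succ', Nat.sub_add_cancel hn]
  have hsplit : ∑ m ∈ (Finset.range N).filter (fun m => Nat.Coprime m N), η ^ m =
      ∑ m ∈ Finset.range N, η ^ m -
        ∑ m ∈ (Finset.range N).filter (fun m => ¬ Nat.Coprime m N), η ^ m := by
    rw [eq_sub_iff_add_eq, Finset.sum_filter_add_sum_filter_not]
  rw [hsplit, sum_range_pow_of_pow_eq_one η hη]
  congr 1
  have himg : (Finset.range N).filter (fun m => ¬ Nat.Coprime m N) =
      (Finset.range (p ^ (n - 1))).image (fun m => p * m) := by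
    ext m
    rw [Finset.mem_filter, Finset.mem_range, Finset.mem_image]
    constructor
    · rintro ⟨hm, hc⟩
      have hpm : p ∣ m := by
        by_contra hpm
        apply hc
        rw [hN]
        exact Nat.Coprime.pow_right n ((Nat.Prime.coprime_iff_not_dvd hp).2 hpm).symm
      obtain ⟨m', rfl⟩ := hpm
      refine ⟨m', ?_, rfl⟩
      rw [Finset.mem_range]
      rw [hN'] at hm
      exact Nat.lt_of_mul_lt_mul_left hm
    · rintro ⟨m', hm', rfl⟩
      rw [Finset.mem_range] at hm'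
      refine ⟨?_, ?_⟩
      · rw [hN']
        exact Nat.mul_lt_mul_of_pos_left hm' hp.pos
      · intro hc
        have h1 : Nat.Coprime p N := Nat.Coprime.coprime_dvd_left (dvd_mul_right p m') hc
        have h2 : p ∣ N := by rw [hN]; exact dvd_pow_self p (by omega)
        have := Nat.eq_one_of_dvd_coprimes h1 (dvd_refl p) h2
        exact hp.one_lt.ne' this
  rw [himg, Finset.sum_image (fun a _ b _ h => Nat.eq_of_mul_eq_mul_left hp.pos h)]
  have hη' : (η ^ p) ^ (p ^ (n - 1)) = 1 := by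
    rw [← pow_mul, ← hN', hη]
  have := sum_range_pow_of_pow_eq_one (η ^ p) hη'
  simp_rw [← pow_mul] at this
  exact this



theorem mul_conj_eq_one_iff {a b : ℂ} (hb : ‖b‖ = 1) : a * conj b = 1 ↔ a = b := by
  have hbb : b * conj b = 1 := by
    rw [Complex.mul_conj, Complex.normSq_eq_norm_sq, hb]; norm_num
  constructor
  · intro h
    have : a * conj b * b = b := by rw [h, one_mul]
    rw [mul_assoc, mul_comm (conj b) b, hbb, mul_one] at this
    exact this
  · rintro rfl
    exact hbb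



/-- The `p`-torsion of `ZMod (p * q)` has `p` elements. -/
theorem card_torsion {N : ℕ} [NeZero N] (p q : ℕ) (hN : N = p * q) (hp : 0 < p) (hq : 0 < q) :
    ((Finset.univ : Finset (ZMod N)).filter (fun τ => (p : ZMod N) * τ = 0)).card = p := by
  classical
  have himg : (Finset.univ : Finset (ZMod N)).filter (fun τ => (p : ZMod N) * τ = 0) =
      (Finset.range p).image (fun t => ((t * q : ℕ) : ZMod N)) := by
    ext τ
    rw [Finset.mem_filter, Finset.mem_image]
    constructor
    · rintro ⟨-, hτ⟩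
      have h1 : ((p * τ.val : ℕ) : ZMod N) = 0 := by
        rw [Nat.cast_mul, ZMod.natCast_zmod_val]; exact hτ
      rw [ZMod.natCast_eq_zero_iff] at h1
      have h1' : p * q ∣ p * τ.val := hN ▸ h1
      have h2 : q ∣ τ.val := (Nat.mul_dvd_mul_iff_left hp).1 h1'
      obtain ⟨t, ht⟩ := h2
      refine ⟨t, ?_, ?_⟩
      · rw [Finset.mem_range]
        have h3 : τ.val < p * q := lt_of_lt_of_eq (ZMod.val_lt τ) hN
        rw [ht, mul_comm p q] at h3
        exact Nat.lt_of_mul_lt_mul_left h3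
      · rw [mul_comm, ← ht, ZMod.natCast_zmod_val]
    · rintro ⟨t, -, rfl⟩
      refine ⟨Finset.mem_univ _, ?_⟩
      have : ((p : ZMod N)) * ((t * q : ℕ) : ZMod N) = ((t * (p * q) : ℕ) : ZMod N) := by
        push_cast; ring
      rw [this, ← hN, Nat.cast_mul, ZMod.natCast_self, mul_zero]
  rw [himg, Finset.card_image_of_injOn, Finset.card_range]
  intro t ht t' ht' h
  rw [Finset.coe_range, Set.mem_Iio] at ht ht'
  simp only at h
  rw [ZMod.natCast_eq_natCast_iff'] at h
  have h1 : t * q < N := by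
    rw [hN]; exact Nat.mul_lt_mul_of_pos_right ht hq
  have h2 : t' * q < N := by
    rw [hN]; exact Nat.mul_lt_mul_of_pos_right ht' hq
  rw [Nat.mod_eq_of_lt h1, Nat.mod_eq_of_lt h2] at h
  exact Nat.eq_of_mul_eq_mul_right hq h



section Forms

variable {ι : Type*} [Fintype ι]

/-- The bilinear form of a real matrix. -/
def bf (S : ι → ι → ℝ) (w w' : ι → ℝ) : ℝ := ∑ i, ∑ j, S i j * w i * w' j

/-- The quadratic form of a real matrix. -/
def qf (S : ι → ι → ℝ) (w : ι → ℝ) : ℝ := bf S w w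

theorem bf_comm (S : ι → ι → ℝ) (hS : ∀ i j, S i j = S j i) (w w' : ι → ℝ) :
    bf S w w' = bf S w' w := by
  unfold bf
  rw [Finset.sum_comm]
  refine Finset.sum_congr rfl fun i _ => Finset.sum_congr rfl fun j _ => ?_
  rw [hS j i]; ring

theorem bf_add_left (S : ι → ι → ℝ) (w₁ w₂ w' : ι → ℝ) :
    bf S (w₁ + w₂) w' = bf S w₁ w' + bf S w₂ w' := by
  unfold bf
  rw [← Finset.sum_add_distrib]
  refine Finset.sum_congr rfl fun i _ => ?_
  rw [← Finset.sum_add_distrib]
  refine Finset.sum_congr rfl fun j _ => ?_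
  rw [Pi.add_apply]; ring

theorem bf_add_right (S : ι → ι → ℝ) (w w₁ w₂ : ι → ℝ) :
    bf S w (w₁ + w₂) = bf S w w₁ + bf S w w₂ := by
  unfold bf
  rw [← Finset.sum_add_distrib]
  refine Finset.sum_congr rfl fun i _ => ?_
  rw [← Finset.sum_add_distrib]
  refine Finset.sum_congr rfl fun j _ => ?_
  rw [Pi.add_apply]; ring

theorem bf_smul_left (S : ι → ι → ℝ) (c : ℝ) (w w' : ι → ℝ) :
    bf S (c • w) w' = c * bf S w w' := by
  unfold bf
  rw [Finset.mul_sum]
  refine Finset.sum_congr rfl fun i _ => ?_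
  rw [Finset.mul_sum]
  refine Finset.sum_congr rfl fun j _ => ?_
  rw [Pi.smul_apply, smul_eq_mul]; ring

theorem bf_smul_right (S : ι → ι → ℝ) (c : ℝ) (w w' : ι → ℝ) :
    bf S w (c • w') = c * bf S w w' := by
  unfold bf
  rw [Finset.mul_sum]
  refine Finset.sum_congr rfl fun i _ => ?_
  rw [Finset.mul_sum]
  refine Finset.sum_congr rfl fun j _ => ?_
  rw [Pi.smul_apply, smul_eq_mul]; ring

theorem bf_neg_right (S : ι → ι → ℝ) (w w' : ι → ℝ) : bf S w (-w') = - bf S w w' := by
  have := bf_smul_right S (-1) w w'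
  rw [neg_one_smul, neg_one_mul] at this
  exact this

theorem bf_neg_left (S : ι → ι → ℝ) (w w' : ι → ℝ) : bf S (-w) w' = - bf S w w' := by
  have := bf_smul_left S (-1) w w'
  rw [neg_one_smul, neg_one_mul] at this
  exact this

theorem qf_sub (S : ι → ι → ℝ) (hS : ∀ i j, S i j = S j i) (w w' : ι → ℝ) :
    qf S (w - w') = qf S w + qf S w' - 2 * bf S w w' := by
  unfold qf
  rw [sub_eq_add_neg, bf_add_left, bf_add_right, bf_add_right, bf_neg_left, bf_neg_left,
    bf_neg_right, bf_neg_right, bf_comm S hS w' w]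
  ring

theorem qf_add (S : ι → ι → ℝ) (hS : ∀ i j, S i j = S j i) (w w' : ι → ℝ) :
    qf S (w + w') = qf S w + qf S w' + 2 * bf S w w' := by
  unfold qf
  rw [bf_add_left, bf_add_right, bf_add_right, bf_comm S hS w' w]
  ring

/-- The kernel of a positive semidefinite form. -/
theorem bf_eq_zero_of_qf_eq_zero (S : ι → ι → ℝ) (hS : ∀ i j, S i j = S j i)
    (hpsd : ∀ w : ι → ℝ, 0 ≤ qf S w) {w : ι → ℝ} (hw : qf S w = 0) (w' : ι → ℝ) :
    bf S w w' = 0 := by
  by_contra hne
  set t : ℝ := -(qf S w' + 1) / (2 * bf S w w') with ht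
  have h1 := hpsd (w' + t • w)
  have h3 : qf S (t • w) = t ^ 2 * qf S w := by
    unfold qf
    rw [bf_smul_left, bf_smul_right]; ring
  rw [qf_add S hS, h3, hw, bf_smul_right, bf_comm S hS w' w] at h1
  have h2 : 2 * (t * bf S w w') = -(qf S w' + 1) := by
    rw [ht]; field_simp
  nlinarith [hpsd w']

theorem qf_sub_eq_zero_trans (S : ι → ι → ℝ) (hS : ∀ i j, S i j = S j i)
    (hpsd : ∀ w : ι → ℝ, 0 ≤ qf S w) {u v w : ι → ℝ} (h1 : qf S (u - v) = 0)
    (h2 : qf S (v - w) = 0) : qf S (u - w) = 0 := by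
  have h3 : u - w = (u - v) + (v - w) := by abel
  rw [h3, qf_add S hS, h1, h2, bf_eq_zero_of_qf_eq_zero S hS hpsd h1]
  ring

end Forms

section Slots

variable {α : Type*} [DecidableEq α]

/-- The `p`-slot counting lemma. -/
theorem slots_lower_bound (J : Finset α) (d : α → α → ℝ) (μ : ℝ)
    (hd0 : ∀ j, d j j = 0) (hnn : ∀ j j', 0 ≤ d j j') (hsymm : ∀ j j', d j j' = d j' j)
    (hμ : ∀ j j', d j j' = 0 ∨ μ ≤ d j j')
    (htrans : ∀ j j' j'', d j j' = 0 → d j' j'' = 0 → d j j'' = 0)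
    {j₀ j₁ : α} (h₀ : j₀ ∈ J) (h₁ : j₁ ∈ J) (hne : d j₀ j₁ ≠ 0) :
    2 * ((J.card : ℝ) - 1) * μ ≤ ∑ j ∈ J, ∑ j' ∈ J, d j j' := by
  have hj01 : j₀ ≠ j₁ := by
    rintro rfl
    exact hne (hd0 _)
  set J' := (J.erase j₀).erase j₁ with hJ'
  have hj1mem : j₁ ∈ J.erase j₀ := Finset.mem_erase.2 ⟨hj01.symm, h₁⟩
  have hJeq : J = insert j₀ (insert j₁ J') := by
    rw [hJ', Finset.insert_erase hj1mem, Finset.insert_erase h₀]
  have hj1not : j₁ ∉ J' := Finset.notMem_erase _ _
  have hj0not : j₀ ∉ insert j₁ J' := by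
    rw [Finset.mem_insert, not_or]
    refine ⟨hj01, ?_⟩
    intro h
    exact (Finset.mem_erase.1 (Finset.mem_of_mem_erase h)).1 rfl
  have hcard : (J.card : ℝ) = (J'.card : ℝ) + 2 := by
    rw [hJeq, Finset.card_insert_of_notMem hj0not, Finset.card_insert_of_notMem hj1not]
    push_cast; ring
  have hμ01 : μ ≤ d j₀ j₁ := (hμ j₀ j₁).resolve_left hne
  have hpair : ∀ j, μ ≤ d j j₀ + d j j₁ := by
    intro j
    rcases hμ j j₀ with h | h
    · rcases hμ j j₁ with h' | h'
      · exfalso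
        apply hne
        have := htrans j₀ j j₁ (by rw [hsymm]; exact h) h'
        exact this
      · linarith [hnn j j₀]
    · linarith [hnn j j₁]
  have hrow : ∀ j, d j j₀ + d j j₁ + ∑ j' ∈ J', d j j' = ∑ j' ∈ J, d j j' := by
    intro j
    rw [hJeq, Finset.sum_insert hj0not, Finset.sum_insert hj1not]
    ring
  have hrest : (J'.card : ℝ) * μ ≤ ∑ j ∈ J', ∑ j' ∈ J, d j j' := by
    have : ∑ j ∈ J', μ ≤ ∑ j ∈ J', ∑ j' ∈ J, d j j' := by
      refine Finset.sum_le_sum fun j _ => ?_
      rw [← hrow j]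
      have : 0 ≤ ∑ j' ∈ J', d j j' := Finset.sum_nonneg fun j' _ => hnn j j'
      linarith [hpair j]
    rwa [Finset.sum_const, nsmul_eq_mul] at this
  have h01 : (J'.card : ℝ) * μ ≤ ∑ j' ∈ J', (d j₀ j' + d j₁ j') := by
    have : ∑ j ∈ J', μ ≤ ∑ j' ∈ J', (d j₀ j' + d j₁ j') := by
      refine Finset.sum_le_sum fun j _ => ?_
      have := hpair j
      rw [hsymm j j₀, hsymm j j₁] at this
      exact this
    rwa [Finset.sum_const, nsmul_eq_mul] at this
  have hsum : ∀ f : α → ℝ, ∑ j ∈ J, f j = f j₀ + (f j₁ + ∑ j ∈ J', f j) := by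
    intro f
    rw [hJeq, Finset.sum_insert hj0not, Finset.sum_insert hj1not]
  rw [hsum (fun j => ∑ j' ∈ J, d j j'), ← hrow j₀, ← hrow j₁, hd0, hd0, hsymm j₁ j₀]
  rw [Finset.sum_add_distrib] at h01
  rw [hcard]
  nlinarith

end Slots


theorem pow_eq_pow_iff_zmod {N : ℕ} [NeZero N] {ζ : ℂ} (hζ : IsPrimitiveRoot ζ N) (a b : ℕ) :
    ζ ^ a = ζ ^ b ↔ (a : ZMod N) = (b : ZMod N) := by
  have h0 : ζ ≠ 0 := hζ.ne_zero (NeZero.ne N)
  have h1 : ζ ^ a = ζ ^ b ↔ ζ ^ ((a : ℤ) - b) = 1 := by
    rw [zpow_sub₀ h0, zpow_natCast, zpow_natCast, div_eq_one_iff_eq (pow_ne_zero _ h0)]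
  rw [h1, hζ.zpow_eq_one_iff_dvd, ← ZMod.intCast_zmod_eq_zero_iff_dvd]
  push_cast
  rw [sub_eq_zero]

section Main

variable {ι : Type*} [Fintype ι]

/-- The hermitian form of a real symmetric positive semidefinite matrix is nonnegative. -/
theorem herm_eq (S : ι → ι → ℝ) (hS : ∀ i j, S i j = S j i) (v : ι → ℂ) :
    ∑ i, ∑ j, (S i j : ℂ) * v i * conj (v j) =
      ((qf S (fun i => (v i).re) + qf S (fun i => (v i).im) : ℝ) : ℂ) := by
  have hcross : ∑ i, ∑ j, S i j * ((v i).im * (v j).re - (v i).re * (v j).im) = 0 := by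
    have h1 : ∑ i, ∑ j, S i j * ((v i).im * (v j).re - (v i).re * (v j).im) =
        ∑ i, ∑ j, S i j * ((v i).im * (v j).re) - ∑ i, ∑ j, S i j * ((v i).re * (v j).im) := by
      rw [← Finset.sum_sub_distrib]
      refine Finset.sum_congr rfl fun i _ => ?_
      rw [← Finset.sum_sub_distrib]
      refine Finset.sum_congr rfl fun j _ => ?_
      ring
    rw [h1, sub_eq_zero]
    rw [Finset.sum_comm]
    refine Finset.sum_congr rfl fun i _ => Finset.sum_congr rfl fun j _ => ?_
    rw [hS j i]; ring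
  apply Complex.ext
  · rw [Complex.ofReal_re, Complex.re_sum]
    unfold qf bf
    rw [← Finset.sum_add_distrib]
    refine Finset.sum_congr rfl fun i _ => ?_
    rw [Complex.re_sum, ← Finset.sum_add_distrib]
    refine Finset.sum_congr rfl fun j _ => ?_
    simp only [Complex.mul_re, Complex.ofReal_re, Complex.ofReal_im, Complex.conj_re,
      Complex.conj_im, Complex.mul_im]
    ring
  · rw [Complex.ofReal_im, Complex.im_sum, ← hcross]
    refine Finset.sum_congr rfl fun i _ => ?_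
    rw [Complex.im_sum]
    refine Finset.sum_congr rfl fun j _ => ?_
    simp only [Complex.mul_re, Complex.ofReal_re, Complex.ofReal_im, Complex.conj_re,
      Complex.conj_im, Complex.mul_im]
    ring

/-- Push-forward of a double sum along a labelling. -/
theorem sum_sum_label {A : Type*} [Fintype A] [DecidableEq A] (e : ι → A) (c : ι → ι → ℝ)
    (g : A → A → ℝ) :
    ∑ i, ∑ j, c i j * g (e i) (e j) =
      ∑ a, ∑ a', (∑ i, ∑ j, if e i = a ∧ e j = a' then c i j else 0) * g a a' := by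
  have h1 : ∀ a a', (∑ i, ∑ j, if e i = a ∧ e j = a' then c i j else 0) * g a a' =
      ∑ i, ∑ j, if e i = a ∧ e j = a' then c i j * g (e i) (e j) else 0 := by
    intro a a'
    rw [Finset.sum_mul]
    refine Finset.sum_congr rfl fun i _ => ?_
    rw [Finset.sum_mul]
    refine Finset.sum_congr rfl fun j _ => ?_
    split_ifs with h
    · rw [h.1, h.2]
    · rw [zero_mul]
  simp_rw [h1]
  have h2 : ∀ i j, c i j * g (e i) (e j) =
      ∑ a, ∑ a', if e i = a ∧ e j = a' then c i j * g (e i) (e j) else 0 := by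
    intro i j
    rw [Finset.sum_eq_single (e i)]
    · rw [Finset.sum_eq_single (e j)]
      · rw [if_pos ⟨rfl, rfl⟩]
      · intro a' _ ha'
        rw [if_neg (fun h => ha' h.2.symm)]
      · intro h; exact absurd (Finset.mem_univ _) h
    · intro a _ ha
      refine Finset.sum_eq_zero fun a' _ => ?_
      rw [if_neg (fun h => ha h.1.symm)]
    · intro h; exact absurd (Finset.mem_univ _) h
  rw [Finset.sum_congr rfl fun i _ => Finset.sum_congr rfl fun j _ => h2 i j]
  conv_lhs => arg 2; ext i; rw [Finset.sum_comm]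
  rw [Finset.sum_comm]
  refine Finset.sum_congr rfl fun a _ => ?_
  conv_lhs => arg 2; ext i; rw [Finset.sum_comm]
  rw [Finset.sum_comm]

/-- **The lower bound.** -/
theorem lagrange_lower_bound {N : ℕ} [NeZero N] {p n : ℕ} (hp : p.Prime) (hN : N = p ^ n)
    (S : ι → ι → ℝ) (hS : ∀ i j, S i j = S j i) (hpsd : ∀ w : ι → ℝ, 0 ≤ qf S w)
    (μ : ℝ)
    (hint : ∀ w : ι → ℤ, qf S (fun i => (w i : ℝ)) = 0 ∨ μ ≤ qf S (fun i => (w i : ℝ)))
    (nn : ι → ℤ) (ω : ι → ℂ) (hω : ∀ i, ω i ^ N = 1) :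
    ∃ T : ℝ, ∑ k : (ZMod N)ˣ, ∑ i, ∑ j,
        ((S i j * nn i * nn j : ℝ) : ℂ) * (ω i * conj (ω j)) ^ (k : ZMod N).val = (T : ℂ) ∧
      (T = 0 ∨ (Fintype.card (ZMod N)ˣ : ℝ) * μ ≤ T) := by
  classical
  rcases Nat.eq_zero_or_pos n with hn0 | hn
  · -- `N = 1`
    have hN1 : N = 1 := by rw [hN, hn0, pow_zero]
    subst hN1
    refine ⟨qf S (fun i => (nn i : ℝ)), ?_, ?_⟩
    · have hval : ∀ k : (ZMod 1)ˣ, (k : ZMod 1).val = 0 := by
        intro k
        have := ZMod.val_lt (k : ZMod 1)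
        omega
      have hcard : Fintype.card (ZMod 1)ˣ = 1 := by
        rw [ZMod.card_units_eq_totient, Nat.totient_one]
      rw [Finset.sum_congr rfl fun k _ => by rw [hval k], Finset.sum_const, Finset.card_univ,
        hcard, one_smul]
      unfold qf bf
      rw [Complex.ofReal_sum]
      refine Finset.sum_congr rfl fun i _ => ?_
      rw [Complex.ofReal_sum]
      refine Finset.sum_congr rfl fun j _ => ?_
      rw [pow_zero, mul_one]
    · have hcard : Fintype.card (ZMod 1)ˣ = 1 := by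
        rw [ZMod.card_units_eq_totient, Nat.totient_one]
      rw [hcard, Nat.cast_one, one_mul]
      exact hint nn
  have hn1 : 1 ≤ n := hn
  set q := p ^ (n - 1) with hq
  have hqpos : 0 < q := pow_pos hp.pos _
  have hNpq : N = p * q := by rw [hN, hq, ← pow_succ', Nat.sub_add_cancel hn1]
  have hN0 : N ≠ 0 := NeZero.ne N
  -- roots of unity
  have hζ := Complex.isPrimitiveRoot_exp N hN0
  set ζ := Complex.exp (2 * Real.pi * Complex.I / N) with hζdef
  have hex : ∀ i, ∃ m, m < N ∧ ζ ^ m = ω i := fun i => hζ.eq_pow_of_pow_eq_one (hω i)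
  choose ee hee_lt hee using hex
  set e : ι → ZMod N := fun i => (ee i : ZMod N) with he
  have hnorm : ∀ i, ‖ω i‖ = 1 := fun i => Complex.norm_eq_one_of_pow_eq_one (hω i) hN0
  have he_eq : ∀ i j, e i = e j ↔ ω i = ω j := by
    intro i j
    constructor
    · intro h
      have : ee i = ee j := by
        have h1 := congrArg ZMod.val h
        rwa [he, ZMod.val_natCast_of_lt (hee_lt i), ZMod.val_natCast_of_lt (hee_lt j)] at h1
      rw [← hee i, ← hee j, this]
    · intro h
      have : ee i = ee j := hζ.pow_inj (hee_lt i) (hee_lt j) (by rw [hee i, hee j, h])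
      simp only [he, this]
  have he_p : ∀ i j, (p : ZMod N) * (e j - e i) = 0 ↔ ω i ^ p = ω j ^ p := by
    intro i j
    rw [← hee i, ← hee j, ← pow_mul, ← pow_mul, pow_eq_pow_iff_zmod hζ]
    simp only [he]
    push_cast
    constructor
    · intro h
      have : (ee i : ZMod N) * p = (ee j : ZMod N) * p - (p : ZMod N) * ((ee j : ZMod N) - ee i) := by
        ring
      rw [this, h, sub_zero]
    · intro h
      have : (p : ZMod N) * ((ee j : ZMod N) - ee i) = (ee j : ZMod N) * p - (ee i : ZMod N) * p := by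
        ring
      rw [this, h, sub_self]
  -- the torsion
  set Tor : Finset (ZMod N) := Finset.univ.filter (fun τ => (p : ZMod N) * τ = 0) with hTor
  have hTcard : Tor.card = p := card_torsion p q hNpq hp.pos hqpos
  have hT0 : (0 : ZMod N) ∈ Tor := by
    rw [hTor, Finset.mem_filter]; exact ⟨Finset.mem_univ _, mul_zero _⟩
  have hTadd : ∀ τ ∈ Tor, ∀ τ' ∈ Tor, τ + τ' ∈ Tor := by
    intro τ hτ τ' hτ'
    rw [hTor, Finset.mem_filter] at hτ hτ' ⊢
    exact ⟨Finset.mem_univ _, by rw [mul_add, hτ.2, hτ'.2, add_zero]⟩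
  have hTsub : ∀ τ ∈ Tor, ∀ τ' ∈ Tor, τ' - τ ∈ Tor := by
    intro τ hτ τ' hτ'
    rw [hTor, Finset.mem_filter] at hτ hτ' ⊢
    exact ⟨Finset.mem_univ _, by rw [mul_sub, hτ.2, hτ'.2, sub_zero]⟩
  -- the vectors
  set c : ι → ι → ℝ := fun i j => S i j * nn i * nn j with hc
  set u : ZMod N → ι → ℝ := fun a i => if e i = a then (nn i : ℝ) else 0 with hu
  set K : ZMod N → ZMod N → ℝ := fun a a' => bf S (u a) (u a') with hK
  set d : ZMod N → ZMod N → ℝ := fun a a' => qf S (u a - u a') with hd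
  have hKeq : ∀ a a', K a a' = ∑ i, ∑ j, if e i = a ∧ e j = a' then c i j else 0 := by
    intro a a'
    simp only [hK, bf, hu, hc]
    refine Finset.sum_congr rfl fun i _ => Finset.sum_congr rfl fun j _ => ?_
    by_cases h1 : e i = a
    · by_cases h2 : e j = a'
      · rw [if_pos h1, if_pos h2, if_pos ⟨h1, h2⟩]
      · rw [if_neg h2, if_neg (show ¬ (e i = a ∧ e j = a') from fun h => h2 h.2), mul_zero]
    · rw [if_neg h1, if_neg (show ¬ (e i = a ∧ e j = a') from fun h => h1 h.1), mul_zero,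
        zero_mul]
  have hdK : ∀ a a', d a a' = K a a + K a' a' - 2 * K a a' := fun a a' => qf_sub S hS _ _
  have hdnn : ∀ a a', 0 ≤ d a a' := fun a a' => hpsd _
  have hdμ : ∀ a a', d a a' = 0 ∨ μ ≤ d a a' := by
    intro a a'
    have := hint (fun i => (if e i = a then nn i else 0) - (if e i = a' then nn i else 0))
    have hvec : (fun i => (((if e i = a then nn i else 0) - (if e i = a' then nn i else 0) : ℤ) : ℝ)) =
        u a - u a' := by
      funext i
      simp only [hu, Pi.sub_apply]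
      push_cast
      split_ifs <;> simp
    rw [hvec] at this
    exact this
  -- the Ramanujan sums
  set g : ZMod N → ZMod N → ℝ := fun a a' =>
    (if a = a' then (N : ℝ) else 0) - (if (p : ZMod N) * (a' - a) = 0 then (q : ℝ) else 0) with hg
  have hF1 : ∑ k : (ZMod N)ˣ, ∑ i, ∑ j,
      ((S i j * nn i * nn j : ℝ) : ℂ) * (ω i * conj (ω j)) ^ (k : ZMod N).val =
      ((∑ i, ∑ j, c i j * g (e i) (e j) : ℝ) : ℂ) := by
    rw [Finset.sum_comm]
    rw [Complex.ofReal_sum]
    refine Finset.sum_congr rfl fun i _ => ?_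
    rw [Finset.sum_comm, Complex.ofReal_sum]
    refine Finset.sum_congr rfl fun j _ => ?_
    rw [← Finset.mul_sum]
    have hη : (ω i * conj (ω j)) ^ N = 1 := by
      rw [mul_pow, ← map_pow, hω i, hω j, map_one, mul_one]
    rw [ramanujan_prime_pow hp hn1 hN _ hη]
    have hcast : ((c i j * g (e i) (e j) : ℝ) : ℂ) = ((c i j : ℝ) : ℂ) * ((g (e i) (e j) : ℝ) : ℂ) :=
      Complex.ofReal_mul _ _
    rw [hcast]
    congr 1
    have h1 : (ω i * conj (ω j) = 1) ↔ e i = e j := by
      rw [mul_conj_eq_one_iff (hnorm j), he_eq]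
    have h2 : ((ω i * conj (ω j)) ^ p = 1) ↔ (p : ZMod N) * (e j - e i) = 0 := by
      rw [mul_pow, ← map_pow, mul_conj_eq_one_iff (by rw [norm_pow, hnorm j, one_pow]), he_p]
    simp only [hg]
    rw [Complex.ofReal_sub]
    congr 1
    · by_cases h : e i = e j
      · rw [if_pos h, if_pos (h1.2 h)]; simp
      · rw [if_neg h, if_neg (fun h' => h (h1.1 h'))]; simp
    · by_cases h : (p : ZMod N) * (e j - e i) = 0
      · rw [if_pos h, if_pos (h2.2 h), hq]; push_cast; rfl
      · rw [if_neg h, if_neg (fun h' => h (h2.1 h'))]; simp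
  have hF2 : ∑ i, ∑ j, c i j * g (e i) (e j) = ∑ a, ∑ a', K a a' * g a a' := by
    rw [sum_sum_label e c g]
    refine Finset.sum_congr rfl fun a _ => Finset.sum_congr rfl fun a' _ => ?_
    rw [hKeq]
  have hF3 : ∑ a, ∑ a', K a a' * g a a' =
      (N : ℝ) * ∑ a, K a a - (q : ℝ) * ∑ a, ∑ τ ∈ Tor, K a (a + τ) := by
    rw [Finset.mul_sum, Finset.mul_sum, ← Finset.sum_sub_distrib]
    refine Finset.sum_congr rfl fun a _ => ?_
    have h1 : ∑ a', K a a' * g a a' =
        ∑ a', ((if a = a' then (N : ℝ) * K a a' else 0) -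
          (q : ℝ) * (if (p : ZMod N) * (a' - a) = 0 then K a a' else 0)) := by
      refine Finset.sum_congr rfl fun a' _ => ?_
      simp only [hg]
      split_ifs <;> ring
    rw [h1, Finset.sum_sub_distrib, Finset.sum_ite_eq, if_pos (Finset.mem_univ _),
      ← Finset.mul_sum]
    congr 2
    rw [← Equiv.sum_comp (Equiv.addLeft a)
      (fun a' => if (p : ZMod N) * (a' - a) = 0 then K a a' else 0)]
    simp only [Equiv.coe_addLeft, add_sub_cancel_left]
    rw [hTor, Finset.sum_filter]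
  have hshift : ∑ a, ∑ τ ∈ Tor, K (a + τ) (a + τ) = (p : ℝ) * ∑ a, K a a := by
    rw [Finset.sum_comm]
    have : ∀ τ ∈ Tor, ∑ a, K (a + τ) (a + τ) = ∑ a, K a a := by
      intro τ _
      exact Equiv.sum_comp (Equiv.addRight τ) (fun a => K a a)
    rw [Finset.sum_congr rfl this, Finset.sum_const, hTcard, nsmul_eq_mul]
  have hconst : ∑ a, ∑ τ ∈ Tor, K a a = (p : ℝ) * ∑ a, K a a := by
    rw [Finset.mul_sum]
    refine Finset.sum_congr rfl fun a _ => ?_
    rw [Finset.sum_const, hTcard, nsmul_eq_mul]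
  set D : ℝ := ∑ a, ∑ τ ∈ Tor, d a (a + τ) with hD
  have hF4 : (N : ℝ) * ∑ a, K a a - (q : ℝ) * ∑ a, ∑ τ ∈ Tor, K a (a + τ) = (q : ℝ) / 2 * D := by
    have hDexp : D = ∑ a, ∑ τ ∈ Tor, K a a + ∑ a, ∑ τ ∈ Tor, K (a + τ) (a + τ) -
        2 * ∑ a, ∑ τ ∈ Tor, K a (a + τ) := by
      rw [hD, Finset.mul_sum, ← Finset.sum_add_distrib, ← Finset.sum_sub_distrib]
      refine Finset.sum_congr rfl fun a _ => ?_
      rw [Finset.mul_sum, ← Finset.sum_add_distrib, ← Finset.sum_sub_distrib]
      refine Finset.sum_congr rfl fun τ _ => ?_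
      rw [hdK]
    rw [hDexp, hshift, hconst]
    have : (N : ℝ) = (p : ℝ) * q := by rw [hNpq]; push_cast; ring
    rw [this]
    ring
  have hDnn : 0 ≤ D := Finset.sum_nonneg fun a _ => Finset.sum_nonneg fun τ _ => hdnn _ _
  refine ⟨(q : ℝ) / 2 * D, by rw [hF1, hF2, hF3, hF4], ?_⟩
  by_cases hall : ∀ a, ∀ τ ∈ Tor, d a (a + τ) = 0
  · left
    have : D = 0 := Finset.sum_eq_zero fun a _ => Finset.sum_eq_zero fun τ hτ => hall a τ hτ
    rw [this, mul_zero]
  · right
    push Not at hall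
    obtain ⟨a₀, τ₀, hτ₀, hne⟩ := hall
    set dd : ZMod N → ZMod N → ℝ := fun τ τ' => d (a₀ + τ) (a₀ + τ') with hdd
    have hslots := slots_lower_bound Tor dd μ
      (fun τ => by simp only [hdd, hd, sub_self]; unfold qf bf; simp)
      (fun τ τ' => hdnn _ _)
      (fun τ τ' => by
        simp only [hdd]
        have hKcomm : K (a₀ + τ) (a₀ + τ') = K (a₀ + τ') (a₀ + τ) := bf_comm S hS _ _
        rw [hdK, hdK, hKcomm]
        ring)
      (fun τ τ' => hdμ _ _)
      (fun τ τ' τ'' h1 h2 => qf_sub_eq_zero_trans S hS hpsd h1 h2)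
      hT0 hτ₀ (by simp only [hdd, add_zero]; exact hne)
    rw [hTcard] at hslots
    have hle : ∑ τ ∈ Tor, ∑ τ' ∈ Tor, dd τ τ' ≤ D := by
      have h1 : ∑ τ ∈ Tor, ∑ τ' ∈ Tor, dd τ τ' =
          ∑ a ∈ Tor.image (fun τ => a₀ + τ), ∑ τ' ∈ Tor, d a (a + τ') := by
        rw [Finset.sum_image (fun τ _ τ' _ h => add_left_cancel h)]
        refine Finset.sum_congr rfl fun τ hτ => ?_
        simp only [hdd]
        refine Finset.sum_bij (fun τ' _ => τ' - τ) ?_ ?_ ?_ ?_
        · intro τ' hτ'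
          exact hTsub τ hτ τ' hτ'
        · intro τ' _ τ'' _ h
          exact sub_left_injective h
        · intro σ hσ
          exact ⟨τ + σ, hTadd τ hτ σ hσ, by ring⟩
        · intro τ' _
          congr 1
          ring
      rw [h1, hD]
      exact Finset.sum_le_sum_of_subset_of_nonneg (Finset.subset_univ _)
        (fun a _ _ => Finset.sum_nonneg fun τ _ => hdnn _ _)
    have hcard : (Fintype.card (ZMod N)ˣ : ℝ) = (q : ℝ) * ((p : ℝ) - 1) := by
      rw [ZMod.card_units_eq_totient, hN, Nat.totient_prime_pow hp hn, ← hq]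
      push_cast
      rw [Nat.cast_sub hp.one_lt.le]
      push_cast
      ring
    rw [hcard]
    have hq0 : (0 : ℝ) < q := by exact_mod_cast hqpos
    nlinarith [hslots.trans hle]

/-- The kernel of the hermitian form of a positive semidefinite matrix. -/
theorem herm_eq_zero_of_self_eq_zero (S : ι → ι → ℝ) (hS : ∀ i j, S i j = S j i)
    (hpsd : ∀ w : ι → ℝ, 0 ≤ qf S w) (v u : ι → ℂ)
    (h : ∑ i, ∑ j, (S i j : ℂ) * v i * conj (v j) = 0) :
    ∑ i, ∑ j, (S i j : ℂ) * v i * conj (u j) = 0 := by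
  rw [herm_eq S hS v] at h
  have h' : qf S (fun i => (v i).re) + qf S (fun i => (v i).im) = 0 := by exact_mod_cast h
  have hre : qf S (fun i => (v i).re) = 0 := by
    linarith [hpsd (fun i => (v i).re), hpsd (fun i => (v i).im)]
  have him : qf S (fun i => (v i).im) = 0 := by
    linarith [hpsd (fun i => (v i).re), hpsd (fun i => (v i).im)]
  have h1 := bf_eq_zero_of_qf_eq_zero S hS hpsd hre (fun j => (u j).re)
  have h2 := bf_eq_zero_of_qf_eq_zero S hS hpsd hre (fun j => (u j).im)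
  have h3 := bf_eq_zero_of_qf_eq_zero S hS hpsd him (fun j => (u j).re)
  have h4 := bf_eq_zero_of_qf_eq_zero S hS hpsd him (fun j => (u j).im)
  have hterm : ∀ i j, (S i j : ℂ) * v i * conj (u j) =
      ((S i j * (v i).re * (u j).re + S i j * (v i).im * (u j).im : ℝ) : ℂ) +
        ((S i j * (v i).im * (u j).re - S i j * (v i).re * (u j).im : ℝ) : ℂ) * Complex.I := by
    intro i j
    apply Complex.ext
    · simp only [Complex.mul_re, Complex.ofReal_re, Complex.ofReal_im, Complex.conj_re,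
        Complex.conj_im, Complex.mul_im, Complex.add_re, Complex.I_re, Complex.I_im]
      ring
    · simp only [Complex.mul_re, Complex.ofReal_re, Complex.ofReal_im, Complex.conj_re,
        Complex.conj_im, Complex.mul_im, Complex.add_im, Complex.I_re, Complex.I_im]
      ring
  have hexp : ∑ i, ∑ j, (S i j : ℂ) * v i * conj (u j) =
      ((bf S (fun i => (v i).re) (fun j => (u j).re) + bf S (fun i => (v i).im) (fun j => (u j).im) : ℝ) : ℂ) +
      ((bf S (fun i => (v i).im) (fun j => (u j).re) - bf S (fun i => (v i).re) (fun j => (u j).im) : ℝ) : ℂ) * Complex.I := by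
    rw [Finset.sum_congr rfl fun i _ => Finset.sum_congr rfl fun j _ => hterm i j]
    unfold bf
    simp only [Finset.sum_add_distrib, ← Finset.sum_mul, Complex.ofReal_add, Complex.ofReal_sub,
      Complex.ofReal_sum, Finset.sum_sub_distrib]
  rw [hexp, h1, h2, h3, h4]
  simp

end Main

end Cfsg.Agent.Lib.Helper85.QuadLB
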