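import Mathlib
import Cfsg.Prelude.Def_Blocks
import Cfsg.Agent.Lib.Helper82.LocalRing
import Cfsg.Agent.Lib.Helper82.SecUnit
import Cfsg.Agent.Lib.Helper21.PGroupBlock
import Cfsg.Agent.Lib.Helper17.CycAMGM
import Cfsg.Agent.Lib.Helper85.QuadLB

set_option autoImplicit false
set_option linter.style.haveILetI false
set_option linter.unusedSectionVars false

/-!
# `2`-adic integrality in the cyclotomic integers of `2`-power order

For integers `c i` and `2 ^ m`-th roots of unity `μ i`, the trace of `α = ∑ c i μ i` is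
`φ(2 ^ m) ∑ c i ε(μ i)` with `ε(1) = 1`, `ε(-1) = -1` and `ε = 0` otherwise.  If `α / 2 ^ h` is a
local integer at a maximal ideal over `2`, then `2 ^ h` divides `∑ c i ε(μ i)`: the powers of
`ζ` below `φ` form an integral basis at `2` (the argument is the one of Eisenstein's criterion,
with the uniformizer `π = ζ - 1`).
-/

namespace Cfsg.Agent.Lib.Helper85.TwoAdic

open Cfsg Polynomial
open scoped ComplexConjugate
open Cfsg.Agent.Lib.Helper82 Cfsg.Agent.Lib.Helper21 Cfsg.Agent.Lib.Helper85.QuadLB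

variable {M : Ideal AlgInt}

section Uniformizer

/-- `(1 + π) ^ (2 ^ k) = 1 + π ^ (2 ^ k) + 2 π r`. -/
theorem one_add_pow_two_pow (hM : M.IsPrime) {π : ℂ} (hπ : MemLocalRing M π) (k : ℕ) :
    ∃ r : ℂ, MemLocalRing M r ∧ (1 + π) ^ (2 ^ k) = 1 + π ^ (2 ^ k) + 2 * π * r := by
  induction k with
  | zero => exact ⟨0, memLocalRing_zero hM, by ring⟩
  | succ k ih =>
    obtain ⟨r, hr, h⟩ := ih
    set a := π ^ (2 ^ k - 1) with ha
    have hpa : π ^ (2 ^ k) = π * a := by
      rw [ha, ← pow_succ', Nat.sub_add_cancel Nat.one_le_two_pow]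
    have h2 : MemLocalRing M (2 : ℂ) := by exact_mod_cast memLocalRing_natCast hM 2
    have haR : MemLocalRing M a := memLocalRing_pow hM hπ _
    refine ⟨a + 2 * π * r ^ 2 + 2 * r + 2 * (π * a) * r, ?_, ?_⟩
    · refine memLocalRing_add hM (memLocalRing_add hM (memLocalRing_add hM haR ?_) ?_) ?_
      · exact memLocalRing_mul hM (memLocalRing_mul hM h2 hπ) (memLocalRing_pow hM hr 2)
      · exact memLocalRing_mul hM h2 hr
      · exact memLocalRing_mul hM (memLocalRing_mul hM h2 (memLocalRing_mul hM hπ haR)) hr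
    · have hL : (1 + π) ^ (2 ^ (k + 1)) = ((1 + π) ^ (2 ^ k)) ^ 2 := by rw [pow_succ, pow_mul]
      have hR : π ^ (2 ^ (k + 1)) = (π * a) ^ 2 := by rw [pow_succ, pow_mul, hpa]
      rw [hL, hR, h, hpa]
      ring

variable {ζ : ℂ}

theorem pow_half_eq_neg_one (k : ℕ) (hζ : IsPrimitiveRoot ζ (2 ^ (k + 1))) : ζ ^ (2 ^ k) = -1 := by
  have h1 : (ζ ^ (2 ^ k)) ^ 2 = 1 := by
    rw [← pow_mul, ← pow_succ]
    exact hζ.pow_eq_one
  have h2 : ζ ^ (2 ^ k) ≠ 1 :=
    hζ.pow_ne_one_of_pos_of_lt (by positivity)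
      (Nat.pow_lt_pow_right (by norm_num) (Nat.lt_succ_self k))
  have h3 : (ζ ^ (2 ^ k) - 1) * (ζ ^ (2 ^ k) + 1) = 0 := by
    have : (ζ ^ (2 ^ k) - 1) * (ζ ^ (2 ^ k) + 1) = (ζ ^ (2 ^ k)) ^ 2 - 1 := by ring
    rw [this, h1, sub_self]
  rcases mul_eq_zero.1 h3 with h | h
  · exact absurd (sub_eq_zero.1 h) h2
  · exact eq_neg_of_add_eq_zero_left h

theorem memLocalIdeal_zeta_sub_one (hMp : IsPModular 2 M) (k : ℕ)
    (hζ : IsPrimitiveRoot ζ (2 ^ (k + 1))) : MemLocalIdeal M (ζ - 1) :=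
  memLocalIdeal_sub_one_of_pow_eq_one hMp (hζ.isIntegral (by positivity)) (k + 1) hζ.pow_eq_one

/-- `π ^ (2 ^ k) = 2 w` with a unit `w`, for `π = ζ - 1`. -/
theorem pi_pow_eq (hMp : IsPModular 2 M) (k : ℕ) (hζ : IsPrimitiveRoot ζ (2 ^ (k + 1))) :
    ∃ w : ℂ, MemLocalRing M w ∧ MemLocalRing M w⁻¹ ∧ (ζ - 1) ^ (2 ^ k) = 2 * w := by
  have hM : M.IsPrime := hMp.2.1.isPrime
  have hπI := memLocalIdeal_zeta_sub_one hMp k hζ
  have hπ : MemLocalRing M (ζ - 1) := memLocalIdeal_memLocalRing hπI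
  obtain ⟨r, hr, h⟩ := one_add_pow_two_pow hM hπ k
  rw [show (1 : ℂ) + (ζ - 1) = ζ by ring, pow_half_eq_neg_one k hζ] at h
  have hwR : MemLocalRing M (-(1 + (ζ - 1) * r)) :=
    memLocalRing_neg (memLocalRing_add hM (memLocalRing_one hM) (memLocalRing_mul hM hπ hr))
  have hwI : ¬ MemLocalIdeal M (-(1 + (ζ - 1) * r)) := by
    intro hw
    have h1 : MemLocalIdeal M ((ζ - 1) * r) := memLocalIdeal_mul_right hM hπI hr
    have h2 := memLocalIdeal_neg (memLocalIdeal_add hM hw h1)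
    have h3 : -(-(1 + (ζ - 1) * r) + (ζ - 1) * r) = 1 := by ring
    rw [h3] at h2
    exact not_memLocalIdeal_one hM h2
  refine ⟨-(1 + (ζ - 1) * r), hwR, memLocalRing_inv hwR hwI, ?_⟩
  linear_combination -h

/-- The basic step: `π ^ (2 ^ k - 1) e / 2` is a local integer only for even `e`. -/
theorem two_dvd_of_pi_pow_mul (hMp : IsPModular 2 M) (k : ℕ)
    (hζ : IsPrimitiveRoot ζ (2 ^ (k + 1))) (e : ℤ)
    (h : MemLocalRing M ((ζ - 1) ^ (2 ^ k - 1) * (e : ℂ) / 2)) : (2 : ℤ) ∣ e := by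
  have hM : M.IsPrime := hMp.2.1.isPrime
  by_contra hne
  have heI : ¬ MemLocalIdeal M (e : ℂ) := by
    rw [memLocalIdeal_intCast_iff hMp e]
    exact_mod_cast hne
  have heinv := memLocalRing_inv (memLocalRing_intCast hM e) heI
  have he0 : (e : ℂ) ≠ 0 := by
    intro h0
    apply heI
    rw [h0]
    exact memLocalIdeal_zero hM
  obtain ⟨w, hw, hwinv, hweq⟩ := pi_pow_eq hMp k hζ
  have hπI := memLocalIdeal_zeta_sub_one hMp k hζ
  have hx : MemLocalRing M ((ζ - 1) ^ (2 ^ k - 1) / 2) := by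
    have := memLocalRing_mul hM h heinv
    convert this using 1
    field_simp
  have hwI : MemLocalIdeal M w := by
    have h1 := memLocalIdeal_mul_right hM hπI hx
    have h2 : (ζ - 1) * ((ζ - 1) ^ (2 ^ k - 1) / 2) = w := by
      have h3 : (ζ - 1) * (ζ - 1) ^ (2 ^ k - 1) = (ζ - 1) ^ (2 ^ k) := by
        rw [← pow_succ', Nat.sub_add_cancel Nat.one_le_two_pow]
      rw [mul_div_assoc', h3, hweq]
      field_simp
    rwa [h2] at h1
  have hw0 : w ≠ 0 := by
    intro h0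
    have hπ0 : (ζ - 1) ^ (2 ^ k) = 0 := by rw [hweq, h0, mul_zero]
    have : ζ - 1 = 0 := (pow_eq_zero_iff (by positivity)).1 hπ0
    have hζ1 : ζ = 1 := sub_eq_zero.1 this
    have := hζ.pow_ne_one_of_pos_of_lt one_ne_zero
      (show 1 < 2 ^ (k + 1) by
        calc 1 < 2 := by norm_num
          _ = 2 ^ 1 := (pow_one 2).symm
          _ ≤ 2 ^ (k + 1) := Nat.pow_le_pow_right (by norm_num) (by omega))
    rw [pow_one] at this
    exact this hζ1
  have h1 := memLocalIdeal_mul_right hM hwI hwinv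
  rw [mul_inv_cancel₀ hw0] at h1
  exact not_memLocalIdeal_one hM h1

theorem memLocalRing_aeval (hM : M.IsPrime) {x : ℂ} (hx : MemLocalRing M x) (g : ℤ[X]) :
    MemLocalRing M (aeval x g) := by
  induction g using Polynomial.induction_on with
  | C a =>
    rw [aeval_C]
    exact_mod_cast memLocalRing_intCast hM a
  | add p q hp hq =>
    rw [map_add]
    exact memLocalRing_add hM hp hq
  | monomial n a h =>
    rw [pow_succ, ← mul_assoc, map_mul, aeval_X]
    exact memLocalRing_mul hM h hx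

/-- Eisenstein's argument: a polynomial of degree below `2 ^ k` whose value at `π` is divisible by
`2` has even coefficients. -/
theorem two_dvd_coeff_of_aeval_pi (hMp : IsPModular 2 M) (k : ℕ)
    (hζ : IsPrimitiveRoot ζ (2 ^ (k + 1))) :
    ∀ (D : ℕ) (g : ℤ[X]), g.natDegree ≤ D → D < 2 ^ k →
      MemLocalRing M ((ζ - 1) ^ (2 ^ k - 1 - D) * aeval (ζ - 1) g / 2) →
      ∀ n, (2 : ℤ) ∣ g.coeff n := by
  have hM : M.IsPrime := hMp.2.1.isPrime
  have hπI := memLocalIdeal_zeta_sub_one hMp k hζ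
  have hπ : MemLocalRing M (ζ - 1) := memLocalIdeal_memLocalRing hπI
  intro D
  induction D with
  | zero =>
    intro g hg _ h n
    have hgC : g = C (g.coeff 0) := eq_C_of_natDegree_le_zero hg
    have h0 : (2 : ℤ) ∣ g.coeff 0 := by
      apply two_dvd_of_pi_pow_mul hMp k hζ
      rw [hgC, aeval_C] at h
      simpa using h
    rcases Nat.eq_zero_or_pos n with rfl | hn
    · exact h0
    · rw [coeff_eq_zero_of_natDegree_lt (lt_of_le_of_lt hg hn)]
      exact dvd_zero _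
  | succ D ih =>
    intro g hg hD h n
    set g₁ := g.divX with hg₁
    set e₀ := g.coeff 0 with he₀
    have hgeq : g = g₁ * X + C e₀ := (divX_mul_X_add g).symm
    have hg₁deg : g₁.natDegree ≤ D := by
      rw [hg₁, natDegree_divX_eq_natDegree_tsub_one]
      omega
    have hval : aeval (ζ - 1) g = aeval (ζ - 1) g₁ * (ζ - 1) + (e₀ : ℂ) := by
      conv_lhs => rw [hgeq]
      rw [map_add, map_mul, aeval_X, aeval_C]
      rfl
    set G₁ := aeval (ζ - 1) g₁ with hG₁
    have hG₁R : MemLocalRing M G₁ := memLocalRing_aeval hM hπ g₁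
    obtain ⟨w, hw, hwinv, hweq⟩ := pi_pow_eq hMp k hζ
    rw [hval] at h
    -- the constant coefficient
    have he₀ : (2 : ℤ) ∣ e₀ := by
      apply two_dvd_of_pi_pow_mul hMp k hζ
      have h1 := memLocalRing_mul hM (memLocalRing_pow hM hπ (D + 1)) h
      have h2 : (ζ - 1) ^ (D + 1) * ((ζ - 1) ^ (2 ^ k - 1 - (D + 1)) * (G₁ * (ζ - 1) + (e₀ : ℂ)) / 2) =
          w * G₁ + (ζ - 1) ^ (2 ^ k - 1) * (e₀ : ℂ) / 2 := by
        have h3 : (ζ - 1) ^ (D + 1) * (ζ - 1) ^ (2 ^ k - 1 - (D + 1)) = (ζ - 1) ^ (2 ^ k - 1) := by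
          rw [← pow_add]
          congr 1
          omega
        have h4 : (ζ - 1) ^ (2 ^ k - 1) * (ζ - 1) = 2 * w := by
          rw [← pow_succ, Nat.sub_add_cancel Nat.one_le_two_pow, hweq]
        calc (ζ - 1) ^ (D + 1) * ((ζ - 1) ^ (2 ^ k - 1 - (D + 1)) * (G₁ * (ζ - 1) + (e₀ : ℂ)) / 2)
            = ((ζ - 1) ^ (D + 1) * (ζ - 1) ^ (2 ^ k - 1 - (D + 1))) *
                (G₁ * (ζ - 1) + (e₀ : ℂ)) / 2 := by ring
          _ = ((ζ - 1) ^ (2 ^ k - 1) * (ζ - 1)) * G₁ / 2 + (ζ - 1) ^ (2 ^ k - 1) * (e₀ : ℂ) / 2 := by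
            rw [h3]; ring
          _ = _ := by rw [h4]; ring
      rw [h2] at h1
      have h5 := memLocalRing_sub hM h1 (memLocalRing_mul hM hw hG₁R)
      convert h5 using 1
      ring
    obtain ⟨e', he'⟩ := he₀
    -- the remaining coefficients
    have hrest : MemLocalRing M ((ζ - 1) ^ (2 ^ k - 1 - D) * G₁ / 2) := by
      have h1 : MemLocalRing M ((ζ - 1) ^ (2 ^ k - 1 - (D + 1)) * (e' : ℂ)) :=
        memLocalRing_mul hM (memLocalRing_pow hM hπ _) (memLocalRing_intCast hM e')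
      have h2 := memLocalRing_sub hM h h1
      convert h2 using 1
      have h3 : (ζ - 1) ^ (2 ^ k - 1 - D) = (ζ - 1) ^ (2 ^ k - 1 - (D + 1)) * (ζ - 1) := by
        rw [← pow_succ]
        congr 1
        omega
      rw [h3, he']
      push_cast
      ring
    have hall := ih g₁ hg₁deg (by omega) hrest
    rcases Nat.eq_zero_or_pos n with rfl | hn
    · exact ⟨e', he'⟩
    · obtain ⟨n', rfl⟩ : ∃ n', n = n' + 1 := ⟨n - 1, by omega⟩
      have := hall n'
      rwa [hg₁, coeff_divX] at this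

/-- A polynomial of degree below `2 ^ k` whose value at `ζ` is divisible by `2` is divisible by
`2`. -/
theorem C_two_dvd_of_aeval_zeta (hMp : IsPModular 2 M) (k : ℕ)
    (hζ : IsPrimitiveRoot ζ (2 ^ (k + 1))) (f : ℤ[X]) (hf : f.natDegree < 2 ^ k)
    (h : MemLocalRing M (aeval ζ f / 2)) : C (2 : ℤ) ∣ f := by
  set g := f.comp (X + C 1) with hg
  have hgdeg : g.natDegree = f.natDegree := by
    rw [hg, natDegree_comp, natDegree_X_add_C, mul_one]
  have hgval : aeval (ζ - 1) g = aeval ζ f := by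
    rw [hg, aeval_comp]
    congr 1
    simp
  have hall := two_dvd_coeff_of_aeval_pi hMp k hζ (2 ^ k - 1) g (by omega)
    (by have := Nat.one_le_two_pow (n := k); omega) (by
      rw [Nat.sub_self, pow_zero, one_mul, hgval]
      exact h)
  have hgdvd : C (2 : ℤ) ∣ g := (C_dvd_iff_dvd_coeff _ _).2 hall
  obtain ⟨g', hg'⟩ := hgdvd
  have hback : f = g.comp (X - C 1) := by
    rw [hg, comp_assoc]
    simp
  refine ⟨g'.comp (X - C 1), ?_⟩
  rw [hback, hg', mul_comp, C_comp]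

theorem C_two_pow_dvd_of_aeval_zeta (hMp : IsPModular 2 M) (k : ℕ)
    (hζ : IsPrimitiveRoot ζ (2 ^ (k + 1))) :
    ∀ (h : ℕ) (f : ℤ[X]), f.natDegree < 2 ^ k →
      MemLocalRing M (aeval ζ f / 2 ^ h) → C ((2 : ℤ) ^ h) ∣ f := by
  have hM : M.IsPrime := hMp.2.1.isPrime
  intro h
  induction h with
  | zero =>
    intro f _ _
    rw [pow_zero, C_1]
    exact one_dvd f
  | succ h ih =>
    intro f hf hmem
    have h1 : MemLocalRing M (aeval ζ f / 2) := by
      have h2 : MemLocalRing M ((2 : ℂ) ^ h) := by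
        exact_mod_cast memLocalRing_natCast hM (2 ^ h)
      have := memLocalRing_mul hM hmem h2
      convert this using 1
      rw [pow_succ]
      field_simp
    obtain ⟨f', hf'⟩ := C_two_dvd_of_aeval_zeta hMp k hζ f hf h1
    have hf'deg : f'.natDegree < 2 ^ k := by
      rw [hf', natDegree_C_mul (by norm_num)] at hf
      exact hf
    have hf'val : MemLocalRing M (aeval ζ f' / 2 ^ h) := by
      convert hmem using 1
      rw [hf', map_mul, aeval_C, pow_succ]
      simp only [eq_intCast, Int.cast_ofNat]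
      field_simp
    obtain ⟨f'', hf''⟩ := ih f' hf'deg hf'val
    refine ⟨f'', ?_⟩
    rw [hf', hf'', pow_succ, C_mul]
    ring

end Uniformizer

section Trace

/-- The normalized trace of a root of unity of `2`-power order. -/
noncomputable def eps (μ : ℂ) : ℤ := by
  classical
  exact (if μ = 1 then 2 else 0) - (if μ ^ 2 = 1 then 1 else 0)

theorem eps_one : eps 1 = 1 := by
  unfold eps
  simp

theorem eps_conj (μ : ℂ) : eps (conj μ) = eps μ := by
  classical
  unfold eps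
  have h1 : conj μ = 1 ↔ μ = 1 := by
    constructor
    · intro h
      have := congrArg conj h
      rwa [Complex.conj_conj, map_one] at this
    · intro h
      rw [h, map_one]
  have h2 : (conj μ) ^ 2 = 1 ↔ μ ^ 2 = 1 := by
    rw [← map_pow]
    constructor
    · intro h
      have := congrArg conj h
      rwa [Complex.conj_conj, map_one] at this
    · intro h
      rw [h, map_one]
  simp only [h1, h2]

variable {ζ : ℂ}

/-- Folding the `2 ^ (k + 1)`-th roots of unity onto the powers of `ζ` below `2 ^ k`. -/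
theorem exists_fold (k : ℕ) (hζ : IsPrimitiveRoot ζ (2 ^ (k + 1))) {μ : ℂ}
    (hμ : μ ^ (2 ^ (k + 1)) = 1) :
    ∃ (r : ℕ) (s : ℤ), r < 2 ^ k ∧ (s = 1 ∨ s = -1) ∧ μ = (s : ℂ) * ζ ^ r := by
  obtain ⟨a, ha, rfl⟩ := hζ.eq_pow_of_pow_eq_one hμ
  by_cases hlt : a < 2 ^ k
  · exact ⟨a, 1, hlt, Or.inl rfl, by simp⟩
  · refine ⟨a - 2 ^ k, -1, ?_, Or.inr rfl, ?_⟩
    · rw [pow_succ] at ha
      omega
    · have h1 : a = 2 ^ k + (a - 2 ^ k) := by omega
      conv_lhs => rw [h1, pow_add, pow_half_eq_neg_one k hζ]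
      simp

theorem eps_fold (k : ℕ) (hζ : IsPrimitiveRoot ζ (2 ^ (k + 1))) {r : ℕ} {s : ℤ}
    (hr : r < 2 ^ k) (hs : s = 1 ∨ s = -1) :
    eps ((s : ℂ) * ζ ^ r) = if r = 0 then s else 0 := by
  classical
  have hs2 : ((s : ℂ)) ^ 2 = 1 := by
    rcases hs with rfl | rfl <;> norm_num
  have hsq : ((s : ℂ) * ζ ^ r) ^ 2 = 1 ↔ r = 0 := by
    rw [mul_pow, hs2, one_mul, ← pow_mul]
    constructor
    · intro h
      have hdvd := (hζ.pow_eq_one_iff_dvd _).1 h
      rw [pow_succ, mul_comm r 2] at hdvd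
      have h2 : 2 ^ k ∣ r := by
        rw [mul_comm (2 ^ k) 2] at hdvd
        exact Nat.dvd_of_mul_dvd_mul_left (by norm_num) hdvd
      by_contra hne
      have := Nat.le_of_dvd (Nat.pos_of_ne_zero hne) h2
      omega
    · rintro rfl
      simp
  unfold eps
  by_cases hr0 : r = 0
  · subst hr0
    rw [if_pos rfl, if_pos (hsq.2 rfl)]
    rw [pow_zero, mul_one]
    rcases hs with rfl | rfl
    · simp
    · have : ((-1 : ℤ) : ℂ) ≠ 1 := by norm_num
      rw [if_neg this]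
      norm_num
  · rw [if_neg hr0, if_neg (fun h => hr0 (hsq.1 h))]
    have : (s : ℂ) * ζ ^ r ≠ 1 := by
      intro h
      apply hr0
      apply hsq.1
      rw [h, one_pow]
    rw [if_neg this]
    norm_num

/-- The trace of a root of unity of `2`-power order. -/
theorem sum_units_pow_eq (m : ℕ) {η : ℂ} (hη : η ^ (2 ^ m) = 1) :
    haveI : NeZero (2 ^ m) := ⟨by positivity⟩
    ∑ j : (ZMod (2 ^ m))ˣ, η ^ (j : ZMod (2 ^ m)).val =
      (Fintype.card (ZMod (2 ^ m))ˣ : ℂ) * (eps η : ℂ) := by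
  classical
  haveI : NeZero (2 ^ m) := ⟨by positivity⟩
  rcases Nat.eq_zero_or_pos m with rfl | hm
  · rw [pow_zero, pow_one] at hη
    subst hη
    simp [eps_one]
  · rw [ramanujan_prime_pow Nat.prime_two hm rfl η hη, ZMod.card_units_eq_totient,
      Nat.totient_prime_pow Nat.prime_two hm]
    unfold eps
    have h2 : (2 : ℕ) ^ m = 2 * 2 ^ (m - 1) := by
      rw [← pow_succ', Nat.sub_add_cancel hm]
    by_cases h1 : η = 1
    · have hsq : η ^ 2 = 1 := by rw [h1, one_pow]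
      rw [if_pos h1, if_pos hsq, if_pos h1, if_pos hsq, h2]
      push_cast
      ring
    · rw [if_neg h1, if_neg h1]
      by_cases hsq : η ^ 2 = 1
      · rw [if_pos hsq, if_pos hsq]
        push_cast
        ring
      · rw [if_neg hsq, if_neg hsq]
        push_cast
        ring

/-- The trace of an integer combination of roots of unity of `2`-power order. -/
theorem sum_units_sum_eq (m : ℕ) {ι : Type*} [Fintype ι] (c : ι → ℤ) (μ : ι → ℂ)
    (hμ : ∀ i, μ i ^ (2 ^ m) = 1) :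
    haveI : NeZero (2 ^ m) := ⟨by positivity⟩
    ∑ j : (ZMod (2 ^ m))ˣ, ∑ i, (c i : ℂ) * μ i ^ (j : ZMod (2 ^ m)).val =
      (Fintype.card (ZMod (2 ^ m))ˣ : ℂ) * ((∑ i, c i * eps (μ i) : ℤ) : ℂ) := by
  haveI : NeZero (2 ^ m) := ⟨by positivity⟩
  rw [Finset.sum_comm]
  push_cast
  rw [Finset.mul_sum]
  refine Finset.sum_congr rfl fun i _ => ?_
  rw [← Finset.mul_sum, sum_units_pow_eq m (hμ i)]
  ring

/-- **`2`-adic integrality of the trace.** -/
theorem two_pow_dvd_sum_eps (hMp : IsPModular 2 M) (m : ℕ) {ι : Type*} [Fintype ι] (c : ι → ℤ)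
    (μ : ι → ℂ) (hμ : ∀ i, μ i ^ (2 ^ m) = 1) (h : ℕ)
    (hint : MemLocalRing M ((∑ i, (c i : ℂ) * μ i) / ((2 ^ h : ℕ) : ℂ))) :
    (2 : ℤ) ^ h ∣ ∑ i, c i * eps (μ i) := by
  classical
  rcases Nat.eq_zero_or_pos m with rfl | hm
  · have hμ1 : ∀ i, μ i = 1 := by
      intro i
      have := hμ i
      rwa [pow_zero, pow_one] at this
    simp_rw [hμ1, eps_one, mul_one] at hint ⊢
    have := pow_dvd_of_memLocalRing_div hMp h (∑ i, c i) (by rw [Int.cast_sum]; exact hint)
    exact_mod_cast this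
  · obtain ⟨k, rfl⟩ : ∃ k, m = k + 1 := ⟨m - 1, by omega⟩
    have hζ : IsPrimitiveRoot (Complex.exp (2 * Real.pi * Complex.I / ((2 ^ (k + 1) : ℕ) : ℂ)))
        (2 ^ (k + 1)) := Complex.isPrimitiveRoot_exp _ (by positivity)
    set ζ := Complex.exp (2 * Real.pi * Complex.I / ((2 ^ (k + 1) : ℕ) : ℂ)) with hζdef
    have hfold := fun i => exists_fold k hζ (hμ i)
    choose r s hr hs hμeq using hfold
    set f : ℤ[X] := ∑ i, C (c i * s i) * X ^ (r i) with hf
    have hfdeg : f.natDegree < 2 ^ k := by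
      have h1 : f.natDegree ≤ 2 ^ k - 1 := by
        rw [hf]
        apply natDegree_sum_le_of_forall_le
        intro i _
        refine (natDegree_C_mul_X_pow_le _ _).trans ?_
        have := hr i
        omega
      have := Nat.one_le_two_pow (n := k)
      omega
    have hfval : aeval ζ f = ∑ i, (c i : ℂ) * μ i := by
      rw [hf, map_sum]
      refine Finset.sum_congr rfl fun i _ => ?_
      rw [map_mul, aeval_C, map_pow, aeval_X, hμeq i]
      simp only [eq_intCast, Int.cast_mul]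
      ring
    have hdvd := C_two_pow_dvd_of_aeval_zeta hMp k hζ h f hfdeg (by
      rw [hfval]
      convert hint using 2
      push_cast
      rfl)
    have h0 := (C_dvd_iff_dvd_coeff _ _).1 hdvd 0
    have hcoeff : f.coeff 0 = ∑ i, c i * eps (μ i) := by
      rw [hf, finsetSum_coeff]
      refine Finset.sum_congr rfl fun i _ => ?_
      rw [coeff_C_mul_X_pow, hμeq i, eps_fold k hζ (hr i) (hs i)]
      by_cases h0 : r i = 0
      · rw [if_pos h0, if_pos h0.symm]
      · rw [if_neg h0, if_neg (fun h => h0 h.symm), mul_zero]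
    rwa [hcoeff] at h0

/-- Parity of the trace for a symmetric family indexed by pairs. -/
theorem two_dvd_sum_eps_sub {ι : Type*} [Fintype ι] (c : ι × ι → ℤ) (μ : ι × ι → ℂ)
    (hc : ∀ i, c i.swap = c i) (hμ : ∀ i, μ i.swap = conj (μ i)) (hdiag : ∀ a, μ (a, a) = 1) :
    (2 : ℤ) ∣ ∑ i, c i * eps (μ i) - ∑ i, c i := by
  classical
  rw [← Finset.sum_sub_distrib]
  have hz : ((∑ i, (c i * eps (μ i) - c i) : ℤ) : ZMod 2) = 0 := by
    rw [Int.cast_sum]
    refine Finset.sum_involution (fun i _ => i.swap) ?_ ?_ ?_ ?_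
    · intro i _
      rw [hc i, hμ i, eps_conj]
      exact CharTwo.add_self_eq_zero _
    · intro i _ hne hfix
      apply hne
      have hi : i = (i.1, i.1) := by
        have h1 := congrArg Prod.fst hfix
        rw [Prod.fst_swap] at h1
        exact Prod.ext rfl h1
      rw [hi, hdiag, eps_one]
      simp
    · intro i _
      exact Finset.mem_univ _
    · intro i _
      exact Prod.swap_swap i
  exact (ZMod.intCast_zmod_eq_zero_iff_dvd _ 2).1 hz

end Trace

section StrictAMGM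

/-- If all Galois conjugates of an integer combination of `q`-th roots of unity are positive reals
divisible by `p ^ h` in the local ring, with quotient in the local ideal, their sum exceeds
`φ(q) p ^ h`. -/
theorem card_units_mul_pow_lt_sum_re {p : ℕ} [Fact p.Prime] (hMp : IsPModular p M) (q : ℕ)
    [NeZero q] {ι : Type*} [Fintype ι] (c : ι → ℤ) (μ : ι → ℂ) (hμ : ∀ i, μ i ^ q = 1) (h : ℕ)
    (hne : ∀ j : (ZMod q)ˣ, ∑ i, (c i : ℂ) * μ i ^ (j : ZMod q).val ≠ 0)
    (hreal : ∀ j : (ZMod q)ˣ, ∃ r : ℝ, 0 ≤ r ∧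
      ∑ i, (c i : ℂ) * μ i ^ (j : ZMod q).val = (r : ℂ))
    (hint : ∀ j : (ZMod q)ˣ, MemLocalIdeal M
      ((∑ i, (c i : ℂ) * μ i ^ (j : ZMod q).val) / ((p ^ h : ℕ) : ℂ))) :
    (Fintype.card (ZMod q)ˣ : ℝ) * (p : ℝ) ^ h <
      ∑ j : (ZMod q)ˣ, (∑ i, (c i : ℂ) * μ i ^ (j : ZMod q).val).re := by
  classical
  have hp : p.Prime := Fact.out
  have hM : M.IsPrime := hMp.2.1.isPrime
  choose r hr0 hr using hreal
  have hre : ∀ j : (ZMod q)ˣ, (∑ i, (c i : ℂ) * μ i ^ (j : ZMod q).val).re = r j := by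
    intro j
    rw [hr j, Complex.ofReal_re]
  simp_rw [hre]
  obtain ⟨z, hz⟩ := Cfsg.Agent.Lib.Helper17.CycAMGM.prod_conj_eq_int q c μ hμ
  set N := Fintype.card (ZMod q)ˣ with hN
  have hNpos : 0 < N := Fintype.card_pos
  have hNr : (0 : ℝ) < (N : ℝ) := by exact_mod_cast hNpos
  have hzr : (z : ℝ) = ∏ j : (ZMod q)ˣ, r j := by
    apply Complex.ofReal_injective
    rw [Complex.ofReal_intCast, ← hz, Complex.ofReal_prod]
    exact Finset.prod_congr rfl fun j _ => hr j
  have hz0 : z ≠ 0 := by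
    rintro rfl
    rw [Int.cast_zero, Finset.prod_eq_zero_iff] at hz
    obtain ⟨j, -, hj⟩ := hz
    exact hne j hj
  have hzpos : 0 < z := by
    have h1 : (0 : ℝ) ≤ (z : ℝ) := by
      rw [hzr]
      exact Finset.prod_nonneg fun j _ => hr0 j
    have h2 : (0 : ℤ) ≤ z := by exact_mod_cast h1
    omega
  -- divisibility
  have hprod : (z : ℂ) / ((p ^ (h * N) : ℕ) : ℂ) =
      ∏ j : (ZMod q)ˣ, (∑ i, (c i : ℂ) * μ i ^ (j : ZMod q).val) / ((p ^ h : ℕ) : ℂ) := by
    rw [Finset.prod_div_distrib, hz, Finset.prod_const, Finset.card_univ, ← hN]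
    push_cast
    rw [← pow_mul]
  have hzR : MemLocalRing M ((z : ℂ) / ((p ^ (h * N) : ℕ) : ℂ)) := by
    rw [hprod]
    exact memLocalRing_prod hM _ _ fun j _ => memLocalIdeal_memLocalRing (hint j)
  have hzI : MemLocalIdeal M ((z : ℂ) / ((p ^ (h * N) : ℕ) : ℂ)) := by
    rw [hprod]
    obtain ⟨j₀⟩ : Nonempty (ZMod q)ˣ := ⟨1⟩
    rw [← Finset.mul_prod_erase Finset.univ _ (Finset.mem_univ j₀)]
    exact memLocalIdeal_mul_right hM (hint j₀)
      (memLocalRing_prod hM _ _ fun j _ => memLocalIdeal_memLocalRing (hint j))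
  obtain ⟨z', hz'⟩ := pow_dvd_of_memLocalRing_div hMp (h * N) z hzR
  have hpz' : (p : ℤ) ∣ z' := by
    rw [← memLocalIdeal_intCast_iff hMp z']
    convert hzI using 1
    rw [hz']
    push_cast
    have : ((p : ℂ)) ^ (h * N) ≠ 0 := pow_ne_zero _ (Nat.cast_ne_zero.2 hp.ne_zero)
    field_simp
  have hz'pos : 0 < z' := by
    have h1 : (0 : ℤ) < (p : ℤ) ^ (h * N) := by
      have : (0 : ℤ) < (p : ℤ) := by exact_mod_cast hp.pos
      positivity
    rw [hz'] at hzpos
    by_contra hcon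
    have hcon' : z' ≤ 0 := not_lt.1 hcon
    nlinarith
  have hz'2 : (p : ℤ) ≤ z' := Int.le_of_dvd hz'pos hpz'
  have hlt : ((p : ℝ) ^ h) ^ N < ∏ j : (ZMod q)ˣ, r j := by
    rw [← hzr, ← pow_mul, hz']
    push_cast
    have h1 : (0 : ℝ) < (p : ℝ) ^ (h * N) := by
      have : (0 : ℝ) < (p : ℝ) := by exact_mod_cast hp.pos
      positivity
    have h2 : (2 : ℝ) ≤ (z' : ℝ) := by
      have : (2 : ℤ) ≤ z' := le_trans (by exact_mod_cast hp.two_le) hz'2
      exact_mod_cast this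
    nlinarith
  -- AM-GM
  have hamgm := Real.geom_mean_le_arith_mean_weighted (Finset.univ : Finset (ZMod q)ˣ)
    (fun _ => (N : ℝ)⁻¹) r (fun _ _ => (inv_pos.mpr hNr).le)
    (by rw [Finset.sum_const, Finset.card_univ, nsmul_eq_mul, ← hN]; exact mul_inv_cancel₀ hNr.ne')
    (fun j _ => hr0 j)
  rw [Real.finsetProd_rpow _ _ (fun j _ => hr0 j)] at hamgm
  have hph : (0 : ℝ) ≤ (p : ℝ) ^ h := by positivity
  have h2 : (p : ℝ) ^ h < (∏ j : (ZMod q)ˣ, r j) ^ (N : ℝ)⁻¹ := by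
    have h3 := Real.rpow_lt_rpow (by positivity) hlt (inv_pos.mpr hNr)
    rwa [Real.pow_rpow_inv_natCast hph hNpos.ne'] at h3
  have h3 := lt_of_lt_of_le h2 hamgm
  rw [← Finset.mul_sum] at h3
  have h4 := mul_lt_mul_of_pos_left h3 hNr
  rw [← mul_assoc, mul_inv_cancel₀ hNr.ne', one_mul] at h4
  exact h4

end StrictAMGM

end Cfsg.Agent.Lib.Helper85.TwoAdic
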