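import Mathlib
import Cfsg.Prelude.Def_Blocks
import Cfsg.Prelude.Def_BlockRank
import Cfsg.Agent.Lib.Helper82.SecUnit
import Cfsg.Agent.Lib.Helper82.ContribInt
import Cfsg.Agent.Lib.Helper85.TwoAdic

set_option autoImplicit false
set_option linter.style.haveILetI false
set_option linter.unusedSectionVars false

/-!
# Major subsections: strict divisibility of the diagonal contributions at positive height
-/

namespace Cfsg.Agent.Lib.Helper85.MajorThreeAux

open Cfsg
open scoped ComplexConjugate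
open Cfsg.Agent.Lib.Helper21 Cfsg.Agent.Lib.Helper82 Cfsg.Agent.Lib.Helper83

section Strict

universe u
variable {G : Type u} [Group G] [Fintype G] {p : ℕ} [Fact p.Prime] {M : Ideal AlgInt}

local notation "C[" g "]" => Subgroup.centralizer (singleton g)

/-- The complex conjugate of an integer combination of `p`-power roots of unity in the local
ideal lies in the local ideal. -/
theorem memLocalIdeal_conj_sum (hMp : IsPModular p M) {ι : Type*} [Fintype ι]
    (c : ι → ℤ) (μ : ι → ℂ) (n : ℕ) (hμ : ∀ i, μ i ^ (p ^ n) = 1)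
    (h : MemLocalIdeal M (∑ i, (c i : ℂ) * μ i)) :
    MemLocalIdeal M (conj (∑ i, (c i : ℂ) * μ i)) := by
  have hM : M.IsPrime := hMp.2.1.isPrime
  have hp : p.Prime := Fact.out
  have hone : ∀ t : ℂ, t ^ (p ^ n) = 1 → MemLocalIdeal M (t - 1) := by
    intro t ht
    have hint : IsIntegral ℤ t := by
      apply IsIntegral.of_pow (pow_pos hp.pos n)
      rw [ht]
      exact isIntegral_one
    exact memLocalIdeal_sub_one_of_pow_eq_one hMp hint n ht
  have hdiff : MemLocalIdeal M (∑ i, (c i : ℂ) * ((conj (μ i) - 1) - (μ i - 1))) := by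
    apply memLocalIdeal_sum hM
    intro i _
    apply memLocalIdeal_mul_left hM (memLocalRing_intCast hM (c i))
    refine memLocalIdeal_sub hM (hone _ ?_) (hone _ (hμ i))
    rw [← map_pow, hμ i, map_one]
  have heq : conj (∑ i, (c i : ℂ) * μ i) =
      ∑ i, (c i : ℂ) * μ i + ∑ i, (c i : ℂ) * ((conj (μ i) - 1) - (μ i - 1)) := by
    rw [map_sum, ← Finset.sum_add_distrib]
    refine Finset.sum_congr rfl fun i _ => ?_
    rw [map_mul, map_intCast]
    ring
  rw [heq]
  exact memLocalIdeal_add hM h hdiff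

/-- **(5G), strict part.** For a major subsection and `χ` of positive height `h`, the number
`p ^ d m(χ, χ) / p ^ h` lies in the local ideal. -/
theorem memLocalIdeal_contrib_self (hMp : IsPModular p M) {x : G}
    (hx : ∃ k : ℕ, orderOf x = p ^ k) [Fintype C[x]] (ψ₀ : IrrCharacter C[x])
    (χ₀ : IrrCharacter G)
    (hind : IsInducedBlock M C[x] (blockOf M (ψ₀ : C[x] → ℂ)) (blockOf M (χ₀ : G → ℂ)))
    (hdef : blockDefect p (blockOf M (ψ₀ : C[x] → ℂ)) = blockDefect p (blockOf M (χ₀ : G → ℂ)))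
    (χ : IrrCharacter G) (hχ : χ ∈ blockOf M (χ₀ : G → ℂ))
    (hpos : 1 ≤ blockHeight p (blockOf M (χ₀ : G → ℂ)) (χ : G → ℂ)) :
    MemLocalIdeal M (((p ^ blockDefect p (blockOf M (χ₀ : G → ℂ)) : ℕ) : ℂ) *
      contrib p (blockOf M (ψ₀ : C[x] → ℂ)) x (χ : G → ℂ) (χ : G → ℂ) /
      ((p ^ blockHeight p (blockOf M (χ₀ : G → ℂ)) (χ : G → ℂ) : ℕ) : ℂ)) := by
  classical
  have hp : p.Prime := hMp.1
  have hM : M.IsPrime := hMp.2.1.isPrime
  haveI : Fintype (IrrCharacter C[x]) := Fintype.ofFinite _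
  set e := blockOf M (ψ₀ : C[x] → ℂ) with he
  set B := blockOf M (χ₀ : G → ℂ) with hB
  have hBblock : IsPBlock M B := ⟨χ₀, rfl⟩
  set d := blockDefect p B with hd
  set h := blockHeight p B (χ : G → ℂ) with hh
  obtain ⟨χ₁, hχ₁, h0⟩ := exists_height_zero (p := p) hM χ₀
  have hdeg := factorization_charDegree_add_blockDefect (p := p) hM hBblock hχ
  have hdeg₁ := factorization_charDegree_add_blockDefect (p := p) hM hBblock hχ₁
  rw [h0, add_zero] at hdeg₁
  have hdeg0 : charDegree (χ : G → ℂ) ≠ 0 := (IsIrrCharacter.charDegree_pos χ.2).ne'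
  have hdeg0₁ : charDegree (χ₁ : G → ℂ) ≠ 0 := (IsIrrCharacter.charDegree_pos χ₁.2).ne'
  have hcard : Nat.card G ≠ 0 := Nat.card_pos.ne'
  have hpd : p ^ d ≠ 0 := pow_ne_zero _ hp.ne_zero
  have hph : p ^ h ≠ 0 := pow_ne_zero _ hp.ne_zero
  have hc : (Nat.card G : ℂ) ≠ 0 := Nat.cast_ne_zero.2 hcard
  have h1ne : (χ : G → ℂ) 1 ≠ 0 := IsIrrCharacter.apply_one_ne_zero χ.2
  have h1ne₁ : (χ₁ : G → ℂ) 1 ≠ 0 := IsIrrCharacter.apply_one_ne_zero χ₁.2
  have hphc : ((p ^ h : ℕ) : ℂ) ≠ 0 := Nat.cast_ne_zero.2 hph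
  have hpdc : ((p ^ d : ℕ) : ℂ) ≠ 0 := Nat.cast_ne_zero.2 hpd
  have hfac1 : (charDegree (χ : G → ℂ) * p ^ d).factorization p =
      (charDegree (χ : G → ℂ)).factorization p + d := by
    rw [Nat.factorization_mul hdeg0 hpd, Nat.factorization_pow]
    simp only [Finsupp.add_apply, Finsupp.smul_apply, hp.factorization_self, smul_eq_mul,
      mul_one]
  have hfac2 : (Nat.card G * p ^ h).factorization p = (Nat.card G).factorization p + h := by
    rw [Nat.factorization_mul hcard hph, Nat.factorization_pow]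
    simp only [Finsupp.add_apply, Finsupp.smul_apply, hp.factorization_self, smul_eq_mul,
      mul_one]
  have hv : MemLocalRing M (((charDegree (χ : G → ℂ) * p ^ d : ℕ) : ℂ) /
      ((Nat.card G * p ^ h : ℕ) : ℂ)) := by
    apply memLocalRing_natCast_div hMp (Nat.mul_ne_zero hcard hph)
    rw [hfac1, hfac2]
    omega
  have hphI : MemLocalIdeal M ((p ^ h : ℕ) : ℂ) := by
    rw [memLocalIdeal_natCast_iff hMp]
    exact dvd_pow_self p (by omega)
  -- `p ^ d m(χ₁, χ)` lies in the local ideal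
  have hV := memLocalRing_card_mul_contrib_div hMp hx ψ₀ χ₁ χ
  have hP : MemLocalIdeal M (((p ^ d : ℕ) : ℂ) * contrib p e x (χ₁ : G → ℂ) (χ : G → ℂ)) := by
    have h1 := memLocalIdeal_mul_left hM (memLocalRing_mul hM hV hv) hphI
    convert h1 using 1
    rw [Nat.cast_mul, Nat.cast_mul, IsCharacter.charDegree_cast (IrrCharacter_isCharacter χ)]
    field_simp
    rfl
  -- its conjugate
  obtain ⟨n, hn⟩ := hx
  have hsum := contrib_pow_eq_sum_coeff p x e χ₁ χ 1
  rw [pow_one, hdef] at hsum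
  have hμ : ∀ i, cenMu x i ^ (p ^ n) = 1 := fun i => by
    rw [← hn]; exact cenMu_pow_orderOf x i
  have hPc : MemLocalIdeal M (((p ^ d : ℕ) : ℂ) * contrib p e x (χ : G → ℂ) (χ₁ : G → ℂ)) := by
    have h1 : ((p ^ d : ℕ) : ℂ) * contrib p e x (χ : G → ℂ) (χ₁ : G → ℂ) =
        conj (((p ^ d : ℕ) : ℂ) * contrib p e x (χ₁ : G → ℂ) (χ : G → ℂ)) := by
      rw [map_mul, Complex.conj_natCast]
      congr 1
      unfold contrib
      rw [classInner_conj_symm]
    rw [h1, hsum]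
    simp_rw [pow_one] at hsum ⊢
    apply memLocalIdeal_conj_sum hMp _ _ n hμ
    rw [← hsum]
    exact hP
  -- the value at `χ₁`
  have hfac₁ : (p ^ d * charDegree (χ₁ : G → ℂ)).factorization p =
      (Nat.card G).factorization p := by
    rw [Nat.factorization_mul hpd hdeg0₁, Nat.factorization_pow]
    simp only [Finsupp.add_apply, Finsupp.smul_apply, hp.factorization_self, smul_eq_mul,
      mul_one]
    omega
  have hu : MemLocalRing M (((Nat.card G : ℕ) : ℂ) /
      ((p ^ d * charDegree (χ₁ : G → ℂ) : ℕ) : ℂ)) :=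
    memLocalRing_natCast_div hMp (Nat.mul_ne_zero hpd hdeg0₁) hfac₁.le
  have hW₁ : MemLocalIdeal M ((Nat.card G : ℂ) *
      contrib p e x (χ : G → ℂ) (χ₁ : G → ℂ) / (χ₁ : G → ℂ) 1) := by
    have h1 := memLocalIdeal_mul_left hM hu hPc
    convert h1 using 1
    rw [Nat.cast_mul, IsCharacter.charDegree_cast (IrrCharacter_isCharacter χ₁)]
    field_simp
  have hsame : SameBlock M (χ : G → ℂ) (χ₁ : G → ℂ) :=
    sameBlock_trans hM (sameBlock_symm (mem_blockOf_iff.1 hχ)) (mem_blockOf_iff.1 hχ₁)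
  have hdiff := memLocalIdeal_card_mul_contrib_div_sub hMp ⟨n, hn⟩ ψ₀ χ χ χ₁ hsame
  have hW : MemLocalIdeal M ((Nat.card G : ℂ) *
      contrib p e x (χ : G → ℂ) (χ : G → ℂ) / (χ : G → ℂ) 1) := by
    have := memLocalIdeal_add hM hdiff hW₁
    convert this using 1
    ring
  have := memLocalIdeal_mul_right hM hW hv
  convert this using 1
  rw [Nat.cast_mul, Nat.cast_mul, IsCharacter.charDegree_cast (IrrCharacter_isCharacter χ)]
  field_simp

end Strict

section CForm

universe u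
variable {G : Type u} [Group G] [Fintype G] {p : ℕ} [Fact p.Prime] {M : Ideal AlgInt}

/-- `memLocalIdeal_contrib_self` for a subgroup `C` equal to `C_G(x)`. -/
theorem memLocalIdeal_contrib_self' (hMp : IsPModular p M) {x : G}
    (hx : ∃ k : ℕ, orderOf x = p ^ k) (C : Subgroup G) [Fintype C]
    (hC : C = Subgroup.centralizer ({x} : Set G)) (ψ₀ : IrrCharacter C)
    (χ₀ : IrrCharacter G)
    (hind : IsInducedBlock M C (blockOf M (ψ₀ : C → ℂ)) (blockOf M (χ₀ : G → ℂ)))
    (hdef : blockDefect p (blockOf M (ψ₀ : C → ℂ)) = blockDefect p (blockOf M (χ₀ : G → ℂ)))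
    (χ : IrrCharacter G) (hχ : χ ∈ blockOf M (χ₀ : G → ℂ))
    (hpos : 1 ≤ blockHeight p (blockOf M (χ₀ : G → ℂ)) (χ : G → ℂ)) :
    MemLocalIdeal M (((p ^ blockDefect p (blockOf M (χ₀ : G → ℂ)) : ℕ) : ℂ) *
      contrib p (blockOf M (ψ₀ : C → ℂ)) x (χ : G → ℂ) (χ : G → ℂ) /
      ((p ^ blockHeight p (blockOf M (χ₀ : G → ℂ)) (χ : G → ℂ) : ℕ) : ℂ)) := by
  subst hC
  exact memLocalIdeal_contrib_self hMp hx ψ₀ χ₀ hind hdef χ hχ hpos

/-- `memLocalRing_card_mul_contrib_div` for a subgroup `C` equal to `C_G(x)`. -/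
theorem memLocalRing_card_mul_contrib_div' (hMp : IsPModular p M) {x : G}
    (hx : ∃ k : ℕ, orderOf x = p ^ k) (C : Subgroup G) [Fintype C]
    (hC : C = Subgroup.centralizer ({x} : Set G)) (ψ₀ : IrrCharacter C)
    (χ χ' : IrrCharacter G) :
    MemLocalRing M ((Nat.card G : ℂ) *
      contrib p (blockOf M (ψ₀ : C → ℂ)) x (χ : G → ℂ) (χ' : G → ℂ) / (χ' : G → ℂ) 1) := by
  subst hC
  exact memLocalRing_card_mul_contrib_div hMp hx ψ₀ χ χ'

/-- `not_memLocalIdeal_card_mul_contrib_div` for a subgroup `C` equal to `C_G(x)`. -/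
theorem not_memLocalIdeal_card_mul_contrib_div' (hMp : IsPModular p M) {x : G}
    (hx : ∃ k : ℕ, orderOf x = p ^ k) (C : Subgroup G) [Fintype C]
    (hC : C = Subgroup.centralizer ({x} : Set G)) (ψ₀ : IrrCharacter C)
    (χ₀ : IrrCharacter G)
    (hind : IsInducedBlock M C (blockOf M (ψ₀ : C → ℂ)) (blockOf M (χ₀ : G → ℂ)))
    (hdef : blockDefect p (blockOf M (ψ₀ : C → ℂ)) = blockDefect p (blockOf M (χ₀ : G → ℂ)))
    (χ₁ χ : IrrCharacter G) (hχ₁ : χ₁ ∈ blockOf M (χ₀ : G → ℂ))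
    (h0 : blockHeight p (blockOf M (χ₀ : G → ℂ)) (χ₁ : G → ℂ) = 0)
    (hχ : χ ∈ blockOf M (χ₀ : G → ℂ)) :
    ¬ MemLocalIdeal M ((Nat.card G : ℂ) *
      contrib p (blockOf M (ψ₀ : C → ℂ)) x (χ₁ : G → ℂ) (χ : G → ℂ) / (χ : G → ℂ) 1) := by
  subst hC
  exact not_memLocalIdeal_card_mul_contrib_div hMp hx ψ₀ χ₀ hind hdef χ₁ χ hχ₁ h0 hχ

end CForm

section Degrees

universe u
variable {G : Type u} [Group G] [Fintype G] {p : ℕ} [Fact p.Prime] {M : Ideal AlgInt}

/-- `χ(1) p ^ d / (|G| p ^ h)` is a local integer, `h` the height of `χ`. -/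
theorem memLocalRing_degree_mul_pow_div (hMp : IsPModular p M) {B : Set (IrrCharacter G)}
    (hB : IsPBlock M B) {χ : IrrCharacter G} (hχ : χ ∈ B) :
    MemLocalRing M (((charDegree (χ : G → ℂ) * p ^ blockDefect p B : ℕ) : ℂ) /
      ((Nat.card G * p ^ blockHeight p B (χ : G → ℂ) : ℕ) : ℂ)) := by
  have hp : p.Prime := hMp.1
  have hM : M.IsPrime := hMp.2.1.isPrime
  have hdeg := factorization_charDegree_add_blockDefect (p := p) hM hB hχ
  have hdeg0 : charDegree (χ : G → ℂ) ≠ 0 := (IsIrrCharacter.charDegree_pos χ.2).ne'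
  have hcard : Nat.card G ≠ 0 := Nat.card_pos.ne'
  have hpd : p ^ blockDefect p B ≠ 0 := pow_ne_zero _ hp.ne_zero
  have hph : p ^ blockHeight p B (χ : G → ℂ) ≠ 0 := pow_ne_zero _ hp.ne_zero
  apply memLocalRing_natCast_div hMp (Nat.mul_ne_zero hcard hph)
  rw [Nat.factorization_mul hdeg0 hpd, Nat.factorization_pow,
    Nat.factorization_mul hcard hph, Nat.factorization_pow]
  simp only [Finsupp.add_apply, Finsupp.smul_apply, hp.factorization_self, smul_eq_mul,
    mul_one]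
  omega

/-- `|G| / (p ^ d χ(1))` is a local integer for `χ` of height zero. -/
theorem memLocalRing_card_div_degree (hMp : IsPModular p M) {B : Set (IrrCharacter G)}
    (hB : IsPBlock M B) {χ : IrrCharacter G} (hχ : χ ∈ B)
    (h0 : blockHeight p B (χ : G → ℂ) = 0) :
    MemLocalRing M (((Nat.card G : ℕ) : ℂ) /
      ((p ^ blockDefect p B * charDegree (χ : G → ℂ) : ℕ) : ℂ)) := by
  have hp : p.Prime := hMp.1
  have hM : M.IsPrime := hMp.2.1.isPrime
  have hdeg := factorization_charDegree_add_blockDefect (p := p) hM hB hχ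
  rw [h0, add_zero] at hdeg
  have hdeg0 : charDegree (χ : G → ℂ) ≠ 0 := (IsIrrCharacter.charDegree_pos χ.2).ne'
  have hpd : p ^ blockDefect p B ≠ 0 := pow_ne_zero _ hp.ne_zero
  apply memLocalRing_natCast_div hMp (Nat.mul_ne_zero hpd hdeg0)
  rw [Nat.factorization_mul hpd hdeg0, Nat.factorization_pow]
  simp only [Finsupp.add_apply, Finsupp.smul_apply, hp.factorization_self, smul_eq_mul,
    mul_one]
  omega

end Degrees

section NegUnit

/-- Powers of a root of unity at the negative of a unit of `ZMod N`. -/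
theorem pow_neg_unit_val {N : ℕ} [NeZero N] {ω : ℂ} (hω : ω ^ N = 1) (j : (ZMod N)ˣ) :
    ω ^ ((-j : (ZMod N)ˣ) : ZMod N).val = conj (ω ^ (j : ZMod N).val) := by
  have hN : N ≠ 0 := NeZero.ne N
  have hnorm : ‖ω‖ = 1 := Complex.norm_eq_one_of_pow_eq_one hω hN
  have h1 : ω ^ ((-j : (ZMod N)ˣ) : ZMod N).val * ω ^ (j : ZMod N).val = 1 := by
    rw [← pow_add]
    have h2 : ((((-j : (ZMod N)ˣ) : ZMod N).val + (j : ZMod N).val : ℕ) : ZMod N) = 0 := by
      rw [Nat.cast_add, ZMod.natCast_val, ZMod.natCast_val]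
      simp
    obtain ⟨k, hk⟩ := (ZMod.natCast_eq_zero_iff _ _).1 h2
    rw [hk, pow_mul, hω, one_pow]
  have h3 : ω ^ (j : ZMod N).val * conj (ω ^ (j : ZMod N).val) = 1 := by
    rw [Complex.mul_conj, Complex.normSq_eq_norm_sq, norm_pow, hnorm, one_pow]
    norm_num
  have hne : ω ^ (j : ZMod N).val ≠ 0 := by
    intro h0
    rw [h0, zero_mul] at h3
    exact zero_ne_one h3
  have : ω ^ ((-j : (ZMod N)ˣ) : ZMod N).val * ω ^ (j : ZMod N).val =
      conj (ω ^ (j : ZMod N).val) * ω ^ (j : ZMod N).val := by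
    rw [h1, mul_comm, h3]
  exact mul_right_cancel₀ hne this

end NegUnit

end Cfsg.Agent.Lib.Helper85.MajorThreeAux
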