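import Mathlib
import Cfsg.Prelude.Def_Blocks
import Cfsg.Prelude.Def_BlockRank
import Cfsg.Agent.Lib.Helper82.ContribInt
import Cfsg.Agent.Lib.Helper81.BlockNilp
import Cfsg.Agent.Lib.Helper82.SecUnit
import Cfsg.Agent.Lib.Helper85.QuadLB

set_option autoImplicit false
set_option linter.style.haveILetI false
set_option linter.unusedSectionVars false

/-!
# The integral Gram form of a block on the `p`-regular elements

For a `p`-block `e` of defect `d` of the finite group `H` the numbers `p ^ d ⟨ψ°, ψ'⟩`,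
`ψ, ψ' ∈ e`, form an integral symmetric positive semidefinite matrix all of whose `2 × 2`
minors are divisible by `p`.  Either its quadratic form does not represent `1`, or it is
`x xᵀ + p R''` with `R''` integral, symmetric and positive semidefinite.
-/

namespace Cfsg.Agent.Lib.Helper85.RegForm

open Cfsg
open scoped ComplexConjugate
open Cfsg.Agent.Lib.Helper21 Cfsg.Agent.Lib.Helper82 Cfsg.Agent.Lib.Helper83
open Cfsg.Agent.Lib.Helper85.QuadLB

universe u
variable {H : Type u} [Group H] [Fintype H] [Fintype (IrrCharacter H)] (p : ℕ) [Fact p.Prime]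

/-- The integral Gram matrix of a block. -/
noncomputable def regMat (e : Set (IrrCharacter H)) [DecidablePred (· ∈ e)]
    (ψ ψ' : IrrCharacter H) : ℤ :=
  if ψ ∈ e ∧ ψ' ∈ e then regInt p (blockDefect p e) ψ ψ' else 0

variable (e : Set (IrrCharacter H)) [DecidablePred (· ∈ e)]

theorem regMat_symm (ψ ψ' : IrrCharacter H) : regMat p e ψ ψ' = regMat p e ψ' ψ := by
  unfold regMat
  by_cases h : ψ ∈ e ∧ ψ' ∈ e
  · rw [if_pos h, if_pos ⟨h.2, h.1⟩, regInt_symm p _ _ _ (rowExp_le_blockDefect p h.1)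
      (rowExp_le_blockDefect p h.2)]
  · rw [if_neg h, if_neg (fun h' => h ⟨h'.2, h'.1⟩)]

theorem regMat_cast (ψ ψ' : IrrCharacter H) :
    ((regMat p e ψ ψ' : ℤ) : ℂ) =
      if ψ ∈ e ∧ ψ' ∈ e then ((p ^ blockDefect p e : ℕ) : ℂ) *
        classInner (pRegularPart p (ψ : H → ℂ)) (ψ' : H → ℂ) else 0 := by
  unfold regMat
  split_ifs with h
  · exact regInt_cast p _ _ _ (rowExp_le_blockDefect p h.1)
  · rw [Int.cast_zero]

/-- The real Gram matrix. -/
noncomputable def regMatR : IrrCharacter H → IrrCharacter H → ℝ :=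
  fun ψ ψ' => (regMat p e ψ ψ' : ℝ)

theorem regMatR_symm (ψ ψ' : IrrCharacter H) : regMatR p e ψ ψ' = regMatR p e ψ' ψ := by
  unfold regMatR
  rw [regMat_symm]

/-- The class function attached to a coefficient vector. -/
noncomputable def vecFun (a : IrrCharacter H → ℂ) : H → ℂ :=
  ∑ ψ : IrrCharacter H, (if ψ ∈ e then a ψ else 0) • (ψ : H → ℂ)

/-- The bilinear form of the Gram matrix as an inner product. -/
theorem sum_regMat_mul (a b : IrrCharacter H → ℂ) :
    ∑ ψ : IrrCharacter H, ∑ ψ' : IrrCharacter H,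
        ((regMat p e ψ ψ' : ℤ) : ℂ) * a ψ * conj (b ψ') =
      ((p ^ blockDefect p e : ℕ) : ℂ) *
        classInner (pRegularPart p (vecFun e a)) (vecFun e b) := by
  unfold vecFun
  rw [classInner_pReg_sum_sum, Finset.mul_sum]
  refine Finset.sum_congr rfl fun ψ _ => ?_
  rw [Finset.mul_sum]
  refine Finset.sum_congr rfl fun ψ' _ => ?_
  rw [regMat_cast]
  by_cases h1 : ψ ∈ e
  · by_cases h2 : ψ' ∈ e
    · rw [if_pos ⟨h1, h2⟩, if_pos h1, if_pos h2]
      ring
    · rw [if_neg (fun h => h2 h.2), if_neg h2, map_zero]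
      ring
  · rw [if_neg (fun h => h1 h.1), if_neg h1]
    ring

theorem qf_regMatR (w : IrrCharacter H → ℝ) :
    ((qf (regMatR p e) w : ℝ) : ℂ) = ((p ^ blockDefect p e : ℕ) : ℂ) *
      classInner (pRegularPart p (vecFun e (fun ψ => (w ψ : ℂ))))
        (pRegularPart p (vecFun e (fun ψ => (w ψ : ℂ)))) := by
  rw [← classInner_pRegularPart_comm, pRegularPart_idem, ← sum_regMat_mul]
  unfold qf bf regMatR
  rw [Complex.ofReal_sum]
  refine Finset.sum_congr rfl fun ψ _ => ?_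
  rw [Complex.ofReal_sum]
  refine Finset.sum_congr rfl fun ψ' _ => ?_
  rw [Complex.conj_ofReal]
  push_cast
  ring

theorem qf_regMatR_nonneg (w : IrrCharacter H → ℝ) : 0 ≤ qf (regMatR p e) w := by
  have h := qf_regMatR p e w
  have h2 := Cfsg.Agent.Lib.Helper34.classInner_self_re_nonneg
    (pRegularPart p (vecFun e (fun ψ => (w ψ : ℂ))))
  have h3 := congrArg Complex.re h
  rw [Complex.ofReal_re, Complex.mul_re, Complex.natCast_re, Complex.natCast_im, zero_mul,
    sub_zero] at h3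
  rw [h3]
  positivity

/-- The value of the form at an integer vector is an integer. -/
theorem qf_regMatR_int (w : IrrCharacter H → ℤ) :
    qf (regMatR p e) (fun ψ => (w ψ : ℝ)) =
      ((∑ ψ : IrrCharacter H, ∑ ψ' : IrrCharacter H, regMat p e ψ ψ' * w ψ * w ψ' : ℤ) : ℝ) := by
  unfold qf bf regMatR
  push_cast
  rfl

section Minors

variable {p} {M : Ideal AlgInt}

/-- The entries of the Gram matrix through central characters. -/
theorem regMat_cast_omega (hMp : IsPModular p M) (he : IsPBlock M e) {ψ₁ ψ : IrrCharacter H}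
    (h₁ : ψ₁ ∈ e) (h : ψ ∈ e) :
    ((regMat p e ψ₁ ψ : ℤ) : ℂ) =
      (((p ^ blockDefect p e * charDegree (ψ : H → ℂ) : ℕ) : ℂ) / ((Nat.card H : ℕ) : ℂ)) *
        omega (regConj p (ψ₁ : H → ℂ)) (ψ : H → ℂ) := by
  rw [regMat_cast, if_pos ⟨h₁, h⟩, classInner_pReg_char_irr p (IrrCharacter_isCharacter ψ₁) ψ,
    Nat.cast_mul, IsCharacter.charDegree_cast (IrrCharacter_isCharacter ψ)]
  ring

theorem memLocalRing_degree_ratio (hMp : IsPModular p M) (he : IsPBlock M e) {ψ : IrrCharacter H}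
    (h : ψ ∈ e) :
    MemLocalRing M (((p ^ blockDefect p e * charDegree (ψ : H → ℂ) : ℕ) : ℂ) /
      ((Nat.card H : ℕ) : ℂ)) := by
  have hp : p.Prime := hMp.1
  have hM : M.IsPrime := hMp.2.1.isPrime
  apply memLocalRing_natCast_div hMp Nat.card_pos.ne'
  have hdeg := factorization_charDegree_add_blockDefect (p := p) hM he h
  have hdeg0 : charDegree (ψ : H → ℂ) ≠ 0 := (IsIrrCharacter.charDegree_pos ψ.2).ne'
  rw [Nat.factorization_mul (pow_ne_zero _ hp.ne_zero) hdeg0, Nat.factorization_pow]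
  simp only [Finsupp.add_apply, Finsupp.smul_apply, hp.factorization_self, smul_eq_mul, mul_one]
  omega

/-- **The `2 × 2` minors of the Gram matrix of a block are divisible by `p`.** -/
theorem dvd_regMat_minor (hMp : IsPModular p M) (he : IsPBlock M e)
    {ψ₁ ψ₂ ψ ψ' : IrrCharacter H} (h₁ : ψ₁ ∈ e) (h₂ : ψ₂ ∈ e) (h : ψ ∈ e) (h' : ψ' ∈ e) :
    (p : ℤ) ∣ regMat p e ψ₁ ψ * regMat p e ψ₂ ψ' - regMat p e ψ₁ ψ' * regMat p e ψ₂ ψ := by
  have hM : M.IsPrime := hMp.2.1.isPrime
  rw [← memLocalIdeal_intCast_iff hMp]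
  push_cast
  rw [regMat_cast_omega e hMp he h₁ h, regMat_cast_omega e hMp he h₂ h',
    regMat_cast_omega e hMp he h₁ h', regMat_cast_omega e hMp he h₂ h]
  set r := ((p ^ blockDefect p e * charDegree (ψ : H → ℂ) : ℕ) : ℂ) / ((Nat.card H : ℕ) : ℂ)
  set r' := ((p ^ blockDefect p e * charDegree (ψ' : H → ℂ) : ℕ) : ℂ) / ((Nat.card H : ℕ) : ℂ)
  have hr : MemLocalRing M r := memLocalRing_degree_ratio e hMp he h
  have hr' : MemLocalRing M r' := memLocalRing_degree_ratio e hMp he h'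
  have hcf : ∀ ξ : IrrCharacter H, IsClassFunction H (regConj p (ξ : H → ℂ)) :=
    fun ξ => regConj_isClassFunction p (isClassFunction_irr ξ)
  have hW : ∀ ξ ξ' : IrrCharacter H, MemLocalRing M (omega (regConj p (ξ : H → ℂ)) (ξ' : H → ℂ)) :=
    fun ξ ξ' => Cfsg.Agent.Lib.Helper81.memLocalRing_omega hM (hcf ξ)
      (fun g => regConj_memLocalRing p hM ξ g) ξ'
  obtain ⟨ψ₀, rfl⟩ := he
  have hsame : SameBlock M (ψ : H → ℂ) (ψ' : H → ℂ) :=
    sameBlock_trans hM (sameBlock_symm (mem_blockOf_iff.1 h)) (mem_blockOf_iff.1 h')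
  have hd : ∀ ξ : IrrCharacter H, MemLocalIdeal M
      (omega (regConj p (ξ : H → ℂ)) (ψ : H → ℂ) - omega (regConj p (ξ : H → ℂ)) (ψ' : H → ℂ)) :=
    fun ξ => omega_sub_memLocalIdeal hM (hcf ξ) (fun g => regConj_memLocalRing p hM ξ g) hsame
  have hkey : r * omega (regConj p (ψ₁ : H → ℂ)) (ψ : H → ℂ) *
        (r' * omega (regConj p (ψ₂ : H → ℂ)) (ψ' : H → ℂ)) -
      r' * omega (regConj p (ψ₁ : H → ℂ)) (ψ' : H → ℂ) *
        (r * omega (regConj p (ψ₂ : H → ℂ)) (ψ : H → ℂ)) =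
      (r * r') * (omega (regConj p (ψ₂ : H → ℂ)) (ψ : H → ℂ) *
          (omega (regConj p (ψ₁ : H → ℂ)) (ψ : H → ℂ) -
            omega (regConj p (ψ₁ : H → ℂ)) (ψ' : H → ℂ)) -
        omega (regConj p (ψ₁ : H → ℂ)) (ψ : H → ℂ) *
          (omega (regConj p (ψ₂ : H → ℂ)) (ψ : H → ℂ) -
            omega (regConj p (ψ₂ : H → ℂ)) (ψ' : H → ℂ))) := by
    ring
  rw [hkey]
  apply memLocalIdeal_mul_left hM (memLocalRing_mul hM hr hr')
  apply memLocalIdeal_sub hM
  · exact memLocalIdeal_mul_left hM (hW ψ₂ ψ) (hd ψ₁)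
  · exact memLocalIdeal_mul_left hM (hW ψ₁ ψ) (hd ψ₂)

end Minors

section Dichotomy

variable {p} {M : Ideal AlgInt}

theorem regMat_eq_zero_left {ψ : IrrCharacter H} (h : ψ ∉ e) (ψ' : IrrCharacter H) :
    regMat p e ψ ψ' = 0 := by
  unfold regMat
  rw [if_neg (fun h' => h h'.1)]

theorem regMat_eq_zero_right (ψ : IrrCharacter H) {ψ' : IrrCharacter H} (h : ψ' ∉ e) :
    regMat p e ψ ψ' = 0 := by
  unfold regMat
  rw [if_neg (fun h' => h h'.2)]

/-- **The dichotomy.** Either the Gram form of the block does not represent `1`, or the Gram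
matrix is `x xᵀ + p R''` with `R''` integral, symmetric and positive semidefinite. -/
theorem regMat_dichotomy (hMp : IsPModular p M) (he : IsPBlock M e) :
    (∀ w : IrrCharacter H → ℤ,
      ∑ ψ : IrrCharacter H, ∑ ψ' : IrrCharacter H, regMat p e ψ ψ' * w ψ * w ψ' ≠ 1) ∨
    ∃ (w₀ x : IrrCharacter H → ℤ) (R2 : IrrCharacter H → IrrCharacter H → ℤ),
      (∑ ψ : IrrCharacter H, ∑ ψ' : IrrCharacter H, regMat p e ψ ψ' * w₀ ψ * w₀ ψ' = 1) ∧
      (∀ ψ, x ψ = ∑ ψ' : IrrCharacter H, regMat p e ψ ψ' * w₀ ψ') ∧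
      (∀ ψ ψ', regMat p e ψ ψ' = x ψ * x ψ' + (p : ℤ) * R2 ψ ψ') ∧
      (∀ ψ ψ', R2 ψ ψ' = R2 ψ' ψ) ∧
      (∀ w : IrrCharacter H → ℝ, 0 ≤ qf (fun ψ ψ' => (R2 ψ ψ' : ℝ)) w) := by
  classical
  have hp : p.Prime := hMp.1
  by_cases hrep : ∀ w : IrrCharacter H → ℤ,
      ∑ ψ : IrrCharacter H, ∑ ψ' : IrrCharacter H, regMat p e ψ ψ' * w ψ * w ψ' ≠ 1
  · exact Or.inl hrep
  right
  push Not at hrep
  obtain ⟨w₀, hw₀⟩ := hrep
  set x : IrrCharacter H → ℤ := fun ψ => ∑ ψ' : IrrCharacter H, regMat p e ψ ψ' * w₀ ψ' with hx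
  have hx0 : ∀ ψ, ψ ∉ e → x ψ = 0 := by
    intro ψ hψ
    simp only [hx]
    refine Finset.sum_eq_zero fun ψ' _ => ?_
    rw [regMat_eq_zero_left e hψ, zero_mul]
  -- the divisibility
  have hdvd : ∀ ψ ψ', (p : ℤ) ∣ regMat p e ψ ψ' - x ψ * x ψ' := by
    intro ψ ψ'
    by_cases hψ : ψ ∈ e
    · by_cases hψ' : ψ' ∈ e
      · have hexp : regMat p e ψ ψ' - x ψ * x ψ' =
            - ∑ a : IrrCharacter H, ∑ b : IrrCharacter H, w₀ a * w₀ b *
              (regMat p e ψ a * regMat p e b ψ' - regMat p e ψ ψ' * regMat p e b a) := by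
          have h1 : ∑ a : IrrCharacter H, ∑ b : IrrCharacter H, w₀ a * w₀ b *
              (regMat p e ψ a * regMat p e b ψ' - regMat p e ψ ψ' * regMat p e b a) =
              (∑ a : IrrCharacter H, regMat p e ψ a * w₀ a) *
                (∑ b : IrrCharacter H, regMat p e b ψ' * w₀ b) -
              regMat p e ψ ψ' *
                ∑ a : IrrCharacter H, ∑ b : IrrCharacter H, regMat p e b a * w₀ b * w₀ a := by
            rw [Finset.sum_mul_sum, Finset.mul_sum, ← Finset.sum_sub_distrib]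
            refine Finset.sum_congr rfl fun a _ => ?_
            rw [Finset.mul_sum, ← Finset.sum_sub_distrib]
            refine Finset.sum_congr rfl fun b _ => ?_
            ring
          rw [h1, Finset.sum_comm, hw₀]
          have h2 : ∑ b : IrrCharacter H, regMat p e b ψ' * w₀ b = x ψ' := by
            simp only [hx]
            refine Finset.sum_congr rfl fun b _ => ?_
            rw [regMat_symm]
          rw [h2]
          simp only [hx]
          ring
        rw [hexp, dvd_neg]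
        refine Finset.dvd_sum fun a _ => Finset.dvd_sum fun b _ => ?_
        apply Dvd.dvd.mul_left
        by_cases ha : a ∈ e
        · by_cases hb : b ∈ e
          · exact dvd_regMat_minor e hMp he hψ hb ha hψ'
          · rw [regMat_eq_zero_left e hb, regMat_eq_zero_left e hb]
            simp
        · rw [regMat_eq_zero_right e ψ ha, regMat_eq_zero_right e b ha]
          simp
      · rw [regMat_eq_zero_right e ψ hψ', hx0 ψ' hψ']
        simp
    · rw [regMat_eq_zero_left e hψ, hx0 ψ hψ]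
      simp
  set R2 : IrrCharacter H → IrrCharacter H → ℤ :=
    fun ψ ψ' => (regMat p e ψ ψ' - x ψ * x ψ') / (p : ℤ) with hR2
  have hR2eq : ∀ ψ ψ', regMat p e ψ ψ' = x ψ * x ψ' + (p : ℤ) * R2 ψ ψ' := by
    intro ψ ψ'
    simp only [hR2]
    rw [Int.mul_ediv_cancel' (hdvd ψ ψ')]
    ring
  refine ⟨w₀, x, R2, hw₀, fun ψ => rfl, hR2eq, ?_, ?_⟩
  · intro ψ ψ'
    simp only [hR2]
    rw [regMat_symm, mul_comm (x ψ)]
  · intro w
    have hppos : (0 : ℝ) < p := by exact_mod_cast hp.pos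
    -- `p qf R2 w = qf R (w - t w₀)`
    set t : ℝ := ∑ ψ : IrrCharacter H, (x ψ : ℝ) * w ψ with ht
    set w₀r : IrrCharacter H → ℝ := fun ψ => (w₀ ψ : ℝ) with hw₀r
    have hq0 : qf (regMatR p e) w₀r = 1 := by
      rw [hw₀r, qf_regMatR_int, hw₀, Int.cast_one]
    have hb : bf (regMatR p e) w w₀r = t := by
      unfold bf regMatR
      simp only [ht, hx, hw₀r]
      refine Finset.sum_congr rfl fun ψ _ => ?_
      push_cast
      rw [Finset.sum_mul]
      refine Finset.sum_congr rfl fun ψ' _ => ?_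
      ring
    have h1 : qf (regMatR p e) (w - t • w₀r) = qf (regMatR p e) w - t ^ 2 := by
      rw [qf_sub _ (regMatR_symm p e), bf_smul_right, hb]
      have : qf (regMatR p e) (t • w₀r) = t ^ 2 * qf (regMatR p e) w₀r := by
        unfold qf
        rw [bf_smul_left, bf_smul_right]; ring
      rw [this, hq0]
      ring
    have h2 : (p : ℝ) * qf (fun ψ ψ' => (R2 ψ ψ' : ℝ)) w = qf (regMatR p e) w - t ^ 2 := by
      have h3 : t ^ 2 = ∑ ψ : IrrCharacter H, ∑ ψ' : IrrCharacter H,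
          ((x ψ : ℝ) * x ψ') * w ψ * w ψ' := by
        rw [pow_two, ht, Finset.sum_mul_sum]
        refine Finset.sum_congr rfl fun ψ _ => Finset.sum_congr rfl fun ψ' _ => ?_
        ring
      rw [h3]
      unfold qf bf regMatR
      rw [Finset.mul_sum, ← Finset.sum_sub_distrib]
      refine Finset.sum_congr rfl fun ψ _ => ?_
      rw [Finset.mul_sum, ← Finset.sum_sub_distrib]
      refine Finset.sum_congr rfl fun ψ' _ => ?_
      rw [hR2eq ψ ψ']
      push_cast
      ring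
    have h4 := qf_regMatR_nonneg p e (w - t • w₀r)
    rw [h1, ← h2] at h4
    exact nonneg_of_mul_nonneg_right h4 hppos

end Dichotomy

end Cfsg.Agent.Lib.Helper85.RegForm
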