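import Mathlib
import Cfsg.Prelude.Def_Blocks
import Cfsg.Prelude.Def_BlockRank
import Cfsg.Agent.Lib.Helper82.ContribInt
import Cfsg.Agent.Lib.Helper82.ContribExtra
import Cfsg.Agent.Lib.Helper82.SecUnit
import Cfsg.Agent.Lib.Helper82.SecRoot
import Cfsg.Agent.Lib.Helper82.SecInd
import Cfsg.Agent.Lib.Helper79.RealOdd2
import Cfsg.Agent.Lib.Helper85.QuadLB
import Cfsg.Agent.Lib.Helper85.RegForm

set_option autoImplicit false
set_option linter.style.haveILetI false
set_option linter.unusedSectionVars false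

/-!
# Major subsections `(y, e)` with `l(e) ≤ 2`: `k(B) ≤ p ^ d`
-/

namespace Cfsg.Agent.Lib.Helper85.MajorTwo

open Cfsg
open scoped ComplexConjugate
open Cfsg.Agent.Lib.Helper21 Cfsg.Agent.Lib.Helper82 Cfsg.Agent.Lib.Helper83
open Cfsg.Agent.Lib.Helper85.QuadLB Cfsg.Agent.Lib.Helper85.RegForm

section Herm

variable {ι : Type*} [Fintype ι]

/-- The sesquilinear form of a real matrix. -/
noncomputable def herm (S : ι → ι → ℝ) (a b : ι → ℂ) : ℂ :=
  ∑ i, ∑ j, (S i j : ℂ) * a i * conj (b j)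

theorem herm_add_smul (S S₁ S₂ : ι → ι → ℝ) (c : ℝ) (hS : ∀ i j, S i j = S₁ i j + c * S₂ i j)
    (a b : ι → ℂ) : herm S a b = herm S₁ a b + (c : ℂ) * herm S₂ a b := by
  unfold herm
  rw [Finset.mul_sum, ← Finset.sum_add_distrib]
  refine Finset.sum_congr rfl fun i _ => ?_
  rw [Finset.mul_sum, ← Finset.sum_add_distrib]
  refine Finset.sum_congr rfl fun j _ => ?_
  rw [hS i j]
  push_cast
  ring

theorem herm_rank_one (x : ι → ℝ) (a b : ι → ℂ) :
    herm (fun i j => x i * x j) a b =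
      (∑ i, (x i : ℂ) * a i) * conj (∑ j, (x j : ℂ) * b j) := by
  unfold herm
  rw [map_sum, Finset.sum_mul_sum]
  refine Finset.sum_congr rfl fun i _ => Finset.sum_congr rfl fun j _ => ?_
  rw [map_mul, Complex.conj_ofReal]
  push_cast
  ring

end Herm

section Setup

universe u
variable {G : Type u} [Group G] [Fintype G] {p : ℕ} [Fact p.Prime] {M : Ideal AlgInt}

local notation "C[" g "]" => Subgroup.centralizer (singleton g)

variable (y : G) [Fintype C[y]] [Fintype (IrrCharacter C[y])]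

/-- The multiplicities of the irreducible characters of `C_G(y)` in the restriction of `χ`. -/
noncomputable def mult (χ : IrrCharacter G) (ψ : IrrCharacter C[y]) : ℤ :=
  (irrMult (fun h : C[y] => (χ : G → ℂ) h) ψ : ℤ)

/-- The generalized decomposition vector of `χ` at `y ^ k` on the irreducible characters of
`C_G(y)`. -/
noncomputable def decVec (χ : IrrCharacter G) (k : ℕ) (ψ : IrrCharacter C[y]) : ℂ :=
  (mult y χ ψ : ℂ) * cenOmega y ψ ^ k

/-- The contributions through the Gram matrix. -/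
theorem pow_mul_contrib_eq_herm (e : Set (IrrCharacter C[y])) [DecidablePred (· ∈ e)]
    (χ χ' : IrrCharacter G) (k : ℕ) :
    ((p ^ blockDefect p e : ℕ) : ℂ) * contrib p e (y ^ k) (χ : G → ℂ) (χ' : G → ℂ) =
      herm (regMatR p e) (decVec y χ k) (decVec y χ' k) := by
  rw [contrib_pow_eq_sum_coeff, Fintype.sum_prod_type]
  unfold herm
  refine Finset.sum_congr rfl fun ψ _ => Finset.sum_congr rfl fun ψ' _ => ?_
  unfold contribCoeff regMatR regMat decVec mult cenMu
  simp only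
  split_ifs with h
  · push_cast
    rw [mul_pow, map_mul, map_pow, map_natCast]
    ring
  · simp

/-- The hermitian form at a decomposition vector in the form used for the lower bound. -/
theorem herm_decVec_self (S : IrrCharacter C[y] → IrrCharacter C[y] → ℝ) (χ : IrrCharacter G)
    (k : ℕ) :
    herm S (decVec y χ k) (decVec y χ k) =
      ∑ ψ : IrrCharacter C[y], ∑ ψ' : IrrCharacter C[y],
        ((S ψ ψ' * (mult y χ ψ : ℝ) * (mult y χ ψ' : ℝ) : ℝ) : ℂ) *
          (cenOmega y ψ * conj (cenOmega y ψ')) ^ k := by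
  unfold herm decVec
  refine Finset.sum_congr rfl fun ψ _ => Finset.sum_congr rfl fun ψ' _ => ?_
  rw [mul_pow, map_mul, map_pow, map_intCast]
  push_cast
  ring

end Setup

section Bessel

universe u
variable {G : Type u} [Group G] [Fintype G] {p : ℕ}

/-- **Bessel's inequality for sections.** -/
theorem sum_normSq_classInner_sec_le (hp : p.Prime) {x : G} (hx : ∃ k : ℕ, orderOf x = p ^ k)
    (C : Subgroup G) [Fintype C] (hC : C = Subgroup.centralizer ({x} : Set G)) (Λ : C → ℂ)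
    (hΛ : IsClassFunction C Λ) (hsupp : ∀ c : C, p ∣ orderOf c → Λ c = 0)
    [Fintype (IrrCharacter G)] (B : Set (IrrCharacter G)) [DecidablePred (· ∈ B)] :
    ∑ χ : IrrCharacter G, (if χ ∈ B then
        Complex.normSq (classInner (fun c : C => (χ : G → ℂ) (x * (c : G))) Λ) else 0) ≤
      (classInner Λ Λ).re := by
  classical
  subst hC
  set Θ := indSec x Λ with hΘ
  have hΘcf : IsClassFunction G Θ := indSec_isClassFunction x Λ
  have hpars := Cfsg.Agent.Lib.Helper79.classInner_self_eq_sum hΘcf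
  have hnorm : classInner Θ Θ = classInner Λ Λ :=
    classInner_indSec_indSec hp hx Λ Λ hΛ hsupp hsupp
  have hΛreg : pRegularPart p Λ = Λ := by
    funext c
    rw [pRegularPart_apply]
    split_ifs with h
    · exact (hsupp c h).symm
    · rfl
  have hcoef : ∀ χ : IrrCharacter G, classInner Θ (χ : G → ℂ) =
      conj (classInner (fun c : Subgroup.centralizer ({x} : Set G) => (χ : G → ℂ) (x * (c : G))) Λ) := by
    intro χ
    rw [hΘ, classInner_indSec Λ hsupp _ (isClassFunction_irr χ), ← classInner_pRegularPart_comm,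
      hΛreg, classInner_conj_symm]
    rfl
  have hsum : (classInner Λ Λ).re = ∑ χ : IrrCharacter G,
      Complex.normSq (classInner (fun c : Subgroup.centralizer ({x} : Set G) =>
        (χ : G → ℂ) (x * (c : G))) Λ) := by
    rw [← hnorm, hpars, Complex.re_sum]
    refine Finset.sum_congr rfl fun χ _ => ?_
    rw [hcoef χ, Complex.conj_conj, mul_comm, Complex.mul_conj, Complex.ofReal_re]
  rw [hsum]
  refine Finset.sum_le_sum fun χ _ => ?_
  split_ifs
  · exact le_rfl
  · exact Complex.normSq_nonneg _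

end Bessel

section Lambda

universe u
variable {G : Type u} [Group G] [Fintype G] {p : ℕ} [Fact p.Prime] {M : Ideal AlgInt}

local notation "C[" g "]" => Subgroup.centralizer (singleton g)

variable (y : G) [Fintype C[y]] [Fintype (IrrCharacter C[y])]

theorem secPow_isClassFunction (k : ℕ) {χ : G → ℂ} (hχ : IsClassFunction G χ) :
    IsClassFunction C[y] (fun c : C[y] => χ (y ^ k * (c : G))) := by
  intro c t
  show χ (y ^ k * ((t * c * t⁻¹ : C[y]) : G)) = χ (y ^ k * (c : G))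
  have ht : (t : G) * y = y * (t : G) := by
    have := t.2
    rw [Subgroup.mem_centralizer_singleton_iff] at this
    exact this
  have htk : (t : G) * y ^ k = y ^ k * (t : G) := (Commute.pow_right ht k).eq
  have h1 : y ^ k * ((t * c * t⁻¹ : C[y]) : G) = (t : G) * (y ^ k * (c : G)) * (t : G)⁻¹ := by
    push_cast
    rw [← mul_assoc, ← mul_assoc, ← mul_assoc, htk]
  rw [h1, hχ]

/-- The inner products of the sections with the regular part of a combination of the members of
the block. -/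
theorem pow_mul_classInner_sec (hMp : IsPModular p M) (e : Set (IrrCharacter C[y]))
    [DecidablePred (· ∈ e)] (he : IsPBlock M e) (w₀ : IrrCharacter C[y] → ℤ)
    (χ : IrrCharacter G) (k : ℕ) :
    ((p ^ blockDefect p e : ℕ) : ℂ) *
        classInner (fun c : C[y] => (χ : G → ℂ) (y ^ k * (c : G)))
          (pRegularPart p (vecFun e (fun ψ => (w₀ ψ : ℂ)))) =
      ∑ ψ : IrrCharacter C[y],
        ((∑ ψ' : IrrCharacter C[y], regMat p e ψ ψ' * w₀ ψ' : ℤ) : ℂ) * decVec y χ k ψ := by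
  classical
  have hM : M.IsPrime := hMp.2.1.isPrime
  set sec : C[y] → ℂ := fun c : C[y] => (χ : G → ℂ) (y ^ k * (c : G)) with hsec
  have hseccf : IsClassFunction C[y] sec := secPow_isClassFunction y k (isClassFunction_irr χ)
  set Λ := pRegularPart p (vecFun e (fun ψ => (w₀ ψ : ℂ))) with hΛ
  have hcoef : ∀ ψ : IrrCharacter C[y], classInner sec (ψ : C[y] → ℂ) = decVec y χ k ψ := by
    intro ψ
    rw [hsec, classInner_secFun_pow y k (χ : G → ℂ) ψ]
    unfold decVec mult cenOmega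
    rw [Int.cast_natCast,
      irrMult_cast (isCharacter_restrict C[y] (IrrCharacter_isCharacter χ)) ψ]
    ring
  have hΛcoef : ∀ ψ : IrrCharacter C[y],
      ((p ^ blockDefect p e : ℕ) : ℂ) * classInner (ψ : C[y] → ℂ) Λ =
        ((∑ ψ' : IrrCharacter C[y], regMat p e ψ ψ' * w₀ ψ' : ℤ) : ℂ) := by
    intro ψ
    rw [hΛ, ← classInner_pRegularPart_comm]
    unfold vecFun
    rw [classInner_sum_right, Finset.mul_sum, Int.cast_sum]
    refine Finset.sum_congr rfl fun ψ' _ => ?_
    rw [classInner_smul_right, Int.cast_mul, regMat_cast]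
    by_cases hψ' : ψ' ∈ e
    · rw [if_pos hψ']
      by_cases hψ : ψ ∈ e
      · rw [if_pos ⟨hψ, hψ'⟩, map_intCast]
        ring
      · rw [if_neg (fun h => hψ h.1)]
        obtain ⟨ψ₀, rfl⟩ := he
        have : classInner (pRegularPart p (ψ : C[y] → ℂ)) (ψ' : C[y] → ℂ) = 0 := by
          apply classInner_pRegularPart_eq_zero hMp
          intro hs
          apply hψ
          rw [mem_blockOf_iff] at hψ' ⊢
          exact sameBlock_trans hM hψ' (sameBlock_symm hs)
        rw [this]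
        ring
    · rw [if_neg hψ', if_neg (fun h => hψ' h.2), map_zero]
      ring
  have hexp := classFunction_eq_sum_irr hseccf
  calc ((p ^ blockDefect p e : ℕ) : ℂ) * classInner sec Λ
      = ((p ^ blockDefect p e : ℕ) : ℂ) * classInner
          (∑ ψ : IrrCharacter C[y], classInner sec (ψ : C[y] → ℂ) • (ψ : C[y] → ℂ)) Λ := by
        rw [← hexp]
    _ = ∑ ψ : IrrCharacter C[y], classInner sec (ψ : C[y] → ℂ) *
          (((p ^ blockDefect p e : ℕ) : ℂ) * classInner (ψ : C[y] → ℂ) Λ) := by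
        rw [classInner_sum_left, Finset.mul_sum]
        refine Finset.sum_congr rfl fun ψ _ => ?_
        rw [classInner_smul_left]
        ring
    _ = _ := by
        refine Finset.sum_congr rfl fun ψ _ => ?_
        rw [hΛcoef ψ, hcoef ψ]
        ring

end Lambda

section Counting

/-- Summing a lower bound over the members of a set. -/
theorem card_mul_le_sum_ite {α : Type*} [Fintype α] (B : Set α) [DecidablePred (· ∈ B)] (c : ℝ)
    (f : α → ℝ) (h : ∀ χ ∈ B, c ≤ f χ) :
    (Nat.card B : ℝ) * c ≤ ∑ χ : α, (if χ ∈ B then f χ else 0) := by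
  have hcard : Nat.card B = (Finset.univ.filter (· ∈ B)).card := by
    rw [Nat.card_eq_fintype_card, Fintype.card_subtype]
  rw [← Finset.sum_filter, hcard, ← nsmul_eq_mul, ← Finset.sum_const]
  refine Finset.sum_le_sum fun χ hχ => ?_
  exact h χ (Finset.mem_filter.1 hχ).2

end Counting

section Aux

universe u
variable {G : Type u} [Group G] [Fintype G] {p : ℕ} [Fact p.Prime] {M : Ideal AlgInt}

local notation "C[" g "]" => Subgroup.centralizer (singleton g)

/-- (5H), non-vanishing of the contributions to a character of height zero, for a subgroup `C`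
equal to `C_G(x)`. -/
theorem contrib_ne_zero_of_height_zero (hMp : IsPModular p M) {x : G}
    (hx : ∃ k : ℕ, orderOf x = p ^ k) (C : Subgroup G) [Fintype C]
    (hC : C = Subgroup.centralizer ({x} : Set G)) (ψ₀ : IrrCharacter C) (χ₀ : IrrCharacter G)
    (hind : IsInducedBlock M C (blockOf M (ψ₀ : C → ℂ)) (blockOf M (χ₀ : G → ℂ)))
    (hdef : blockDefect p (blockOf M (ψ₀ : C → ℂ)) = blockDefect p (blockOf M (χ₀ : G → ℂ)))
    (χ₁ χ : IrrCharacter G) (hχ₁ : χ₁ ∈ blockOf M (χ₀ : G → ℂ))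
    (h0 : blockHeight p (blockOf M (χ₀ : G → ℂ)) (χ₁ : G → ℂ) = 0)
    (hχ : χ ∈ blockOf M (χ₀ : G → ℂ)) :
    contrib p (blockOf M (ψ₀ : C → ℂ)) x (χ₁ : G → ℂ) (χ : G → ℂ) ≠ 0 := by
  subst hC
  intro h
  apply not_memLocalIdeal_card_mul_contrib_div hMp hx ψ₀ χ₀ hind hdef χ₁ χ hχ₁ h0 hχ
  rw [h, mul_zero, zero_div]
  exact memLocalIdeal_zero hMp.2.1.isPrime

variable (y : G) [Fintype C[y]] [Fintype (IrrCharacter C[y])]

/-- The hermitian form of a positive semidefinite matrix at a vector is a nonnegative real. -/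
theorem herm_self_eq_ofReal {ι : Type*} [Fintype ι] (S : ι → ι → ℝ) (hS : ∀ i j, S i j = S j i)
    (hpsd : ∀ w : ι → ℝ, 0 ≤ qf S w) (v : ι → ℂ) :
    ∃ r : ℝ, 0 ≤ r ∧ herm S v v = (r : ℂ) := by
  refine ⟨qf S (fun i => (v i).re) + qf S (fun i => (v i).im),
    add_nonneg (hpsd _) (hpsd _), ?_⟩
  unfold herm
  exact herm_eq S hS v

/-- The lower bound for the Galois sums of the hermitian forms at the decomposition vectors. -/
theorem galois_sum_lb (hp : p.Prime) (m : ℕ) (hy : y ^ (p ^ m) = 1)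
    (S : IrrCharacter C[y] → IrrCharacter C[y] → ℝ) (hS : ∀ i j, S i j = S j i)
    (hpsd : ∀ w : IrrCharacter C[y] → ℝ, 0 ≤ qf S w) (μ : ℝ)
    (hint : ∀ w : IrrCharacter C[y] → ℤ,
      qf S (fun i => (w i : ℝ)) = 0 ∨ μ ≤ qf S (fun i => (w i : ℝ)))
    (χ : IrrCharacter G) :
    haveI : NeZero (p ^ m) := ⟨pow_ne_zero _ hp.ne_zero⟩
    ∃ T : ℝ, ∑ j : (ZMod (p ^ m))ˣ,
        herm S (decVec y χ (j : ZMod (p ^ m)).val) (decVec y χ (j : ZMod (p ^ m)).val) = (T : ℂ) ∧
      (T = 0 ∨ (Fintype.card (ZMod (p ^ m))ˣ : ℝ) * μ ≤ T) := by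
  haveI : NeZero (p ^ m) := ⟨pow_ne_zero _ hp.ne_zero⟩
  have hω : ∀ ψ : IrrCharacter C[y], cenOmega y ψ ^ (p ^ m) = 1 := by
    intro ψ
    obtain ⟨r, hr⟩ := orderOf_dvd_of_pow_eq_one hy
    rw [hr, pow_mul, cenOmega_pow_orderOf, one_pow]
  obtain ⟨T, hT, hT2⟩ := lagrange_lower_bound hp rfl S hS hpsd μ hint (mult y χ) (cenOmega y) hω
  refine ⟨T, ?_, hT2⟩
  rw [← hT]
  refine Finset.sum_congr rfl fun j _ => ?_
  exact herm_decVec_self y S χ _

end Aux

section Main

universe u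
variable {G : Type u} [Group G] [Fintype G] {p : ℕ} [Fact p.Prime] {M : Ideal AlgInt}

local notation "C[" g "]" => Subgroup.centralizer (singleton g)

/-- **Brauer.** If `(y, e)` is a major subsection of the block `B` of defect `d` with
`l(e) ≤ 2`, then `k(B) ≤ p ^ d`. -/
theorem card_le_pow_of_blockRank_le_two (hM : IsPModular p M) (y : G) (m : ℕ)
    (hy : y ^ (p ^ m) = 1) [Fintype C[y]] (ψ₀ : IrrCharacter C[y]) (χ₀ : IrrCharacter G)
    (hind : IsInducedBlock M C[y] (blockOf M (ψ₀ : C[y] → ℂ)) (blockOf M (χ₀ : G → ℂ)))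
    (hdef : blockDefect p (blockOf M (ψ₀ : C[y] → ℂ)) = blockDefect p (blockOf M (χ₀ : G → ℂ)))
    (hl : blockRank p (blockOf M (ψ₀ : C[y] → ℂ)) ≤ 2) :
    Nat.card (blockOf M (χ₀ : G → ℂ)) ≤ p ^ blockDefect p (blockOf M (χ₀ : G → ℂ)) := by
  classical
  have hp : p.Prime := hM.1
  have hMp : M.IsPrime := hM.2.1.isPrime
  haveI : Fintype (IrrCharacter G) := Fintype.ofFinite _
  haveI : Fintype (IrrCharacter C[y]) := Fintype.ofFinite _
  haveI : NeZero (p ^ m) := ⟨pow_ne_zero _ hp.ne_zero⟩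
  set e := blockOf M (ψ₀ : C[y] → ℂ) with he
  set B := blockOf M (χ₀ : G → ℂ) with hB
  set d := blockDefect p B with hd
  have heblock : IsPBlock M e := ⟨ψ₀, rfl⟩
  have hord : orderOf y ∣ p ^ m := orderOf_dvd_of_pow_eq_one hy
  have hcop : ∀ j : (ZMod (p ^ m))ˣ, Nat.Coprime (j : ZMod (p ^ m)).val (orderOf y) := fun j =>
    Nat.Coprime.coprime_dvd_right hord (ZMod.val_coe_unit_coprime j)
  have hCj : ∀ j : (ZMod (p ^ m))ˣ, C[y] = C[y ^ (j : ZMod (p ^ m)).val] := fun j =>
    (centralizer_pow_eq_of_coprime y _ (hcop j)).symm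
  have hxj : ∀ j : (ZMod (p ^ m))ˣ, ∃ k : ℕ, orderOf (y ^ (j : ZMod (p ^ m)).val) = p ^ k := by
    intro j
    have h1 : orderOf (y ^ (j : ZMod (p ^ m)).val) ∣ p ^ m := (orderOf_pow_dvd _).trans hord
    obtain ⟨k, -, hk⟩ := (Nat.dvd_prime_pow hp).1 h1
    exact ⟨k, hk⟩
  set φ : ℝ := (Fintype.card (ZMod (p ^ m))ˣ : ℝ) with hφ
  have hφpos : 0 < φ := by rw [hφ]; exact_mod_cast Fintype.card_pos
  have hpd : (0 : ℝ) < (p : ℝ) ^ d := pow_pos (by exact_mod_cast hp.pos) d
  have hp2 : (2 : ℝ) ≤ p := by exact_mod_cast hp.two_le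
  -- the scaled diagonal contributions
  set a : IrrCharacter G → (ZMod (p ^ m))ˣ → ℝ := fun χ j =>
    (p : ℝ) ^ d * (contrib p e (y ^ (j : ZMod (p ^ m)).val) (χ : G → ℂ) (χ : G → ℂ)).re with ha
  have ha_herm : ∀ (χ : IrrCharacter G) (j : (ZMod (p ^ m))ˣ), herm (regMatR p e) (decVec y χ (j : ZMod (p ^ m)).val)
      (decVec y χ (j : ZMod (p ^ m)).val) = ((a χ j : ℝ) : ℂ) := by
    intro χ j
    rw [← pow_mul_contrib_eq_herm, hdef]
    obtain ⟨h1, -⟩ := contrib_self_eq_ofReal p e (y ^ (j : ZMod (p ^ m)).val) (χ : G → ℂ)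
    rw [h1, ha]
    push_cast
    rfl
  have ha_pos : ∀ χ ∈ B, ∀ j : (ZMod (p ^ m))ˣ, 0 < a χ j := by
    intro χ hχ j
    obtain ⟨h1, h2⟩ := contrib_self_eq_ofReal p e (y ^ (j : ZMod (p ^ m)).val) (χ : G → ℂ)
    have h3 := contrib_self_ne_zero' hM (hxj j) C[y] (hCj j) ψ₀ χ₀ hind hdef χ hχ
    have h4 : (contrib p e (y ^ (j : ZMod (p ^ m)).val) (χ : G → ℂ) (χ : G → ℂ)).re ≠ 0 := by
      intro h
      apply h3
      rw [h1, h, Complex.ofReal_zero]
    exact mul_pos hpd (lt_of_le_of_ne h2 (Ne.symm h4))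
  have htrace : ∀ j : (ZMod (p ^ m))ˣ, ∑ χ : IrrCharacter G, (if χ ∈ B then a χ j else 0) =
      (p : ℝ) ^ d * (blockRank p e : ℝ) := by
    intro j
    have h := sum_contrib_self' hM (hxj j) C[y] (hCj j) χ₀ e hind
    have h2 := congrArg Complex.re h
    rw [Complex.natCast_re, Complex.re_sum] at h2
    rw [← h2, Finset.mul_sum]
    refine Finset.sum_congr rfl fun χ _ => ?_
    split_ifs
    · rfl
    · rw [Complex.zero_re, mul_zero]
  set A : IrrCharacter G → ℝ := fun χ => ∑ j, a χ j with hA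
  have hAsum : ∑ χ : IrrCharacter G, (if χ ∈ B then A χ else 0) =
      φ * ((p : ℝ) ^ d * (blockRank p e : ℝ)) := by
    have h1 : ∑ χ : IrrCharacter G, (if χ ∈ B then A χ else 0) =
        ∑ j : (ZMod (p ^ m))ˣ, ∑ χ : IrrCharacter G, (if χ ∈ B then a χ j else 0) := by
      rw [Finset.sum_comm]
      refine Finset.sum_congr rfl fun χ _ => ?_
      split_ifs
      · rfl
      · rw [Finset.sum_const_zero]
    rw [h1, Finset.sum_congr rfl fun j _ => htrace j, Finset.sum_const, Finset.card_univ,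
      nsmul_eq_mul]
  have hlR : (blockRank p e : ℝ) ≤ 2 := by exact_mod_cast hl
  have hAherm : ∀ χ, ∑ j : (ZMod (p ^ m))ˣ, herm (regMatR p e)
      (decVec y χ (j : ZMod (p ^ m)).val) (decVec y χ (j : ZMod (p ^ m)).val) = ((A χ : ℝ) : ℂ) := by
    intro χ
    rw [hA, Complex.ofReal_sum]
    exact Finset.sum_congr rfl fun j _ => ha_herm χ j
  have hApos : ∀ χ ∈ B, 0 < A χ := fun χ hχ =>
    Finset.sum_pos (fun j _ => ha_pos χ hχ j) Finset.univ_nonempty
  have hfinal : ∀ c : ℝ, 2 ≤ c → (∀ χ ∈ B, c * φ ≤ A χ) → Nat.card B ≤ p ^ d := by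
    intro c hc hlb
    have h1 := card_mul_le_sum_ite B (c * φ) A hlb
    rw [hAsum] at h1
    have h2 : (Nat.card B : ℝ) * c ≤ (p : ℝ) ^ d * 2 := by
      have h3 : (Nat.card B : ℝ) * c * φ ≤ ((p : ℝ) ^ d * 2) * φ := by
        have : φ * ((p : ℝ) ^ d * (blockRank p e : ℝ)) ≤ φ * ((p : ℝ) ^ d * 2) :=
          mul_le_mul_of_nonneg_left (mul_le_mul_of_nonneg_left hlR hpd.le) hφpos.le
        nlinarith
      exact le_of_mul_le_mul_right h3 hφpos
    have h4 : (Nat.card B : ℝ) * c ≤ (p : ℝ) ^ d * c := by nlinarith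
    have h5 : (Nat.card B : ℝ) ≤ (p : ℝ) ^ d := le_of_mul_le_mul_right h4 (by linarith)
    exact_mod_cast h5
  have hRsymm : ∀ ψ ψ' : IrrCharacter C[y], regMatR p e ψ ψ' = regMatR p e ψ' ψ :=
    regMatR_symm p e
  have hRpsd : ∀ w : IrrCharacter C[y] → ℝ, 0 ≤ qf (regMatR p e) w := qf_regMatR_nonneg p e
  rcases regMat_dichotomy e hM heblock with hgood | ⟨w₀, x, R2, hw₀, hx, hR2eq, hR2symm, hR2psd⟩
  · -- the form does not represent `1`
    have hint : ∀ w : IrrCharacter C[y] → ℤ, qf (regMatR p e) (fun i => (w i : ℝ)) = 0 ∨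
        (2 : ℝ) ≤ qf (regMatR p e) (fun i => (w i : ℝ)) := by
      intro w
      have h0 := hRpsd (fun i => (w i : ℝ))
      rw [qf_regMatR_int] at h0 ⊢
      have h1 := hgood w
      set z : ℤ := ∑ ψ : IrrCharacter C[y], ∑ ψ' : IrrCharacter C[y],
        regMat p e ψ ψ' * w ψ * w ψ' with hz
      have h0' : (0 : ℤ) ≤ z := by exact_mod_cast h0
      rcases eq_or_lt_of_le h0' with h2 | h2
      · left; rw [← h2]; simp
      · right
        have : (2 : ℤ) ≤ z := by omega
        exact_mod_cast this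
    apply hfinal 2 le_rfl
    intro χ hχ
    obtain ⟨T, hT, hT2⟩ := galois_sum_lb y hp m hy (regMatR p e) hRsymm hRpsd 2 hint χ
    rw [hAherm χ] at hT
    have hTA : A χ = T := by exact_mod_cast hT
    rcases hT2 with h0 | h2
    · exfalso
      have := hApos χ hχ
      rw [hTA, h0] at this
      exact lt_irrefl _ this
    · rw [hTA]
      linarith
  · -- the form represents `1`
    set S₁ : IrrCharacter C[y] → IrrCharacter C[y] → ℝ := fun ψ ψ' => (x ψ : ℝ) * (x ψ' : ℝ)
      with hS₁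
    set S₂ : IrrCharacter C[y] → IrrCharacter C[y] → ℝ := fun ψ ψ' => (R2 ψ ψ' : ℝ) with hS₂
    have hsplit : ∀ ψ ψ', regMatR p e ψ ψ' = S₁ ψ ψ' + (p : ℝ) * S₂ ψ ψ' := by
      intro ψ ψ'
      simp only [regMatR, hS₁, hS₂]
      rw [hR2eq ψ ψ']
      push_cast
      ring
    have hS₁symm : ∀ ψ ψ', S₁ ψ ψ' = S₁ ψ' ψ := fun ψ ψ' => mul_comm _ _
    have hS₂symm : ∀ ψ ψ', S₂ ψ ψ' = S₂ ψ' ψ := by
      intro ψ ψ'
      simp only [hS₂]
      rw [hR2symm]
    have hS₁qf : ∀ w : IrrCharacter C[y] → ℝ,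
        qf S₁ w = (∑ ψ : IrrCharacter C[y], (x ψ : ℝ) * w ψ) ^ 2 := by
      intro w
      unfold qf bf
      rw [pow_two, Finset.sum_mul_sum]
      refine Finset.sum_congr rfl fun ψ _ => Finset.sum_congr rfl fun ψ' _ => ?_
      simp only [hS₁]
      ring
    have hS₁psd : ∀ w : IrrCharacter C[y] → ℝ, 0 ≤ qf S₁ w := by
      intro w
      rw [hS₁qf]
      positivity
    have hS₁int : ∀ w : IrrCharacter C[y] → ℤ, qf S₁ (fun i => (w i : ℝ)) = 0 ∨
        (1 : ℝ) ≤ qf S₁ (fun i => (w i : ℝ)) := by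
      intro w
      rw [hS₁qf]
      set z : ℤ := ∑ ψ : IrrCharacter C[y], x ψ * w ψ with hz
      have hzc : (∑ ψ : IrrCharacter C[y], (x ψ : ℝ) * ((w ψ : ℤ) : ℝ)) = (z : ℝ) := by
        rw [hz]; push_cast; rfl
      rw [hzc]
      by_cases h0 : z = 0
      · left; rw [h0]; simp
      · right
        have : (1 : ℤ) ≤ z ^ 2 := by
          have := sq_nonneg z
          have h1 : z ^ 2 ≠ 0 := pow_ne_zero 2 h0
          omega
        exact_mod_cast this
    have hS₂int : ∀ w : IrrCharacter C[y] → ℤ, qf S₂ (fun i => (w i : ℝ)) = 0 ∨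
        (1 : ℝ) ≤ qf S₂ (fun i => (w i : ℝ)) := by
      intro w
      have h0 := hR2psd (fun i => (w i : ℝ))
      set z : ℤ := ∑ ψ : IrrCharacter C[y], ∑ ψ' : IrrCharacter C[y], R2 ψ ψ' * w ψ * w ψ'
        with hz
      have hzc : qf S₂ (fun i => (w i : ℝ)) = (z : ℝ) := by
        unfold qf bf
        rw [hz]
        push_cast
        rfl
      rw [hzc] at h0 ⊢
      have h0' : (0 : ℤ) ≤ z := by exact_mod_cast h0
      rcases eq_or_lt_of_le h0' with h2 | h2
      · left; rw [← h2]; simp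
      · right
        have : (1 : ℤ) ≤ z := by omega
        exact_mod_cast this
    -- the two parts of the contributions
    set xx : IrrCharacter G → ℕ → ℂ := fun χ k =>
      ∑ ψ : IrrCharacter C[y], ((x ψ : ℝ) : ℂ) * decVec y χ k ψ with hxx
    have hS₁herm : ∀ (χ χ' : IrrCharacter G) (k : ℕ),
        herm S₁ (decVec y χ k) (decVec y χ' k) = xx χ k * conj (xx χ' k) := by
      intro χ χ' k
      exact herm_rank_one _ _ _
    have hr₂ : ∀ (χ : IrrCharacter G) (k : ℕ), ∃ r : ℝ, 0 ≤ r ∧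
        herm S₂ (decVec y χ k) (decVec y χ k) = (r : ℂ) :=
      fun χ k => herm_self_eq_ofReal S₂ hS₂symm hR2psd _
    choose r₂ hr₂nn hr₂eq using hr₂
    set X : IrrCharacter G → ℝ := fun χ =>
      ∑ j : (ZMod (p ^ m))ˣ, Complex.normSq (xx χ (j : ZMod (p ^ m)).val) with hX
    set Y : IrrCharacter G → ℝ := fun χ =>
      ∑ j : (ZMod (p ^ m))ˣ, r₂ χ (j : ZMod (p ^ m)).val with hY
    have ha_split : ∀ (χ : IrrCharacter G) (j : (ZMod (p ^ m))ˣ), a χ j =
        Complex.normSq (xx χ (j : ZMod (p ^ m)).val) + (p : ℝ) * r₂ χ (j : ZMod (p ^ m)).val := by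
      intro χ j
      have h1 := ha_herm χ j
      rw [herm_add_smul _ S₁ S₂ (p : ℝ) hsplit, hS₁herm, hr₂eq, Complex.mul_conj] at h1
      exact_mod_cast h1.symm
    have hAXY : ∀ χ, A χ = X χ + (p : ℝ) * Y χ := by
      intro χ
      simp only [hA, hX, hY]
      rw [Finset.mul_sum, ← Finset.sum_add_distrib]
      exact Finset.sum_congr rfl fun j _ => ha_split χ j
    have hXlb : ∀ χ, X χ = 0 ∨ φ ≤ X χ := by
      intro χ
      obtain ⟨T, hT, hT2⟩ := galois_sum_lb y hp m hy S₁ hS₁symm hS₁psd 1 hS₁int χ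
      have hTX : X χ = T := by
        have h1 : ∑ j : (ZMod (p ^ m))ˣ, herm S₁ (decVec y χ (j : ZMod (p ^ m)).val)
            (decVec y χ (j : ZMod (p ^ m)).val) = ((X χ : ℝ) : ℂ) := by
          rw [hX, Complex.ofReal_sum]
          refine Finset.sum_congr rfl fun j _ => ?_
          rw [hS₁herm, Complex.mul_conj]
        rw [h1] at hT
        exact_mod_cast hT
      rw [hTX]
      rw [mul_one] at hT2
      exact hT2
    have hYlb : ∀ χ, Y χ = 0 ∨ φ ≤ Y χ := by
      intro χ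
      obtain ⟨T, hT, hT2⟩ := galois_sum_lb y hp m hy S₂ hS₂symm hR2psd 1 hS₂int χ
      have hTY : Y χ = T := by
        have h1 : ∑ j : (ZMod (p ^ m))ˣ, herm S₂ (decVec y χ (j : ZMod (p ^ m)).val)
            (decVec y χ (j : ZMod (p ^ m)).val) = ((Y χ : ℝ) : ℂ) := by
          rw [hY, Complex.ofReal_sum]
          exact Finset.sum_congr rfl fun j _ => hr₂eq χ _
        rw [h1] at hT
        exact_mod_cast hT
      rw [hTY]
      rw [mul_one] at hT2
      exact hT2
    have hXnn : ∀ χ, 0 ≤ X χ := fun χ => Finset.sum_nonneg fun j _ => Complex.normSq_nonneg _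
    have hYnn : ∀ χ, 0 ≤ Y χ := fun χ => Finset.sum_nonneg fun j _ => hr₂nn χ _
    -- Bessel's inequality
    set Λ : C[y] → ℂ := pRegularPart p (vecFun e (fun ψ => (w₀ ψ : ℂ))) with hΛ
    have hΛcf : IsClassFunction C[y] Λ := by
      apply pRegularPart_isClassFunction
      unfold vecFun
      exact isClassFunction_sum _ _ fun ψ _ => isClassFunction_smul _ (isClassFunction_irr ψ)
    have hΛsupp : ∀ c : C[y], p ∣ orderOf c → Λ c = 0 := fun c hc =>
      pRegularPart_of_singular _ hc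
    have hpdC : ((p ^ blockDefect p e : ℕ) : ℂ) = (((p : ℝ) ^ d : ℝ) : ℂ) := by
      rw [hdef]; push_cast; rfl
    have hΛnorm : (p : ℝ) ^ d * (classInner Λ Λ).re = 1 := by
      have h1 := qf_regMatR p e (fun ψ => (w₀ ψ : ℝ))
      rw [qf_regMatR_int, hw₀] at h1
      have h2 : (fun ψ : IrrCharacter C[y] => (((w₀ ψ : ℝ)) : ℂ)) = fun ψ => (w₀ ψ : ℂ) := by
        funext ψ
        push_cast
        rfl
      rw [h2, ← hΛ, hpdC] at h1
      have h3 := congrArg Complex.re h1
      rw [Complex.re_ofReal_mul] at h3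
      rw [← h3]
      simp
    have hxxsec : ∀ (χ : IrrCharacter G) (k : ℕ), xx χ k = (((p : ℝ) ^ d : ℝ) : ℂ) *
        classInner (fun c : C[y] => (χ : G → ℂ) (y ^ k * (c : G))) Λ := by
      intro χ k
      rw [← hpdC, hΛ, pow_mul_classInner_sec y hM e heblock w₀ χ k]
      simp only [hxx]
      refine Finset.sum_congr rfl fun ψ _ => ?_
      rw [← hx ψ]
      push_cast
      rfl
    have hBessel : ∀ j : (ZMod (p ^ m))ˣ, ∑ χ : IrrCharacter G,
        (if χ ∈ B then Complex.normSq (xx χ (j : ZMod (p ^ m)).val) else 0) ≤ (p : ℝ) ^ d := by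
      intro j
      have h1 := sum_normSq_classInner_sec_le hp (hxj j) C[y] (hCj j) Λ hΛcf hΛsupp B
      have h2 : ∑ χ : IrrCharacter G,
          (if χ ∈ B then Complex.normSq (xx χ (j : ZMod (p ^ m)).val) else 0) =
          ((p : ℝ) ^ d) ^ 2 * ∑ χ : IrrCharacter G, (if χ ∈ B then Complex.normSq (classInner
            (fun c : C[y] => (χ : G → ℂ) (y ^ (j : ZMod (p ^ m)).val * (c : G))) Λ) else 0) := by
        rw [Finset.mul_sum]
        refine Finset.sum_congr rfl fun χ _ => ?_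
        split_ifs
        · rw [hxxsec, Complex.normSq_mul, Complex.normSq_ofReal]
          ring
        · rw [mul_zero]
      rw [h2]
      have h3 : ((p : ℝ) ^ d) ^ 2 * (classInner Λ Λ).re = (p : ℝ) ^ d := by
        rw [pow_two, mul_assoc, hΛnorm, mul_one]
      exact (mul_le_mul_of_nonneg_left h1 (by positivity)).trans (le_of_eq h3)
    have hXsum : ∑ χ : IrrCharacter G, (if χ ∈ B then X χ else 0) ≤ φ * (p : ℝ) ^ d := by
      have h1 : ∑ χ : IrrCharacter G, (if χ ∈ B then X χ else 0) =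
          ∑ j : (ZMod (p ^ m))ˣ, ∑ χ : IrrCharacter G,
            (if χ ∈ B then Complex.normSq (xx χ (j : ZMod (p ^ m)).val) else 0) := by
        rw [Finset.sum_comm]
        refine Finset.sum_congr rfl fun χ _ => ?_
        split_ifs
        · rfl
        · rw [Finset.sum_const_zero]
      rw [h1]
      have h2 : ∑ j : (ZMod (p ^ m))ˣ, ∑ χ : IrrCharacter G,
          (if χ ∈ B then Complex.normSq (xx χ (j : ZMod (p ^ m)).val) else 0) ≤
          ∑ _j : (ZMod (p ^ m))ˣ, (p : ℝ) ^ d := Finset.sum_le_sum fun j _ => hBessel j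
      rw [Finset.sum_const, Finset.card_univ, nsmul_eq_mul] at h2
      exact h2
    by_cases hD : ∀ χ ∈ B, X χ ≠ 0
    · -- every member of the block has a non-vanishing first coordinate
      have hlb : ∀ χ ∈ B, φ ≤ X χ := fun χ hχ => (hXlb χ).resolve_left (hD χ hχ)
      have h1 := card_mul_le_sum_ite B φ X hlb
      have h2 : (Nat.card B : ℝ) * φ ≤ (p : ℝ) ^ d * φ := by
        rw [mul_comm ((p : ℝ) ^ d) φ]
        exact h1.trans hXsum
      have h3 : (Nat.card B : ℝ) ≤ (p : ℝ) ^ d := le_of_mul_le_mul_right h2 hφpos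
      exact_mod_cast h3
    · push Not at hD
      obtain ⟨χs, hχs, hXs⟩ := hD
      have hxxs : ∀ j : (ZMod (p ^ m))ˣ, xx χs (j : ZMod (p ^ m)).val = 0 := by
        intro j
        have hXs' : ∑ j : (ZMod (p ^ m))ˣ,
            Complex.normSq (xx χs (j : ZMod (p ^ m)).val) = 0 := hXs
        have h1 := (Finset.sum_eq_zero_iff_of_nonneg
          (fun (j : (ZMod (p ^ m))ˣ) _ =>
            Complex.normSq_nonneg (xx χs (j : ZMod (p ^ m)).val))).1 hXs' j
          (Finset.mem_univ _)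
        exact Complex.normSq_eq_zero.1 h1
      apply hfinal (p : ℝ) hp2
      intro χ hχ
      rw [hAXY]
      rcases hYlb χ with hY0 | hYφ
      · -- `Y χ = 0` forces positive height
        have hht : 1 ≤ blockHeight p B (χ : G → ℂ) := by
          by_contra hlt
          have h0 : blockHeight p B (χ : G → ℂ) = 0 := by omega
          set j₁ : (ZMod (p ^ m))ˣ := 1 with hj₁
          have hY0' : ∑ j : (ZMod (p ^ m))ˣ, r₂ χ (j : ZMod (p ^ m)).val = 0 := hY0
          have hr0 : r₂ χ (j₁ : ZMod (p ^ m)).val = 0 :=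
            (Finset.sum_eq_zero_iff_of_nonneg (fun (j : (ZMod (p ^ m))ˣ) _ =>
              hr₂nn χ (j : ZMod (p ^ m)).val)).1 hY0' j₁ (Finset.mem_univ _)
          have hself : herm S₂ (decVec y χ (j₁ : ZMod (p ^ m)).val)
              (decVec y χ (j₁ : ZMod (p ^ m)).val) = 0 := by
            rw [hr₂eq, hr0, Complex.ofReal_zero]
          have hcross : herm S₂ (decVec y χ (j₁ : ZMod (p ^ m)).val)
              (decVec y χs (j₁ : ZMod (p ^ m)).val) = 0 :=
            herm_eq_zero_of_self_eq_zero S₂ hS₂symm hR2psd _ _ hself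
          have hzero : ((p ^ blockDefect p e : ℕ) : ℂ) *
              contrib p e (y ^ (j₁ : ZMod (p ^ m)).val) (χ : G → ℂ) (χs : G → ℂ) = 0 := by
            rw [pow_mul_contrib_eq_herm, herm_add_smul _ S₁ S₂ (p : ℝ) hsplit, hS₁herm, hcross,
              hxxs j₁, map_zero, mul_zero, mul_zero, add_zero]
          have hne := contrib_ne_zero_of_height_zero hM (hxj j₁) C[y] (hCj j₁) ψ₀ χ₀ hind hdef
            χ χs hχ h0 hχs
          rcases mul_eq_zero.1 hzero with h | h
          · exact (Nat.cast_ne_zero.2 (pow_ne_zero _ hp.ne_zero)) h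
          · exact hne h
        have hk := card_units_mul_pow_le_sum_contrib hM y m hy ψ₀ χ₀ hind hdef χ hχ
        have hAeq : (p : ℝ) ^ d * ∑ j : (ZMod (p ^ m))ˣ,
            (contrib p e (y ^ (j : ZMod (p ^ m)).val) (χ : G → ℂ) (χ : G → ℂ)).re = A χ := by
          rw [hA, Finset.mul_sum]
        rw [hAeq, hAXY] at hk
        have hpow : (p : ℝ) ≤ (p : ℝ) ^ blockHeight p B (χ : G → ℂ) := by
          have h1 : (1 : ℝ) ≤ p := by linarith
          calc (p : ℝ) = (p : ℝ) ^ 1 := (pow_one _).symm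
            _ ≤ (p : ℝ) ^ blockHeight p B (χ : G → ℂ) := pow_le_pow_right₀ h1 hht
        calc (p : ℝ) * φ = φ * p := mul_comm _ _
          _ ≤ φ * (p : ℝ) ^ blockHeight p B (χ : G → ℂ) :=
            mul_le_mul_of_nonneg_left hpow hφpos.le
          _ ≤ _ := hk
      · have h1 : (p : ℝ) * φ ≤ (p : ℝ) * Y χ :=
          mul_le_mul_of_nonneg_left hYφ (by linarith)
        linarith [hXnn χ]

end Main

end Cfsg.Agent.Lib.Helper85.MajorTwo
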