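import Mathlib
import Cfsg.Prelude.Def_Blocks
import Cfsg.Prelude.Def_BlockRank
import Cfsg.Agent.Lib.Helper85.MajorTwo
import Cfsg.Agent.Lib.Helper85.TwoAdic
import Cfsg.Agent.Lib.Helper85.MajorThreeAux

set_option autoImplicit false
set_option linter.style.haveILetI false
set_option linter.unusedSectionVars false

/-!
# Major subsections `(y, e)` of `2`-blocks with `k(B) ≤ l(e) + 3`

The complementary projection `1 - M` of the matrix of contributions has rank at most `3`; the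
traces `s = 2 ^ d - t` of its diagonal entries are odd at height zero and at least `3` at positive
height, unless some `s ≤ 1`, in which case the row idempotency gives `k(B) ≤ 2 ^ d` directly.
-/

namespace Cfsg.Agent.Lib.Helper85.MajorComp

open Cfsg
open scoped ComplexConjugate
open Cfsg.Agent.Lib.Helper21 Cfsg.Agent.Lib.Helper82 Cfsg.Agent.Lib.Helper83
open Cfsg.Agent.Lib.Helper85.QuadLB Cfsg.Agent.Lib.Helper85.RegForm
open Cfsg.Agent.Lib.Helper85.MajorTwo Cfsg.Agent.Lib.Helper85.TwoAdic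
open Cfsg.Agent.Lib.Helper85.MajorThreeAux

section AMGM

/-- The sum of the squared absolute values of the Galois conjugates of a non-vanishing integer
combination of roots of unity is at least the number of the conjugates. -/
theorem card_units_le_sum_normSq (q : ℕ) [NeZero q] {ι : Type*} [Fintype ι] (c : ι → ℤ)
    (μ : ι → ℂ) (hμ : ∀ i, μ i ^ q = 1)
    (hne : ∀ j : (ZMod q)ˣ, ∑ i, (c i : ℂ) * μ i ^ (j : ZMod q).val ≠ 0) :
    (Fintype.card (ZMod q)ˣ : ℝ) ≤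
      ∑ j : (ZMod q)ˣ, Complex.normSq (∑ i, (c i : ℂ) * μ i ^ (j : ZMod q).val) := by
  classical
  obtain ⟨z, hz⟩ := Cfsg.Agent.Lib.Helper17.CycAMGM.prod_conj_eq_int q c μ hμ
  set N := Fintype.card (ZMod q)ˣ with hN
  have hNpos : 0 < N := Fintype.card_pos
  have hNr : (0 : ℝ) < (N : ℝ) := by exact_mod_cast hNpos
  set r : (ZMod q)ˣ → ℝ := fun j => Complex.normSq (∑ i, (c i : ℂ) * μ i ^ (j : ZMod q).val)
    with hr
  have hr0 : ∀ j, 0 ≤ r j := fun j => Complex.normSq_nonneg _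
  have hz0 : z ≠ 0 := by
    rintro rfl
    rw [Int.cast_zero, Finset.prod_eq_zero_iff] at hz
    obtain ⟨j, -, hj⟩ := hz
    exact hne j hj
  have hprod : ∏ j : (ZMod q)ˣ, r j = ((z ^ 2 : ℤ) : ℝ) := by
    have h1 : ∏ j : (ZMod q)ˣ, r j =
        Complex.normSq (∏ j : (ZMod q)ˣ, ∑ i, (c i : ℂ) * μ i ^ (j : ZMod q).val) := by
      rw [map_prod]
    rw [h1, hz, Complex.normSq_intCast]
    push_cast
    ring
  have hone : (1 : ℝ) ≤ ∏ j : (ZMod q)ˣ, r j := by
    rw [hprod]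
    have : (1 : ℤ) ≤ z ^ 2 := by
      have := sq_nonneg z
      have h1 : z ^ 2 ≠ 0 := pow_ne_zero 2 hz0
      omega
    exact_mod_cast this
  have hamgm := Real.geom_mean_le_arith_mean_weighted (Finset.univ : Finset (ZMod q)ˣ)
    (fun _ => (N : ℝ)⁻¹) r (fun _ _ => (inv_pos.mpr hNr).le)
    (by rw [Finset.sum_const, Finset.card_univ, nsmul_eq_mul, ← hN]; exact mul_inv_cancel₀ hNr.ne')
    (fun j _ => hr0 j)
  rw [Real.finsetProd_rpow _ _ (fun j _ => hr0 j)] at hamgm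
  have h2 : (1 : ℝ) ≤ (∏ j : (ZMod q)ˣ, r j) ^ (N : ℝ)⁻¹ :=
    Real.one_le_rpow hone (inv_pos.mpr hNr).le
  have h3 := h2.trans hamgm
  rw [← Finset.mul_sum] at h3
  have h4 := mul_le_mul_of_nonneg_left h3 hNr.le
  rw [← mul_assoc, mul_inv_cancel₀ hNr.ne', one_mul, mul_one] at h4
  exact h4

end AMGM

section Main

universe u
variable {G : Type u} [Group G] [Fintype G] {M : Ideal AlgInt}

local notation "C[" g "]" => Subgroup.centralizer (singleton g)

/-- If `(y, e)` is a major subsection of the `2`-block `B` of defect `d` with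
`k(B) ≤ l(e) + 3`, then `k(B) ≤ 2 ^ d`. -/
theorem card_le_pow_of_card_le_rank_add_three (hM : IsPModular 2 M) (y : G) (m : ℕ)
    (hy : y ^ (2 ^ m) = 1) [Fintype C[y]] (ψ₀ : IrrCharacter C[y]) (χ₀ : IrrCharacter G)
    (hind : IsInducedBlock M C[y] (blockOf M (ψ₀ : C[y] → ℂ)) (blockOf M (χ₀ : G → ℂ)))
    (hdef : blockDefect 2 (blockOf M (ψ₀ : C[y] → ℂ)) = blockDefect 2 (blockOf M (χ₀ : G → ℂ)))
    (hk : Nat.card (blockOf M (χ₀ : G → ℂ)) ≤ blockRank 2 (blockOf M (ψ₀ : C[y] → ℂ)) + 3) :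
    Nat.card (blockOf M (χ₀ : G → ℂ)) ≤ 2 ^ blockDefect 2 (blockOf M (χ₀ : G → ℂ)) := by
  classical
  have hp : (2 : ℕ).Prime := Nat.prime_two
  have hMp : M.IsPrime := hM.2.1.isPrime
  haveI : Fintype (IrrCharacter G) := Fintype.ofFinite _
  haveI : Fintype (IrrCharacter C[y]) := Fintype.ofFinite _
  haveI : NeZero (2 ^ m) := ⟨pow_ne_zero _ hp.ne_zero⟩
  set e := blockOf M (ψ₀ : C[y] → ℂ) with he
  set B := blockOf M (χ₀ : G → ℂ) with hB
  set d := blockDefect 2 B with hd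
  have heblock : IsPBlock M e := ⟨ψ₀, rfl⟩
  have hord : orderOf y ∣ 2 ^ m := orderOf_dvd_of_pow_eq_one hy
  have hcop : ∀ j : (ZMod (2 ^ m))ˣ, Nat.Coprime (j : ZMod (2 ^ m)).val (orderOf y) := fun j =>
    Nat.Coprime.coprime_dvd_right hord (ZMod.val_coe_unit_coprime j)
  have hCj : ∀ j : (ZMod (2 ^ m))ˣ, C[y] = C[y ^ (j : ZMod (2 ^ m)).val] := fun j =>
    (centralizer_pow_eq_of_coprime y _ (hcop j)).symm
  have hxj : ∀ j : (ZMod (2 ^ m))ˣ, ∃ k : ℕ, orderOf (y ^ (j : ZMod (2 ^ m)).val) = 2 ^ k := by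
    intro j
    have h1 : orderOf (y ^ (j : ZMod (2 ^ m)).val) ∣ 2 ^ m := (orderOf_pow_dvd _).trans hord
    obtain ⟨k, -, hk⟩ := (Nat.dvd_prime_pow hp).1 h1
    exact ⟨k, hk⟩
  set φ : ℝ := (Fintype.card (ZMod (2 ^ m))ˣ : ℝ) with hφ
  have hφpos : 0 < φ := by rw [hφ]; exact_mod_cast Fintype.card_pos
  have hpd : (0 : ℝ) < (2 : ℝ) ^ d := by positivity
  -- the integer coefficients
  set c : IrrCharacter G → IrrCharacter C[y] × IrrCharacter C[y] → ℤ :=
    fun χ => contribCoeff 2 y e χ χ with hc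
  have hμ : ∀ i, cenMu y i ^ (2 ^ m) = 1 := by
    intro i
    obtain ⟨r, hr⟩ := hord
    rw [hr, pow_mul, cenMu_pow_orderOf, one_pow]
  have hX : ∀ (χ : IrrCharacter G) (k : ℕ),
      ((2 ^ d : ℕ) : ℂ) * contrib 2 e (y ^ k) (χ : G → ℂ) (χ : G → ℂ) =
        ∑ i, ((c χ i : ℤ) : ℂ) * cenMu y i ^ k := by
    intro χ k
    rw [← contrib_pow_eq_sum_coeff 2 y e χ χ k, hdef]
  -- the scaled diagonal contributions
  set a : IrrCharacter G → (ZMod (2 ^ m))ˣ → ℝ := fun χ j =>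
    (2 : ℝ) ^ d * (contrib 2 e (y ^ (j : ZMod (2 ^ m)).val) (χ : G → ℂ) (χ : G → ℂ)).re with ha
  have ha_contrib : ∀ (χ : IrrCharacter G) (j : (ZMod (2 ^ m))ˣ),
      ((2 ^ d : ℕ) : ℂ) * contrib 2 e (y ^ (j : ZMod (2 ^ m)).val) (χ : G → ℂ) (χ : G → ℂ) =
        ((a χ j : ℝ) : ℂ) := by
    intro χ j
    obtain ⟨h1, -⟩ := contrib_self_eq_ofReal 2 e (y ^ (j : ZMod (2 ^ m)).val) (χ : G → ℂ)
    rw [h1, ha]
    push_cast
    rfl
  have ha_val : ∀ (χ : IrrCharacter G) (j : (ZMod (2 ^ m))ˣ),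
      ∑ i, ((c χ i : ℤ) : ℂ) * cenMu y i ^ (j : ZMod (2 ^ m)).val = ((a χ j : ℝ) : ℂ) := by
    intro χ j
    rw [← hX, ha_contrib]
  have ha_herm : ∀ (χ : IrrCharacter G) (j : (ZMod (2 ^ m))ˣ),
      herm (regMatR 2 e) (decVec y χ (j : ZMod (2 ^ m)).val)
        (decVec y χ (j : ZMod (2 ^ m)).val) = ((a χ j : ℝ) : ℂ) := by
    intro χ j
    rw [← pow_mul_contrib_eq_herm, hdef]
    exact ha_contrib χ j
  have ha_pos : ∀ χ ∈ B, ∀ j : (ZMod (2 ^ m))ˣ, 0 < a χ j := by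
    intro χ hχ j
    obtain ⟨h1, h2⟩ := contrib_self_eq_ofReal 2 e (y ^ (j : ZMod (2 ^ m)).val) (χ : G → ℂ)
    have h3 := contrib_self_ne_zero' hM (hxj j) C[y] (hCj j) ψ₀ χ₀ hind hdef χ hχ
    have h4 : (contrib 2 e (y ^ (j : ZMod (2 ^ m)).val) (χ : G → ℂ) (χ : G → ℂ)).re ≠ 0 := by
      intro h
      apply h3
      rw [h1, h, Complex.ofReal_zero]
    exact mul_pos hpd (lt_of_le_of_ne h2 (Ne.symm h4))
  have htrace : ∀ j : (ZMod (2 ^ m))ˣ, ∑ χ : IrrCharacter G, (if χ ∈ B then a χ j else 0) =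
      (2 : ℝ) ^ d * (blockRank 2 e : ℝ) := by
    intro j
    have h := sum_contrib_self' hM (hxj j) C[y] (hCj j) χ₀ e hind
    have h2 := congrArg Complex.re h
    rw [Complex.natCast_re, Complex.re_sum] at h2
    rw [← h2, Finset.mul_sum]
    refine Finset.sum_congr rfl fun χ _ => ?_
    split_ifs
    · rfl
    · rw [Complex.zero_re, mul_zero]
  set A : IrrCharacter G → ℝ := fun χ => ∑ j, a χ j with hA
  have hAsum : ∑ χ : IrrCharacter G, (if χ ∈ B then A χ else 0) =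
      φ * ((2 : ℝ) ^ d * (blockRank 2 e : ℝ)) := by
    have h1 : ∑ χ : IrrCharacter G, (if χ ∈ B then A χ else 0) =
        ∑ j : (ZMod (2 ^ m))ˣ, ∑ χ : IrrCharacter G, (if χ ∈ B then a χ j else 0) := by
      rw [Finset.sum_comm]
      refine Finset.sum_congr rfl fun χ _ => ?_
      split_ifs
      · rfl
      · rw [Finset.sum_const_zero]
    rw [h1, Finset.sum_congr rfl fun j _ => htrace j, Finset.sum_const, Finset.card_univ,
      nsmul_eq_mul]
  have hAherm : ∀ χ, ∑ j : (ZMod (2 ^ m))ˣ, herm (regMatR 2 e)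
      (decVec y χ (j : ZMod (2 ^ m)).val) (decVec y χ (j : ZMod (2 ^ m)).val) =
        ((A χ : ℝ) : ℂ) := by
    intro χ
    rw [hA, Complex.ofReal_sum]
    exact Finset.sum_congr rfl fun j _ => ha_herm χ j
  have hApos : ∀ χ ∈ B, 0 < A χ := fun χ hχ =>
    Finset.sum_pos (fun j _ => ha_pos χ hχ j) Finset.univ_nonempty
  -- the integral traces
  set t : IrrCharacter G → ℤ := fun χ => ∑ i, c χ i * eps (cenMu y i) with ht
  have hAt : ∀ χ, A χ = φ * (t χ : ℝ) := by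
    intro χ
    have h1 := sum_units_sum_eq m (c χ) (cenMu y) hμ
    simp_rw [ha_val χ] at h1
    have h2 : ((A χ : ℝ) : ℂ) = ((φ * (t χ : ℝ) : ℝ) : ℂ) := by
      rw [hA, Complex.ofReal_sum, h1, hφ, ht]
      push_cast
      rfl
    exact_mod_cast h2
  have htpos : ∀ χ ∈ B, 0 < t χ := by
    intro χ hχ
    have h1 := hApos χ hχ
    rw [hAt] at h1
    have h2 : (0 : ℝ) < (t χ : ℝ) := (mul_pos_iff_of_pos_left hφpos).1 h1
    exact_mod_cast h2
  -- parity at height zero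
  have hpar : ∀ χ, (2 : ℤ) ∣ t χ - ∑ i, c χ i := by
    intro χ
    exact two_dvd_sum_eps_sub (c χ) (cenMu y) (fun i => contribCoeff_swap 2 y e χ i)
      (fun i => cenMu_swap y i) (fun ψ => cenMu_diag y ψ)
  have htodd : ∀ χ ∈ B, blockHeight 2 B (χ : G → ℂ) = 0 → ¬ (2 : ℤ) ∣ t χ := by
    intro χ hχ h0 hdvd
    have h1 := not_dvd_sum_contribCoeff 2 hM y e B hind χ χ hχ hχ h0 h0
    apply h1
    have h2 := dvd_sub hdvd (hpar χ)
    have h3 : t χ - (t χ - ∑ i, c χ i) = ∑ i, c χ i := by ring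
    rw [h3] at h2
    exact_mod_cast h2
  have hpdc : ((2 ^ d : ℕ) : ℂ) ≠ 0 := Nat.cast_ne_zero.2 (pow_ne_zero _ hp.ne_zero)
  have hBblock : IsPBlock M B := ⟨χ₀, rfl⟩
  have hcardB : Nat.card B = (Finset.univ.filter (· ∈ B)).card := by
    rw [Nat.card_eq_fintype_card, Fintype.card_subtype]
  have hsum_const : ∀ r : ℝ, ∑ χ : IrrCharacter G, (if χ ∈ B then r else 0) =
      (Nat.card B : ℝ) * r := by
    intro r
    rw [← Finset.sum_filter, Finset.sum_const, nsmul_eq_mul, ← hcardB]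
  -- row idempotency
  have hrow : ∀ (j : (ZMod (2 ^ m))ˣ) (χ : IrrCharacter G),
      ∑ χ' : IrrCharacter G, (if χ' ∈ B then Complex.normSq (((2 ^ d : ℕ) : ℂ) *
        contrib 2 e (y ^ (j : ZMod (2 ^ m)).val) (χ : G → ℂ) (χ' : G → ℂ)) else 0) =
      (2 : ℝ) ^ d * a χ j := by
    intro j χ
    have h : ∑ χ' : IrrCharacter G, (if χ' ∈ B then
        contrib 2 e (y ^ (j : ZMod (2 ^ m)).val) (χ : G → ℂ) (χ' : G → ℂ) *
          conj (contrib 2 e (y ^ (j : ZMod (2 ^ m)).val) (χ : G → ℂ) (χ' : G → ℂ)) else 0) =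
        contrib 2 e (y ^ (j : ZMod (2 ^ m)).val) (χ : G → ℂ) (χ : G → ℂ) :=
      sum_contrib_mul_conj' hM (hxj j) C[y] (hCj j) χ₀ e hind χ
    have h2 := congrArg Complex.re h
    rw [Complex.re_sum] at h2
    have h3 : ∀ χ' : IrrCharacter G, (if χ' ∈ B then
        contrib 2 e (y ^ (j : ZMod (2 ^ m)).val) (χ : G → ℂ) (χ' : G → ℂ) *
          conj (contrib 2 e (y ^ (j : ZMod (2 ^ m)).val) (χ : G → ℂ) (χ' : G → ℂ))
        else 0 : ℂ).re = if χ' ∈ B then Complex.normSq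
          (contrib 2 e (y ^ (j : ZMod (2 ^ m)).val) (χ : G → ℂ) (χ' : G → ℂ)) else 0 := by
      intro χ'
      split_ifs
      · rw [Complex.mul_conj, Complex.ofReal_re]
      · rfl
    simp_rw [h3] at h2
    have h4 : ∀ χ' : IrrCharacter G, (if χ' ∈ B then Complex.normSq (((2 ^ d : ℕ) : ℂ) *
        contrib 2 e (y ^ (j : ZMod (2 ^ m)).val) (χ : G → ℂ) (χ' : G → ℂ)) else 0) =
        ((2 : ℝ) ^ d) ^ 2 * (if χ' ∈ B then Complex.normSq
          (contrib 2 e (y ^ (j : ZMod (2 ^ m)).val) (χ : G → ℂ) (χ' : G → ℂ)) else 0) := by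
      intro χ'
      split_ifs
      · rw [Complex.normSq_mul, Complex.normSq_natCast]
        push_cast
        ring
      · ring
    simp_rw [h4]
    rw [← Finset.mul_sum, h2, ha]
    ring
  have hterm : ∀ (j : (ZMod (2 ^ m))ˣ) (χ : IrrCharacter G), Complex.normSq (((2 ^ d : ℕ) : ℂ) *
      contrib 2 e (y ^ (j : ZMod (2 ^ m)).val) (χ : G → ℂ) (χ : G → ℂ)) = (a χ j) ^ 2 := by
    intro j χ
    rw [ha_contrib, Complex.normSq_ofReal]
    ring
  have hnn : ∀ (j : (ZMod (2 ^ m))ˣ) (χ χ' : IrrCharacter G), 0 ≤ (if χ' ∈ B then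
      Complex.normSq (((2 ^ d : ℕ) : ℂ) *
        contrib 2 e (y ^ (j : ZMod (2 ^ m)).val) (χ : G → ℂ) (χ' : G → ℂ)) else 0) := by
    intro j χ χ'
    split_ifs
    · exact Complex.normSq_nonneg _
    · exact le_rfl
  have ha_le : ∀ χ ∈ B, ∀ j : (ZMod (2 ^ m))ˣ, a χ j ≤ (2 : ℝ) ^ d := by
    intro χ hχ j
    have h1 := hrow j χ
    have h2 : (a χ j) ^ 2 ≤ ∑ χ' : IrrCharacter G, (if χ' ∈ B then Complex.normSq
        (((2 ^ d : ℕ) : ℂ) *
          contrib 2 e (y ^ (j : ZMod (2 ^ m)).val) (χ : G → ℂ) (χ' : G → ℂ)) else 0) := by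
      have h3 := Finset.single_le_sum (f := fun χ' : IrrCharacter G => (if χ' ∈ B then
        Complex.normSq (((2 ^ d : ℕ) : ℂ) *
          contrib 2 e (y ^ (j : ZMod (2 ^ m)).val) (χ : G → ℂ) (χ' : G → ℂ)) else 0))
        (fun χ' _ => hnn j χ χ') (Finset.mem_univ χ)
      rwa [if_pos hχ, hterm] at h3
    rw [h1] at h2
    have hpos := ha_pos χ hχ j
    nlinarith
  have hA_le : ∀ χ ∈ B, A χ ≤ φ * (2 : ℝ) ^ d := by
    intro χ hχ
    have h1 : A χ ≤ ∑ _j : (ZMod (2 ^ m))ˣ, (2 : ℝ) ^ d :=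
      Finset.sum_le_sum fun j _ => ha_le χ hχ j
    rw [Finset.sum_const, Finset.card_univ, nsmul_eq_mul] at h1
    exact h1
  have ht_le : ∀ χ ∈ B, t χ ≤ 2 ^ d := by
    intro χ hχ
    have h1 := hA_le χ hχ
    rw [hAt] at h1
    have h2 : (t χ : ℝ) ≤ (2 : ℝ) ^ d := le_of_mul_le_mul_left h1 hφpos
    exact_mod_cast h2
  -- the inequality from the row of a character of height zero
  have hF4 : ∀ χ ∈ B, blockHeight 2 B (χ : G → ℂ) = 0 →
      (Nat.card B : ℝ) - 1 ≤ (t χ : ℝ) * ((2 : ℝ) ^ d - (t χ : ℝ)) := by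
    intro χ hχ h0
    set g : IrrCharacter G → ℝ := fun χ' => ∑ j : (ZMod (2 ^ m))ˣ, Complex.normSq
      (((2 ^ d : ℕ) : ℂ) *
        contrib 2 e (y ^ (j : ZMod (2 ^ m)).val) (χ : G → ℂ) (χ' : G → ℂ)) with hg
    have hlow : ∀ χ' ∈ B, φ ≤ g χ' := by
      intro χ' hχ'
      have hX2 : ∀ k : ℕ, ((2 ^ d : ℕ) : ℂ) * contrib 2 e (y ^ k) (χ : G → ℂ) (χ' : G → ℂ) =
          ∑ i, ((contribCoeff 2 y e χ χ' i : ℤ) : ℂ) * cenMu y i ^ k := by
        intro k
        rw [← contrib_pow_eq_sum_coeff 2 y e χ χ' k, hdef]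
      have h1 := card_units_le_sum_normSq (2 ^ m) (contribCoeff 2 y e χ χ') (cenMu y) hμ
        (fun j => by
          rw [← hX2]
          exact mul_ne_zero hpdc (contrib_ne_zero_of_height_zero hM (hxj j) C[y] (hCj j) ψ₀ χ₀
            hind hdef χ χ' hχ h0 hχ'))
      simp_rw [← hX2] at h1
      exact h1
    have hgχ : g χ = ∑ j : (ZMod (2 ^ m))ˣ, (a χ j) ^ 2 := by
      simp only [hg]
      exact Finset.sum_congr rfl fun j _ => hterm j χ
    have htot : ∑ χ' : IrrCharacter G, (if χ' ∈ B then g χ' else 0) = (2 : ℝ) ^ d * A χ := by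
      have h1 : ∑ χ' : IrrCharacter G, (if χ' ∈ B then g χ' else 0) =
          ∑ j : (ZMod (2 ^ m))ˣ, ∑ χ' : IrrCharacter G, (if χ' ∈ B then Complex.normSq
            (((2 ^ d : ℕ) : ℂ) *
              contrib 2 e (y ^ (j : ZMod (2 ^ m)).val) (χ : G → ℂ) (χ' : G → ℂ)) else 0) := by
        rw [Finset.sum_comm]
        refine Finset.sum_congr rfl fun χ' _ => ?_
        split_ifs
        · rfl
        · rw [Finset.sum_const_zero]
      rw [h1, Finset.sum_congr rfl fun j _ => hrow j χ, ← Finset.mul_sum]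
    set f : IrrCharacter G → ℝ := fun χ' => φ + (if χ' = χ then g χ - φ else 0) with hf
    have hfg : ∀ χ' ∈ B, f χ' ≤ g χ' := by
      intro χ' hχ'
      simp only [hf]
      by_cases h : χ' = χ
      · rw [if_pos h, h]
        linarith
      · rw [if_neg h, add_zero]
        exact hlow χ' hχ'
    have hfsum : ∑ χ' : IrrCharacter G, (if χ' ∈ B then f χ' else 0) =
        (Nat.card B : ℝ) * φ + (g χ - φ) := by
      have h1 : ∀ χ' : IrrCharacter G, (if χ' ∈ B then f χ' else 0) =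
          (if χ' ∈ B then φ else 0) + (if χ' = χ then g χ - φ else 0) := by
        intro χ'
        simp only [hf]
        by_cases h : χ' = χ
        · rw [h, if_pos hχ, if_pos hχ, if_pos rfl]
        · rw [if_neg h, add_zero, add_zero]
      simp_rw [h1]
      rw [Finset.sum_add_distrib, hsum_const, Finset.sum_ite_eq' Finset.univ χ, if_pos (Finset.mem_univ χ)]
    have hle : ∑ χ' : IrrCharacter G, (if χ' ∈ B then f χ' else 0) ≤
        ∑ χ' : IrrCharacter G, (if χ' ∈ B then g χ' else 0) := by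
      refine Finset.sum_le_sum fun χ' _ => ?_
      split_ifs with h
      · exact hfg χ' h
      · exact le_rfl
    rw [hfsum, htot, hgχ] at hle
    have hcs : (A χ) ^ 2 ≤ φ * ∑ j : (ZMod (2 ^ m))ˣ, (a χ j) ^ 2 := by
      have := sq_sum_le_card_mul_sum_sq (s := (Finset.univ : Finset (ZMod (2 ^ m))ˣ))
        (f := fun j => a χ j)
      rw [Finset.card_univ] at this
      exact this
    rw [hAt] at hle hcs
    -- `φ (k - 1) ≤ φ 2^d t - Σ a²` and `φ² t² ≤ φ Σ a²`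
    have h5 : φ * ((Nat.card B : ℝ) - 1) ≤ φ * ((t χ : ℝ) * ((2 : ℝ) ^ d - (t χ : ℝ))) := by
      have h6 : φ * (φ * (t χ : ℝ) ^ 2) ≤ φ * ∑ j : (ZMod (2 ^ m))ˣ, (a χ j) ^ 2 := by
        calc φ * (φ * (t χ : ℝ) ^ 2) = (φ * (t χ : ℝ)) ^ 2 := by ring
          _ ≤ _ := hcs
      have h7 : φ * (t χ : ℝ) ^ 2 ≤ ∑ j : (ZMod (2 ^ m))ˣ, (a χ j) ^ 2 :=
        le_of_mul_le_mul_left h6 hφpos
      nlinarith
    exact le_of_mul_le_mul_left h5 hφpos
  -- the complementary traces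
  set sI : IrrCharacter G → ℤ := fun χ => 2 ^ d - t χ with hsI
  have hsI_nn : ∀ χ ∈ B, 0 ≤ sI χ := fun χ hχ => by
    simp only [hsI]
    linarith [ht_le χ hχ]
  have hsI_cast : ∀ χ, ((sI χ : ℤ) : ℝ) = (2 : ℝ) ^ d - (t χ : ℝ) := by
    intro χ
    simp only [hsI]
    push_cast
    ring
  -- positive height
  have hsI_pos : ∀ χ ∈ B, 1 ≤ blockHeight 2 B (χ : G → ℂ) → 3 ≤ sI χ := by
    intro χ hχ hpos
    set h := blockHeight 2 B (χ : G → ℂ) with hh
    obtain ⟨χ₁, hχ₁, h0₁⟩ := exists_height_zero (p := 2) hMp χ₀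
    have hne1 : χ ≠ χ₁ := by
      intro heq
      have h0 : h = 0 := by
        rw [hh, heq]
        exact h0₁
      omega
    have hane : ∀ j : (ZMod (2 ^ m))ˣ, a χ j ≠ (2 : ℝ) ^ d := by
      intro j heq
      have h1 := hrow j χ
      have h2 : (a χ j) ^ 2 + Complex.normSq (((2 ^ d : ℕ) : ℂ) *
          contrib 2 e (y ^ (j : ZMod (2 ^ m)).val) (χ : G → ℂ) (χ₁ : G → ℂ)) ≤
          ∑ χ' : IrrCharacter G, (if χ' ∈ B then Complex.normSq (((2 ^ d : ℕ) : ℂ) *
            contrib 2 e (y ^ (j : ZMod (2 ^ m)).val) (χ : G → ℂ) (χ' : G → ℂ)) else 0) := by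
        have h3 := Finset.sum_le_sum_of_subset_of_nonneg
          (Finset.subset_univ ({χ, χ₁} : Finset (IrrCharacter G)))
          (f := fun χ' : IrrCharacter G => (if χ' ∈ B then Complex.normSq (((2 ^ d : ℕ) : ℂ) *
            contrib 2 e (y ^ (j : ZMod (2 ^ m)).val) (χ : G → ℂ) (χ' : G → ℂ)) else 0))
          (fun χ' _ _ => hnn j χ χ')
        rw [Finset.sum_pair hne1] at h3
        rwa [if_pos hχ, if_pos hχ₁, hterm] at h3
      rw [h1, heq] at h2
      have h4 : Complex.normSq (((2 ^ d : ℕ) : ℂ) *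
          contrib 2 e (y ^ (j : ZMod (2 ^ m)).val) (χ : G → ℂ) (χ₁ : G → ℂ)) = 0 := by
        have := Complex.normSq_nonneg (((2 ^ d : ℕ) : ℂ) *
          contrib 2 e (y ^ (j : ZMod (2 ^ m)).val) (χ : G → ℂ) (χ₁ : G → ℂ))
        nlinarith
      have h5 : contrib 2 e (y ^ (j : ZMod (2 ^ m)).val) (χ : G → ℂ) (χ₁ : G → ℂ) = 0 := by
        rcases mul_eq_zero.1 (Complex.normSq_eq_zero.1 h4) with h | h
        · exact absurd h hpdc
        · exact h
      have h6 : contrib 2 e (y ^ (j : ZMod (2 ^ m)).val) (χ₁ : G → ℂ) (χ : G → ℂ) = 0 := by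
        have : contrib 2 e (y ^ (j : ZMod (2 ^ m)).val) (χ₁ : G → ℂ) (χ : G → ℂ) =
            conj (contrib 2 e (y ^ (j : ZMod (2 ^ m)).val) (χ : G → ℂ) (χ₁ : G → ℂ)) := by
          unfold contrib
          rw [classInner_conj_symm]
        rw [this, h5, map_zero]
      exact contrib_ne_zero_of_height_zero hM (hxj j) C[y] (hCj j) ψ₀ χ₀ hind hdef χ₁ χ hχ₁ h0₁
        hχ h6
    have hidealα : ∀ j : (ZMod (2 ^ m))ˣ,
        MemLocalIdeal M (((a χ j : ℝ) : ℂ) / ((2 ^ h : ℕ) : ℂ)) := by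
      intro j
      rw [← ha_contrib]
      exact memLocalIdeal_contrib_self' hM (hxj j) C[y] (hCj j) ψ₀ χ₀ hind hdef χ hχ hpos
    have hstrict := card_units_mul_pow_lt_sum_re hM (2 ^ m) (c χ) (cenMu y) hμ h
      (fun j => by
        rw [ha_val]
        exact_mod_cast (ha_pos χ hχ j).ne')
      (fun j => ⟨a χ j, (ha_pos χ hχ j).le, ha_val χ j⟩)
      (fun j => by
        rw [ha_val]
        exact hidealα j)
    simp_rw [ha_val χ, Complex.ofReal_re] at hstrict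
    have hlt : φ * (2 : ℝ) ^ h < φ * (t χ : ℝ) := by
      rw [← hAt]
      convert hstrict using 2
      push_cast
      rfl
    have hlt2 : ((2 : ℝ) ^ h) < (t χ : ℝ) := lt_of_mul_lt_mul_left hlt hφpos.le
    have hlt3 : (2 : ℤ) ^ h < t χ := by exact_mod_cast hlt2
    have hhd : h < d := by
      have h1 := ht_le χ hχ
      have h2 : (2 : ℤ) ^ h < 2 ^ d := lt_of_lt_of_le hlt3 h1
      exact (pow_lt_pow_iff_right₀ (by norm_num : (1 : ℤ) < 2)).1 h2
    -- the complementary family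
    set c'' : Option (IrrCharacter C[y] × IrrCharacter C[y]) → ℤ :=
      fun o => o.elim (2 ^ d) (fun i => - c χ i) with hc''
    set μ'' : Option (IrrCharacter C[y] × IrrCharacter C[y]) → ℂ :=
      fun o => o.elim 1 (cenMu y) with hμ''
    have hμ''1 : ∀ o, μ'' o ^ (2 ^ m) = 1 := by
      intro o
      cases o with
      | none => simp [hμ'']
      | some i => simpa [hμ''] using hμ i
    have hval'' : ∀ j : (ZMod (2 ^ m))ˣ,
        ∑ o, ((c'' o : ℤ) : ℂ) * μ'' o ^ (j : ZMod (2 ^ m)).val =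
          (((2 : ℝ) ^ d - a χ j : ℝ) : ℂ) := by
      intro j
      rw [Fintype.sum_option]
      simp only [hc'', hμ'', Option.elim]
      rw [one_pow, mul_one]
      have h1 : ∑ i, (((- c χ i : ℤ)) : ℂ) * cenMu y i ^ (j : ZMod (2 ^ m)).val =
          - ((a χ j : ℝ) : ℂ) := by
        rw [← ha_val χ j, ← Finset.sum_neg_distrib]
        refine Finset.sum_congr rfl fun i _ => ?_
        push_cast
        ring
      rw [h1]
      push_cast
      ring
    have hstrictN := card_units_mul_pow_lt_sum_re hM (2 ^ m) c'' μ'' hμ''1 h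
      (fun j => by
        rw [hval'']
        have h1 : (2 : ℝ) ^ d - a χ j ≠ 0 := sub_ne_zero.2 (Ne.symm (hane j))
        exact_mod_cast h1)
      (fun j => ⟨(2 : ℝ) ^ d - a χ j, by linarith [ha_le χ hχ j], hval'' j⟩)
      (fun j => by
        rw [hval'']
        have h1 : MemLocalIdeal M (((2 ^ (d - h) : ℕ) : ℂ)) := by
          rw [memLocalIdeal_natCast_iff hM]
          exact dvd_pow_self 2 (by omega)
        have h2 := memLocalIdeal_sub hMp h1 (hidealα j)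
        convert h2 using 1
        have h2h : ((2 : ℂ)) ^ h ≠ 0 := pow_ne_zero _ two_ne_zero
        have hdiv : ((2 : ℂ)) ^ d / (2 : ℂ) ^ h = (2 : ℂ) ^ (d - h) := by
          rw [div_eq_iff h2h, ← pow_add]
          congr 1
          omega
        push_cast
        rw [sub_div, hdiv])
    simp_rw [hval'', Complex.ofReal_re] at hstrictN
    have hsumN : ∑ j : (ZMod (2 ^ m))ˣ, ((2 : ℝ) ^ d - a χ j) = φ * (2 : ℝ) ^ d - A χ := by
      rw [Finset.sum_sub_distrib, Finset.sum_const, Finset.card_univ, nsmul_eq_mul]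
    rw [hsumN, hAt] at hstrictN
    have h7 : (2 : ℝ) ^ h < (2 : ℝ) ^ d - (t χ : ℝ) := by
      have h8 : φ * (2 : ℝ) ^ h < φ * ((2 : ℝ) ^ d - (t χ : ℝ)) := by
        have h9 : φ * ((2 : ℝ) ^ d - (t χ : ℝ)) = φ * (2 : ℝ) ^ d - φ * (t χ : ℝ) := by ring
        rw [h9]
        convert hstrictN using 2
        push_cast
        rfl
      exact lt_of_mul_lt_mul_left h8 hφpos.le
    have h8 : (2 : ℤ) ^ h < sI χ := by
      have : ((2 : ℤ) ^ h : ℝ) < ((sI χ : ℤ) : ℝ) := by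
        rw [hsI_cast]
        exact_mod_cast h7
      exact_mod_cast this
    have h9 : (2 : ℤ) ≤ 2 ^ h := by
      calc (2 : ℤ) = 2 ^ 1 := by norm_num
        _ ≤ 2 ^ h := pow_le_pow_right₀ (by norm_num) hpos
    omega
  -- the sum of the traces
  have hsumt : ∑ χ : IrrCharacter G, (if χ ∈ B then (t χ : ℝ) else 0) =
      (2 : ℝ) ^ d * (blockRank 2 e : ℝ) := by
    have h1 : ∑ χ : IrrCharacter G, (if χ ∈ B then A χ else 0) =
        φ * ∑ χ : IrrCharacter G, (if χ ∈ B then (t χ : ℝ) else 0) := by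
      rw [Finset.mul_sum]
      refine Finset.sum_congr rfl fun χ _ => ?_
      split_ifs
      · exact hAt χ
      · ring
    rw [hAsum] at h1
    exact (mul_left_cancel₀ hφpos.ne' h1).symm
  have hkR : (Nat.card B : ℝ) ≤ (blockRank 2 e : ℝ) + 3 := by exact_mod_cast hk
  have hgoal : (Nat.card B : ℝ) ≤ (2 : ℝ) ^ d → Nat.card B ≤ 2 ^ d := fun h => by
    exact_mod_cast h
  apply hgoal
  have hone : (1 : ℝ) ≤ (2 : ℝ) ^ d := one_le_pow₀ (by norm_num)
  by_cases hex : ∃ χ ∈ B, blockHeight 2 B (χ : G → ℂ) = 0 ∧ sI χ ≤ 1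
  · obtain ⟨χ, hχ, h0, hs1⟩ := hex
    have h1 := hF4 χ hχ h0
    have h2 := hsI_nn χ hχ
    have h3 : (t χ : ℝ) * ((2 : ℝ) ^ d - (t χ : ℝ)) ≤ (2 : ℝ) ^ d - 1 := by
      have hs := hsI_cast χ
      have h4 : sI χ = 0 ∨ sI χ = 1 := by omega
      rcases h4 with h4 | h4
      · rw [h4] at hs
        push_cast at hs
        rw [← hs, mul_zero]
        linarith
      · rw [h4] at hs
        push_cast at hs
        rw [← hs, mul_one]
        linarith
    linarith
  · push Not at hex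
    obtain ⟨χ₁, hχ₁, h0₁⟩ := exists_height_zero (p := 2) hMp χ₀
    have hd1 : 1 ≤ d := by
      by_contra hcon
      have hd0 : d = 0 := by omega
      have h1 := hex χ₁ hχ₁ h0₁
      have h2 := htpos χ₁ hχ₁
      simp only [hsI] at h1
      rw [hd0, pow_zero] at h1
      omega
    have heven : (2 : ℤ) ∣ 2 ^ d := dvd_pow_self 2 (by omega)
    have hall : ∀ χ ∈ B, (3 : ℝ) ≤ ((sI χ : ℤ) : ℝ) := by
      intro χ hχ
      by_cases h0 : blockHeight 2 B (χ : G → ℂ) = 0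
      · have h1 := hex χ hχ h0
        have h2 := htodd χ hχ h0
        have h3 : (3 : ℤ) ≤ sI χ := by
          simp only [hsI] at h1 ⊢
          obtain ⟨q, hq⟩ := heven
          omega
        exact_mod_cast h3
      · exact_mod_cast hsI_pos χ hχ (by omega)
    have h1 := card_mul_le_sum_ite B 3 (fun χ => ((sI χ : ℤ) : ℝ)) hall
    have h2 : ∑ χ : IrrCharacter G, (if χ ∈ B then ((sI χ : ℤ) : ℝ) else 0) =
        (Nat.card B : ℝ) * (2 : ℝ) ^ d - (2 : ℝ) ^ d * (blockRank 2 e : ℝ) := by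
      have h3 : ∀ χ : IrrCharacter G, (if χ ∈ B then ((sI χ : ℤ) : ℝ) else 0) =
          (if χ ∈ B then (2 : ℝ) ^ d else 0) - (if χ ∈ B then (t χ : ℝ) else 0) := by
        intro χ
        rw [hsI_cast]
        split_ifs
        · rfl
        · ring
      simp_rw [h3]
      rw [Finset.sum_sub_distrib, hsum_const, hsumt]
    rw [h2] at h1
    have h4 : (2 : ℝ) ^ d * ((Nat.card B : ℝ) - (blockRank 2 e : ℝ)) ≤ (2 : ℝ) ^ d * 3 :=
      mul_le_mul_of_nonneg_left (by linarith) hpd.le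
    nlinarith

end Main

end Cfsg.Agent.Lib.Helper85.MajorComp
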