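import Mathlib
import Cfsg.Prelude.Def_Blocks
import Cfsg.Prelude.Def_BlockRank
import Cfsg.Agent.Lib.Helper85.MajorTwo
import Cfsg.Agent.Lib.Helper85.TwoAdic
import Cfsg.Agent.Lib.Helper85.MajorThreeAux

set_option autoImplicit false
set_option linter.style.haveILetI false
set_option linter.unusedSectionVars false

/-!
# Major subsections `(y, e)` of `2`-blocks with `l(e) ≤ 3`

`3 k₀(B) + 2 ∑_{h ≥ 1} 2 ^ h k_h(B) ≤ 3 · 2 ^ d` (Olsson, Sambale).
-/

namespace Cfsg.Agent.Lib.Helper85.MajorThree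

open Cfsg
open scoped ComplexConjugate
open Cfsg.Agent.Lib.Helper21 Cfsg.Agent.Lib.Helper82 Cfsg.Agent.Lib.Helper83
open Cfsg.Agent.Lib.Helper85.QuadLB Cfsg.Agent.Lib.Helper85.RegForm
open Cfsg.Agent.Lib.Helper85.MajorTwo Cfsg.Agent.Lib.Helper85.TwoAdic
open Cfsg.Agent.Lib.Helper85.MajorThreeAux

/-- The weight of a character of height `h`. -/
noncomputable def wt (h : ℕ) : ℝ := if h = 0 then 3 else 2 ^ (h + 1)

theorem wt_nonneg (h : ℕ) : 0 ≤ wt h := by
  unfold wt
  split_ifs <;> positivity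

theorem wt_le_three_mul (h : ℕ) : wt h ≤ 3 * (2 : ℝ) ^ (2 * h) := by
  unfold wt
  split_ifs with h0
  · subst h0; norm_num
  · have h1 : (2 : ℝ) ^ (h + 1) ≤ 2 ^ (2 * h) :=
      pow_le_pow_right₀ (by norm_num) (by omega)
    have h2 : (0 : ℝ) ≤ 2 ^ (2 * h) := by positivity
    linarith

section Main

universe u
variable {G : Type u} [Group G] [Fintype G] {M : Ideal AlgInt}

local notation "C[" g "]" => Subgroup.centralizer (singleton g)

/-- **Olsson, Sambale.** If `(y, e)` is a major subsection of the `2`-block `B` of defect `d` with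
`l(e) ≤ 3`, then `3 k₀(B) + 2 ∑_{h ≥ 1} 2 ^ h k_h(B) ≤ 3 · 2 ^ d`. -/
theorem sum_wt_le (hM : IsPModular 2 M) (y : G) (m : ℕ)
    (hy : y ^ (2 ^ m) = 1) [Fintype C[y]] (ψ₀ : IrrCharacter C[y]) (χ₀ : IrrCharacter G)
    (hind : IsInducedBlock M C[y] (blockOf M (ψ₀ : C[y] → ℂ)) (blockOf M (χ₀ : G → ℂ)))
    (hdef : blockDefect 2 (blockOf M (ψ₀ : C[y] → ℂ)) = blockDefect 2 (blockOf M (χ₀ : G → ℂ)))
    (hl : blockRank 2 (blockOf M (ψ₀ : C[y] → ℂ)) ≤ 3)
    (s : Finset (IrrCharacter G)) (hs : ∀ χ ∈ s, χ ∈ blockOf M (χ₀ : G → ℂ)) :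
    ∑ χ ∈ s, wt (blockHeight 2 (blockOf M (χ₀ : G → ℂ)) (χ : G → ℂ)) ≤
      3 * (2 : ℝ) ^ blockDefect 2 (blockOf M (χ₀ : G → ℂ)) := by
  classical
  have hp : (2 : ℕ).Prime := Nat.prime_two
  have hMp : M.IsPrime := hM.2.1.isPrime
  haveI : Fintype (IrrCharacter G) := Fintype.ofFinite _
  haveI : Fintype (IrrCharacter C[y]) := Fintype.ofFinite _
  haveI : NeZero (2 ^ m) := ⟨pow_ne_zero _ hp.ne_zero⟩
  set e := blockOf M (ψ₀ : C[y] → ℂ) with he
  set B := blockOf M (χ₀ : G → ℂ) with hB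
  set d := blockDefect 2 B with hd
  have heblock : IsPBlock M e := ⟨ψ₀, rfl⟩
  have hord : orderOf y ∣ 2 ^ m := orderOf_dvd_of_pow_eq_one hy
  have hcop : ∀ j : (ZMod (2 ^ m))ˣ, Nat.Coprime (j : ZMod (2 ^ m)).val (orderOf y) := fun j =>
    Nat.Coprime.coprime_dvd_right hord (ZMod.val_coe_unit_coprime j)
  have hCj : ∀ j : (ZMod (2 ^ m))ˣ, C[y] = C[y ^ (j : ZMod (2 ^ m)).val] := fun j =>
    (centralizer_pow_eq_of_coprime y _ (hcop j)).symm
  have hxj : ∀ j : (ZMod (2 ^ m))ˣ, ∃ k : ℕ, orderOf (y ^ (j : ZMod (2 ^ m)).val) = 2 ^ k := by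
    intro j
    have h1 : orderOf (y ^ (j : ZMod (2 ^ m)).val) ∣ 2 ^ m := (orderOf_pow_dvd _).trans hord
    obtain ⟨k, -, hk⟩ := (Nat.dvd_prime_pow hp).1 h1
    exact ⟨k, hk⟩
  set φ : ℝ := (Fintype.card (ZMod (2 ^ m))ˣ : ℝ) with hφ
  have hφpos : 0 < φ := by rw [hφ]; exact_mod_cast Fintype.card_pos
  have hpd : (0 : ℝ) < (2 : ℝ) ^ d := by positivity
  -- the integer coefficients
  set c : IrrCharacter G → IrrCharacter C[y] × IrrCharacter C[y] → ℤ :=
    fun χ => contribCoeff 2 y e χ χ with hc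
  have hμ : ∀ i, cenMu y i ^ (2 ^ m) = 1 := by
    intro i
    obtain ⟨r, hr⟩ := hord
    rw [hr, pow_mul, cenMu_pow_orderOf, one_pow]
  have hX : ∀ (χ : IrrCharacter G) (k : ℕ),
      ((2 ^ d : ℕ) : ℂ) * contrib 2 e (y ^ k) (χ : G → ℂ) (χ : G → ℂ) =
        ∑ i, ((c χ i : ℤ) : ℂ) * cenMu y i ^ k := by
    intro χ k
    rw [← contrib_pow_eq_sum_coeff 2 y e χ χ k, hdef]
  -- the scaled diagonal contributions
  set a : IrrCharacter G → (ZMod (2 ^ m))ˣ → ℝ := fun χ j =>
    (2 : ℝ) ^ d * (contrib 2 e (y ^ (j : ZMod (2 ^ m)).val) (χ : G → ℂ) (χ : G → ℂ)).re with ha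
  have ha_contrib : ∀ (χ : IrrCharacter G) (j : (ZMod (2 ^ m))ˣ),
      ((2 ^ d : ℕ) : ℂ) * contrib 2 e (y ^ (j : ZMod (2 ^ m)).val) (χ : G → ℂ) (χ : G → ℂ) =
        ((a χ j : ℝ) : ℂ) := by
    intro χ j
    obtain ⟨h1, -⟩ := contrib_self_eq_ofReal 2 e (y ^ (j : ZMod (2 ^ m)).val) (χ : G → ℂ)
    rw [h1, ha]
    push_cast
    rfl
  have ha_val : ∀ (χ : IrrCharacter G) (j : (ZMod (2 ^ m))ˣ),
      ∑ i, ((c χ i : ℤ) : ℂ) * cenMu y i ^ (j : ZMod (2 ^ m)).val = ((a χ j : ℝ) : ℂ) := by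
    intro χ j
    rw [← hX, ha_contrib]
  have ha_herm : ∀ (χ : IrrCharacter G) (j : (ZMod (2 ^ m))ˣ),
      herm (regMatR 2 e) (decVec y χ (j : ZMod (2 ^ m)).val)
        (decVec y χ (j : ZMod (2 ^ m)).val) = ((a χ j : ℝ) : ℂ) := by
    intro χ j
    rw [← pow_mul_contrib_eq_herm, hdef]
    exact ha_contrib χ j
  have ha_pos : ∀ χ ∈ B, ∀ j : (ZMod (2 ^ m))ˣ, 0 < a χ j := by
    intro χ hχ j
    obtain ⟨h1, h2⟩ := contrib_self_eq_ofReal 2 e (y ^ (j : ZMod (2 ^ m)).val) (χ : G → ℂ)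
    have h3 := contrib_self_ne_zero' hM (hxj j) C[y] (hCj j) ψ₀ χ₀ hind hdef χ hχ
    have h4 : (contrib 2 e (y ^ (j : ZMod (2 ^ m)).val) (χ : G → ℂ) (χ : G → ℂ)).re ≠ 0 := by
      intro h
      apply h3
      rw [h1, h, Complex.ofReal_zero]
    exact mul_pos hpd (lt_of_le_of_ne h2 (Ne.symm h4))
  have htrace : ∀ j : (ZMod (2 ^ m))ˣ, ∑ χ : IrrCharacter G, (if χ ∈ B then a χ j else 0) =
      (2 : ℝ) ^ d * (blockRank 2 e : ℝ) := by
    intro j
    have h := sum_contrib_self' hM (hxj j) C[y] (hCj j) χ₀ e hind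
    have h2 := congrArg Complex.re h
    rw [Complex.natCast_re, Complex.re_sum] at h2
    rw [← h2, Finset.mul_sum]
    refine Finset.sum_congr rfl fun χ _ => ?_
    split_ifs
    · rfl
    · rw [Complex.zero_re, mul_zero]
  set A : IrrCharacter G → ℝ := fun χ => ∑ j, a χ j with hA
  have hAsum : ∑ χ : IrrCharacter G, (if χ ∈ B then A χ else 0) =
      φ * ((2 : ℝ) ^ d * (blockRank 2 e : ℝ)) := by
    have h1 : ∑ χ : IrrCharacter G, (if χ ∈ B then A χ else 0) =
        ∑ j : (ZMod (2 ^ m))ˣ, ∑ χ : IrrCharacter G, (if χ ∈ B then a χ j else 0) := by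
      rw [Finset.sum_comm]
      refine Finset.sum_congr rfl fun χ _ => ?_
      split_ifs
      · rfl
      · rw [Finset.sum_const_zero]
    rw [h1, Finset.sum_congr rfl fun j _ => htrace j, Finset.sum_const, Finset.card_univ,
      nsmul_eq_mul]
  have hlR : (blockRank 2 e : ℝ) ≤ 3 := by exact_mod_cast hl
  have hAherm : ∀ χ, ∑ j : (ZMod (2 ^ m))ˣ, herm (regMatR 2 e)
      (decVec y χ (j : ZMod (2 ^ m)).val) (decVec y χ (j : ZMod (2 ^ m)).val) =
        ((A χ : ℝ) : ℂ) := by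
    intro χ
    rw [hA, Complex.ofReal_sum]
    exact Finset.sum_congr rfl fun j _ => ha_herm χ j
  have hApos : ∀ χ ∈ B, 0 < A χ := fun χ hχ =>
    Finset.sum_pos (fun j _ => ha_pos χ hχ j) Finset.univ_nonempty
  -- the integral traces
  set t : IrrCharacter G → ℤ := fun χ => ∑ i, c χ i * eps (cenMu y i) with ht
  have hAt : ∀ χ, A χ = φ * (t χ : ℝ) := by
    intro χ
    have h1 := sum_units_sum_eq m (c χ) (cenMu y) hμ
    simp_rw [ha_val χ] at h1
    have h2 : ((A χ : ℝ) : ℂ) = ((φ * (t χ : ℝ) : ℝ) : ℂ) := by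
      rw [hA, Complex.ofReal_sum, h1, hφ, ht]
      push_cast
      rfl
    exact_mod_cast h2
  have htpos : ∀ χ ∈ B, 0 < t χ := by
    intro χ hχ
    have h1 := hApos χ hχ
    rw [hAt] at h1
    have h2 : (0 : ℝ) < (t χ : ℝ) := (mul_pos_iff_of_pos_left hφpos).1 h1
    exact_mod_cast h2
  -- parity at height zero
  have hpar : ∀ χ, (2 : ℤ) ∣ t χ - ∑ i, c χ i := by
    intro χ
    exact two_dvd_sum_eps_sub (c χ) (cenMu y) (fun i => contribCoeff_swap 2 y e χ i)
      (fun i => cenMu_swap y i) (fun ψ => cenMu_diag y ψ)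
  have htodd : ∀ χ ∈ B, blockHeight 2 B (χ : G → ℂ) = 0 → ¬ (2 : ℤ) ∣ t χ := by
    intro χ hχ h0 hdvd
    have h1 := not_dvd_sum_contribCoeff 2 hM y e B hind χ χ hχ hχ h0 h0
    apply h1
    have h2 := dvd_sub hdvd (hpar χ)
    have h3 : t χ - (t χ - ∑ i, c χ i) = ∑ i, c χ i := by ring
    rw [h3] at h2
    exact_mod_cast h2
  have hP0 : ∀ χ ∈ B, blockHeight 2 B (χ : G → ℂ) = 0 → 2 * φ ≤ A χ → 3 * φ ≤ A χ := by
    intro χ hχ h0 h2
    rw [hAt] at h2 ⊢
    have h3 : (2 : ℝ) ≤ (t χ : ℝ) := by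
      have : φ * 2 ≤ φ * (t χ : ℝ) := by linarith
      exact le_of_mul_le_mul_left this hφpos
    have h4 : (2 : ℤ) ≤ t χ := by exact_mod_cast h3
    have h5 := htodd χ hχ h0
    have h6 : (3 : ℤ) ≤ t χ := by omega
    have h7 : (3 : ℝ) ≤ (t χ : ℝ) := by exact_mod_cast h6
    nlinarith
  -- positive height
  have hP1 : ∀ χ ∈ B, 1 ≤ blockHeight 2 B (χ : G → ℂ) →
      φ * (2 : ℝ) ^ (blockHeight 2 B (χ : G → ℂ) + 1) ≤ A χ := by
    intro χ hχ hpos
    set h := blockHeight 2 B (χ : G → ℂ) with hh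
    -- divisibility of the trace
    have hC1 : C[y] = C[y ^ 1] := by rw [pow_one]
    have hx1 : ∃ k : ℕ, orderOf (y ^ 1) = 2 ^ k := by
      rw [pow_one]
      obtain ⟨k, -, hk⟩ := (Nat.dvd_prime_pow hp).1 hord
      exact ⟨k, hk⟩
    have hint1 := memLocalRing_contrib_self' hM hx1 C[y] hC1 ψ₀ χ₀ χ hχ
    rw [hX χ 1] at hint1
    simp_rw [pow_one] at hint1
    have hdvd : (2 : ℤ) ^ h ∣ t χ := two_pow_dvd_sum_eps hM m (c χ) (cenMu y) hμ h hint1
    -- strictness
    have hstrict := card_units_mul_pow_lt_sum_re hM (2 ^ m) (c χ) (cenMu y) hμ h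
      (fun j => by
        rw [ha_val]
        exact_mod_cast (ha_pos χ hχ j).ne')
      (fun j => ⟨a χ j, (ha_pos χ hχ j).le, ha_val χ j⟩)
      (fun j => by
        rw [← hX]
        exact memLocalIdeal_contrib_self' hM (hxj j) C[y] (hCj j) ψ₀ χ₀ hind hdef χ hχ hpos)
    simp_rw [ha_val χ, Complex.ofReal_re] at hstrict
    have hlt : φ * (2 : ℝ) ^ h < φ * (t χ : ℝ) := by
      rw [← hAt]
      convert hstrict using 2
      push_cast
      rfl
    have hlt2 : ((2 : ℝ) ^ h) < (t χ : ℝ) := lt_of_mul_lt_mul_left hlt hφpos.le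
    have hlt3 : (2 : ℤ) ^ h < t χ := by exact_mod_cast hlt2
    obtain ⟨q, hq⟩ := hdvd
    have hq2 : (2 : ℤ) ≤ q := by
      by_contra hcon
      have hq1 : q ≤ 1 := by omega
      have h2h : (0 : ℤ) < 2 ^ h := by positivity
      rw [hq] at hlt3
      nlinarith
    have h2h : (0 : ℝ) < (2 : ℝ) ^ h := by positivity
    have htge : (2 : ℝ) ^ (h + 1) ≤ (t χ : ℝ) := by
      rw [hq, pow_succ]
      push_cast
      have : (2 : ℝ) ≤ (q : ℝ) := by exact_mod_cast hq2
      nlinarith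
    rw [hAt]
    exact mul_le_mul_of_nonneg_left htge hφpos.le
  -- from pointwise bounds to the inequality
  have hsB : ∀ (f : IrrCharacter G → ℝ), (∀ χ ∈ B, 0 ≤ f χ) →
      ∑ χ ∈ s, f χ ≤ ∑ χ : IrrCharacter G, (if χ ∈ B then f χ else 0) := by
    intro f hf
    have h1 : ∑ χ ∈ s, f χ = ∑ χ ∈ s, (if χ ∈ B then f χ else 0) :=
      Finset.sum_congr rfl fun χ hχ => by rw [if_pos (hs χ hχ)]
    rw [h1]
    apply Finset.sum_le_sum_of_subset_of_nonneg (Finset.subset_univ s)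
    intro χ _ _
    split_ifs with hχ
    · exact hf χ hχ
    · exact le_rfl
  have hpoint : (∀ χ ∈ B, blockHeight 2 B (χ : G → ℂ) = 0 → 2 * φ ≤ A χ) →
      ∑ χ ∈ s, wt (blockHeight 2 B (χ : G → ℂ)) ≤ 3 * (2 : ℝ) ^ d := by
    intro h2
    have hwtA : ∀ χ ∈ B, φ * wt (blockHeight 2 B (χ : G → ℂ)) ≤ A χ := by
      intro χ hχ
      unfold wt
      by_cases h0 : blockHeight 2 B (χ : G → ℂ) = 0
      · rw [if_pos h0]
        have := hP0 χ hχ h0 (h2 χ hχ h0)
        linarith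
      · rw [if_neg h0]
        exact hP1 χ hχ (by omega)
    have h3 : φ * ∑ χ ∈ s, wt (blockHeight 2 B (χ : G → ℂ)) ≤ φ * (3 * (2 : ℝ) ^ d) := by
      calc φ * ∑ χ ∈ s, wt (blockHeight 2 B (χ : G → ℂ))
          = ∑ χ ∈ s, φ * wt (blockHeight 2 B (χ : G → ℂ)) := Finset.mul_sum _ _ _
        _ ≤ ∑ χ ∈ s, A χ := Finset.sum_le_sum fun χ hχ => hwtA χ (hs χ hχ)
        _ ≤ ∑ χ : IrrCharacter G, (if χ ∈ B then A χ else 0) :=
            hsB A fun χ hχ => (hApos χ hχ).le
        _ = φ * ((2 : ℝ) ^ d * (blockRank 2 e : ℝ)) := hAsum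
        _ ≤ φ * (3 * (2 : ℝ) ^ d) := by
            apply mul_le_mul_of_nonneg_left _ hφpos.le
            nlinarith
    exact le_of_mul_le_mul_left h3 hφpos
  have hRsymm : ∀ ψ ψ' : IrrCharacter C[y], regMatR 2 e ψ ψ' = regMatR 2 e ψ' ψ :=
    regMatR_symm 2 e
  have hRpsd : ∀ w : IrrCharacter C[y] → ℝ, 0 ≤ qf (regMatR 2 e) w := qf_regMatR_nonneg 2 e
  rcases regMat_dichotomy e hM heblock with hgood | ⟨w₀, x, R2, hw₀, hx, hR2eq, hR2symm, hR2psd⟩
  · -- the form does not represent `1`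
    have hint : ∀ w : IrrCharacter C[y] → ℤ, qf (regMatR 2 e) (fun i => (w i : ℝ)) = 0 ∨
        (2 : ℝ) ≤ qf (regMatR 2 e) (fun i => (w i : ℝ)) := by
      intro w
      have h0 := hRpsd (fun i => (w i : ℝ))
      rw [qf_regMatR_int] at h0 ⊢
      have h1 := hgood w
      set z : ℤ := ∑ ψ : IrrCharacter C[y], ∑ ψ' : IrrCharacter C[y],
        regMat 2 e ψ ψ' * w ψ * w ψ' with hz
      have h0' : (0 : ℤ) ≤ z := by exact_mod_cast h0
      rcases eq_or_lt_of_le h0' with h2 | h2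
      · left; rw [← h2]; simp
      · right
        have : (2 : ℤ) ≤ z := by omega
        exact_mod_cast this
    apply hpoint
    intro χ hχ _
    obtain ⟨T, hT, hT2⟩ := galois_sum_lb y hp m hy (regMatR 2 e) hRsymm hRpsd 2 hint χ
    rw [hAherm χ] at hT
    have hTA : A χ = T := by exact_mod_cast hT
    rcases hT2 with h0 | h2
    · exfalso
      have := hApos χ hχ
      rw [hTA, h0] at this
      exact lt_irrefl _ this
    · rw [hTA]
      linarith
  · -- the form represents `1`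
    set S₁ : IrrCharacter C[y] → IrrCharacter C[y] → ℝ := fun ψ ψ' => (x ψ : ℝ) * (x ψ' : ℝ)
      with hS₁
    set S₂ : IrrCharacter C[y] → IrrCharacter C[y] → ℝ := fun ψ ψ' => (R2 ψ ψ' : ℝ) with hS₂
    have hsplit : ∀ ψ ψ', regMatR 2 e ψ ψ' = S₁ ψ ψ' + (2 : ℝ) * S₂ ψ ψ' := by
      intro ψ ψ'
      simp only [regMatR, hS₁, hS₂]
      rw [hR2eq ψ ψ']
      push_cast
      ring
    have hS₁symm : ∀ ψ ψ', S₁ ψ ψ' = S₁ ψ' ψ := fun ψ ψ' => mul_comm _ _
    have hS₂symm : ∀ ψ ψ', S₂ ψ ψ' = S₂ ψ' ψ := by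
      intro ψ ψ'
      simp only [hS₂]
      rw [hR2symm]
    have hS₂int : ∀ w : IrrCharacter C[y] → ℤ, qf S₂ (fun i => (w i : ℝ)) = 0 ∨
        (1 : ℝ) ≤ qf S₂ (fun i => (w i : ℝ)) := by
      intro w
      have h0 := hR2psd (fun i => (w i : ℝ))
      set z : ℤ := ∑ ψ : IrrCharacter C[y], ∑ ψ' : IrrCharacter C[y], R2 ψ ψ' * w ψ * w ψ'
        with hz
      have hzc : qf S₂ (fun i => (w i : ℝ)) = (z : ℝ) := by
        unfold qf bf
        rw [hz]
        push_cast
        rfl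
      rw [hzc] at h0 ⊢
      have h0' : (0 : ℤ) ≤ z := by exact_mod_cast h0
      rcases eq_or_lt_of_le h0' with h2 | h2
      · left; rw [← h2]; simp
      · right
        have : (1 : ℤ) ≤ z := by omega
        exact_mod_cast this
    -- the two parts of the contributions
    set xx : IrrCharacter G → ℕ → ℂ := fun χ k =>
      ∑ ψ : IrrCharacter C[y], ((x ψ : ℝ) : ℂ) * decVec y χ k ψ with hxx
    have hS₁herm : ∀ (χ χ' : IrrCharacter G) (k : ℕ),
        herm S₁ (decVec y χ k) (decVec y χ' k) = xx χ k * conj (xx χ' k) := by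
      intro χ χ' k
      exact herm_rank_one _ _ _
    have hr₂ : ∀ (χ : IrrCharacter G) (k : ℕ), ∃ r : ℝ, 0 ≤ r ∧
        herm S₂ (decVec y χ k) (decVec y χ k) = (r : ℂ) :=
      fun χ k => herm_self_eq_ofReal S₂ hS₂symm hR2psd _
    choose r₂ hr₂nn hr₂eq using hr₂
    set X : IrrCharacter G → ℝ := fun χ =>
      ∑ j : (ZMod (2 ^ m))ˣ, Complex.normSq (xx χ (j : ZMod (2 ^ m)).val) with hX'
    set Y : IrrCharacter G → ℝ := fun χ =>
      ∑ j : (ZMod (2 ^ m))ˣ, r₂ χ (j : ZMod (2 ^ m)).val with hY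
    have ha_split : ∀ (χ : IrrCharacter G) (j : (ZMod (2 ^ m))ˣ), a χ j =
        Complex.normSq (xx χ (j : ZMod (2 ^ m)).val) + (2 : ℝ) * r₂ χ (j : ZMod (2 ^ m)).val := by
      intro χ j
      have h1 := ha_herm χ j
      rw [herm_add_smul _ S₁ S₂ (2 : ℝ) hsplit, hS₁herm, hr₂eq, Complex.mul_conj] at h1
      exact_mod_cast h1.symm
    have hAXY : ∀ χ, A χ = X χ + (2 : ℝ) * Y χ := by
      intro χ
      simp only [hA, hX', hY]
      rw [Finset.mul_sum, ← Finset.sum_add_distrib]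
      exact Finset.sum_congr rfl fun j _ => ha_split χ j
    have hYlb : ∀ χ, Y χ = 0 ∨ φ ≤ Y χ := by
      intro χ
      obtain ⟨T, hT, hT2⟩ := galois_sum_lb y hp m hy S₂ hS₂symm hR2psd 1 hS₂int χ
      have hTY : Y χ = T := by
        have h1 : ∑ j : (ZMod (2 ^ m))ˣ, herm S₂ (decVec y χ (j : ZMod (2 ^ m)).val)
            (decVec y χ (j : ZMod (2 ^ m)).val) = ((Y χ : ℝ) : ℂ) := by
          rw [hY, Complex.ofReal_sum]
          exact Finset.sum_congr rfl fun j _ => hr₂eq χ _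
        rw [h1] at hT
        exact_mod_cast hT
      rw [hTY]
      rw [mul_one] at hT2
      exact hT2
    have hXnn : ∀ χ, 0 ≤ X χ := fun χ => Finset.sum_nonneg fun j _ => Complex.normSq_nonneg _
    have hYnn : ∀ χ, 0 ≤ Y χ := fun χ => Finset.sum_nonneg fun j _ => hr₂nn χ _
    by_cases hD : ∀ χ ∈ B, blockHeight 2 B (χ : G → ℂ) = 0 → Y χ ≠ 0
    · -- every member of height zero has a non-vanishing second part
      apply hpoint
      intro χ hχ h0
      have hYφ : φ ≤ Y χ := (hYlb χ).resolve_left (hD χ hχ h0)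
      rw [hAXY]
      linarith [hXnn χ]
    · push Not at hD
      obtain ⟨χ₁, hχ₁, h0₁, hY₁⟩ := hD
      have hBblock : IsPBlock M B := ⟨χ₀, rfl⟩
      -- Bessel's inequality
      set Λ : C[y] → ℂ := pRegularPart 2 (vecFun e (fun ψ => (w₀ ψ : ℂ))) with hΛ
      have hΛcf : IsClassFunction C[y] Λ := by
        apply pRegularPart_isClassFunction
        unfold vecFun
        exact isClassFunction_sum _ _ fun ψ _ => isClassFunction_smul _ (isClassFunction_irr ψ)
      have hΛsupp : ∀ c : C[y], 2 ∣ orderOf c → Λ c = 0 := fun c hc =>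
        pRegularPart_of_singular _ hc
      have hpdC : ((2 ^ blockDefect 2 e : ℕ) : ℂ) = (((2 : ℝ) ^ d : ℝ) : ℂ) := by
        rw [hdef]; push_cast; rfl
      have hΛnorm : (2 : ℝ) ^ d * (classInner Λ Λ).re = 1 := by
        have h1 := qf_regMatR 2 e (fun ψ => (w₀ ψ : ℝ))
        rw [qf_regMatR_int, hw₀] at h1
        have h2 : (fun ψ : IrrCharacter C[y] => (((w₀ ψ : ℝ)) : ℂ)) = fun ψ => (w₀ ψ : ℂ) := by
          funext ψ
          push_cast
          rfl
        rw [h2, ← hΛ, hpdC] at h1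
        have h3 := congrArg Complex.re h1
        rw [Complex.re_ofReal_mul] at h3
        rw [← h3]
        simp
      have hxxsec : ∀ (χ : IrrCharacter G) (k : ℕ), xx χ k = (((2 : ℝ) ^ d : ℝ) : ℂ) *
          classInner (fun c : C[y] => (χ : G → ℂ) (y ^ k * (c : G))) Λ := by
        intro χ k
        rw [← hpdC, hΛ, pow_mul_classInner_sec y hM e heblock w₀ χ k]
        simp only [hxx]
        refine Finset.sum_congr rfl fun ψ _ => ?_
        rw [← hx ψ]
        push_cast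
        rfl
      have hBessel : ∀ j : (ZMod (2 ^ m))ˣ, ∑ χ : IrrCharacter G,
          (if χ ∈ B then Complex.normSq (xx χ (j : ZMod (2 ^ m)).val) else 0) ≤ (2 : ℝ) ^ d := by
        intro j
        have h1 := sum_normSq_classInner_sec_le hp (hxj j) C[y] (hCj j) Λ hΛcf hΛsupp B
        have h2 : ∑ χ : IrrCharacter G,
            (if χ ∈ B then Complex.normSq (xx χ (j : ZMod (2 ^ m)).val) else 0) =
            ((2 : ℝ) ^ d) ^ 2 * ∑ χ : IrrCharacter G, (if χ ∈ B then Complex.normSq (classInner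
              (fun c : C[y] => (χ : G → ℂ) (y ^ (j : ZMod (2 ^ m)).val * (c : G))) Λ) else 0) := by
          rw [Finset.mul_sum]
          refine Finset.sum_congr rfl fun χ _ => ?_
          split_ifs
          · rw [hxxsec, Complex.normSq_mul, Complex.normSq_ofReal]
            ring
          · rw [mul_zero]
        rw [h2]
        have h3 : ((2 : ℝ) ^ d) ^ 2 * (classInner Λ Λ).re = (2 : ℝ) ^ d := by
          rw [pow_two, mul_assoc, hΛnorm, mul_one]
        exact (mul_le_mul_of_nonneg_left h1 (by positivity)).trans (le_of_eq h3)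
      have hXsum : ∑ χ : IrrCharacter G, (if χ ∈ B then X χ else 0) ≤ φ * (2 : ℝ) ^ d := by
        have h1 : ∑ χ : IrrCharacter G, (if χ ∈ B then X χ else 0) =
            ∑ j : (ZMod (2 ^ m))ˣ, ∑ χ : IrrCharacter G,
              (if χ ∈ B then Complex.normSq (xx χ (j : ZMod (2 ^ m)).val) else 0) := by
          rw [Finset.sum_comm]
          refine Finset.sum_congr rfl fun χ _ => ?_
          split_ifs
          · rfl
          · rw [Finset.sum_const_zero]
        rw [h1]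
        have h2 : ∑ j : (ZMod (2 ^ m))ˣ, ∑ χ : IrrCharacter G,
            (if χ ∈ B then Complex.normSq (xx χ (j : ZMod (2 ^ m)).val) else 0) ≤
            ∑ _j : (ZMod (2 ^ m))ˣ, (2 : ℝ) ^ d := Finset.sum_le_sum fun j _ => hBessel j
        rw [Finset.sum_const, Finset.card_univ, nsmul_eq_mul] at h2
        exact h2
      -- the second parts of `χ₁` vanish
      have hr0 : ∀ j : (ZMod (2 ^ m))ˣ, r₂ χ₁ (j : ZMod (2 ^ m)).val = 0 := by
        intro j
        have hY0' : ∑ j : (ZMod (2 ^ m))ˣ, r₂ χ₁ (j : ZMod (2 ^ m)).val = 0 := hY₁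
        exact (Finset.sum_eq_zero_iff_of_nonneg (fun (j : (ZMod (2 ^ m))ˣ) _ =>
          hr₂nn χ₁ (j : ZMod (2 ^ m)).val)).1 hY0' j (Finset.mem_univ _)
      have hprod : ∀ (χ : IrrCharacter G) (j : (ZMod (2 ^ m))ˣ),
          ((2 ^ d : ℕ) : ℂ) *
              contrib 2 e (y ^ (j : ZMod (2 ^ m)).val) (χ₁ : G → ℂ) (χ : G → ℂ) =
            xx χ₁ (j : ZMod (2 ^ m)).val * conj (xx χ (j : ZMod (2 ^ m)).val) := by
        intro χ j
        have hself : herm S₂ (decVec y χ₁ (j : ZMod (2 ^ m)).val)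
            (decVec y χ₁ (j : ZMod (2 ^ m)).val) = 0 := by
          rw [hr₂eq, hr0 j, Complex.ofReal_zero]
        have hcross : herm S₂ (decVec y χ₁ (j : ZMod (2 ^ m)).val)
            (decVec y χ (j : ZMod (2 ^ m)).val) = 0 :=
          herm_eq_zero_of_self_eq_zero S₂ hS₂symm hR2psd _ _ hself
        rw [← hdef, pow_mul_contrib_eq_herm, herm_add_smul _ S₁ S₂ (2 : ℝ) hsplit, hS₁herm,
          hcross, mul_zero, add_zero]
      -- integrality
      have hωint : ∀ ψ : IrrCharacter C[y], IsIntegral ℤ (cenOmega y ψ) := by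
        intro ψ
        apply IsIntegral.of_pow (orderOf_pos y)
        rw [cenOmega_pow_orderOf]
        exact isIntegral_one
      have hω : ∀ ψ : IrrCharacter C[y], cenOmega y ψ ^ (2 ^ m) = 1 := by
        intro ψ
        obtain ⟨r, hr⟩ := hord
        rw [hr, pow_mul, cenOmega_pow_orderOf, one_pow]
      have hxcast : ∀ ψ : IrrCharacter C[y], ((x ψ : ℝ) : ℂ) = ((x ψ : ℤ) : ℂ) := by
        intro ψ
        push_cast
        rfl
      have hxxR : ∀ (χ : IrrCharacter G) (k : ℕ), MemLocalRing M (xx χ k) := by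
        intro χ k
        simp only [hxx]
        apply memLocalRing_sum hMp
        intro ψ _
        unfold decVec
        rw [hxcast]
        exact memLocalRing_mul hMp (memLocalRing_intCast hMp _)
          (memLocalRing_mul hMp (memLocalRing_intCast hMp _)
            (memLocalRing_pow hMp (memLocalRing_of_isIntegral hMp (hωint ψ)) k))
      have hxxcR : ∀ (χ : IrrCharacter G) (k : ℕ), MemLocalRing M (conj (xx χ k)) := by
        intro χ k
        simp only [hxx]
        rw [map_sum]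
        apply memLocalRing_sum hMp
        intro ψ _
        unfold decVec
        rw [map_mul, map_mul, map_pow, Complex.conj_ofReal, map_intCast, hxcast]
        have hcint : IsIntegral ℤ (conj (cenOmega y ψ)) := by
          apply IsIntegral.of_pow (orderOf_pos y)
          rw [← map_pow, cenOmega_pow_orderOf, map_one]
          exact isIntegral_one
        exact memLocalRing_mul hMp (memLocalRing_intCast hMp _)
          (memLocalRing_mul hMp (memLocalRing_intCast hMp _)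
            (memLocalRing_pow hMp (memLocalRing_of_isIntegral hMp hcint) k))
      have hpdc : ((2 ^ d : ℕ) : ℂ) ≠ 0 := Nat.cast_ne_zero.2 (pow_ne_zero _ hp.ne_zero)
      have hcardc : (Nat.card G : ℂ) ≠ 0 := Nat.cast_ne_zero.2 Nat.card_pos.ne'
      -- the first coordinates of `χ₁` are units
      have hunit : ∀ j : (ZMod (2 ^ m))ˣ, ¬ MemLocalIdeal M (xx χ₁ (j : ZMod (2 ^ m)).val) := by
        intro j hmem
        have hV := not_memLocalIdeal_card_mul_contrib_div' hM (hxj j) C[y] (hCj j) ψ₀ χ₀ hind hdef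
          χ₁ χ₁ hχ₁ h0₁ hχ₁
        apply hV
        have hu := memLocalRing_card_div_degree hM hBblock hχ₁ h0₁
        have h1 := memLocalIdeal_mul_right hMp
          (memLocalIdeal_mul_right hMp hmem (hxxcR χ₁ (j : ZMod (2 ^ m)).val)) hu
        rw [← hprod χ₁ j] at h1
        convert h1 using 1
        rw [Nat.cast_mul, IsCharacter.charDegree_cast (IrrCharacter_isCharacter χ₁)]
        have h1ne : (χ₁ : G → ℂ) 1 ≠ 0 := IsIrrCharacter.apply_one_ne_zero χ₁.2
        field_simp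
        exact mul_comm _ _
      have hcdiv : ∀ χ ∈ B, ∀ j : (ZMod (2 ^ m))ˣ, MemLocalRing M
          (conj (xx χ (j : ZMod (2 ^ m)).val) /
            ((2 ^ blockHeight 2 B (χ : G → ℂ) : ℕ) : ℂ)) := by
        intro χ hχ j
        have hV := memLocalRing_card_mul_contrib_div' hM (hxj j) C[y] (hCj j) ψ₀ χ₁ χ
        have hρ := memLocalRing_degree_mul_pow_div hM hBblock hχ
        have huinv := memLocalRing_inv (hxxR χ₁ (j : ZMod (2 ^ m)).val) (hunit j)
        have h1 := memLocalRing_mul hMp huinv (memLocalRing_mul hMp hV hρ)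
        convert h1 using 1
        have hu0 : xx χ₁ (j : ZMod (2 ^ m)).val ≠ 0 := fun h0 =>
          hunit j (h0 ▸ memLocalIdeal_zero hMp)
        have h1ne : (χ : G → ℂ) 1 ≠ 0 := IsIrrCharacter.apply_one_ne_zero χ.2
        have hcon : contrib 2 (blockOf M (ψ₀ : C[y] → ℂ)) (y ^ (j : ZMod (2 ^ m)).val)
            (χ₁ : G → ℂ) (χ : G → ℂ) =
            xx χ₁ (j : ZMod (2 ^ m)).val * conj (xx χ (j : ZMod (2 ^ m)).val) /
              ((2 ^ d : ℕ) : ℂ) := by
          rw [← hprod χ j]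
          field_simp
          rfl
        rw [hcon, Nat.cast_mul, Nat.cast_mul,
          IsCharacter.charDegree_cast (IrrCharacter_isCharacter χ)]
        have hphc : ((2 ^ blockHeight 2 B (χ : G → ℂ) : ℕ) : ℂ) ≠ 0 :=
          Nat.cast_ne_zero.2 (pow_ne_zero _ hp.ne_zero)
        field_simp
        rfl
      have hxxneg : ∀ (χ : IrrCharacter G) (j : (ZMod (2 ^ m))ˣ),
          xx χ ((-j : (ZMod (2 ^ m))ˣ) : ZMod (2 ^ m)).val =
            conj (xx χ (j : ZMod (2 ^ m)).val) := by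
        intro χ j
        simp only [hxx]
        rw [map_sum]
        refine Finset.sum_congr rfl fun ψ _ => ?_
        unfold decVec
        rw [map_mul, map_mul, Complex.conj_ofReal, map_intCast, pow_neg_unit_val (hω ψ) j]
      have hdiv : ∀ χ ∈ B, ∀ j : (ZMod (2 ^ m))ˣ, MemLocalRing M
          (xx χ (j : ZMod (2 ^ m)).val / ((2 ^ blockHeight 2 B (χ : G → ℂ) : ℕ) : ℂ)) := by
        intro χ hχ j
        have := hcdiv χ hχ (-j)
        rwa [hxxneg, Complex.conj_conj] at this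
      -- the lower bound for the first parts
      have hXlb2 : ∀ χ ∈ B, φ * (2 : ℝ) ^ (2 * blockHeight 2 B (χ : G → ℂ)) ≤ X χ := by
        intro χ hχ
        set h := blockHeight 2 B (χ : G → ℂ) with hh
        set c' : IrrCharacter C[y] × IrrCharacter C[y] → ℤ :=
          fun i => x i.1 * mult y χ i.1 * (x i.2 * mult y χ i.2) with hc'
        have hc'val : ∀ k : ℕ, ∑ i, ((c' i : ℤ) : ℂ) * cenMu y i ^ k =
            xx χ k * conj (xx χ k) := by
          intro k
          simp only [hxx]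
          rw [map_sum, Finset.sum_mul_sum, Fintype.sum_prod_type]
          refine Finset.sum_congr rfl fun ψ _ => Finset.sum_congr rfl fun ψ' _ => ?_
          unfold decVec cenMu
          simp only [hc']
          rw [map_mul, map_mul, map_pow, Complex.conj_ofReal, map_intCast, mul_pow]
          push_cast
          ring
        have hne : ∀ j : (ZMod (2 ^ m))ˣ, xx χ (j : ZMod (2 ^ m)).val ≠ 0 := by
          intro j h0
          have h1 := hprod χ j
          rw [h0, map_zero, mul_zero] at h1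
          have hne := contrib_ne_zero_of_height_zero hM (hxj j) C[y] (hCj j) ψ₀ χ₀ hind hdef
            χ₁ χ hχ₁ h0₁ hχ
          rcases mul_eq_zero.1 h1 with h | h
          · exact hpdc h
          · exact hne h
        have hmain := card_units_mul_pow_le_sum_re hM (2 ^ m) c' (cenMu y) hμ (2 * h)
          (fun j => by
            rw [hc'val]
            exact mul_ne_zero (hne j) ((map_ne_zero _).2 (hne j)))
          (fun j => ⟨Complex.normSq (xx χ (j : ZMod (2 ^ m)).val), Complex.normSq_nonneg _, by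
            rw [hc'val, Complex.mul_conj]⟩)
          (fun j => by
            rw [hc'val]
            have h1 := memLocalRing_mul hMp (hdiv χ hχ j) (hcdiv χ hχ j)
            convert h1 using 1
            rw [two_mul, pow_add]
            push_cast
            field_simp
            rfl)
        simp_rw [hc'val, Complex.mul_conj, Complex.ofReal_re] at hmain
        have hmain' : φ * (2 : ℝ) ^ (2 * h) ≤ X χ := by
          convert hmain using 2
          push_cast
          rfl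
        exact hmain'
      -- conclusion
      have h3 : φ * ∑ χ ∈ s, (2 : ℝ) ^ (2 * blockHeight 2 B (χ : G → ℂ)) ≤ φ * (2 : ℝ) ^ d := by
        calc φ * ∑ χ ∈ s, (2 : ℝ) ^ (2 * blockHeight 2 B (χ : G → ℂ))
            = ∑ χ ∈ s, φ * (2 : ℝ) ^ (2 * blockHeight 2 B (χ : G → ℂ)) := Finset.mul_sum _ _ _
          _ ≤ ∑ χ ∈ s, X χ := Finset.sum_le_sum fun χ hχ => hXlb2 χ (hs χ hχ)
          _ ≤ ∑ χ : IrrCharacter G, (if χ ∈ B then X χ else 0) := hsB X fun χ _ => hXnn χ
          _ ≤ φ * (2 : ℝ) ^ d := hXsum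
      have h4 := le_of_mul_le_mul_left h3 hφpos
      calc ∑ χ ∈ s, wt (blockHeight 2 B (χ : G → ℂ))
          ≤ ∑ χ ∈ s, 3 * (2 : ℝ) ^ (2 * blockHeight 2 B (χ : G → ℂ)) :=
            Finset.sum_le_sum fun χ _ => wt_le_three_mul _
        _ = 3 * ∑ χ ∈ s, (2 : ℝ) ^ (2 * blockHeight 2 B (χ : G → ℂ)) :=
            (Finset.mul_sum _ _ _).symm
        _ ≤ 3 * (2 : ℝ) ^ d := by linarith

end Main


end Cfsg.Agent.Lib.Helper85.MajorThree
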