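import Mathlib
import Cfsg.Agent.Lib.Helper22.NseDefs

set_option autoImplicit false

/-!
# Keystone K-NSE-C6b (pack for S3431): prime-power information for `nse(A_6) = {1, 45, 80, 90, 144}`
-/

namespace Cfsg.Agent.Lib.Helper85.Nse

open Cfsg.Agent.Lib.Helper22.Nse

/-- Frobenius at a prime power `p ^ 2` (three divisors), as a plain sum. -/
theorem frob3_h85 {N : ℕ} {S : ℕ → ℕ} {V : Finset ℕ} (H : NseHyp N S V) (m a : ℕ)
    (hd : Nat.divisors m = {1, a, m}) (h1a : (1 : ℕ) ∉ ({a, m} : Finset ℕ)) (ham : a ∉ ({m} : Finset ℕ))
    (hm : m ∣ N) : m ∣ S 1 + S a + S m := by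
  have h := H.frob m hm
  rwa [hd, Finset.sum_insert h1a, Finset.sum_insert ham, Finset.sum_singleton, ← add_assoc] at h

theorem a6_parts {N : ℕ} {S : ℕ → ℕ} (H : NseHyp N S {1, 45, 80, 90, 144}) (hs : SylowHyp N S) (B : A6Basic N S) :
    A6Parts N S := by
  have h1 : S 1 = 1 := H.one
  have h2 : S 2 = 45 := B.two
  -- four
  have hfour : 4 ∣ N → S 4 = 90 := by
    intro h4
    have h := frob3_h85 H 4 2 (by decide) (by decide) (by decide) h4
    rcases B.val 4 (by norm_num) with h' | h' | h' | h' <;> omega
  -- the 3-part
  have hnine : 27 ∣ N → S 9 = 0 ∧ S 27 = 0 := by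
    intro h27
    have h3 : S 3 = 80 := B.three (Dvd.dvd.trans (by norm_num) h27)
    have h := H.frob 27 h27
    rw [show Nat.divisors 27 = {1, 3, 9, 27} from by decide, Finset.sum_insert (by decide),
      Finset.sum_insert (by decide), Finset.sum_insert (by decide), Finset.sum_singleton] at h
    have p9 : 6 ∣ S 9 := by
      have := H.phi 9
      rwa [show Nat.totient 9 = 6 from by decide] at this
    have p27 : 18 ∣ S 27 := by
      have := H.phi 27
      rwa [show Nat.totient 27 = 18 from by decide] at this
    rcases B.val 9 (by norm_num) with h9 | h9 | h9 | h9 <;>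
      rcases B.val 27 (by norm_num) with h27' | h27' | h27' | h27' <;> omega
  refine ⟨?_, ?_, hfour, ?_, fun h => (hnine h).1, ?_⟩
  · -- not7
    intro h7
    have hS7 : S 7 = 90 := B.seven h7
    have h49 : ¬ 49 ∣ N := by
      intro h49
      have h := frob3_h85 H 49 7 (by decide) (by decide) (by decide) h49
      have p49 : 42 ∣ S 49 := by
        have := H.phi 49
        rwa [show Nat.totient 49 = 42 from by decide] at this
      rcases B.val 49 (by norm_num) with h' | h' | h' | h' <;> omega
    obtain ⟨n, hn1, hn2, hn3⟩ := hs 7 1 (by norm_num) (by norm_num) (by simpa using h7)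
      (by simpa using h49) (by rw [pow_one, hS7]; norm_num)
    rw [pow_one, hS7, show Nat.totient 7 = 6 from by decide] at hn1
    have hn : n = 15 := by omega
    have h5 : 5 ∣ N := Dvd.dvd.trans (by rw [hn]; norm_num) hn3
    have hS5 : S 5 = 144 := B.five h5
    have h35 : 35 ∣ N := Nat.Coprime.mul_dvd_of_dvd_of_dvd (by norm_num) h5 h7
    have h := H.frob 35 h35
    rw [show Nat.divisors 35 = {1, 5, 7, 35} from by decide, Finset.sum_insert (by decide),
      Finset.sum_insert (by decide), Finset.sum_insert (by decide), Finset.sum_singleton] at h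
    have p35 : 24 ∣ S 35 := by
      have := H.phi 35
      rwa [show Nat.totient 35 = 24 from by decide] at this
    rcases B.val 35 (by norm_num) with h' | h' | h' | h' <;> omega
  · -- not16
    intro h16
    have hS4 : S 4 = 90 := hfour (Dvd.dvd.trans (by norm_num) h16)
    have h := H.frob 16 h16
    rw [show Nat.divisors 16 = {1, 2, 4, 8, 16} from by decide, Finset.sum_insert (by decide),
      Finset.sum_insert (by decide), Finset.sum_insert (by decide), Finset.sum_insert (by decide),
      Finset.sum_singleton] at h
    have p8 : 4 ∣ S 8 := by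
      have := H.phi 8
      rwa [show Nat.totient 8 = 4 from by decide] at this
    have p16 : 8 ∣ S 16 := by
      have := H.phi 16
      rwa [show Nat.totient 16 = 8 from by decide] at this
    rcases B.val 8 (by norm_num) with h8 | h8 | h8 | h8 <;>
      rcases B.val 16 (by norm_num) with h16' | h16' | h16' | h16' <;> omega
  · -- not243
    intro h243
    have h27 : 27 ∣ N := Dvd.dvd.trans (by norm_num) h243
    obtain ⟨h9, h27'⟩ := hnine h27
    have h3 : S 3 = 80 := B.three (Dvd.dvd.trans (by norm_num) h27)
    have h81 : S 81 = 0 := by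
      by_contra hne
      exact H.closed 81 9 hne (by norm_num) h9
    have h243' : S 243 = 0 := by
      by_contra hne
      exact H.closed 243 9 hne (by norm_num) h9
    have h := H.frob 243 h243
    rw [show Nat.divisors 243 = {1, 3, 9, 27, 81, 243} from by decide, Finset.sum_insert (by decide),
      Finset.sum_insert (by decide), Finset.sum_insert (by decide), Finset.sum_insert (by decide),
      Finset.sum_insert (by decide), Finset.sum_singleton] at h
    omega
  · -- not25
    intro h25
    have h5 : 5 ∣ N := Dvd.dvd.trans (by norm_num) h25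
    have hS5 : S 5 = 144 := B.five h5
    have h := frob3_h85 H 25 5 (by decide) (by decide) (by decide) h25
    have p25 : 20 ∣ S 25 := by
      have := H.phi 25
      rwa [show Nat.totient 25 = 20 from by decide] at this
    have hS25 : S 25 = 80 := by
      rcases B.val 25 (by norm_num) with h' | h' | h' | h' <;> omega
    have h125 : ¬ 125 ∣ N := by
      intro h125
      have h := H.frob 125 h125
      rw [show Nat.divisors 125 = {1, 5, 25, 125} from by decide, Finset.sum_insert (by decide),
        Finset.sum_insert (by decide), Finset.sum_insert (by decide), Finset.sum_singleton] at h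
      have p125 : 100 ∣ S 125 := by
        have := H.phi 125
        rwa [show Nat.totient 125 = 100 from by decide] at this
      rcases B.val 125 (by norm_num) with h' | h' | h' | h' <;> omega
    obtain ⟨n, hn1, hn2, hn3⟩ := hs 5 2 (by norm_num) (by norm_num) (by simpa using h25)
      (by simpa using h125) (by rw [show (5 : ℕ) ^ 2 = 25 from by norm_num, hS25]; norm_num)
    rw [show (5 : ℕ) ^ 2 = 25 from by norm_num, hS25, show Nat.totient 25 = 20 from by decide] at hn1
    omega

end Cfsg.Agent.Lib.Helper85.Nse
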