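import Cfsg.Agent.Lib.Helper49.OElDefs
import Cfsg.Agent.Lib.Helper50.SumForm
import Cfsg.Agent.Lib.Helper50.GeoBridge
import Cfsg.Agent.Lib.Helper50.OmegaAdjust
import Cfsg.Agent.Lib.Helper50.PlusForm
import Cfsg.Agent.Lib.Helper50.MinusLang
import Cfsg.Agent.Lib.Helper13.OPb15
import Cfsg.Agent.Lib.Helper08.OOddMaxGlue
import Cfsg.Agent.Lib.Helper08.OhPI3
import Cfsg.Agent.Lib.Helper90.OhPI4
import Cfsg.Agent.Lib.Helper32.OMbHub
import Cfsg.Agent.Lib.Helper64.OElBRM
import Cfsg.Agent.Lib.Helper96.OElE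

/-!
# K-OEl-TM (keystone 598824, pack K-OEl of helper49, rows S5988 / S5990): the case `r = 2`, `p` odd, of S5990

`case_two_ellM`: for `q` odd, every non-scalar `x ∈ Ω⁻_(2d)(q)` with `x²` scalar fixes an elliptic `m`-space
(`m` even, `2 ≤ m ≤ 2 d - 2`) iff `d` is even or `q % 8 ≠ 7` or `m % 4 = 2`.
Uses LEAF E (helper96), BRM (helper64), K-OMb 599102 / 599103 / 599104, K-OhP I3 / I4.
-/

set_option autoImplicit false
set_option linter.unusedSectionVars false
set_option linter.unusedVariables false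

namespace Cfsg.Agent.Lib.Helper85.OEl

open Module Cfsg.Agent.Lib.Helper98.Elus Cfsg.Agent.Lib.Helper98.Sy Cfsg.Agent.Lib.Helper38.OhP
  Cfsg.Agent.Lib.Helper49.OEl

universe u
variable {F : Type u} [Field F] {V : Type u} [AddCommGroup V] [Module F V]

local notation "IM(" d ")" => ((Fin (d - 1) ⊕ Fin (d - 1)) ⊕ Fin 2)

/-- determinant of a map acting as `1` on `Vp` and as `-1` on a complement `Vm` (copy of `Helper82.UTi.det_invol`) -/
theorem oeltm_det_invol {V : Type*} [AddCommGroup V] [Module F V] [FiniteDimensional F V]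
    (f : V →ₗ[F] V) (Vp Vm : Submodule F V) (hc : IsCompl Vp Vm)
    (hp : ∀ v ∈ Vp, f v = v) (hm : ∀ v ∈ Vm, f v = -v) :
    LinearMap.det f = (-1) ^ (Module.finrank F Vm) := by
  classical
  let bp := Module.finBasis F Vp
  let bm := Module.finBasis F Vm
  let b := (bp.prod bm).map (Submodule.prodEquivOfIsCompl Vp Vm hc)
  have hbl : ∀ i, b (Sum.inl i) = (bp i : V) := by
    intro i
    simp [b, Module.Basis.map_apply, Module.Basis.prod_apply, Submodule.coe_prodEquivOfIsCompl']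
  have hbr : ∀ j, b (Sum.inr j) = (bm j : V) := by
    intro j
    simp [b, Module.Basis.map_apply, Module.Basis.prod_apply, Submodule.coe_prodEquivOfIsCompl']
  have hmat : LinearMap.toMatrix b b f =
      Matrix.diagonal (Sum.elim (fun _ => (1 : F)) (fun _ => (-1 : F))) := by
    ext i j
    rw [LinearMap.toMatrix_apply, Matrix.diagonal_apply]
    rcases j with j | j
    · rw [hbl, hp _ (bp j).2, ← hbl, Module.Basis.repr_self, Finsupp.single_apply]
      by_cases h : i = Sum.inl j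
      · subst h; simp
      · rw [if_neg h, if_neg (Ne.symm h)]
    · rw [hbr, hm _ (bm j).2, ← hbr, map_neg, Module.Basis.repr_self, Finsupp.neg_apply,
        Finsupp.single_apply]
      by_cases h : i = Sum.inr j
      · subst h; simp
      · rw [if_neg h, if_neg (Ne.symm h), neg_zero]
  rw [← LinearMap.det_toMatrix b, hmat, Matrix.det_diagonal, Fintype.prod_sum_type]
  simp

/-- an involution of determinant one (`2 ≠ 0`) has an even-dimensional `-1`-eigenspace -/
theorem oeltm_even_ker [FiniteDimensional F V] (h2 : (2 : F) ≠ 0) (g : V →ₗ[F] V) (hg : g * g = 1)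
    (hdet : LinearMap.det g = 1) : Even (finrank F (LinearMap.ker (g + 1))) := by
  have hgg : ∀ v, g (g v) = v := fun v => by
    have := congrArg (fun f : V →ₗ[F] V => f v) hg
    simpa using this
  have hc : IsCompl (LinearMap.ker (g - 1)) (LinearMap.ker (g + 1)) := by
    constructor
    · rw [disjoint_iff, eq_bot_iff]
      rintro v ⟨h1, h2'⟩
      have h1' : g v - v = 0 := by simpa using h1
      have h2'' : g v + v = 0 := by simpa using h2'
      have h3 : (2 : F) • v = 0 := by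
        rw [two_smul]
        have : v + v = (g v + v) - (g v - v) := by abel
        rw [this, h1', h2'', sub_zero]
      rcases smul_eq_zero.mp h3 with h | h
      · exact absurd h h2
      · rw [Submodule.mem_bot]; exact h
    · rw [codisjoint_iff, eq_top_iff]
      intro v _
      have hv : v = (2 : F)⁻¹ • (v + g v) + (2 : F)⁻¹ • (v - g v) := by
        rw [← smul_add]
        have : v + g v + (v - g v) = (2 : F) • v := by rw [two_smul]; abel
        rw [this, smul_smul, inv_mul_cancel₀ h2, one_smul]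
      rw [hv]
      refine Submodule.add_mem_sup (Submodule.smul_mem _ _ ?_) (Submodule.smul_mem _ _ ?_)
      · rw [LinearMap.mem_ker]
        simp only [LinearMap.sub_apply, Module.End.one_apply, map_add, hgg]
        abel
      · rw [LinearMap.mem_ker]
        simp only [LinearMap.add_apply, Module.End.one_apply, map_sub, hgg]
        abel
  have hd := oeltm_det_invol g _ _ hc
    (fun v hv => by
      have : g v - v = 0 := by simpa using hv
      exact sub_eq_zero.mp this)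
    (fun v hv => by
      have : g v + v = 0 := by simpa using hv
      exact eq_neg_of_add_eq_zero_left this)
  rw [hdet] at hd
  by_contra hodd
  rw [Nat.not_even_iff_odd] at hodd
  rw [hodd.neg_one_pow] at hd
  apply h2
  have : (2 : F) = 1 + 1 := by norm_num
  rw [this]
  nth_rw 1 [hd]
  exact neg_add_cancel 1

theorem oeltm_toLin_sq_one {ι : Type} [Fintype ι] [DecidableEq ι] (x : GL ι F)
    (h : (x : Matrix ι ι F) * (x : Matrix ι ι F) = 1) :
    Matrix.toLin' (x : Matrix ι ι F) * Matrix.toLin' (x : Matrix ι ι F) = 1 := by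
  rw [Module.End.mul_eq_comp, ← Matrix.toLin'_mul, h, Matrix.toLin'_one]
  rfl

theorem oeltm_toLin_sq_neg {ι : Type} [Fintype ι] [DecidableEq ι] (x : GL ι F)
    (h : (x : Matrix ι ι F) * (x : Matrix ι ι F) = -1) :
    Matrix.toLin' (x : Matrix ι ι F) * Matrix.toLin' (x : Matrix ι ι F) = -1 := by
  rw [Module.End.mul_eq_comp, ← Matrix.toLin'_mul, h, map_neg, Matrix.toLin'_one]
  rfl

/-- CASE LEAF TM (598824). -/
theorem case_two_ellM [Fintype F] {p : ℕ} [Fact p.Prime] [CharP F p] (hp2 : p ≠ 2) (d m : ℕ) (hd : 4 ≤ d)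
    (hm : 2 ≤ m) (hme : Even m) (hmn : m + 2 ≤ 2 * d) (a b : F)
    (hab : ∀ x y : F, x ^ 2 + a * x * y + b * y ^ 2 = 0 → x = 0 ∧ y = 0) :
    (∀ x : GL ((Fin (d - 1) ⊕ Fin (d - 1)) ⊕ Fin 2) F, x ∈ Cfsg.Geo.omegaGL (Cfsg.quadFormMinus (d - 1) F a b) →
      (∃ z : F, ((x ^ 2 : GL ((Fin (d - 1) ⊕ Fin (d - 1)) ⊕ Fin 2) F) : Matrix ((Fin (d - 1) ⊕ Fin (d - 1)) ⊕ Fin 2) ((Fin (d - 1) ⊕ Fin (d - 1)) ⊕ Fin 2) F) =
        z • (1 : Matrix ((Fin (d - 1) ⊕ Fin (d - 1)) ⊕ Fin 2) ((Fin (d - 1) ⊕ Fin (d - 1)) ⊕ Fin 2) F)) →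
      (∀ z : F, (x : Matrix ((Fin (d - 1) ⊕ Fin (d - 1)) ⊕ Fin 2) ((Fin (d - 1) ⊕ Fin (d - 1)) ⊕ Fin 2) F) ≠
        z • (1 : Matrix ((Fin (d - 1) ⊕ Fin (d - 1)) ⊕ Fin 2) ((Fin (d - 1) ⊕ Fin (d - 1)) ⊕ Fin 2) F)) →
      ∃ W : Submodule F ((Fin (d - 1) ⊕ Fin (d - 1)) ⊕ Fin 2 → F), IsEllM d a b m W ∧
        W.map (Matrix.toLin' (x : Matrix ((Fin (d - 1) ⊕ Fin (d - 1)) ⊕ Fin 2) ((Fin (d - 1) ⊕ Fin (d - 1)) ⊕ Fin 2) F)) ≤ W) ↔
    (Even d ∨ Fintype.card F % 8 ≠ 7 ∨ m % 4 = 2) := by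
  classical
  obtain ⟨n, hpP, hcard⟩ := FiniteField.card F p
  have hodd : Odd (Fintype.card F) := by
    rw [hcard]
    exact (hpP.odd_of_ne_two hp2).pow
  have h2 : (2 : F) ≠ 0 := Cfsg.Agent.Lib.Helper50.two_ne_zero_of_odd_card rfl hodd
  have h11 : (1 : F) ≠ -1 := by
    intro h
    apply h2
    have : (2 : F) = 1 + 1 := by norm_num
    rw [this]
    nth_rw 1 [h]
    exact neg_add_cancel 1
  have hV : NonDeg (pB (QM d F a b)) ⊤ := Cfsg.Agent.Lib.Helper64.OEl.nonDeg_QM d a b hab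
  have hQne : ∃ v, QM d F a b v ≠ 0 := Cfsg.Agent.Lib.Helper64.OEl.exists_QM_ne_zero d a b
  have hfr : finrank F (IM(d) → F) = 2 * d := Cfsg.Agent.Lib.Helper64.OEl.finrank_QM d (by omega)
  have hI : ∀ x : GL IM(d) F, x ∈ Cfsg.Geo.omegaGL (Cfsg.quadFormMinus (d - 1) F a b) →
      x ∈ Cfsg.isometryGroup F (⇑(QM d F a b)) := by
    intro x hx
    obtain ⟨h, -⟩ := (Cfsg.Agent.Lib.Helper50.mem_omegaGL_iff _ x).mp hx
    exact h
  have hsq : ∀ x : GL IM(d) F, ((x ^ 2 : GL IM(d) F) : Matrix IM(d) IM(d) F) =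
      (x : Matrix IM(d) IM(d) F) * (x : Matrix IM(d) IM(d) F) := by
    intro x
    rw [pow_two, Units.val_mul]
  -- the case `x * x = -1`: type of the invariant nondegenerate subspaces
  have hneg : ∀ x : GL IM(d) F, x ∈ Cfsg.Geo.omegaGL (Cfsg.quadFormMinus (d - 1) F a b) →
      (x : Matrix IM(d) IM(d) F) * (x : Matrix IM(d) IM(d) F) = -1 →
      Fintype.card F % 4 = 3 →
      ∀ W : Submodule F (IM(d) → F), Inv (Matrix.toLin' (x : Matrix IM(d) IM(d) F)) W →
        NonDeg (pB (QM d F a b)) W → (PlusQ (QM d F a b) W ↔ 4 ∣ finrank F W) := by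
    intro x hxΩ hxx hq4 W hW hWnd
    have hm1 : ¬ IsSquare (-1 : F) := by
      rw [FiniteField.isSquare_neg_one_iff]
      omega
    exact Cfsg.Agent.Lib.Helper90.OhP.plusQ_iff_of_sq_neg_one h2 hm1 (QM d F a b) hV
      (Matrix.toLin' (x : Matrix IM(d) IM(d) F)) (oeltm_toLin_sq_neg x hxx)
      (Cfsg.Agent.Lib.Helper64.OEl.qiso_of_mem_omegaGL_minus d a b x hxΩ) W hW hWnd
  constructor
  · intro H
    by_contra hcon
    have hdodd : Odd d := by
      by_contra he
      exact hcon (Or.inl (Nat.not_odd_iff_even.mp he))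
    have h8 : Fintype.card F % 8 = 7 := by
      by_contra h8
      exact hcon (Or.inr (Or.inl h8))
    have hm4 : m % 4 ≠ 2 := fun h => hcon (Or.inr (Or.inr h))
    obtain ⟨x, hxΩ, hxx⟩ := Cfsg.Agent.Lib.Helper32.OMbHub.exists_sq_neg_one_minus h8 d hdodd a b hab
    have hxI := hI x hxΩ
    have hxx' : (x : Matrix IM(d) IM(d) F) * (x : Matrix IM(d) IM(d) F) =
        (-1 : F) • (1 : Matrix IM(d) IM(d) F) := by
      rw [hxx, neg_smul, one_smul]
    obtain ⟨W, hWell, hWinv⟩ := H x hxΩ ⟨-1, by rw [hsq, hxx']⟩ (by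
      intro z hz
      rcases Cfsg.Agent.Lib.Helper13.OPb.scalar_eq_of_mem (QM d F a b) hQne x hxI z hz with h | h
      · rw [hz, h, one_smul, one_mul] at hxx
        have := congrFun (congrFun hxx (Sum.inr 0)) (Sum.inr 0)
        rw [Matrix.one_apply_eq, Matrix.neg_apply, Matrix.one_apply_eq] at this
        exact h11 this
      · rw [hz, h, neg_smul, one_smul, neg_mul_neg, one_mul] at hxx
        have := congrFun (congrFun hxx (Sum.inr 0)) (Sum.inr 0)
        rw [Matrix.one_apply_eq, Matrix.neg_apply, Matrix.one_apply_eq] at this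
        exact h11 this)
    obtain ⟨hWd, hWnd, hWnp⟩ := (Cfsg.Agent.Lib.Helper64.OEl.isEllM_iff d a b m W).mp hWell
    have hWi : Inv (Matrix.toLin' (x : Matrix IM(d) IM(d) F)) W :=
      (Cfsg.Agent.Lib.Helper64.OEl.map_le_iff_inv_gen _ W).mp hWinv
    apply hWnp
    rw [hneg x hxΩ hxx (by omega) W hWi hWnd, hWd]
    obtain ⟨k, hk⟩ := hme
    omega
  · intro hcase x hxΩ hz hxns
    obtain ⟨z, hz⟩ := hz
    have hxI := hI x hxΩ
    have hqi := Cfsg.Agent.Lib.Helper64.OEl.qiso_of_mem_omegaGL_minus d a b x hxΩ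
    rw [hsq] at hz
    have hz' : ((x ^ 2 : GL IM(d) F) : Matrix IM(d) IM(d) F) =
        z • (1 : Matrix IM(d) IM(d) F) := by rw [hsq, hz]
    rcases Cfsg.Agent.Lib.Helper13.OPb.scalar_eq_of_mem (QM d F a b) hQne (x ^ 2)
      (Subgroup.pow_mem _ hxI 2) z hz' with h | h
    · -- an involution
      have hlin : Matrix.toLin' (x : Matrix IM(d) IM(d) F) *
          Matrix.toLin' (x : Matrix IM(d) IM(d) F) = 1 := by
        apply oeltm_toLin_sq_one x
        rw [hz, h, one_smul]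
      have hdet : LinearMap.det (Matrix.toLin' (x : Matrix IM(d) IM(d) F)) = 1 := by
        rw [LinearMap.det_toLin']
        exact Cfsg.Agent.Lib.Helper08.OOddMax.det_eq_one_of_mem_omegaGL _ x hxΩ
      have hev := oeltm_even_ker h2 _ hlin hdet
      obtain ⟨W, hWi, hWnd, hWd, hWnp⟩ := Cfsg.Agent.Lib.Helper96.OEl.exists_fixed_invol_ell h2
        (QM d F a b) hV _ hlin hqi hev d hd hfr m hme hm hmn
      exact ⟨W, (Cfsg.Agent.Lib.Helper64.OEl.isEllM_iff d a b m W).mpr ⟨hWd, hWnd, hWnp⟩,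
        (Cfsg.Agent.Lib.Helper64.OEl.map_le_iff_inv_gen _ W).mpr hWi⟩
    · -- square `-1`
      have hxx : (x : Matrix IM(d) IM(d) F) * (x : Matrix IM(d) IM(d) F) = -1 := by
        rw [hz, h, neg_smul, one_smul]
      obtain ⟨hdodd, hq4⟩ := Cfsg.Agent.Lib.Helper01.OMb.odd_and_mod_four_of_sq_neg_one_minus hodd d
        (by omega) a b hab x hxΩ hxx
      obtain ⟨hxI', hxC⟩ := (Cfsg.Agent.Lib.Helper50.mem_omegaGL_iff _ x).mp hxΩ
      have hs2 : IsSquare (2 : F) := Cfsg.Agent.Lib.Helper62.OMb.isSquare_two_of_sq_neg_one h2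
        (Cfsg.Agent.Lib.Helper50.QMinus (d - 1) F a b)
        (Cfsg.Agent.Lib.Helper50.QMinus_nondeg_of_anis (d - 1) a b hab) d hdodd
        (by rw [Cfsg.Agent.Lib.Helper50.card_minus_index]; omega) ⟨x, hxI'⟩ hxC hxx
      rw [FiniteField.isSquare_two_iff] at hs2
      have hm4 : m % 4 = 2 := by
        rcases hcase with he | h8 | h4
        · exact absurd he (Nat.not_even_iff_odd.mpr hdodd)
        · omega
        · exact h4
      have hlin : Matrix.toLin' (x : Matrix IM(d) IM(d) F) *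
          Matrix.toLin' (x : Matrix IM(d) IM(d) F) = -1 := oeltm_toLin_sq_neg x hxx
      obtain ⟨W, hWi, hWnd, hWd⟩ := Cfsg.Agent.Lib.Helper08.OhP.exists_nonDeg_inv_sq_neg_one h2
        (QM d F a b) hV _ hlin hqi m hme (by rw [hfr]; omega)
      refine ⟨W, (Cfsg.Agent.Lib.Helper64.OEl.isEllM_iff d a b m W).mpr ⟨hWd, hWnd, ?_⟩,
        (Cfsg.Agent.Lib.Helper64.OEl.map_le_iff_inv_gen _ W).mpr hWi⟩
      rw [hneg x hxΩ hxx hq4 W hWi hWnd, hWd]
      omega

end Cfsg.Agent.Lib.Helper85.OEl
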