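import Mathlib
import Cfsg.Agent.Lib.Helper49.RSU3Defs

set_option autoImplicit false
set_option linter.unusedSectionVars false
set_option linter.unusedVariables false

/-!
# Keystone K-RSU3-L19 (pack for S2283): the explicit word for `q = 8`

`F = F_64 = F_2[μ]`, `μ^6 + μ^3 + 1 = 0`.  All matrices are written out with entries reduced polynomials in `μ`;
every matrix product is checked entry by entry by `linear_combination` with certificates produced by a script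
(`E = a(μ) (μ^6 + μ^3 + 1) + 2 b(μ)`).
-/

namespace Cfsg.Agent.Lib.Helper85.RSU3

open Matrix Cfsg.Agent.Lib.Helper49.StSU Cfsg.Agent.Lib.Helper49.RSU3

/-- product of two explicit `3 × 3` matrices from the nine entry identities -/
theorem mul3_h85 {R : Type*} [CommRing R]
    {a11 a12 a13 a21 a22 a23 a31 a32 a33 b11 b12 b13 b21 b22 b23 b31 b32 b33
      c11 c12 c13 c21 c22 c23 c31 c32 c33 : R}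
    (h11 : a11 * b11 + a12 * b21 + a13 * b31 = c11)
    (h12 : a11 * b12 + a12 * b22 + a13 * b32 = c12)
    (h13 : a11 * b13 + a12 * b23 + a13 * b33 = c13)
    (h21 : a21 * b11 + a22 * b21 + a23 * b31 = c21)
    (h22 : a21 * b12 + a22 * b22 + a23 * b32 = c22)
    (h23 : a21 * b13 + a22 * b23 + a23 * b33 = c23)
    (h31 : a31 * b11 + a32 * b21 + a33 * b31 = c31)
    (h32 : a31 * b12 + a32 * b22 + a33 * b32 = c32)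
    (h33 : a31 * b13 + a32 * b23 + a33 * b33 = c33) :
    !![a11, a12, a13; a21, a22, a23; a31, a32, a33] * !![b11, b12, b13; b21, b22, b23; b31, b32, b33] =
      !![c11, c12, c13; c21, c22, c23; c31, c32, c33] := by
  subst h11 h12 h13 h21 h22 h23 h31 h32 h33
  exact Matrix.mul_fin_three _ _ _ _ _ _ _ _ _ _ _ _ _ _ _ _ _ _

variable {F : Type*} [Field F] [Fintype F] {q : ℕ}

set_option maxHeartbeats 1600000 in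
/-- L19 -/
theorem word_eight (hq8 : q = 8) (hF : Fintype.card F = q ^ 2) (μ : F) (hμ : orderOf μ = q + 1)
    (u hh zz : GJ 3 F q) (hu : mat u = xM q 1 (bet μ)) (hhm : mat hh = hM q μ)
    (hz : mat zz = yM q 0 (bz μ))
    (hhH : hh ∈ Subgroup.closure ({u, u * hh * zz} : Set (GJ 3 F q))) :
    ∃ W : GJ 3 F q, W ∈ Subgroup.closure ({u, u * hh * zz} : Set (GJ 3 F q)) ∧
      mat W 1 0 = 0 ∧ mat W 2 0 = 0 ∧ mat W 2 1 = 0 ∧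
      (mat W 0 0 / mat W 1 1) ^ 4 ≠ mat W 0 0 / mat W 1 1 := by
  subst hq8
  have h64 : (64 : F) = 0 := by
    have h := Nat.cast_card_eq_zero F
    rw [hF] at h
    exact_mod_cast h
  have hp : (2 : F) = 0 := by
    have h : (2 : F) ^ 6 = 0 := by rw [← h64]; norm_num
    exact (pow_eq_zero_iff (by norm_num)).mp h
  have h9 : μ ^ 9 = 1 := by
    have h := pow_orderOf_eq_one μ
    rwa [hμ] at h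
  have h3 : μ ^ 3 ≠ 1 := by
    intro h
    have h' := orderOf_dvd_of_pow_eq_one h
    rw [hμ] at h'
    omega
  have hrel : μ ^ 6 + μ ^ 3 + 1 = 0 := by
    have h : (μ ^ 3 - 1) * (μ ^ 6 + μ ^ 3 + 1) = 0 := by linear_combination h9
    rcases mul_eq_zero.mp h with h | h
    · exact absurd (sub_eq_zero.mp h) h3
    · exact h
  have hμ0 : μ ≠ 0 := by
    intro h
    rw [h] at h9
    norm_num at h9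
  -- scalars
  have hinv : μ⁻¹ = μ ^ 2 + μ ^ 5 := inv_eq_of_mul_eq_one_right (by linear_combination (1) * hrel + (-1) * hp)
  have hden : ((μ - 1) * (μ + 1) ^ 3) * (μ + μ ^ 2 + μ ^ 3 + μ ^ 4) = 1 := by linear_combination (3 + 3 * μ + μ ^ 2) * hrel + (-2 - 2 * μ - 2 * μ ^ 2 - 3 * μ ^ 3 - 2 * μ ^ 4) * hp
  have hbet : bet μ = μ + μ ^ 2 + μ ^ 3 + μ ^ 4 := by
    rw [bet, div_eq_iff (left_ne_zero_of_mul_eq_one hden)]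
    linear_combination (-3 - 3 * μ - μ ^ 2) * hrel + (2 + 3 * μ + 2 * μ ^ 2 + 3 * μ ^ 3 + 2 * μ ^ 4) * hp
  have hbz : bz μ = 1 + μ + μ ^ 2 + μ ^ 5 := by
    rw [bz, hinv]
    linear_combination (-1 + 3 * μ - 3 * μ ^ 2 - 3 * μ ^ 5 + 2 * μ ^ 6 + μ ^ 9) * hrel + (-2 * μ + μ ^ 2 + μ ^ 5) * hp
  have hh11 : μ ^ 8 / μ = μ + μ ^ 4 := by
    rw [div_eq_iff hμ0]
    linear_combination (μ ^ 2) * hrel + (-μ ^ 2 - μ ^ 5) * hp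
  have hh22 : 1 / μ ^ 8 = μ := by
    rw [div_eq_iff (pow_ne_zero 8 hμ0)]
    linear_combination (1 - μ ^ 3) * hrel
  have hm1 : -((1 : F) ^ 8) = 1 := by linear_combination (-1) * hp
  have hz0 : -((0 : F) ^ 8) = 0 := by norm_num
  have hMu : mat u = !![1, 1, μ + μ ^ 2 + μ ^ 3 + μ ^ 4; 0, 1, 1; 0, 0, 1] := by
    rw [hu, xM, hbet, hm1]
  have hMh : mat hh = !![μ, 0, 0; 0, μ + μ ^ 4, 0; 0, 0, μ] := by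
    rw [hhm, hM, hh11, hh22]
  have hMz : mat zz = !![1, 0, 0; 0, 1, 0; 1 + μ + μ ^ 2 + μ ^ 5, 0, 1] := by
    rw [hz, yM, hbz, hz0]
  -- products
  have hUH : !![1, 1, μ + μ ^ 2 + μ ^ 3 + μ ^ 4; 0, 1, 1; 0, 0, 1] * !![μ, 0, 0; 0, μ + μ ^ 4, 0; 0, 0, μ] = !![μ, μ + μ ^ 4, μ ^ 2 + μ ^ 3 + μ ^ 4 + μ ^ 5; 0, μ + μ ^ 4, μ; 0, 0, μ] :=
    mul3_h85
      (by ring)
      (by ring)
      (by ring)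
      (by ring)
      (by ring)
      (by ring)
      (by ring)
      (by ring)
      (by ring)
  have hV : !![μ, μ + μ ^ 4, μ ^ 2 + μ ^ 3 + μ ^ 4 + μ ^ 5; 0, μ + μ ^ 4, μ; 0, 0, μ] * !![1, 0, 0; 0, 1, 0; 1 + μ + μ ^ 2 + μ ^ 5, 0, 1] = !![1 + μ ^ 4, μ + μ ^ 4, μ ^ 2 + μ ^ 3 + μ ^ 4 + μ ^ 5; 1 + μ + μ ^ 2, μ + μ ^ 4, μ; 1 + μ + μ ^ 2, 0, μ] :=
    mul3_h85
      (by linear_combination (1 + μ + μ ^ 2 + μ ^ 3 + μ ^ 4) * hrel + (-1 + μ ^ 5) * hp)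
      (by ring)
      (by ring)
      (by linear_combination (1) * hrel + (-1) * hp)
      (by ring)
      (by ring)
      (by linear_combination (1) * hrel + (-1) * hp)
      (by ring)
      (by ring)
  have hVVi : !![1 + μ ^ 4, μ + μ ^ 4, μ ^ 2 + μ ^ 3 + μ ^ 4 + μ ^ 5; 1 + μ + μ ^ 2, μ + μ ^ 4, μ; 1 + μ + μ ^ 2, 0, μ] * !![μ ^ 2 + μ ^ 5, μ ^ 2 + μ ^ 5, 1 + μ + μ ^ 3 + μ ^ 5; 0, μ ^ 2, μ ^ 2; 1 + μ + μ ^ 2 + μ ^ 4 + μ ^ 5, 1 + μ + μ ^ 2 + μ ^ 4 + μ ^ 5, 1 + μ ^ 5] = !![1, 0, 0; 0, 1, 0; 0, 0, 1] :=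
    mul3_h85
      (by linear_combination (1 + 2 * μ + 2 * μ ^ 2 + 3 * μ ^ 3 + μ ^ 4) * hrel + (-1 - μ - μ ^ 3 + μ ^ 5) * hp)
      (by linear_combination (2 + 2 * μ + 2 * μ ^ 2 + 3 * μ ^ 3 + μ ^ 4) * hrel + (-1 - μ - μ ^ 3 + μ ^ 5) * hp)
      (by linear_combination (-1 + μ + μ ^ 2 + 2 * μ ^ 3 + μ ^ 4) * hrel + (1 + μ ^ 3 + μ ^ 5) * hp)
      (by linear_combination (2 + μ) * hrel + (-1 + μ ^ 2 + μ ^ 5) * hp)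
      (by linear_combination (3 + μ) * hrel + (-2 + μ ^ 2 + μ ^ 5) * hp)
      (by linear_combination (3 + μ) * hrel + (-1 + μ + μ ^ 2 + μ ^ 5) * hp)
      (by linear_combination (2 + μ) * hrel + (-1 + μ ^ 2 + μ ^ 5) * hp)
      (by linear_combination (2 + μ) * hrel + (-1 + μ ^ 2 + μ ^ 5) * hp)
      (by linear_combination (2 + μ) * hrel + (-1 + μ + μ ^ 2 + μ ^ 5) * hp)
  have hUVi : !![1, 1, μ + μ ^ 2 + μ ^ 3 + μ ^ 4; 0, 1, 1; 0, 0, 1] * !![μ ^ 2 + μ ^ 5, μ ^ 2 + μ ^ 5, 1 + μ + μ ^ 3 + μ ^ 5; 0, μ ^ 2, μ ^ 2; 1 + μ + μ ^ 2 + μ ^ 4 + μ ^ 5, 1 + μ + μ ^ 2 + μ ^ 4 + μ ^ 5, 1 + μ ^ 5] = !![μ + μ ^ 2 + μ ^ 4, μ + μ ^ 4, 1 + μ + μ ^ 2 + μ ^ 3; 1 + μ + μ ^ 2 + μ ^ 4 + μ ^ 5, 1 + μ + μ ^ 4 + μ ^ 5, 1 + μ ^ 2 + μ ^ 5; 1 + μ + μ ^ 2 + μ ^ 4 + μ ^ 5, 1 + μ + μ ^ 2 + μ ^ 4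 + μ ^ 5, 1 + μ ^ 5] :=
    mul3_h85
      (by linear_combination (2 + 2 * μ + 2 * μ ^ 2 + μ ^ 3) * hrel + (-1 - μ + μ ^ 5) * hp)
      (by linear_combination (2 + 2 * μ + 2 * μ ^ 2 + μ ^ 3) * hrel + (-1 - μ + μ ^ 2 + μ ^ 5) * hp)
      (by linear_combination (μ + μ ^ 2 + μ ^ 3) * hrel)
      (by ring)
      (by linear_combination (μ ^ 2) * hp)
      (by ring)
      (by ring)
      (by ring)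
      (by ring)
  have hUViH : !![μ + μ ^ 2 + μ ^ 4, μ + μ ^ 4, 1 + μ + μ ^ 2 + μ ^ 3; 1 + μ + μ ^ 2 + μ ^ 4 + μ ^ 5, 1 + μ + μ ^ 4 + μ ^ 5, 1 + μ ^ 2 + μ ^ 5; 1 + μ + μ ^ 2 + μ ^ 4 + μ ^ 5, 1 + μ + μ ^ 2 + μ ^ 4 + μ ^ 5, 1 + μ ^ 5] * !![μ, 0, 0; 0, μ + μ ^ 4, 0; 0, 0, μ] = !![μ ^ 2 + μ ^ 3 + μ ^ 5, μ ^ 5, μ + μ ^ 2 + μ ^ 3 + μ ^ 4; 1 + μ + μ ^ 2 + μ ^ 5, μ + μ ^ 3 + μ ^ 4 + μ ^ 5, 1 + μ; 1 + μ + μ ^ 2 + μ ^ 5, 1 + μ + μ ^ 3 + μ ^ 4 + μ ^ 5, 1 + μ + μ ^ 3] :=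
    mul3_h85
      (by ring)
      (by linear_combination (μ ^ 2) * hrel)
      (by ring)
      (by linear_combination (1) * hrel + (-1) * hp)
      (by linear_combination (μ ^ 2 + μ ^ 3) * hrel + (-μ ^ 3) * hp)
      (by linear_combination (1) * hrel + (-1) * hp)
      (by linear_combination (1) * hrel + (-1) * hp)
      (by linear_combination (1 + μ ^ 2 + μ ^ 3) * hrel + (-1 - μ ^ 3) * hp)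
      (by linear_combination (1) * hrel + (-1 - μ ^ 3) * hp)
  have hA : !![μ ^ 2 + μ ^ 3 + μ ^ 5, μ ^ 5, μ + μ ^ 2 + μ ^ 3 + μ ^ 4; 1 + μ + μ ^ 2 + μ ^ 5, μ + μ ^ 3 + μ ^ 4 + μ ^ 5, 1 + μ; 1 + μ + μ ^ 2 + μ ^ 5, 1 + μ + μ ^ 3 + μ ^ 4 + μ ^ 5, 1 + μ + μ ^ 3] * !![1 + μ ^ 4, μ + μ ^ 4, μ ^ 2 + μ ^ 3 + μ ^ 4 + μ ^ 5; 1 + μ + μ ^ 2, μ + μ ^ 4, μ; 1 + μ + μ ^ 2, 0, μ] = !![μ + μ ^ 2 + μ ^ 3 + μ ^ 4, 1 + μ, μ ^ 2 + μ ^ 4 + μ ^ 5; μ + μ ^ 5, 1 + μ ^ 2 + μ ^ 4, μ ^ 3 + μ ^ 5; 1 + μ ^ 2 + μ ^ 3 + μ ^ 4, 1 + μ + μ ^ 2, μ + μ ^ 3 + μ ^ 4 + μ ^ 5] :=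
    mul3_h85
      (by linear_combination (2 + 2 * μ + μ ^ 3) * hrel + (-1 - μ + μ ^ 2 + 2 * μ ^ 5) * hp)
      (by linear_combination (1 + μ + 2 * μ ^ 3) * hrel + (-1 - μ - μ ^ 3) * hp)
      (by linear_combination (2 + 2 * μ + 2 * μ ^ 2 + μ ^ 3 + μ ^ 4) * hrel + (-1 - μ - μ ^ 2 - μ ^ 3 - μ ^ 4) * hp)
      (by linear_combination (2 + μ + μ ^ 3) * hrel + (μ + 2 * μ ^ 2 + μ ^ 4 + 2 * μ ^ 5) * hp)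
      (by linear_combination (1 + μ + μ ^ 2 + 2 * μ ^ 3) * hrel + (-1 - μ ^ 3 + μ ^ 5) * hp)
      (by linear_combination (2 + μ + μ ^ 2 + μ ^ 3 + μ ^ 4) * hrel + (-1 + μ ^ 2 - μ ^ 3 + μ ^ 4 + μ ^ 5) * hp)
      (by linear_combination (2 + μ + μ ^ 3) * hrel + (2 * μ + 2 * μ ^ 2 + μ ^ 4 + 3 * μ ^ 5) * hp)
      (by linear_combination (1 + μ + μ ^ 2 + 2 * μ ^ 3) * hrel + (-1 - μ ^ 3 + μ ^ 4 + μ ^ 5) * hp)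
      (by linear_combination (2 + μ + μ ^ 2 + μ ^ 3 + μ ^ 4) * hrel + (-1 + μ ^ 2 - μ ^ 3 + μ ^ 4 + μ ^ 5) * hp)
  have hViH : !![μ ^ 2 + μ ^ 5, μ ^ 2 + μ ^ 5, 1 + μ + μ ^ 3 + μ ^ 5; 0, μ ^ 2, μ ^ 2; 1 + μ + μ ^ 2 + μ ^ 4 + μ ^ 5, 1 + μ + μ ^ 2 + μ ^ 4 + μ ^ 5, 1 + μ ^ 5] * !![μ, 0, 0; 0, μ + μ ^ 4, 0; 0, 0, μ] = !![1, 1 + μ ^ 3, 1 + μ + μ ^ 2 + μ ^ 3 + μ ^ 4; 0, 1, μ ^ 3; 1 + μ + μ ^ 2 + μ ^ 5, 1 + μ + μ ^ 3 + μ ^ 4 + μ ^ 5, 1 + μ + μ ^ 3] :=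
    mul3_h85
      (by linear_combination (1) * hrel + (-1) * hp)
      (by linear_combination (1 + μ ^ 3) * hrel + (-1 - μ ^ 3) * hp)
      (by linear_combination (1) * hrel + (-1 - μ ^ 3) * hp)
      (by ring)
      (by linear_combination (1) * hrel + (-1) * hp)
      (by ring)
      (by linear_combination (1) * hrel + (-1) * hp)
      (by linear_combination (1 + μ ^ 2 + μ ^ 3) * hrel + (-1 - μ ^ 3) * hp)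
      (by linear_combination (1) * hrel + (-1 - μ ^ 3) * hp)
  have hViHVi : !![1, 1 + μ ^ 3, 1 + μ + μ ^ 2 + μ ^ 3 + μ ^ 4; 0, 1, μ ^ 3; 1 + μ + μ ^ 2 + μ ^ 5, 1 + μ + μ ^ 3 + μ ^ 4 + μ ^ 5, 1 + μ + μ ^ 3] * !![μ ^ 2 + μ ^ 5, μ ^ 2 + μ ^ 5, 1 + μ + μ ^ 3 + μ ^ 5; 0, μ ^ 2, μ ^ 2; 1 + μ + μ ^ 2 + μ ^ 4 + μ ^ 5, 1 + μ + μ ^ 2 + μ ^ 4 + μ ^ 5, 1 + μ ^ 5] = !![1 + μ ^ 5, 1 + μ ^ 2, μ + μ ^ 2 + μ ^ 3; μ + μ ^ 2 + μ ^ 3, μ + μ ^ 3, μ ^ 3 + μ ^ 5; 1 + μ ^ 3 + μ ^ 5, μ + μ ^ 2 + μ ^ 3 + μ ^ 4, μ ^ 2 + μ ^ 4 + μ ^ 5] :=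
    mul3_h85
      (by linear_combination (2 + 2 * μ + 2 * μ ^ 2 + μ ^ 3) * hrel + (-1 + μ ^ 2 + μ ^ 4 + μ ^ 5) * hp)
      (by linear_combination (2 + 2 * μ + 2 * μ ^ 2 + μ ^ 3) * hrel + (-1 + μ ^ 2 + μ ^ 4 + 2 * μ ^ 5) * hp)
      (by linear_combination (μ + μ ^ 2 + μ ^ 3) * hrel + (1 + μ ^ 5) * hp)
      (by linear_combination (μ + μ ^ 2) * hrel + (-μ - μ ^ 2) * hp)
      (by linear_combination (μ + μ ^ 2) * hrel + (-μ) * hp)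
      (by linear_combination (μ ^ 2) * hrel + (-μ ^ 5) * hp)
      (by linear_combination (2 + 2 * μ + μ ^ 2 + μ ^ 4) * hrel + (-1 + μ ^ 2 + μ ^ 5) * hp)
      (by linear_combination (3 + 3 * μ + μ ^ 2 + μ ^ 4) * hrel + (-1 - μ + μ ^ 2 - μ ^ 4 + 2 * μ ^ 5) * hp)
      (by linear_combination (4 + μ + 2 * μ ^ 2 + μ ^ 4) * hrel + (-1 + μ - μ ^ 4 + μ ^ 5) * hp)
  have hViHViH : !![1 + μ ^ 5, 1 + μ ^ 2, μ + μ ^ 2 + μ ^ 3; μ + μ ^ 2 + μ ^ 3, μ + μ ^ 3, μ ^ 3 + μ ^ 5; 1 + μ ^ 3 + μ ^ 5, μ + μ ^ 2 + μ ^ 3 + μ ^ 4, μ ^ 2 + μ ^ 4 + μ ^ 5] * !![μ, 0, 0; 0, μ + μ ^ 4, 0; 0, 0, μ] = !![1 + μ + μ ^ 3, 1 + μ + μ ^ 4, μ ^ 2 + μ ^ 3 + μ ^ 4; μ ^ 2 + μ ^ 3 + μ ^ 4, μ + μ ^ 2 + μ ^ 5, 1 + μ ^ 3 + μ ^ 4; 1 + μ + μ ^ 3 + μ ^ 4, 1 + μ + μ ^ 5, 1 + μ ^ 5] :=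
    mul3_h85
      (by linear_combination (1) * hrel + (-1 - μ ^ 3) * hp)
      (by linear_combination (1) * hrel + (-1) * hp)
      (by ring)
      (by ring)
      (by linear_combination (μ) * hrel + (-μ) * hp)
      (by linear_combination (1) * hrel + (-1 - μ ^ 3) * hp)
      (by linear_combination (1) * hrel + (-1 - μ ^ 3) * hp)
      (by linear_combination (1 + μ + μ ^ 2) * hrel + (-1 - μ) * hp)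
      (by linear_combination (1) * hrel + (-1) * hp)
  have hB : !![1 + μ + μ ^ 3, 1 + μ + μ ^ 4, μ ^ 2 + μ ^ 3 + μ ^ 4; μ ^ 2 + μ ^ 3 + μ ^ 4, μ + μ ^ 2 + μ ^ 5, 1 + μ ^ 3 + μ ^ 4; 1 + μ + μ ^ 3 + μ ^ 4, 1 + μ + μ ^ 5, 1 + μ ^ 5] * !![1 + μ ^ 4, μ + μ ^ 4, μ ^ 2 + μ ^ 3 + μ ^ 4 + μ ^ 5; 1 + μ + μ ^ 2, μ + μ ^ 4, μ; 1 + μ + μ ^ 2, 0, μ] = !![μ ^ 2, μ + μ ^ 2, μ ^ 2 + μ ^ 3; μ ^ 2 + μ ^ 3, μ + μ ^ 3 + μ ^ 5, 1 + μ ^ 2 + μ ^ 3 + μ ^ 4 + μ ^ 5; 1 + μ + μ ^ 4, μ + μ ^ 2 + μ ^ 3, μ ^ 3 + μ ^ 5] :=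
    mul3_h85
      (by linear_combination (2 + μ) * hrel + (μ + μ ^ 2 + μ ^ 3 + 2 * μ ^ 4 + 2 * μ ^ 5) * hp)
      (by linear_combination (μ + μ ^ 2) * hrel + (μ ^ 4 + μ ^ 5) * hp)
      (by linear_combination (2 + μ + μ ^ 2) * hrel + (-1 + μ ^ 4 + 2 * μ ^ 5) * hp)
      (by linear_combination (3 + 2 * μ + μ ^ 2) * hrel + (-1 + μ ^ 2 + μ ^ 4 + μ ^ 5) * hp)
      (by linear_combination (2 + μ + μ ^ 2 + μ ^ 3) * hrel + (-1 - μ - μ ^ 3) * hp)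
      (by linear_combination (3 + 3 * μ + 2 * μ ^ 2 + μ ^ 3) * hrel + (-2 - μ - μ ^ 2 - 2 * μ ^ 3 - μ ^ 4) * hp)
      (by linear_combination (2 + 3 * μ + μ ^ 2) * hrel + (μ ^ 2 - μ ^ 4 + μ ^ 5) * hp)
      (by linear_combination (μ + μ ^ 2 + μ ^ 3) * hrel + (-μ ^ 3 + μ ^ 4 + μ ^ 5) * hp)
      (by linear_combination (4 + 2 * μ + 2 * μ ^ 2 + μ ^ 3) * hrel + (-2 - 2 * μ ^ 3) * hp)
  have hAW : !![μ + μ ^ 2 + μ ^ 3 + μ ^ 4, 1 + μ, μ ^ 2 + μ ^ 4 + μ ^ 5; μ + μ ^ 5, 1 + μ ^ 2 + μ ^ 4, μ ^ 3 + μ ^ 5; 1 + μ ^ 2 + μ ^ 3 + μ ^ 4, 1 + μ + μ ^ 2, μ + μ ^ 3 + μ ^ 4 + μ ^ 5] * !![1 + μ ^ 2 + μ ^ 3, 0, 1 + μ ^ 2 + μ ^ 4 + μ ^ 5; 0, μ, 0; 0, 0, 1 + μ ^ 2 + μ ^ 4 + μ ^ 5] = !![μ ^ 2, μ + μ ^ 2, μ ^ 2 + μ ^ 3; μ ^ 2 + μ ^ 3, μ + μ ^ 3 + μ ^ 5, 1 + μ ^ 2 + μ ^ 3 + μ ^ 4 + μ ^ 5;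 1 + μ + μ ^ 4, μ + μ ^ 2 + μ ^ 3, μ ^ 3 + μ ^ 5] :=
    mul3_h85
      (by linear_combination (2 + μ) * hrel + (-1 + μ ^ 4 + μ ^ 5) * hp)
      (by ring)
      (by linear_combination (2 + 3 * μ + 3 * μ ^ 2 + 3 * μ ^ 3 + μ ^ 4) * hrel + (-1 - μ - μ ^ 2 - 2 * μ ^ 3) * hp)
      (by linear_combination (μ + μ ^ 2) * hrel + (-μ ^ 2) * hp)
      (by ring)
      (by linear_combination (-1 + μ + μ ^ 2 + 2 * μ ^ 3 + 2 * μ ^ 4) * hrel + (-μ ^ 2 - 2 * μ ^ 4 + μ ^ 5) * hp)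
      (by linear_combination (2 + μ) * hrel + (-1 - μ + μ ^ 2 + μ ^ 5) * hp)
      (by ring)
      (by linear_combination (1 + 3 * μ + 4 * μ ^ 2 + 3 * μ ^ 3 + μ ^ 4) * hrel + (-μ - μ ^ 2 - μ ^ 3) * hp)
  have hVVi' : !![1 + μ ^ 4, μ + μ ^ 4, μ ^ 2 + μ ^ 3 + μ ^ 4 + μ ^ 5; 1 + μ + μ ^ 2, μ + μ ^ 4, μ; 1 + μ + μ ^ 2, 0, μ] * !![μ ^ 2 + μ ^ 5, μ ^ 2 + μ ^ 5, 1 + μ + μ ^ 3 + μ ^ 5; 0, μ ^ 2, μ ^ 2; 1 + μ + μ ^ 2 + μ ^ 4 + μ ^ 5, 1 + μ + μ ^ 2 + μ ^ 4 + μ ^ 5, 1 + μ ^ 5] = 1 := hVVi.trans Matrix.one_fin_three.symm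
  have mv : mat (u * hh * zz) = !![1 + μ ^ 4, μ + μ ^ 4, μ ^ 2 + μ ^ 3 + μ ^ 4 + μ ^ 5; 1 + μ + μ ^ 2, μ + μ ^ 4, μ; 1 + μ + μ ^ 2, 0, μ] := by
    rw [mat_mul, mat_mul, hMu, hMh, hMz, hUH, hV]
  have mvi : mat (u * hh * zz)⁻¹ = !![μ ^ 2 + μ ^ 5, μ ^ 2 + μ ^ 5, 1 + μ + μ ^ 3 + μ ^ 5; 0, μ ^ 2, μ ^ 2; 1 + μ + μ ^ 2 + μ ^ 4 + μ ^ 5, 1 + μ + μ ^ 2 + μ ^ 4 + μ ^ 5, 1 + μ ^ 5] := by
    rw [mat_inv, mv]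
    exact Matrix.inv_eq_right_inv hVVi'
  have mA : mat (u * (u * hh * zz)⁻¹ * hh * (u * hh * zz)) = !![μ + μ ^ 2 + μ ^ 3 + μ ^ 4, 1 + μ, μ ^ 2 + μ ^ 4 + μ ^ 5; μ + μ ^ 5, 1 + μ ^ 2 + μ ^ 4, μ ^ 3 + μ ^ 5; 1 + μ ^ 2 + μ ^ 3 + μ ^ 4, 1 + μ + μ ^ 2, μ + μ ^ 3 + μ ^ 4 + μ ^ 5] := by
    rw [mat_mul, mat_mul, mat_mul, hMu, mvi, hMh, mv, hUVi, hUViH, hA]
  have mB : mat ((u * hh * zz)⁻¹ * hh * (u * hh * zz)⁻¹ * hh * (u * hh * zz)) = !![μ ^ 2, μ + μ ^ 2, μ ^ 2 + μ ^ 3; μ ^ 2 + μ ^ 3, μ + μ ^ 3 + μ ^ 5, 1 + μ ^ 2 + μ ^ 3 + μ ^ 4 + μ ^ 5; 1 + μ + μ ^ 4, μ + μ ^ 2 + μ ^ 3, μ ^ 3 + μ ^ 5] := by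
    rw [mat_mul, mat_mul, mat_mul, mat_mul, mvi, hMh, mv, hViH, hViHVi, hViHViH, hB]
  have huH : u ∈ Subgroup.closure ({u, u * hh * zz} : Set (GJ 3 F 8)) :=
    Subgroup.subset_closure (Set.mem_insert _ _)
  have hvH : u * hh * zz ∈ Subgroup.closure ({u, u * hh * zz} : Set (GJ 3 F 8)) :=
    Subgroup.subset_closure (Set.mem_insert_of_mem _ rfl)
  have hW : mat ((u * (u * hh * zz)⁻¹ * hh * (u * hh * zz))⁻¹ *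
      ((u * hh * zz)⁻¹ * hh * (u * hh * zz)⁻¹ * hh * (u * hh * zz))) = !![1 + μ ^ 2 + μ ^ 3, 0, 1 + μ ^ 2 + μ ^ 4 + μ ^ 5; 0, μ, 0; 0, 0, 1 + μ ^ 2 + μ ^ 4 + μ ^ 5] := by
    calc mat ((u * (u * hh * zz)⁻¹ * hh * (u * hh * zz))⁻¹ *
          ((u * hh * zz)⁻¹ * hh * (u * hh * zz)⁻¹ * hh * (u * hh * zz)))
        = mat (u * (u * hh * zz)⁻¹ * hh * (u * hh * zz))⁻¹ *
          mat ((u * hh * zz)⁻¹ * hh * (u * hh * zz)⁻¹ * hh * (u * hh * zz)) := mat_mul _ _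
      _ = mat (u * (u * hh * zz)⁻¹ * hh * (u * hh * zz))⁻¹ *
          (mat (u * (u * hh * zz)⁻¹ * hh * (u * hh * zz)) * !![1 + μ ^ 2 + μ ^ 3, 0, 1 + μ ^ 2 + μ ^ 4 + μ ^ 5; 0, μ, 0; 0, 0, 1 + μ ^ 2 + μ ^ 4 + μ ^ 5]) := by
            rw [mB, mA, hAW]
      _ = !![1 + μ ^ 2 + μ ^ 3, 0, 1 + μ ^ 2 + μ ^ 4 + μ ^ 5; 0, μ, 0; 0, 0, 1 + μ ^ 2 + μ ^ 4 + μ ^ 5] := by
            rw [← Matrix.mul_assoc, mat_inv_mul, Matrix.one_mul]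
  refine ⟨(u * (u * hh * zz)⁻¹ * hh * (u * hh * zz))⁻¹ *
      ((u * hh * zz)⁻¹ * hh * (u * hh * zz)⁻¹ * hh * (u * hh * zz)), ?_, ?_, ?_, ?_, ?_⟩
  · exact mul_mem (inv_mem (mul_mem (mul_mem (mul_mem huH (inv_mem hvH)) hhH) hvH))
      (mul_mem (mul_mem (mul_mem (mul_mem (inv_mem hvH) hhH) (inv_mem hvH)) hhH) hvH)
  · rw [hW]; rfl
  · rw [hW]; rfl
  · rw [hW]; rfl
  · rw [hW]
    have e00 : (!![1 + μ ^ 2 + μ ^ 3, 0, 1 + μ ^ 2 + μ ^ 4 + μ ^ 5; 0, μ, 0; 0, 0, 1 + μ ^ 2 + μ ^ 4 + μ ^ 5] : Matrix (Fin 3) (Fin 3) F) 0 0 = 1 + μ ^ 2 + μ ^ 3 := rfl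
    have e11 : (!![1 + μ ^ 2 + μ ^ 3, 0, 1 + μ ^ 2 + μ ^ 4 + μ ^ 5; 0, μ, 0; 0, 0, 1 + μ ^ 2 + μ ^ 4 + μ ^ 5] : Matrix (Fin 3) (Fin 3) F) 1 1 = μ := rfl
    rw [e00, e11]
    have hc : (1 + μ ^ 2 + μ ^ 3) / (μ) = μ + μ ^ 5 := by
      rw [div_eq_iff hμ0]
      linear_combination (-1) * hrel + (1 + μ ^ 3) * hp
    rw [hc]
    intro h
    have hD : ((μ + μ ^ 5) ^ 4 - (μ + μ ^ 5)) * (1 + μ + μ ^ 3 + μ ^ 4 + μ ^ 5) = 1 := by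
      linear_combination (1 + 9 * μ + 5 * μ ^ 2 - 11 * μ ^ 3 - 7 * μ ^ 4 + 8 * μ ^ 5 + 8 * μ ^ 6 - μ ^ 7 - 9 * μ ^ 8 + 7 * μ ^ 9 + 7 * μ ^ 10 + 5 * μ ^ 11 - 5 * μ ^ 12 + 4 * μ ^ 13 + 4 * μ ^ 14 + 4 * μ ^ 15 - μ ^ 16 + μ ^ 17 + μ ^ 18 + μ ^ 19) * hrel + (-1 - 5 * μ - 3 * μ ^ 2 + 5 * μ ^ 3 - μ ^ 4 - 7 * μ ^ 5) * hp
    rw [h, sub_self, zero_mul] at hD
    exact zero_ne_one hD

end Cfsg.Agent.Lib.Helper85.RSU3
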