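import Mathlib
import Cfsg.Prelude.Def_Characters
import Cfsg.Agent.Lib.Helper79.FrobSchurCount
import Cfsg.Agent.Lib.Helper33.IndFun

/-!
# Frobenius–Schur indicator of a character induced from a linear character inverted by an involution
(helper85)

* `fsInd_indFun`: `ν(Ind_H^G κ) = |H|⁻¹ ∑_{u} κ°(u²)`.
* `sum_ext_sq`: if `κ` is a linear character of `T ≥ N`, `N` normal, `T` the full stabilizer of
  `κ|_N`, and `z` is an involution normalizing `T` and inverting `κ`, then `∑_u κ°(u²) = |T|`.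
* `fsInd_indFun_eq_one_of_inverting`: hence `ν(Ind_T^G κ) = 1`.
-/

set_option autoImplicit false

namespace Cfsg.Agent.Lib.Helper85.RealDih

open Cfsg

variable {G : Type*} [Group G] [Fintype G]

/-- The Frobenius–Schur indicator of an induced function. -/
theorem fsInd_indFun (H : Subgroup G) (κ : H → ℂ) :
    Cfsg.Agent.Lib.Helper79.fsInd (indFun H κ) =
      (Nat.card H : ℂ)⁻¹ * ∑ u : G, extendByZero H κ (u * u) := by
  classical
  unfold Cfsg.Agent.Lib.Helper79.fsInd indFun
  have h1 : ∀ x : G, ∑ u : G, extendByZero H κ (x⁻¹ * (u * u) * x) =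
      ∑ u : G, extendByZero H κ (u * u) := by
    intro x
    rw [← Equiv.sum_comp (MulAut.conj x⁻¹).toEquiv (fun u => extendByZero H κ (u * u))]
    refine Finset.sum_congr rfl fun u _ => ?_
    congr 1
    simp only [MulEquiv.toEquiv_eq_coe, MulEquiv.coe_toEquiv, MulAut.conj_apply, inv_inv]
    group
  have h2 : ∑ u : G, (Nat.card H : ℂ)⁻¹ * ∑ x : G, extendByZero H κ (x⁻¹ * (u * u) * x) =
      (Nat.card H : ℂ)⁻¹ * ((Nat.card G : ℂ) * ∑ u : G, extendByZero H κ (u * u)) := by
    rw [← Finset.mul_sum, Finset.sum_comm]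
    congr 1
    rw [Finset.sum_congr rfl (fun x _ => h1 x), Finset.sum_const, Finset.card_univ,
      nsmul_eq_mul, Nat.card_eq_fintype_card]
  rw [h2]
  have hG : (Nat.card G : ℂ) ≠ 0 := by
    rw [Nat.card_eq_fintype_card]
    exact Nat.cast_ne_zero.2 Fintype.card_ne_zero
  field_simp

/-- Key computation. -/
theorem sum_ext_sq (N T : Subgroup G) [hN : N.Normal] (hNT : N ≤ T) (κ : T →* ℂˣ) (z : G)
    (hz2 : z * z = 1) (hzT : ∀ t ∈ T, z * t * z⁻¹ ∈ T)
    (hzκ : ∀ t : T, κ ⟨z * t * z⁻¹, hzT t t.2⟩ = (κ t)⁻¹)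
    (hstab : ∀ g : G, (∀ n : N, κ ⟨g * n * g⁻¹, hNT (hN.conj_mem n n.2 g)⟩ = κ ⟨n, hNT n.2⟩) →
      g ∈ T) :
    ∑ u : G, extendByZero T (fun t : T => ((κ t : ℂˣ) : ℂ)) (u * u) = (Nat.card T : ℂ) := by
  classical
  set f : G → ℂ := fun u => extendByZero T (fun t : T => ((κ t : ℂˣ) : ℂ)) (u * u) with hf
  have hzinv : z⁻¹ = z := inv_eq_of_mul_eq_one_left hz2
  -- averaging over left translations by `N`
  have havg : (Nat.card N : ℂ) * ∑ u : G, f u = ∑ u : G, ∑ m : N, f ((m : G) * u) := by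
    rw [Finset.sum_comm]
    have : ∀ m : N, ∑ u : G, f ((m : G) * u) = ∑ u : G, f u := fun m =>
      Equiv.sum_comp (Equiv.mulLeft (m : G)) f
    rw [Finset.sum_congr rfl (fun m _ => this m), Finset.sum_const, Finset.card_univ,
      nsmul_eq_mul, Nat.card_eq_fintype_card]
  -- the inner sums
  have hinner : ∀ u : G, ∑ m : N, f ((m : G) * u) =
      if u * z ∈ T then (Nat.card N : ℂ) else 0 := by
    intro u
    by_cases hu2 : u * u ∈ T
    · -- `f (m u) = κ m * κ (u m u⁻¹) * κ (u²)`
      have hterm : ∀ m : N, f ((m : G) * u) =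
          ((κ ⟨m, hNT m.2⟩ : ℂˣ) : ℂ) *
            ((κ ⟨u * m * u⁻¹, hNT (hN.conj_mem m m.2 u)⟩ : ℂˣ) : ℂ) *
            ((κ ⟨u * u, hu2⟩ : ℂˣ) : ℂ) := by
        intro m
        have hmem : (m : G) * u * ((m : G) * u) ∈ T := by
          have : (m : G) * u * ((m : G) * u) = (m : G) * (u * m * u⁻¹) * (u * u) := by group
          rw [this]
          exact T.mul_mem (T.mul_mem (hNT m.2) (hNT (hN.conj_mem m m.2 u))) hu2
        simp only [hf]
        rw [Cfsg.Agent.Lib.Helper33.extendByZero_of_mem T _ hmem]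
        have : (⟨(m : G) * u * ((m : G) * u), hmem⟩ : T) =
            ⟨m, hNT m.2⟩ * ⟨u * m * u⁻¹, hNT (hN.conj_mem m m.2 u)⟩ * ⟨u * u, hu2⟩ := by
          apply Subtype.ext
          simp only [Subgroup.coe_mul]
          group
        rw [this, map_mul, map_mul, Units.val_mul, Units.val_mul]
      -- the product character of `N`
      let ρ : N →* ℂˣ :=
        { toFun := fun m => κ ⟨m, hNT m.2⟩ * κ ⟨u * m * u⁻¹, hNT (hN.conj_mem m m.2 u)⟩
          map_one' := by
            have h1 : (⟨((1 : N) : G), hNT (1 : N).2⟩ : T) = 1 := rfl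
            have h2 : (⟨u * ((1 : N) : G) * u⁻¹, hNT (hN.conj_mem (1 : N) (1 : N).2 u)⟩ : T) = 1 := by
              apply Subtype.ext; simp
            rw [h1, h2, map_one, mul_one]
          map_mul' := fun a b => by
            have h1 : (⟨((a * b : N) : G), hNT (a * b).2⟩ : T) =
                ⟨a, hNT a.2⟩ * ⟨b, hNT b.2⟩ := rfl
            have h2 : (⟨u * ((a * b : N) : G) * u⁻¹,
                hNT (hN.conj_mem (a * b) (a * b).2 u)⟩ : T) =
                ⟨u * a * u⁻¹, hNT (hN.conj_mem a a.2 u)⟩ *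
                  ⟨u * b * u⁻¹, hNT (hN.conj_mem b b.2 u)⟩ := by
              apply Subtype.ext
              simp only [Subgroup.coe_mul]
              group
            rw [h1, h2, map_mul, map_mul]
            exact mul_mul_mul_comm _ _ _ _ }
      have hsum : ∑ m : N, f ((m : G) * u) =
          (∑ m : N, ((ρ m : ℂˣ) : ℂ)) * ((κ ⟨u * u, hu2⟩ : ℂˣ) : ℂ) := by
        rw [Finset.sum_mul]
        refine Finset.sum_congr rfl fun m _ => ?_
        rw [hterm m]
        rfl
      by_cases huz : u * z ∈ T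
      · rw [if_pos huz, hsum]
        -- `ρ = 1`
        have hρ : ∀ m : N, ρ m = 1 := by
          intro m
          show κ ⟨m, hNT m.2⟩ * κ ⟨u * m * u⁻¹, hNT (hN.conj_mem m m.2 u)⟩ = 1
          -- u m u⁻¹ = (uz) (z m z⁻¹) (uz)⁻¹
          have hmem1 : z * (m : G) * z⁻¹ ∈ T := hzT m (hNT m.2)
          have e1 : (⟨u * m * u⁻¹, hNT (hN.conj_mem m m.2 u)⟩ : T) =
              ⟨u * z, huz⟩ * ⟨z * m * z⁻¹, hmem1⟩ * (⟨u * z, huz⟩ : T)⁻¹ := by
            apply Subtype.ext
            simp only [Subgroup.coe_mul, Subgroup.coe_inv]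
            have : u * z * (z * (m : G) * z⁻¹) * (u * z)⁻¹ =
                u * (z * z) * m * (z * z)⁻¹ * u⁻¹ := by
              group
            rw [this, hz2]
            group
          rw [e1, map_mul, map_mul, map_inv]
          have := hzκ ⟨m, hNT m.2⟩
          rw [this]
          rw [mul_comm (κ ⟨u * z, huz⟩), mul_assoc, mul_inv_cancel, mul_one, mul_inv_cancel]
        -- `κ (u²) = 1`
        have hu2' : κ ⟨u * u, hu2⟩ = 1 := by
          have hmem2 : z * (u * z) * z⁻¹ ∈ T := hzT _ huz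
          have e2 : (⟨u * u, hu2⟩ : T) = ⟨u * z, huz⟩ * ⟨z * (u * z) * z⁻¹, hmem2⟩ := by
            apply Subtype.ext
            simp only [Subgroup.coe_mul]
            have : u * z * (z * (u * z) * z⁻¹) = u * (z * z) * u := by group
            rw [this, hz2]
            group
          rw [e2, map_mul, hzκ ⟨u * z, huz⟩, mul_inv_cancel]
        rw [hu2', Units.val_one, mul_one, Finset.sum_congr rfl (fun m _ => by rw [hρ m]),
          Finset.sum_const, Finset.card_univ, nsmul_eq_mul, Units.val_one, mul_one,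
          Nat.card_eq_fintype_card]
      · rw [if_neg huz, hsum]
        -- `ρ ≠ 1`
        have hρne : ρ ≠ 1 := by
          intro h1
          apply huz
          apply hstab
          intro n
          -- κ((uz) n (uz)⁻¹) = κ(u (z n z⁻¹) u⁻¹) = κ(z n z⁻¹)⁻¹ ... 
          have hmem1 : z * (n : G) * z⁻¹ ∈ N := hN.conj_mem n n.2 z
          have hρ1 : ρ ⟨z * n * z⁻¹, hmem1⟩ = 1 := by rw [h1]; rfl
          have hρ1' : κ ⟨z * n * z⁻¹, hNT hmem1⟩ *
              κ ⟨u * (z * n * z⁻¹) * u⁻¹, hNT (hN.conj_mem _ hmem1 u)⟩ = 1 := hρ1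
          have e1 : (⟨u * z * n * (u * z)⁻¹, hNT (hN.conj_mem n n.2 (u * z))⟩ : T) =
              ⟨u * (z * n * z⁻¹) * u⁻¹, hNT (hN.conj_mem _ hmem1 u)⟩ := by
            apply Subtype.ext
            show u * z * (n : G) * (u * z)⁻¹ = u * (z * n * z⁻¹) * u⁻¹
            group
          rw [e1]
          have e2 := hzκ ⟨n, hNT n.2⟩
          have e3 : (⟨z * ((⟨n, hNT n.2⟩ : T) : G) * z⁻¹, hzT _ (hNT n.2)⟩ : T) =
              ⟨z * n * z⁻¹, hNT hmem1⟩ := rfl
          rw [e3] at e2
          rw [e2] at hρ1'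
          -- (κ n)⁻¹ * X = 1  →  X = κ n
          have := congrArg (fun x => κ ⟨n, hNT n.2⟩ * x) hρ1'
          simpa [← mul_assoc] using this
        have hzero : ∑ m : N, ((ρ m : ℂˣ) : ℂ) = 0 := by
          have hne' : (Units.coeHom ℂ).comp ρ ≠ 1 := by
            intro h
            apply hρne
            ext m
            have := DFunLike.congr_fun h m
            simpa using this
          have := sum_hom_units_eq_zero ((Units.coeHom ℂ).comp ρ) hne'
          simpa using this
        rw [hzero, zero_mul]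
    · -- all terms vanish, and `u z ∉ T`
      have hterm : ∀ m : N, f ((m : G) * u) = 0 := by
        intro m
        simp only [hf]
        apply Cfsg.Agent.Lib.Helper33.extendByZero_of_not_mem
        intro hmem
        apply hu2
        have : u * u = ((m : G) * (u * m * u⁻¹))⁻¹ * ((m : G) * u * ((m : G) * u)) := by group
        rw [this]
        exact T.mul_mem (T.inv_mem (T.mul_mem (hNT m.2) (hNT (hN.conj_mem m m.2 u)))) hmem
      have huz : u * z ∉ T := by
        intro huz
        apply hu2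
        have hmem2 : z * (u * z) * z⁻¹ ∈ T := hzT _ huz
        have : u * u = u * z * (z * (u * z) * z⁻¹) := by
          have : u * z * (z * (u * z) * z⁻¹) = u * (z * z) * u := by group
          rw [this, hz2]
          group
        rw [this]
        exact T.mul_mem huz hmem2
      rw [if_neg huz, Finset.sum_congr rfl (fun m _ => hterm m), Finset.sum_const_zero]
  -- count
  have hcount : ∑ u : G, (if u * z ∈ T then (Nat.card N : ℂ) else 0) =
      (Nat.card N : ℂ) * (Nat.card T : ℂ) := by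
    rw [← Equiv.sum_comp (Equiv.mulRight z⁻¹)
      (fun u => if u * z ∈ T then (Nat.card N : ℂ) else 0)]
    have : ∀ u : G, (Equiv.mulRight z⁻¹ u) * z = u := fun u => by
      simp [Equiv.coe_mulRight]
    simp only [this]
    rw [Finset.sum_ite, Finset.sum_const_zero, add_zero, Finset.sum_const, nsmul_eq_mul,
      mul_comm]
    congr 1
    rw [Nat.card_eq_fintype_card, Fintype.card_subtype]
  have hNne : (Nat.card N : ℂ) ≠ 0 := by
    rw [Nat.card_eq_fintype_card]
    exact Nat.cast_ne_zero.2 Fintype.card_ne_zero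
  have := havg
  rw [Finset.sum_congr rfl (fun u _ => hinner u), hcount] at this
  exact mul_left_cancel₀ hNne this

/-- The induced character has Frobenius–Schur indicator `1`. -/
theorem fsInd_indFun_eq_one_of_inverting (N T : Subgroup G) [hN : N.Normal] (hNT : N ≤ T)
    (κ : T →* ℂˣ) (z : G)
    (hz2 : z * z = 1) (hzT : ∀ t ∈ T, z * t * z⁻¹ ∈ T)
    (hzκ : ∀ t : T, κ ⟨z * t * z⁻¹, hzT t t.2⟩ = (κ t)⁻¹)
    (hstab : ∀ g : G, (∀ n : N, κ ⟨g * n * g⁻¹, hNT (hN.conj_mem n n.2 g)⟩ = κ ⟨n, hNT n.2⟩) →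
      g ∈ T) :
    Cfsg.Agent.Lib.Helper79.fsInd (indFun T (fun t : T => ((κ t : ℂˣ) : ℂ))) = 1 := by
  classical
  rw [fsInd_indFun, sum_ext_sq N T hNT κ z hz2 hzT hzκ hstab]
  have hT : (Nat.card T : ℂ) ≠ 0 := by
    rw [Nat.card_eq_fintype_card]
    exact Nat.cast_ne_zero.2 Fintype.card_ne_zero
  exact inv_mul_cancel₀ hT

end Cfsg.Agent.Lib.Helper85.RealDih
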