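import Mathlib
import Cfsg.Prelude.Def_Blocks
import Cfsg.Prelude.Def_BlockLocal
import Cfsg.Agent.Lib.Helper21.InducedCentral
import Cfsg.Agent.Lib.Helper21.HKCover
import Cfsg.Agent.Lib.Helper21.InducedTrans
import Cfsg.Agent.Lib.Helper21.DefectTransport
import Cfsg.Agent.Lib.Helper22.DefectConj
import Cfsg.Agent.Lib.Helper81.DefectBasic
import Cfsg.Agent.Lib.Helper81.BPTransport
import Cfsg.Agent.Lib.Helper82.BlockBasic
import Cfsg.Agent.S0912
import Cfsg.Agent.S0917
import Cfsg.Agent.S0973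

/-!
# The subsections `(z, b^{C_G(z)})`, `z ∈ Z(D)` (keystones K82-D1, K82-D2 for S4715)

`B` a block of `G` with defect group `D`, `H = D C_G(D)`, `b` a block of `H` with `b^G = B`.
-/

set_option autoImplicit false
set_option linter.unusedSectionVars false
set_option linter.style.haveILetI false

namespace Cfsg.Agent.Lib.Helper85.RootSections

open Cfsg
open Cfsg.Agent.Lib.Helper81 (irrComp irrComp_apply irrComp_symm_irrComp irrComp_irrComp_symm
  mem_blockOf_irrComp_iff)

universe u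
variable {G : Type u} [Group G] [Fintype G] {p : ℕ} [Fact p.Prime] {M : Ideal AlgInt}

/-- A block of `H` (`P ≤ H ≤ N(P)`) inducing a block with defect group `P` has defect group `P`. -/
theorem isDefectGroup_root (hM : IsPModular p M) (P H : Subgroup G) (hP : IsPGroup p P)
    (hPH : P ≤ H) (hHN : H ≤ Subgroup.normalizer (P : Set G)) {b : Set (IrrCharacter H)}
    {B : Set (IrrCharacter G)} (hind : IsInducedBlock M H b B) (hBP : IsDefectGroup p M B P) :
    IsDefectGroup p M b (P.subgroupOf H) := by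
  obtain ⟨Db, hDb⟩ := Cfsg.Agent.Lib.Helper81.exists_isDefectGroup' hM hind.1
  have hcore := Cfsg.Agent.S0912.result p M hM b hind.1 Db hDb
  obtain ⟨E, hE, hDE⟩ := Cfsg.Agent.S0917.result p M hM H b hind.1 B hind.2.1 hind Db hDb
  have hcard : Nat.card P = Nat.card E := by
    rw [Cfsg.Agent.Lib.Helper22.IsDefectGroup.card_eq hM hind.2.1 hBP,
      Cfsg.Agent.Lib.Helper22.IsDefectGroup.card_eq hM hind.2.1 hE]
  have hnorm : (P.subgroupOf H).Normal := Subgroup.normal_subgroupOf_of_le_normalizer hHN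
  have hDle : P.subgroupOf H ≤ Cfsg.pCore p H := by
    apply le_sSup
    exact ⟨hnorm, hP.comap_subtype⟩
  have h2 : Nat.card Db ≤ Nat.card E := by
    have := Subgroup.card_le_of_le hDE
    rwa [Subgroup.card_map_of_injective (Subgroup.subtype_injective _)] at this
  have h3 : Nat.card (P.subgroupOf H) = Nat.card P := by
    have := Subgroup.card_map_of_injective (K := P.subgroupOf H) (Subgroup.subtype_injective H)
    rw [← this, Subgroup.subgroupOf_map_subtype, inf_of_le_left hPH]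
  have heq : P.subgroupOf H = Db := by
    apply Subgroup.eq_of_le_of_card_ge (le_trans hDle hcore)
    rw [h3]
    omega
  rw [heq]
  exact hDb

section Sect

variable {H K : Subgroup G} (hHK : H ≤ K)

/-- the In-form and the intrinsic form of induction from `H` to `K`, for the block of `θ₀` -/
theorem inForm_iff (θ₀ : IrrCharacter H) (f : Set (IrrCharacter K)) :
    IsInducedBlockIn M K H (blockOf M (θ₀ : H → ℂ)) f ↔
      IsInducedBlock M (H.subgroupOf K)
        (blockOf M (irrComp (Subgroup.subgroupOfEquivOfLe hHK) θ₀ : H.subgroupOf K → ℂ)) f := by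
  apply Cfsg.Agent.Lib.Helper21.isInducedBlockIn_iff hHK
  · exact ⟨fun _ => Cfsg.Agent.Lib.Helper82.isPBlock_blockOf _,
      fun _ => Cfsg.Agent.Lib.Helper82.isPBlock_blockOf _⟩
  · intro ξ
    rw [mem_blockOf_irrComp_iff, irrComp_symm_irrComp]

include hHK in
/-- **The section block.** `D` a defect group of `B`, `D ≤ H ≤ N_G(D)`, `C_G(D) ≤ H ≤ K`, `b` a
block of `H` inducing `B`: a block `f` of `K` induced by `b` inside `K` induces `B` and has defect
group `D`. -/
theorem section_of_induced (hM : IsPModular p M) {B : Set (IrrCharacter G)}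
    {D : Subgroup G} (hBD : IsDefectGroup p M B D) (hDH : D ≤ H)
    (hHN : H ≤ Subgroup.normalizer (D : Set G)) (hCH : Subgroup.centralizer (D : Set G) ≤ H)
    {b : Set (IrrCharacter H)} (hind : IsInducedBlock M H b B)
    {f : Set (IrrCharacter K)} (hf : IsInducedBlockIn M K H b f) :
    IsInducedBlock M K f B ∧ IsDefectGroup p M f (D.subgroupOf K) := by
  classical
  have hMp : M.IsPrime := hM.2.1.isPrime
  letI : Fintype H := Fintype.ofFinite H
  letI : Fintype K := Fintype.ofFinite K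
  letI : Fintype (H.subgroupOf K) := Fintype.ofFinite _
  have hDp : IsPGroup p D := Cfsg.Agent.Lib.Helper81.isPGroup_of_isDefectGroup' hBD
  obtain ⟨θ₀, hbθ⟩ := hind.1
  subst hbθ
  have h₁ := (inForm_iff hHK θ₀ f).1 hf
  have hfB : IsInducedBlock M K f B :=
    Cfsg.Agent.Lib.Helper21.isInducedBlock_trans hHK hMp θ₀ h₁ hind
  refine ⟨hfB, ?_⟩
  have hbD := isDefectGroup_root hM D H hDp hDH hHN hind hBD
  have hbD' := Cfsg.Agent.Lib.Helper21.isDefectGroup_irrComp
    (Subgroup.subgroupOfEquivOfLe hHK) θ₀ hbD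
  rw [Cfsg.Agent.Lib.Helper21.comap_subgroupOf_subgroupOf' D H K hHK] at hbD'
  have hmap : ((D.subgroupOf K).subgroupOf (H.subgroupOf K)).map (H.subgroupOf K).subtype =
      D.subgroupOf K := by
    rw [Subgroup.subgroupOf_map_subtype]
    apply inf_of_le_left
    intro k hk
    exact hDH hk
  have hC : Subgroup.centralizer
      ((((D.subgroupOf K).subgroupOf (H.subgroupOf K)).map (H.subgroupOf K).subtype :
        Subgroup K) : Set K) ≤ H.subgroupOf K := by
    rw [hmap]
    intro k hk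
    rw [Subgroup.mem_subgroupOf]
    apply hCH
    rw [Subgroup.mem_centralizer_iff]
    intro d hd
    have := Subgroup.mem_centralizer_iff.1 hk ⟨d, hHK (hDH hd)⟩ hd
    exact congrArg Subtype.val this
  obtain ⟨Df, hDf, -, -, hle⟩ :=
    ((Cfsg.Agent.Lib.Helper21.induced_defect_center hM (H.subgroupOf K) _
      (Cfsg.Agent.Lib.Helper82.isPBlock_blockOf _) _ hbD' hC).2 f h₁).1
  rw [hmap] at hle
  obtain ⟨E, hE, hDfE⟩ := Cfsg.Agent.S0917.result p M hM K f hfB.1 B hfB.2.1 hfB Df hDf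
  have hcard : Nat.card D = Nat.card E := by
    rw [Cfsg.Agent.Lib.Helper22.IsDefectGroup.card_eq hM hfB.2.1 hBD,
      Cfsg.Agent.Lib.Helper22.IsDefectGroup.card_eq hM hfB.2.1 hE]
  have h2 : Nat.card Df ≤ Nat.card E := by
    have := Subgroup.card_le_of_le hDfE
    rwa [Subgroup.card_map_of_injective (Subgroup.subtype_injective _)] at this
  have h3 : Nat.card (D.subgroupOf K) = Nat.card D := by
    have := Subgroup.card_map_of_injective (K := D.subgroupOf K) (Subgroup.subtype_injective K)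
    rw [← this, Subgroup.subgroupOf_map_subtype, inf_of_le_left (hDH.trans hHK)]
  have heq : D.subgroupOf K = Df := by
    apply Subgroup.eq_of_le_of_card_ge hle
    rw [h3]
    omega
  rw [heq]
  exact hDf

include hHK in
/-- existence of the section block -/
theorem exists_inducedIn (hM : IsPModular p M) {B : Set (IrrCharacter G)}
    {D : Subgroup G} (hBD : IsDefectGroup p M B D) (hDH : D ≤ H)
    (hHN : H ≤ Subgroup.normalizer (D : Set G)) (hCH : Subgroup.centralizer (D : Set G) ≤ H)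
    {b : Set (IrrCharacter H)} (hind : IsInducedBlock M H b B) :
    ∃ f : Set (IrrCharacter K), IsInducedBlockIn M K H b f := by
  classical
  letI : Fintype H := Fintype.ofFinite H
  letI : Fintype K := Fintype.ofFinite K
  letI : Fintype (H.subgroupOf K) := Fintype.ofFinite _
  have hDp : IsPGroup p D := Cfsg.Agent.Lib.Helper81.isPGroup_of_isDefectGroup' hBD
  obtain ⟨θ₀, hbθ⟩ := hind.1
  subst hbθ
  have hbD := isDefectGroup_root hM D H hDp hDH hHN hind hBD
  have hbD' := Cfsg.Agent.Lib.Helper21.isDefectGroup_irrComp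
    (Subgroup.subgroupOfEquivOfLe hHK) θ₀ hbD
  rw [Cfsg.Agent.Lib.Helper21.comap_subgroupOf_subgroupOf' D H K hHK] at hbD'
  have hmap : ((D.subgroupOf K).subgroupOf (H.subgroupOf K)).map (H.subgroupOf K).subtype =
      D.subgroupOf K := by
    rw [Subgroup.subgroupOf_map_subtype]
    apply inf_of_le_left
    intro k hk
    exact hDH hk
  have hC : Subgroup.centralizer
      ((((D.subgroupOf K).subgroupOf (H.subgroupOf K)).map (H.subgroupOf K).subtype :
        Subgroup K) : Set K) ≤ H.subgroupOf K := by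
    rw [hmap]
    intro k hk
    rw [Subgroup.mem_subgroupOf]
    apply hCH
    rw [Subgroup.mem_centralizer_iff]
    intro d hd
    have := Subgroup.mem_centralizer_iff.1 hk ⟨d, hHK (hDH hd)⟩ hd
    exact congrArg Subtype.val this
  obtain ⟨f, hf⟩ := (Cfsg.Agent.Lib.Helper21.induced_defect_center hM (H.subgroupOf K) _
      (Cfsg.Agent.Lib.Helper82.isPBlock_blockOf _) _ hbD' hC).1
  exact ⟨f, (inForm_iff hHK θ₀ f).2 hf⟩

end Sect

/-- the basic inclusions for `H = D C_G(D)` and `z ∈ Z(D)` -/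
theorem root_inclusions {D H : Subgroup G} (hH : H = D ⊔ Subgroup.centralizer (D : Set G))
    (z : G) (hzD : z ∈ D) (hzc : ∀ y ∈ D, y * z = z * y) :
    D ≤ H ∧ H ≤ Subgroup.normalizer (D : Set G) ∧ Subgroup.centralizer (D : Set G) ≤ H ∧
      H ≤ Subgroup.centralizer ({z} : Set G) := by
  subst hH
  refine ⟨le_sup_left, sup_le Subgroup.le_normalizer (Subgroup.centralizer_le_normalizer _),
    le_sup_right, sup_le ?_ ?_⟩
  · intro y hy
    rw [Subgroup.mem_centralizer_iff]
    intro w hw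
    rw [Set.mem_singleton_iff.1 hw]
    exact (hzc y hy).symm
  · intro c hc
    rw [Subgroup.mem_centralizer_iff]
    intro w hw
    rw [Set.mem_singleton_iff.1 hw]
    exact Subgroup.mem_centralizer_iff.1 hc z hzD

/-- **K82-D1 (existence).** For `z ∈ Z(D)` the root `b` induces a block `f` of `C_G(z)` (induction
computed inside `C_G(z)`), `f` induces `B`, and `f` has the same defect as `B`. -/
theorem exists_section_block (hM : IsPModular p M) {B : Set (IrrCharacter G)} (hB : IsPBlock M B)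
    {D : Subgroup G} (hBD : IsDefectGroup p M B D) {H : Subgroup G}
    (hH : H = D ⊔ Subgroup.centralizer (D : Set G)) {b : Set (IrrCharacter H)}
    (hind : IsInducedBlock M H b B) (z : G) (hzD : z ∈ D) (hzc : ∀ y ∈ D, y * z = z * y) :
    ∃ f : Set (IrrCharacter (Subgroup.centralizer ({z} : Set G))),
      IsInducedBlockIn M (Subgroup.centralizer ({z} : Set G)) H b f ∧
      IsInducedBlock M (Subgroup.centralizer ({z} : Set G)) f B ∧
      blockDefect p f = blockDefect p B := by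
  obtain ⟨hDH, hHN, hCH, hHK⟩ := root_inclusions hH z hzD hzc
  obtain ⟨f, hf⟩ := exists_inducedIn (K := Subgroup.centralizer ({z} : Set G)) hHK hM hBD hDH hHN
    hCH hind
  obtain ⟨hfB, hfD⟩ := section_of_induced hHK hM hBD hDH hHN hCH hind hf
  refine ⟨f, hf, hfB, ?_⟩
  have h1 := Cfsg.Agent.Lib.Helper22.IsDefectGroup.card_eq hM hfB.1 hfD
  have h2 := Cfsg.Agent.Lib.Helper22.IsDefectGroup.card_eq hM hB hBD
  have h3 : Nat.card (D.subgroupOf (Subgroup.centralizer ({z} : Set G))) = Nat.card D := by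
    have := Subgroup.card_map_of_injective
      (K := D.subgroupOf (Subgroup.centralizer ({z} : Set G)))
      (Subgroup.subtype_injective (Subgroup.centralizer ({z} : Set G)))
    rw [← this, Subgroup.subgroupOf_map_subtype, inf_of_le_left (hDH.trans hHK)]
  rw [h3, h2] at h1
  exact (Nat.pow_right_injective (Fact.out : p.Prime).two_le h1).symm

/-! ### Conjugation -/

/-- conjugation by `g` as an isomorphism between two subgroups -/
def conjEquiv (g : G) (A A' : Subgroup G) (h1 : ∀ x ∈ A, g * x * g⁻¹ ∈ A')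
    (h2 : ∀ y ∈ A', g⁻¹ * y * g ∈ A) : A ≃* A' where
  toFun x := ⟨g * x * g⁻¹, h1 x x.2⟩
  invFun y := ⟨g⁻¹ * y * g, h2 y y.2⟩
  left_inv x := Subtype.ext (by simp [mul_assoc])
  right_inv y := Subtype.ext (by simp [mul_assoc])
  map_mul' x y := Subtype.ext (by simp [mul_assoc])

@[simp] theorem conjEquiv_coe (g : G) (A A' : Subgroup G) (h1 : ∀ x ∈ A, g * x * g⁻¹ ∈ A')
    (h2 : ∀ y ∈ A', g⁻¹ * y * g ∈ A) (x : A) :
    ((conjEquiv g A A' h1 h2 x : A') : G) = g * x * g⁻¹ := rfl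

@[simp] theorem conjEquiv_symm_coe (g : G) (A A' : Subgroup G) (h1 : ∀ x ∈ A, g * x * g⁻¹ ∈ A')
    (h2 : ∀ y ∈ A', g⁻¹ * y * g ∈ A) (y : A') :
    (((conjEquiv g A A' h1 h2).symm y : A) : G) = g⁻¹ * y * g := rfl

/-- the induced central character (inside `K`) of a conjugate -/
theorem iCCIn_conj {H K K' : Subgroup G} (n : G) (σ : H ≃* H)
    (hσ : ∀ h : H, ((σ h : H) : G) = n * h * n⁻¹) (φ : K ≃* K')
    (hφ : ∀ k : K, ((φ k : K') : G) = n * k * n⁻¹) (ξ₁ : H → ℂ) (k : K) :
    inducedCentralCharIn K H (fun h => ξ₁ (σ h)) (k : G) =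
      inducedCentralCharIn K' H ξ₁ ((φ k : K') : G) := by
  unfold inducedCentralCharIn
  apply finsum_mem_eq_of_bijOn σ
  · refine ⟨?_, σ.injective.injOn, ?_⟩
    · rintro h ⟨x, hx⟩
      refine ⟨φ x, ?_⟩
      rw [hφ, hσ, hφ, ← hx]
      group
    · rintro h' ⟨x', hx'⟩
      refine ⟨σ.symm h', ⟨φ.symm x', ?_⟩, σ.apply_symm_apply h'⟩
      have h1 : ((φ (φ.symm x') : K') : G) = n * (φ.symm x' : K) * n⁻¹ := hφ _
      have h2 : ((σ (σ.symm h') : H) : G) = n * (σ.symm h' : H) * n⁻¹ := hσ _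
      rw [φ.apply_symm_apply] at h1
      rw [σ.apply_symm_apply] at h2
      rw [hφ, h1, h2] at hx'
      have h3 : n * (((φ.symm x' : K) : G) * ((σ.symm h' : H) : G) * ((φ.symm x' : K) : G)⁻¹) * n⁻¹
          = n * (k : G) * n⁻¹ := by
        rw [← hx']
        group
      exact mul_left_cancel (mul_right_cancel h3)
  · intro h _
    simp only [map_one]

/-- **Block induction inside `K` commutes with conjugation.** -/
theorem isInducedBlockIn_conj {H K K' : Subgroup G} (n : G) (σ : H ≃* H)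
    (hσ : ∀ h : H, ((σ h : H) : G) = n * h * n⁻¹) (φ : K ≃* K')
    (hφ : ∀ k : K, ((φ k : K') : G) = n * k * n⁻¹) (θ₀ : IrrCharacter H)
    (ψ' : IrrCharacter K')
    (hf : IsInducedBlockIn M K H (blockOf M (θ₀ : H → ℂ)) (blockOf M (irrComp φ ψ' : K → ℂ))) :
    IsInducedBlockIn M K' H (blockOf M (irrComp σ.symm θ₀ : H → ℂ))
      (blockOf M (ψ' : K' → ℂ)) := by
  refine ⟨Cfsg.Agent.Lib.Helper82.isPBlock_blockOf _,
    Cfsg.Agent.Lib.Helper82.isPBlock_blockOf _, ?_⟩
  intro ξ₁ hξ₁ χ' hχ' k'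
  have hξ : irrComp σ ξ₁ ∈ blockOf M (θ₀ : H → ℂ) := by
    have := (mem_blockOf_irrComp_iff M σ.symm θ₀ ξ₁).1 hξ₁
    rwa [MulEquiv.symm_symm] at this
  have hχ : irrComp φ χ' ∈ blockOf M (irrComp φ ψ' : K → ℂ) := by
    rw [mem_blockOf_irrComp_iff, irrComp_symm_irrComp]
    exact hχ'
  have key := hf.2.2 (irrComp σ ξ₁) hξ (irrComp φ χ') hχ (φ.symm k')
  have e1 : inducedCentralCharIn K H (irrComp σ ξ₁ : H → ℂ) ((φ.symm k' : K) : G) =
      inducedCentralCharIn K' H (ξ₁ : H → ℂ) (k' : G) := by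
    have := iCCIn_conj n σ hσ φ hφ (ξ₁ : H → ℂ) (φ.symm k')
    rw [φ.apply_symm_apply] at this
    exact this
  have e2 : centralChar (irrComp φ χ' : K → ℂ) (φ.symm k') = centralChar (χ' : K' → ℂ) k' := by
    have := Cfsg.Agent.Lib.Helper81.centralChar_comp φ (χ' : K' → ℂ) (φ.symm k')
    rw [φ.apply_symm_apply] at this
    exact this
  rw [e1, e2] at key
  exact key

/-- the extended first main theorem (ii), for a subgroup `A` equal to `P C(P)` -/
theorem efmt_two_gen {X : Type u} [Group X] [Finite X] (hM : IsPModular p M)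
    {F : Set (IrrCharacter X)} (hF : IsPBlock M F) {P : Subgroup X}
    (hP : IsDefectGroup p M F P) (A : Subgroup X)
    (hA : A = P ⊔ Subgroup.centralizer (P : Set X)) (β β' : Set (IrrCharacter A))
    (h1 : IsInducedBlock M A β F) (h2 : IsInducedBlock M A β' F) :
    ∃ m ∈ Subgroup.normalizer (P : Set X), ∀ θ ∈ β, ∃ θ' ∈ β', ∀ x : A,
      ∀ hx : m * (x : X) * m⁻¹ ∈ A, (θ' : A → ℂ) x = (θ : A → ℂ) ⟨m * (x : X) * m⁻¹, hx⟩ := by
  subst hA
  exact (Cfsg.Agent.S0973.result p M hM F hF P hP).2 β β' h1 h2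

/-- an element normalizing `D` normalizes `H = D C_G(D)` -/
theorem conj_mem_root {D H : Subgroup G} (hH : H = D ⊔ Subgroup.centralizer (D : Set G))
    {t : G} (ht : t ∈ Subgroup.normalizer (D : Set G)) {h : G} (hh : h ∈ H) :
    t * h * t⁻¹ ∈ H := by
  subst hH
  have hle : D ⊔ Subgroup.centralizer (D : Set G) ≤
      (D ⊔ Subgroup.centralizer (D : Set G)).comap (MulAut.conj t).toMonoidHom := by
    apply sup_le
    · intro d hd
      rw [Subgroup.mem_comap]
      apply Subgroup.mem_sup_left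
      exact (Subgroup.mem_normalizer_iff.1 ht d).1 hd
    · intro c hc
      rw [Subgroup.mem_comap]
      apply Subgroup.mem_sup_right
      show t * c * t⁻¹ ∈ Subgroup.centralizer (D : Set G)
      rw [Subgroup.mem_centralizer_iff]
      intro d hd
      have hd' : t⁻¹ * d * t ∈ D := by
        have := (Subgroup.mem_normalizer_iff.1 (Subgroup.inv_mem _ ht) d).1 hd
        simpa using this
      have hc' := Subgroup.mem_centralizer_iff.1 hc _ hd'
      calc d * (t * c * t⁻¹) = t * ((t⁻¹ * d * t) * c) * t⁻¹ := by group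
        _ = t * (c * (t⁻¹ * d * t)) * t⁻¹ := by rw [hc']
        _ = t * c * t⁻¹ * d := by group
  exact hle hh

/-- centralizer of `D` inside `K ≥ D` -/
theorem centralizer_subgroupOf_eq {D K : Subgroup G} (hDK : D ≤ K) :
    (Subgroup.centralizer (D : Set G)).subgroupOf K =
      Subgroup.centralizer ((D.subgroupOf K : Subgroup K) : Set K) := by
  ext k
  rw [Subgroup.mem_subgroupOf, Subgroup.mem_centralizer_iff, Subgroup.mem_centralizer_iff]
  constructor
  · intro h d hd
    exact Subtype.ext (h (d : G) hd)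
  · intro h d hd
    exact congrArg Subtype.val (h ⟨d, hDK hd⟩ hd)

/-- **K82-D2, normalizer case.** -/
theorem exists_mem_inertial_of_normalizer (hM : IsPModular p M) {B : Set (IrrCharacter G)}
    {D : Subgroup G} (hBD : IsDefectGroup p M B D) {H : Subgroup G}
    (hH : H = D ⊔ Subgroup.centralizer (D : Set G)) {b : Set (IrrCharacter H)}
    (hind : IsInducedBlock M H b B) (T : Subgroup G)
    (hT : ∀ g : G, g ∈ T ↔ (g ∈ Subgroup.normalizer (D : Set G) ∧ ∀ θ ∈ b,
      ∀ θ' : IrrCharacter H, (∀ h h' : H, (h' : G) = g * h * g⁻¹ →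
        (θ' : H → ℂ) h' = (θ : H → ℂ) h) → θ' ∈ b))
    (z z' : G) (hzD : z ∈ D) (hzc : ∀ y ∈ D, y * z = z * y)
    (hzD' : z' ∈ D) (hzc' : ∀ y ∈ D, y * z' = z' * y) (n : G)
    (hn : n ∈ Subgroup.normalizer (D : Set G)) (hnz : n * z * n⁻¹ = z')
    (K K' : Subgroup G) (hKdef : K = Subgroup.centralizer ({z} : Set G))
    (hK'def : K' = Subgroup.centralizer ({z'} : Set G))
    (f : Set (IrrCharacter K)) (f' : Set (IrrCharacter K'))
    (hf : IsInducedBlockIn M K H b f) (hf' : IsInducedBlockIn M K' H b f')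
    (ψ : IrrCharacter K) (hψ : ψ ∈ f) (ψ' : IrrCharacter K') (hψ' : ψ' ∈ f')
    (hconj : ∀ (c : K) (c' : K'), (c' : G) = n * (c : G) * n⁻¹ →
      (ψ' : K' → ℂ) c' = (ψ : K → ℂ) c) :
    ∃ t ∈ T, t * z * t⁻¹ = z' := by
  classical
  have hMp : M.IsPrime := hM.2.1.isPrime
  obtain ⟨hDH, hHN, hCH, hHK⟩ := root_inclusions hH z hzD hzc
  obtain ⟨-, -, -, hHK'⟩ := root_inclusions hH z' hzD' hzc'
  rw [← hKdef] at hHK
  rw [← hK'def] at hHK'
  have hninv : n⁻¹ * z' * n = z := by rw [← hnz]; group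
  -- the conjugation isomorphisms
  have hK1 : ∀ x ∈ K, n * x * n⁻¹ ∈ K' := by
    intro x hx
    rw [hK'def, Subgroup.mem_centralizer_iff]
    intro w hw
    rw [Set.mem_singleton_iff.1 hw, ← hnz]
    have := Subgroup.mem_centralizer_iff.1 (hKdef ▸ hx) z (Set.mem_singleton z)
    calc n * z * n⁻¹ * (n * x * n⁻¹) = n * (z * x) * n⁻¹ := by group
      _ = n * (x * z) * n⁻¹ := by rw [this]
      _ = n * x * n⁻¹ * (n * z * n⁻¹) := by group
  have hK2 : ∀ y ∈ K', n⁻¹ * y * n ∈ K := by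
    intro y hy
    rw [hKdef, Subgroup.mem_centralizer_iff]
    intro w hw
    rw [Set.mem_singleton_iff.1 hw, ← hninv]
    have := Subgroup.mem_centralizer_iff.1 (hK'def ▸ hy) z' (Set.mem_singleton z')
    calc n⁻¹ * z' * n * (n⁻¹ * y * n) = n⁻¹ * (z' * y) * n := by group
      _ = n⁻¹ * (y * z') * n := by rw [this]
      _ = n⁻¹ * y * n * (n⁻¹ * z' * n) := by group
  let φ : K ≃* K' := conjEquiv n K K' hK1 hK2
  have hH1 : ∀ x ∈ H, n * x * n⁻¹ ∈ H := fun x hx => conj_mem_root hH hn hx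
  have hH2 : ∀ y ∈ H, n⁻¹ * y * n ∈ H := by
    intro y hy
    have := conj_mem_root hH (Subgroup.inv_mem _ hn) hy
    simpa using this
  let σ : H ≃* H := conjEquiv n H H hH1 hH2
  obtain ⟨θ₀, hbθ⟩ := hind.1
  subst hbθ
  have hfψ : f = blockOf M (ψ : K → ℂ) :=
    Cfsg.Agent.Lib.Helper82.IsPBlock.eq_blockOf hMp hf.2.1 hψ
  have hfψ' : f' = blockOf M (ψ' : K' → ℂ) :=
    Cfsg.Agent.Lib.Helper82.IsPBlock.eq_blockOf hMp hf'.2.1 hψ'
  have hψφ : ψ = irrComp φ ψ' := by
    apply Subtype.ext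
    funext c
    rw [irrComp_apply]
    exact (hconj c (φ c) rfl).symm
  -- `b^n` induces `f'`
  have hbn : IsInducedBlockIn M K' H (blockOf M (irrComp σ.symm θ₀ : H → ℂ)) f' := by
    rw [hfψ']
    apply isInducedBlockIn_conj n σ (fun h => rfl) φ (fun k => rfl) θ₀ ψ'
    rw [← hψφ, ← hfψ]
    exact hf
  -- the extended first main theorem inside `K'`
  letI : Fintype H := Fintype.ofFinite H
  letI : Fintype K' := Fintype.ofFinite K'
  letI : Fintype (H.subgroupOf K') := Fintype.ofFinite _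
  have hfD' : IsDefectGroup p M f' (D.subgroupOf K') :=
    (section_of_induced hHK' hM hBD hDH hHN hCH hind hf').2
  have h1 := (inForm_iff hHK' θ₀ f').1 hf'
  have h2 := (inForm_iff hHK' (irrComp σ.symm θ₀) f').1 hbn
  have hA : H.subgroupOf K' = D.subgroupOf K' ⊔
      Subgroup.centralizer ((D.subgroupOf K' : Subgroup K') : Set K') := by
    rw [← centralizer_subgroupOf_eq (hDH.trans hHK'),
      ← Subgroup.subgroupOf_sup (hDH.trans hHK') (hCH.trans hHK'), ← hH]
  obtain ⟨m, hm, hmθ⟩ := efmt_two_gen hM hf'.2.1 hfD' (H.subgroupOf K') hA _ _ h1 h2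
  set e' := Subgroup.subgroupOfEquivOfLe hHK' with he'
  obtain ⟨θ', hθ', hval⟩ := hmθ (irrComp e' θ₀) (Cfsg.Agent.Lib.Helper82.mem_blockOf_self hMp _)
  have hξ₁ : irrComp e'.symm θ' ∈ blockOf M (irrComp σ.symm θ₀ : H → ℂ) :=
    (mem_blockOf_irrComp_iff M e' (irrComp σ.symm θ₀) θ').1 hθ'
  have hξ : irrComp σ (irrComp e'.symm θ') ∈ blockOf M (θ₀ : H → ℂ) := by
    have := (mem_blockOf_irrComp_iff M σ.symm θ₀ (irrComp e'.symm θ')).1 hξ₁
    rwa [MulEquiv.symm_symm] at this
  have hmD : (m : G) ∈ Subgroup.normalizer (D : Set G) := by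
    apply Subgroup.mem_normalizer_fintype
    intro d hd
    have hdK : d ∈ K' := hHK' (hDH hd)
    have := (Subgroup.mem_normalizer_iff.1 hm ⟨d, hdK⟩).1 hd
    exact this
  have ht : (m : G) * n ∈ Subgroup.normalizer (D : Set G) := Subgroup.mul_mem _ hmD hn
  have hτ1 : ∀ x ∈ H, ((m : G) * n) * x * ((m : G) * n)⁻¹ ∈ H :=
    fun x hx => conj_mem_root hH ht hx
  have hτ2 : ∀ y ∈ H, ((m : G) * n)⁻¹ * y * ((m : G) * n) ∈ H := by
    intro y hy
    have := conj_mem_root hH (Subgroup.inv_mem _ ht) hy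
    simpa using this
  let τ : H ≃* H := conjEquiv ((m : G) * n) H H hτ1 hτ2
  have hτθ : irrComp τ θ₀ = irrComp σ (irrComp e'.symm θ') := by
    apply Subtype.ext
    funext h
    rw [irrComp_apply, irrComp_apply, irrComp_apply]
    have hx : m * ((e'.symm (σ h) : H.subgroupOf K') : K') * m⁻¹ ∈ H.subgroupOf K' := by
      rw [Subgroup.mem_subgroupOf]
      exact conj_mem_root hH hmD (σ h).2
    rw [hval (e'.symm (σ h)) hx, irrComp_apply]
    apply congrArg
    apply Subtype.ext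
    show ((m : G) * n) * (h : G) * ((m : G) * n)⁻¹ = (m : G) * (n * (h : G) * n⁻¹) * (m : G)⁻¹
    group
  refine ⟨(m : G) * n, ?_, ?_⟩
  · have hinvT : ((m : G) * n)⁻¹ ∈ T := by
      rw [hT]
      refine ⟨Subgroup.inv_mem _ ht, ?_⟩
      intro θ hθ θ₂ hθ₂
      have hθ₂eq : θ₂ = irrComp τ θ := by
        apply Subtype.ext
        funext y
        rw [irrComp_apply]
        apply hθ₂ (τ y) y
        show (y : G) = ((m : G) * n)⁻¹ * (((m : G) * n) * (y : G) * ((m : G) * n)⁻¹) *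
          (((m : G) * n)⁻¹)⁻¹
        group
      rw [hθ₂eq]
      have h3 : irrComp τ θ ∈ blockOf M (irrComp τ θ₀ : H → ℂ) := by
        rw [mem_blockOf_irrComp_iff, irrComp_symm_irrComp]
        exact hθ
      rw [hτθ, Cfsg.Agent.Lib.Helper82.blockOf_eq_of_mem hMp hξ] at h3
      exact h3
    have := T.inv_mem hinvT
    rwa [inv_inv] at this
  · have hmz : (m : G) * z' * (m : G)⁻¹ = z' := by
      have hmK : (m : G) ∈ Subgroup.centralizer ({z'} : Set G) := hK'def ▸ m.2
      have := Subgroup.mem_centralizer_iff.1 hmK z' (Set.mem_singleton z')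
      rw [← this]
      group
    calc (m : G) * n * z * ((m : G) * n)⁻¹ = (m : G) * (n * z * n⁻¹) * (m : G)⁻¹ := by group
      _ = z' := by rw [hnz, hmz]

/-- **K82-D2 (fusion).** If `g` conjugates the subsection `(z, b^{C_G(z)})` to `(z', b^{C_G(z')})`
(`z, z' ∈ Z(D)`; it is enough that ONE member of the first block is carried to a member of the
second), then `z` and `z'` are conjugate under the inertial group `T` of `b` in `N_G(D)`. -/
theorem exists_mem_inertial_conj (hM : IsPModular p M) {B : Set (IrrCharacter G)}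
    (hB : IsPBlock M B) {D : Subgroup G} (hBD : IsDefectGroup p M B D) {H : Subgroup G}
    (hH : H = D ⊔ Subgroup.centralizer (D : Set G)) {b : Set (IrrCharacter H)}
    (hind : IsInducedBlock M H b B) (T : Subgroup G)
    (hT : ∀ g : G, g ∈ T ↔ (g ∈ Subgroup.normalizer (D : Set G) ∧ ∀ θ ∈ b,
      ∀ θ' : IrrCharacter H, (∀ h h' : H, (h' : G) = g * h * g⁻¹ →
        (θ' : H → ℂ) h' = (θ : H → ℂ) h) → θ' ∈ b))
    (z z' : G) (hzD : z ∈ D) (hzc : ∀ y ∈ D, y * z = z * y)
    (hzD' : z' ∈ D) (hzc' : ∀ y ∈ D, y * z' = z' * y) (g : G) (hg : g * z * g⁻¹ = z')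
    (f : Set (IrrCharacter (Subgroup.centralizer ({z} : Set G))))
    (f' : Set (IrrCharacter (Subgroup.centralizer ({z'} : Set G))))
    (hf : IsInducedBlockIn M (Subgroup.centralizer ({z} : Set G)) H b f)
    (hf' : IsInducedBlockIn M (Subgroup.centralizer ({z'} : Set G)) H b f')
    (ψ : IrrCharacter (Subgroup.centralizer ({z} : Set G))) (hψ : ψ ∈ f)
    (ψ' : IrrCharacter (Subgroup.centralizer ({z'} : Set G))) (hψ' : ψ' ∈ f')
    (hconj : ∀ (c : Subgroup.centralizer ({z} : Set G))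
      (c' : Subgroup.centralizer ({z'} : Set G)), (c' : G) = g * (c : G) * g⁻¹ →
      (ψ' : Subgroup.centralizer ({z'} : Set G) → ℂ) c' =
        (ψ : Subgroup.centralizer ({z} : Set G) → ℂ) c) :
    ∃ t ∈ T, t * z * t⁻¹ = z' := by
  classical
  have hMp : M.IsPrime := hM.2.1.isPrime
  obtain ⟨hDH, hHN, hCH, hHK⟩ := root_inclusions hH z hzD hzc
  obtain ⟨-, -, -, hHK'⟩ := root_inclusions hH z' hzD' hzc'
  have hginv : g⁻¹ * z' * g = z := by rw [← hg]; group
  have hK1 : ∀ x ∈ Subgroup.centralizer ({z} : Set G),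
      g * x * g⁻¹ ∈ Subgroup.centralizer ({z'} : Set G) := by
    intro x hx
    rw [Subgroup.mem_centralizer_iff]
    intro w hw
    rw [Set.mem_singleton_iff.1 hw, ← hg]
    have := Subgroup.mem_centralizer_iff.1 hx z (Set.mem_singleton z)
    calc g * z * g⁻¹ * (g * x * g⁻¹) = g * (z * x) * g⁻¹ := by group
      _ = g * (x * z) * g⁻¹ := by rw [this]
      _ = g * x * g⁻¹ * (g * z * g⁻¹) := by group
  have hK2 : ∀ y ∈ Subgroup.centralizer ({z'} : Set G),
      g⁻¹ * y * g ∈ Subgroup.centralizer ({z} : Set G) := by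
    intro y hy
    rw [Subgroup.mem_centralizer_iff]
    intro w hw
    rw [Set.mem_singleton_iff.1 hw, ← hginv]
    have := Subgroup.mem_centralizer_iff.1 hy z' (Set.mem_singleton z')
    calc g⁻¹ * z' * g * (g⁻¹ * y * g) = g⁻¹ * (z' * y) * g := by group
      _ = g⁻¹ * (y * z') * g := by rw [this]
      _ = g⁻¹ * y * g * (g⁻¹ * z' * g) := by group
  let φ : Subgroup.centralizer ({z} : Set G) ≃* Subgroup.centralizer ({z'} : Set G) :=
    conjEquiv g _ _ hK1 hK2
  have hfψ : f = blockOf M (ψ : Subgroup.centralizer ({z} : Set G) → ℂ) :=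
    Cfsg.Agent.Lib.Helper82.IsPBlock.eq_blockOf hMp hf.2.1 hψ
  have hfψ' : f' = blockOf M (ψ' : Subgroup.centralizer ({z'} : Set G) → ℂ) :=
    Cfsg.Agent.Lib.Helper82.IsPBlock.eq_blockOf hMp hf'.2.1 hψ'
  have hψφ : ψ = irrComp φ ψ' := by
    apply Subtype.ext
    funext c
    rw [irrComp_apply]
    exact (hconj c (φ c) rfl).symm
  have hfD := (section_of_induced hHK hM hBD hDH hHN hCH hind hf).2
  have hfD' := (section_of_induced hHK' hM hBD hDH hHN hCH hind hf').2
  rw [hfψ] at hfD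
  have hX₁ := Cfsg.Agent.Lib.Helper21.isDefectGroup_irrComp φ.symm ψ hfD
  have hψ'eq : irrComp φ.symm ψ = ψ' := by rw [hψφ, irrComp_symm_irrComp]
  rw [hψ'eq, ← hfψ'] at hX₁
  obtain ⟨t, ht⟩ := Cfsg.Agent.Lib.Helper22.IsDefectGroup.exists_conj hM hf'.2.1 hfD' hX₁
  have htz : (t : G) * z' = z' * (t : G) :=
    (Subgroup.mem_centralizer_iff.1 t.2 z' (Set.mem_singleton z')).symm
  have hn : (t : G)⁻¹ * g ∈ Subgroup.normalizer (D : Set G) := by
    apply Subgroup.mem_normalizer_fintype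
    intro d hd
    have hdK : d ∈ Subgroup.centralizer ({z} : Set G) := hHK (hDH hd)
    have hd1 : φ ⟨d, hdK⟩ ∈ ((D.subgroupOf (Subgroup.centralizer ({z} : Set G))).comap
        φ.symm.toMonoidHom) := by
      rw [Subgroup.mem_comap]
      show φ.symm (φ ⟨d, hdK⟩) ∈ D.subgroupOf (Subgroup.centralizer ({z} : Set G))
      rw [φ.symm_apply_apply, Subgroup.mem_subgroupOf]
      exact hd
    rw [ht] at hd1
    obtain ⟨d₂, hd₂, hd₂eq⟩ := hd1
    have hd₂' : (d₂ : G) ∈ D := Subgroup.mem_subgroupOf.1 hd₂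
    have hcoe : (t : G) * (d₂ : G) * (t : G)⁻¹ = g * d * g⁻¹ := congrArg Subtype.val hd₂eq
    have : (t : G)⁻¹ * g * d * ((t : G)⁻¹ * g)⁻¹ = (d₂ : G) := by
      calc (t : G)⁻¹ * g * d * ((t : G)⁻¹ * g)⁻¹ = (t : G)⁻¹ * (g * d * g⁻¹) * (t : G) := by group
        _ = (t : G)⁻¹ * ((t : G) * (d₂ : G) * (t : G)⁻¹) * (t : G) := by rw [hcoe]
        _ = (d₂ : G) := by group
    show (t : G)⁻¹ * g * d * ((t : G)⁻¹ * g)⁻¹ ∈ D
    rw [this]
    exact hd₂'
  have hnz : (t : G)⁻¹ * g * z * ((t : G)⁻¹ * g)⁻¹ = z' := by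
    calc (t : G)⁻¹ * g * z * ((t : G)⁻¹ * g)⁻¹ = (t : G)⁻¹ * (g * z * g⁻¹) * (t : G) := by group
      _ = (t : G)⁻¹ * (z' * (t : G)) := by rw [hg, mul_assoc]
      _ = (t : G)⁻¹ * ((t : G) * z') := by rw [htz]
      _ = z' := by group
  have hconj' : ∀ (c : Subgroup.centralizer ({z} : Set G))
      (c' : Subgroup.centralizer ({z'} : Set G)),
      (c' : G) = (t : G)⁻¹ * g * (c : G) * ((t : G)⁻¹ * g)⁻¹ →
      (ψ' : Subgroup.centralizer ({z'} : Set G) → ℂ) c' =
        (ψ : Subgroup.centralizer ({z} : Set G) → ℂ) c := by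
    intro c c' hc
    have h1 : c' = t⁻¹ * φ c * t⁻¹⁻¹ := by
      apply Subtype.ext
      rw [hc]
      show (t : G)⁻¹ * g * (c : G) * ((t : G)⁻¹ * g)⁻¹ =
        (t : G)⁻¹ * (g * (c : G) * g⁻¹) * ((t : G)⁻¹)⁻¹
      group
    rw [h1, Cfsg.Agent.Lib.Helper83.isClassFunction_irr ψ' (φ c) t⁻¹]
    exact hconj c (φ c) rfl
  exact exists_mem_inertial_of_normalizer hM hBD hH hind T hT z z' hzD hzc hzD' hzc'
    ((t : G)⁻¹ * g) hn hnz _ _ rfl rfl f f' hf hf' ψ hψ ψ' hψ' hconj'

end Cfsg.Agent.Lib.Helper85.RootSections
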