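import Cfsg.Agent.Lib.Helper07.OrthRc

/-!
# K-S2717-V4 (keystone 271714, architect helper7): the special similarity in split coordinates
-/

set_option autoImplicit false
set_option linter.unusedSimpArgs false

namespace Cfsg.Agent.Lib.Helper85.S2717K

open Module Matrix Cfsg.Agent.Lib.Helper43 Cfsg.Agent.Lib.Helper07.UG Cfsg.Agent.Lib.Helper08
open Cfsg.Agent.Lib.Helper07.OG

universe u

section mat

variable {F : Type u} [Field F] [Fintype F] (k : ℕ)

/-- the special similarity of the binary-split form: dilation by `ζ` on the hyperbolic part,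
multiplication by `c₁ - c₂ ρ` on the binary part. -/
def specMat (a b ζ c₁ c₂ : F) :
    Matrix ((Fin k ⊕ Fin k) ⊕ Fin 2) ((Fin k ⊕ Fin k) ⊕ Fin 2) F :=
  Matrix.fromBlocks (Matrix.fromBlocks (ζ • (1 : Matrix (Fin k) (Fin k) F)) 0 0 1) 0 0
    !![c₁, -(b * c₂); c₂, c₁ + a * c₂]

/-- K-S2717-V4 (matrix identity). -/
theorem spec_conj (ρ ρ' ξ c₁ c₂ : F) (h : ρ ≠ ρ') (hξ : ξ ≠ 0)
    (hη : (c₁ - c₂ * ρ) * (c₁ - c₂ * ρ') = ξ ^ 2) :
    ∃ A : GL (Fin (k + 1)) F,
      (A : Matrix (Fin (k + 1)) (Fin (k + 1)) F).det = ξ ^ k * ((c₁ - c₂ * ρ) / ξ) ∧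
      Pp k ρ ρ' * specMat k (-(ρ + ρ')) (ρ * ρ') (ξ ^ 2) c₁ c₂ * Pm k ρ ρ' =
        ξ • Matrix.fromBlocks (A : Matrix (Fin (k + 1)) (Fin (k + 1)) F) 0 0
          ((A⁻¹ : GL (Fin (k + 1)) F) : Matrix (Fin (k + 1)) (Fin (k + 1)) F)ᵀ := by
  classical
  have hη0 : c₁ - c₂ * ρ ≠ 0 := by
    intro h0
    rw [h0, zero_mul] at hη
    exact pow_ne_zero 2 hξ hη.symm
  let a : Fin (k + 1) → F := Fin.lastCases ((c₁ - c₂ * ρ) / ξ) (fun _ => ξ)
  let a' : Fin (k + 1) → F := Fin.lastCases (ξ / (c₁ - c₂ * ρ)) (fun _ => ξ⁻¹)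
  have haa' : ∀ i, a i * a' i = 1 := by
    intro i
    induction i using Fin.lastCases with
    | last =>
      simp only [a, a', Fin.lastCases_last]
      field_simp
    | cast i =>
      simp only [a, a', Fin.lastCases_castSucc]
      exact mul_inv_cancel₀ hξ
  have h1 : diagonal a * diagonal a' = (1 : Matrix (Fin (k + 1)) (Fin (k + 1)) F) := by
    rw [diagonal_mul_diagonal, ← diagonal_one]
    congr 1
    funext i
    exact haa' i
  have h1' : diagonal a' * diagonal a = (1 : Matrix (Fin (k + 1)) (Fin (k + 1)) F) := by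
    rw [diagonal_mul_diagonal, ← diagonal_one]
    congr 1
    funext i
    rw [mul_comm]
    exact haa' i
  refine ⟨⟨diagonal a, diagonal a', h1, h1'⟩, ?_, ?_⟩
  · show (diagonal a).det = _
    rw [det_diagonal, Fin.prod_univ_castSucc]
    simp only [a, Fin.lastCases_last, Fin.lastCases_castSucc, Finset.prod_const, Finset.card_univ,
      Fintype.card_fin]
  · show _ = ξ • Matrix.fromBlocks (diagonal a) 0 0 (diagonal a')ᵀ
    have hBM : Bp ρ ρ' * !![c₁, -(ρ * ρ' * c₂); c₂, c₁ + -(ρ + ρ') * c₂] =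
        diagonal ![c₁ - c₂ * ρ, c₁ - c₂ * ρ'] * Bp ρ ρ' := by
      unfold Bp
      ext i j
      fin_cases i <;> fin_cases j <;> simp [Matrix.mul_apply, Fin.sum_univ_two] <;> ring
    have hsub : Pp k ρ ρ' * specMat k (-(ρ + ρ')) (ρ * ρ') (ξ ^ 2) c₁ c₂ * Pm k ρ ρ' =
        (blkM k (Bp ρ ρ') * specMat k (-(ρ + ρ')) (ρ * ρ') (ξ ^ 2) c₁ c₂ *
          blkM k (Bi ρ ρ')).submatrix (eIdx k) (eIdx k) := by
      ext i j
      rfl
    have hX : blkM k (Bp ρ ρ') * specMat k (-(ρ + ρ')) (ρ * ρ') (ξ ^ 2) c₁ c₂ * blkM k (Bi ρ ρ') =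
        diagonal (Sum.elim (Sum.elim (fun _ : Fin k => ξ ^ 2) (fun _ : Fin k => (1 : F)))
          ![c₁ - c₂ * ρ, c₁ - c₂ * ρ']) := by
      unfold blkM specMat
      rw [Matrix.fromBlocks_multiply, Matrix.fromBlocks_multiply]
      simp only [Matrix.one_mul, Matrix.mul_one, Matrix.zero_mul, Matrix.mul_zero, add_zero, zero_add]
      rw [hBM, mul_assoc, Bp_mul_Bi h, mul_one, ← Matrix.fromBlocks_diagonal,
        ← Matrix.fromBlocks_diagonal]
      congr 2
      ext i j
      simp [Matrix.diagonal_apply, Matrix.one_apply]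
    rw [hsub, hX, Matrix.submatrix_diagonal_equiv, Matrix.diagonal_transpose,
      Matrix.fromBlocks_diagonal, ← Matrix.diagonal_smul]
    congr 1
    funext r
    rcases r with i | i
    · induction i using Fin.lastCases with
      | last =>
        simp only [Function.comp_apply, eIdx_inl_last, Sum.elim_inr, Sum.elim_inl, Pi.smul_apply, a,
          Fin.lastCases_last, smul_eq_mul]
        simp
        field_simp
      | cast i =>
        simp only [Function.comp_apply, eIdx_inl_castSucc, Sum.elim_inr, Sum.elim_inl, Pi.smul_apply,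
          a, Fin.lastCases_castSucc, smul_eq_mul]
        ring
    · induction i using Fin.lastCases with
      | last =>
        simp only [Function.comp_apply, eIdx_inr_last, Sum.elim_inr, Sum.elim_inl, Pi.smul_apply, a',
          Fin.lastCases_last, smul_eq_mul]
        simp
        field_simp
        linear_combination hη
      | cast i =>
        simp only [Function.comp_apply, eIdx_inr_castSucc, Sum.elim_inr, Sum.elim_inl, Pi.smul_apply,
          a', Fin.lastCases_castSucc, smul_eq_mul]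
        field_simp

end mat

end Cfsg.Agent.Lib.Helper85.S2717K
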