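import Mathlib
import Cfsg.Agent.Lib.Helper96.SS33Defs

/-!
# S3033 keystone K-S3033-A: lifting prime-power-order elements; `Hyp` passes to subgroups and
quotients.
-/

set_option autoImplicit false

namespace Cfsg.Agent.Lib.Helper85.SS33

open Cfsg
open Cfsg.Agent.Lib.Helper96.SS33 (Hyp)

universe u

/-- K-S3033-A1. -/
theorem exists_lift_prime_pow {G H : Type u} [Group G] [Finite G] [Group H] (f : G →* H)
    (hf : Function.Surjective f) (p : ℕ) (hp : p.Prime) (y : H) (a : ℕ) (hy : orderOf y = p ^ a) :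
    ∃ x : G, f x = y ∧ ∃ a' : ℕ, orderOf x = p ^ a' := by
  obtain ⟨x0, rfl⟩ := hf y
  have hn : 0 < orderOf x0 := orderOf_pos x0
  obtain ⟨e, m, hm, hnm⟩ := Nat.exists_eq_pow_mul_and_not_dvd hn.ne' p hp.ne_one
  have hcop : Nat.Coprime m (orderOf (f x0)) := by
    rw [hy]
    exact Nat.Coprime.pow_right a ((Nat.Prime.coprime_iff_not_dvd hp).2 hm).symm
  obtain ⟨k, hk⟩ := exists_pow_eq_self_of_coprime hcop
  refine ⟨(x0 ^ m) ^ k, ?_, ?_⟩
  · rw [map_pow, map_pow]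
    exact hk
  · have h1 : orderOf (x0 ^ m) ∣ p ^ e := by
      apply orderOf_dvd_of_pow_eq_one
      rw [← pow_mul, mul_comm, ← hnm]
      exact pow_orderOf_eq_one x0
    have h2 : orderOf ((x0 ^ m) ^ k) ∣ p ^ e := dvd_trans (orderOf_pow_dvd k) h1
    obtain ⟨a', -, ha'⟩ := (Nat.dvd_prime_pow hp).1 h2
    exact ⟨a', ha'⟩

/-- K-S3033-A2. -/
theorem hyp_subgroup {G : Type u} [Group G] (h : Hyp G) (H : Subgroup G) : Hyp H := by
  intro p q hp hq hpq x g hx hg hdvd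
  have hx' : ∃ a : ℕ, orderOf (x : G) = p ^ a := by
    obtain ⟨a, ha⟩ := hx
    exact ⟨a, by rw [Subgroup.orderOf_coe]; exact ha⟩
  have hg' : ∃ b : ℕ, orderOf (g : G) = q ^ b := by
    obtain ⟨b, hb⟩ := hg
    exact ⟨b, by rw [Subgroup.orderOf_coe]; exact hb⟩
  apply h p q hp hq hpq (x : G) (g : G) hx' hg'
  have hmap : (Subgroup.zpowers x ⊔ Subgroup.zpowers (g * x * g⁻¹)).map H.subtype =
      Subgroup.zpowers (x : G) ⊔ Subgroup.zpowers ((g : G) * (x : G) * (g : G)⁻¹) := by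
    rw [Subgroup.map_sup, MonoidHom.map_zpowers, MonoidHom.map_zpowers]
    rfl
  rw [← hmap, Subgroup.card_map_of_injective H.subtype_injective]
  exact hdvd

/-- K-S3033-A3. -/
theorem hyp_quotient {G : Type u} [Group G] [Finite G] (h : Hyp G) (N : Subgroup G) [N.Normal] :
    Hyp (G ⧸ N) := by
  intro p q hp hq hpq x g hx hg hdvd
  obtain ⟨a, ha⟩ := hx
  obtain ⟨b, hb⟩ := hg
  obtain ⟨x0, hx0, hx0o⟩ := exists_lift_prime_pow (QuotientGroup.mk' N)
    (QuotientGroup.mk'_surjective N) p hp x a ha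
  obtain ⟨g0, hg0, hg0o⟩ := exists_lift_prime_pow (QuotientGroup.mk' N)
    (QuotientGroup.mk'_surjective N) q hq g b hb
  apply h p q hp hq hpq x0 g0 hx0o hg0o
  have hmap : (Subgroup.zpowers x0 ⊔ Subgroup.zpowers (g0 * x0 * g0⁻¹)).map (QuotientGroup.mk' N) =
      Subgroup.zpowers x ⊔ Subgroup.zpowers (g * x * g⁻¹) := by
    rw [Subgroup.map_sup, MonoidHom.map_zpowers, MonoidHom.map_zpowers, map_mul, map_mul, map_inv,
      hx0, hg0]
  have h1 : Nat.card ↥((Subgroup.zpowers x0 ⊔ Subgroup.zpowers (g0 * x0 * g0⁻¹)).map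
      (QuotientGroup.mk' N)) ∣ Nat.card ↥(Subgroup.zpowers x0 ⊔ Subgroup.zpowers (g0 * x0 * g0⁻¹)) :=
    Subgroup.card_map_dvd _ _
  rw [hmap] at h1
  exact dvd_trans hdvd h1

end Cfsg.Agent.Lib.Helper85.SS33
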