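import Mathlib
import Cfsg.Prelude.Def_Characters
import Cfsg.Prelude.Def_Blocks
import Cfsg.Agent.Lib.Helper85.RealDih
import Cfsg.Agent.Lib.Helper33.RealInd
import Cfsg.Agent.Lib.Helper84.Clifford
import Cfsg.Agent.Lib.Helper84.CliffordInj
import Cfsg.Agent.Lib.Helper84.Gallagher
import Cfsg.Agent.Lib.Helper84.LinearTwist
import Cfsg.Agent.Lib.Helper83.CharBasic
import Cfsg.Agent.Lib.Helper83.Linear
import Cfsg.Agent.Lib.Helper79.FrobSchurCount
import Cfsg.Agent.Lib.Helper04.Orthonormal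
import Cfsg.Agent.Lib.Helper20.LinExt
import Cfsg.Agent.Lib.Helper33.Constituent

/-!
# Strongly real characters of `N ⋊ P`, `N` abelian of odd order inverted by a central involution
(helper85)

`card_real_linear_le`: if `N` is an abelian normal subgroup of odd exponent `q`, of `2`-power index,
and `z` is an involution inverting `N` and central modulo `N`, then for a suitable even `d` the
number of real linear characters of `G` is at most `d` times the number of irreducible characters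
of degree `d` with Frobenius–Schur indicator `+1`.
-/

set_option autoImplicit false
set_option maxHeartbeats 800000

namespace Cfsg.Agent.Lib.Helper85.StrongRealAvg

open Cfsg
open scoped IsMulCommutative

universe u

section Stab

variable {G : Type u} [Group G] (N : Subgroup G) [hN : N.Normal]

/-- The stabilizer of a linear character of a normal subgroup. -/
def stab (lam : N →* ℂˣ) : Subgroup G where
  carrier := {g | ∀ n : N, lam ⟨g * n * g⁻¹, hN.conj_mem n n.2 g⟩ = lam n}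
  one_mem' := by
    intro n
    congr 1
    apply Subtype.ext
    simp
  mul_mem' := by
    intro a b ha hb n
    have h1 := hb n
    have h2 := ha ⟨b * n * b⁻¹, hN.conj_mem n n.2 b⟩
    rw [← h1, ← h2]
    congr 1
    apply Subtype.ext
    simp [mul_assoc]
  inv_mem' := by
    intro a ha n
    have h1 := ha ⟨a⁻¹ * n * a⁻¹⁻¹, hN.conj_mem n n.2 a⁻¹⟩
    rw [← h1]
    congr 1
    apply Subtype.ext
    simp [mul_assoc]

theorem mem_stab (lam : N →* ℂˣ) (g : G) :
    g ∈ stab N lam ↔ ∀ n : N, lam ⟨g * n * g⁻¹, hN.conj_mem n n.2 g⟩ = lam n := Iff.rfl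

end Stab

section Main

variable {G : Type u} [Group G] [Fintype G]

theorem card_real_linear_le (N : Subgroup G) [hN : N.Normal] [hNab : IsMulCommutative N]
    (q : ℕ) (hq : q.Prime) (hq2 : q ≠ 2) (hNq : ∀ a ∈ N, a ^ q = 1) (hN1 : N ≠ ⊥)
    (k : ℕ) (hidx : N.index = 2 ^ k) (hpow : ∀ g : G, g ^ (2 ^ k) ∈ N)
    (z : G) (hz2 : z * z = 1) (hzN : ∀ n ∈ N, z * n * z⁻¹ = n⁻¹)
    (hzc : ∀ g : G, z * g * z⁻¹ * g⁻¹ ∈ N) :
    ∃ d : ℕ, 2 ∣ d ∧
      Nat.card {χ : IrrCharacter G // charDegree (χ : G → ℂ) = 1 ∧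
        Cfsg.Agent.Lib.Helper79.fsInd (χ : G → ℂ) = 1} ≤
      d * Nat.card {χ : IrrCharacter G // charDegree (χ : G → ℂ) = d ∧
        Cfsg.Agent.Lib.Helper79.fsInd (χ : G → ℂ) = 1} := by
  classical
  haveI : Fintype N := Fintype.ofFinite _
  have hqodd : Odd q := hq.odd_of_ne_two hq2
  have hcop2 : Nat.Coprime (2 ^ k) q :=
    Nat.Coprime.pow_left k ((Nat.coprime_primes Nat.prime_two hq).2 (Ne.symm hq2))
  -- B1: a nontrivial linear character of `N`
  obtain ⟨a, haN, ha1⟩ : ∃ a ∈ N, a ≠ 1 := by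
    by_contra h
    push Not at h
    exact hN1 ((Subgroup.eq_bot_iff_forall N).2 h)
  haveI : NeZero ((Monoid.exponent N : ℕ) : ℂ) :=
    ⟨Nat.cast_ne_zero.2 Monoid.exponent_ne_zero_of_finite⟩
  obtain ⟨lam, hlam⟩ := CommGroup.exists_apply_ne_one_of_hasEnoughRootsOfUnity N ℂ
    (a := (⟨a, haN⟩ : N)) (fun h => ha1 (congrArg Subtype.val h))
  have hlamq : ∀ n : N, lam n ^ q = 1 := by
    intro n
    rw [← map_pow]
    have : n ^ q = 1 := Subtype.ext (by rw [Subgroup.coe_pow]; exact hNq n n.2)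
    rw [this, map_one]
  -- B2, B3: the stabilizer
  set T : Subgroup G := stab N lam with hTdef
  haveI : Fintype T := Fintype.ofFinite _
  have hNT : N ≤ T := by
    intro m hm n
    congr 1
    apply Subtype.ext
    show m * (n : G) * m⁻¹ = n
    have := mul_comm (⟨m, hm⟩ : N) n
    have h2 : m * (n : G) = n * m := congrArg Subtype.val this
    rw [h2, mul_inv_cancel_right]
  -- conjugation by z inverts lam
  have hlamz : ∀ n : N, lam ⟨z * n * z⁻¹, hN.conj_mem n n.2 z⟩ = (lam n)⁻¹ := by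
    intro n
    have : (⟨z * n * z⁻¹, hN.conj_mem n n.2 z⟩ : N) = n⁻¹ := Subtype.ext (hzN n n.2)
    rw [this, map_inv]
  -- B4: z ∉ T
  have hzT' : z ∉ T := by
    intro hz
    apply hlam
    have h1 := hz ⟨a, haN⟩
    rw [hlamz] at h1
    -- (lam a)⁻¹ = lam a, so (lam a)^2 = 1
    have h2 : lam ⟨a, haN⟩ ^ 2 = 1 := by
      rw [pow_two]
      nth_rewrite 1 [← h1]
      exact inv_mul_cancel _
    have h3 := hlamq ⟨a, haN⟩
    have h4 : orderOf (lam ⟨a, haN⟩) ∣ Nat.gcd 2 q :=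
      Nat.dvd_gcd (orderOf_dvd_of_pow_eq_one h2) (orderOf_dvd_of_pow_eq_one h3)
    have h5 : Nat.gcd 2 q = 1 := (Nat.coprime_primes Nat.prime_two hq).2 (Ne.symm hq2)
    rw [h5, Nat.dvd_one, orderOf_eq_one_iff] at h4
    exact h4
  -- B5: the index of T
  have hTidx : ∃ j : ℕ, T.index = 2 ^ (j + 1) := by
    have h1 : T.index ∣ 2 ^ k := hidx ▸ Subgroup.index_dvd_of_le hNT
    obtain ⟨j, -, hj⟩ := (Nat.dvd_prime_pow Nat.prime_two).1 h1
    rcases j with _ | j
    · exfalso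
      rw [pow_zero, Subgroup.index_eq_one] at hj
      apply hzT'
      rw [hj]
      exact Subgroup.mem_top z
    · exact ⟨j, hj⟩
  obtain ⟨j, hj⟩ := hTidx
  refine ⟨T.index, by rw [hj, pow_succ]; exact dvd_mul_left 2 _, ?_⟩
  -- B6: the extension
  haveI : Fintype (N.subgroupOf T) := Fintype.ofFinite _
  haveI hNTn : (N.subgroupOf T).Normal := hN.subgroupOf T
  let e : N.subgroupOf T ≃* N := Subgroup.subgroupOfEquivOfLe hNT
  let lam' : N.subgroupOf T →* ℂˣ := lam.comp e.toMonoidHom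
  have hlam'q : lam' ^ q = 1 := by
    ext x
    rw [MonoidHom.pow_apply]
    show ((lam (e x) ^ q : ℂˣ) : ℂ) = ((1 : ℂˣ) : ℂ)
    rw [hlamq]
  have hord : orderOf lam' ∣ q := orderOf_dvd_of_pow_eq_one hlam'q
  have hcop : Nat.Coprime (N.subgroupOf T).index (orderOf lam') := by
    have h1 : (N.subgroupOf T).index ∣ 2 ^ k := by
      have : (N.subgroupOf T).index = N.relIndex T := rfl
      rw [this, ← hidx]
      exact Subgroup.relIndex_dvd_index_of_normal N T
    exact Nat.Coprime.coprime_dvd_left h1 (Nat.Coprime.coprime_dvd_right hord hcop2)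
  have hinv : ∀ (g : T) (x y : N.subgroupOf T), (y : T) = g⁻¹ * x * g → lam' y = lam' x := by
    intro g x y hxy
    have hg : (g : G)⁻¹ ∈ T := T.inv_mem g.2
    have h1 := hg (e x)
    show lam (e y) = lam (e x)
    rw [← h1]
    congr 1
    apply Subtype.ext
    show ((y : T) : G) = (g : G)⁻¹ * ((x : T) : G) * (g : G)⁻¹⁻¹
    rw [hxy, inv_inv]
    rfl
  obtain ⟨κ, hκres, hκord⟩ :=
    Cfsg.Agent.Lib.Helper20.exists_extension_of_coprime (N.subgroupOf T) lam' hinv hcop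
  have hκN : ∀ n : N, κ ⟨n, hNT n.2⟩ = lam n := by
    intro n
    have := hκres ⟨⟨n, hNT n.2⟩, Subgroup.mem_subgroupOf.mpr n.2⟩
    rw [this]
    show lam (e _) = lam n
    congr 1
  have hκq : ∀ t : T, κ t ^ q = 1 := by
    intro t
    have h1 : κ ^ q = 1 := by
      have : orderOf κ ∣ q := hκord ▸ hord
      exact orderOf_dvd_iff_pow_eq_one.1 this
    have := DFunLike.congr_fun h1 t
    rwa [MonoidHom.pow_apply] at this
  -- B7: z normalizes T and inverts κ
  have hzT : ∀ t ∈ T, z * t * z⁻¹ ∈ T := by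
    intro t ht
    have : z * t * z⁻¹ = (z * t * z⁻¹ * t⁻¹) * t := by group
    rw [this]
    exact T.mul_mem (hNT (hzc t)) ht
  have hzκ : ∀ t : T, κ ⟨z * t * z⁻¹, hzT t t.2⟩ = (κ t)⁻¹ := by
    intro t
    set b := κ ⟨z * t * z⁻¹, hzT t t.2⟩ with hb
    have hpq : (κ t * b) ^ q = 1 := by rw [mul_pow, hκq, hb, hκq, one_mul]
    have hp2 : (κ t * b) ^ (2 ^ k) = 1 := by
      rw [mul_pow, hb, ← map_pow, ← map_pow]
      have hmem : (t : G) ^ (2 ^ k) ∈ N := hpow t
      have e1 : t ^ (2 ^ k) = ⟨(t : G) ^ (2 ^ k), hNT hmem⟩ := Subtype.ext (by simp)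
      have e2 : (⟨z * t * z⁻¹, hzT t t.2⟩ : T) ^ (2 ^ k) =
          ⟨z * ((t : G) ^ (2 ^ k)) * z⁻¹, hNT (hN.conj_mem _ hmem z)⟩ := by
        apply Subtype.ext
        rw [Subgroup.coe_pow]
        exact conj_pow
      rw [e1, e2, hκN ⟨_, hmem⟩]
      have := hκN ⟨z * ((t : G) ^ (2 ^ k)) * z⁻¹, hN.conj_mem _ hmem z⟩
      rw [this, hlamz ⟨_, hmem⟩, mul_inv_cancel]
    have h4 : orderOf (κ t * b) ∣ Nat.gcd (2 ^ k) q :=
      Nat.dvd_gcd (orderOf_dvd_of_pow_eq_one hp2) (orderOf_dvd_of_pow_eq_one hpq)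
    rw [hcop2, Nat.dvd_one, orderOf_eq_one_iff] at h4
    exact eq_inv_of_mul_eq_one_right h4
  -- B8: stabilizer hypothesis
  have hstab : ∀ g : G,
      (∀ n : N, κ ⟨g * n * g⁻¹, hNT (hN.conj_mem n n.2 g)⟩ = κ ⟨n, hNT n.2⟩) → g ∈ T := by
    intro g hg n
    have := hg n
    rw [hκN n, hκN ⟨g * n * g⁻¹, hN.conj_mem n n.2 g⟩] at this
    exact this
  -- B9: the indicator
  set ψf : T → ℂ := fun t => ((κ t : ℂˣ) : ℂ) with hψf
  have hν0 : Cfsg.Agent.Lib.Helper79.fsInd (indFun T ψf) = 1 :=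
    Cfsg.Agent.Lib.Helper85.RealDih.fsInd_indFun_eq_one_of_inverting N T hNT κ z hz2 hzT hzκ hstab
  -- B10: characters
  set φ : N → ℂ := fun n => ((lam n : ℂˣ) : ℂ) with hφ
  have hφirr : IsIrrCharacter N φ := Cfsg.Agent.Lib.Helper83.isIrrCharacter_of_hom lam
  have hψirr : IsIrrCharacter T ψf := Cfsg.Agent.Lib.Helper83.isIrrCharacter_of_hom κ
  have hT : ∀ g : G, g ∈ T ↔ ∀ n : N, Cfsg.Agent.Lib.Helper84.conjFun N g φ n = φ n := by
    intro g
    constructor
    · intro h n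
      rw [Cfsg.Agent.Lib.Helper84.conjFun_apply]
      show ((lam _ : ℂˣ) : ℂ) = ((lam n : ℂˣ) : ℂ)
      rw [h n]
    · intro h n
      have := h n
      rw [Cfsg.Agent.Lib.Helper84.conjFun_apply] at this
      exact Units.ext this
  -- real linear characters
  have hkey : ∀ μ : G → ℂ, IsIrrCharacter G μ → charDegree μ = 1 →
      Cfsg.Agent.Lib.Helper79.fsInd μ = 1 →
      IsCharacter G μ ∧ μ 1 = 1 ∧ (∀ g, μ g * μ g = 1) := by
    intro μ hl hd hν
    have hlc : IsCharacter G μ := Cfsg.Agent.Lib.Helper83.isCharacter_of_irr hl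
    have h1 : μ 1 = 1 := by
      rw [← Cfsg.Agent.Lib.Helper83.charDegree_cast hlc, hd]; simp
    refine ⟨hlc, h1, fun g => ?_⟩
    have hreal := (Cfsg.Agent.Lib.Helper79.fsInd_irr_cases ⟨μ, hl⟩).2 (by
      show Cfsg.Agent.Lib.Helper79.fsInd μ ≠ 0
      rw [hν]; exact one_ne_zero) g
    have hc := Cfsg.Agent.Lib.Helper83.char_deg_one_conj_mul hlc h1 g
    have hconj : (starRingEnd ℂ) (μ g) = μ g := Complex.conj_eq_iff_im.2 hreal
    rw [hconj] at hc
    exact hc
  have htrivN : ∀ μ : G → ℂ, IsCharacter G μ → μ 1 = 1 → (∀ g, μ g * μ g = 1) →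
      ∀ n ∈ N, μ n = 1 := by
    intro μ hlc h1 hsq n hn
    -- μ n ^ q = 1 and μ n ^ 2 = 1
    have hmul := Cfsg.Agent.Lib.Helper83.char_deg_one_mul hlc h1
    have hpowq : ∀ m : ℕ, μ (n ^ m) = μ n ^ m := by
      intro m
      induction m with
      | zero => rw [pow_zero, pow_zero, h1]
      | succ m ih => rw [pow_succ, hmul, ih, pow_succ]
    have h3 : μ n ^ q = 1 := by rw [← hpowq, hNq n hn, h1]
    have h2 : μ n ^ 2 = 1 := by rw [pow_two]; exact hsq n
    obtain ⟨r, hr⟩ := hqodd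
    have : μ n ^ q = μ n := by
      rw [hr, pow_succ, pow_mul, h2, one_pow, one_mul]
    rw [this] at h3
    exact h3
  -- twists
  have htw : ∀ μ : G → ℂ, IsCharacter G μ → μ 1 = 1 → (∀ g, μ g * μ g = 1) →
      IsIrrCharacter T (ψf * fun i : T => μ i) ∧
      Cfsg.Agent.Lib.Helper84.resFun N T hNT (ψf * fun i : T => μ i) = φ ∧
      indFun T (ψf * fun i : T => μ i) = indFun T ψf * μ ∧
      IsIrrCharacter G (indFun T ψf * μ) ∧
      Cfsg.Agent.Lib.Helper79.fsInd (indFun T ψf * μ) = 1 ∧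
      charDegree (indFun T ψf * μ) = T.index := by
    intro μ hlc h1 hsq
    have hlI : IsCharacter T (fun i : T => μ i) :=
      Cfsg.Agent.Lib.Helper83.isCharacter_restrict T hlc
    have hirr' : IsIrrCharacter T (ψf * fun i : T => μ i) :=
      Cfsg.Agent.Lib.Helper84.isIrrCharacter_mul_linear hlI h1 hψirr
    have hres : Cfsg.Agent.Lib.Helper84.resFun N T hNT (ψf * fun i : T => μ i) = φ := by
      funext n
      rw [Cfsg.Agent.Lib.Helper84.resFun_apply]
      show ψf ⟨(n : G), hNT n.2⟩ * μ (n : G) = _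
      rw [htrivN μ hlc h1 hsq n n.2, mul_one]
      show ((κ ⟨n, hNT n.2⟩ : ℂˣ) : ℂ) = ((lam n : ℂˣ) : ℂ)
      rw [hκN n]
    have hind : indFun T (ψf * fun i : T => μ i) = indFun T ψf * μ :=
      Cfsg.Agent.Lib.Helper84.indFun_mul_restrict T ψf
        (Cfsg.Agent.Lib.Helper83.char_isClassFunction hlc)
    have hirrG : IsIrrCharacter G (indFun T (ψf * fun i : T => μ i)) := by
      apply Cfsg.Agent.Lib.Helper84.isIrrCharacter_indFun_inertia N T hNT hφirr hT hirr'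
      rw [hres, Cfsg.Agent.Lib.Helper83.irr_inner_self ⟨φ, hφirr⟩]
      exact one_ne_zero
    have hνG : Cfsg.Agent.Lib.Helper79.fsInd (indFun T ψf * μ) = 1 := by
      rw [← hν0]
      unfold Cfsg.Agent.Lib.Helper79.fsInd
      congr 1
      apply Finset.sum_congr rfl
      intro u _
      show indFun T ψf (u * u) * μ (u * u) = indFun T ψf (u * u)
      rw [Cfsg.Agent.Lib.Helper83.char_deg_one_mul hlc h1, hsq, mul_one]
    have hdeg : charDegree (indFun T (ψf * fun i : T => μ i)) = T.index := by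
      have h1' : (ψf * fun i : T => μ i) 1 = 1 := by
        show ψf 1 * μ ((1 : T) : G) = _
        rw [Subgroup.coe_one, h1, mul_one]
        show ((κ 1 : ℂˣ) : ℂ) = 1
        rw [map_one, Units.val_one]
      have h2 : indFun T (ψf * fun i : T => μ i) 1 = ((T.index : ℕ) : ℂ) := by
        rw [Cfsg.Agent.Lib.Helper33.indFun_one, h1', mul_one]
      have h3 : charDegree (indFun T (ψf * fun i : T => μ i)) =
          ⌊(indFun T (ψf * fun i : T => μ i) 1).re⌋₊ := rfl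
      rw [h3, h2, Complex.natCast_re, Nat.floor_natCast]
    rw [hind] at hirrG hdeg
    exact ⟨hirr', hres, hind, hirrG, hνG, hdeg⟩
  -- the map `F`
  let Λ := {χ : Cfsg.IrrCharacter G // Cfsg.charDegree (χ : G → ℂ) = 1 ∧
    Cfsg.Agent.Lib.Helper79.fsInd (χ : G → ℂ) = 1}
  let TT := {χ : Cfsg.IrrCharacter G // Cfsg.charDegree (χ : G → ℂ) = T.index ∧
    Cfsg.Agent.Lib.Helper79.fsInd (χ : G → ℂ) = 1}
  have hΛ : ∀ l : Λ, IsCharacter G (l.1 : G → ℂ) ∧ (l.1 : G → ℂ) 1 = 1 ∧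
      (∀ g, (l.1 : G → ℂ) g * (l.1 : G → ℂ) g = 1) := fun l => hkey _ l.1.2 l.2.1 l.2.2
  let F : Λ → TT := fun l =>
    ⟨⟨indFun T ψf * (l.1 : G → ℂ), (htw _ (hΛ l).1 (hΛ l).2.1 (hΛ l).2.2).2.2.2.1⟩,
      (htw _ (hΛ l).1 (hΛ l).2.1 (hΛ l).2.2).2.2.2.2.2,
      (htw _ (hΛ l).1 (hΛ l).2.1 (hΛ l).2.2).2.2.2.2.1⟩
  -- fibres
  have hfib : ∀ l l' : Λ, F l = F l' → ∀ i ∈ T, (l.1 : G → ℂ) i = (l'.1 : G → ℂ) i := by
    intro l l' hF i hi
    have hF' : indFun T ψf * (l.1 : G → ℂ) = indFun T ψf * (l'.1 : G → ℂ) :=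
      congrArg (fun t : TT => (t.1 : G → ℂ)) hF
    obtain ⟨hl1, hl2, hl3⟩ := hΛ l
    obtain ⟨hm1, hm2, hm3⟩ := hΛ l'
    obtain ⟨a1, a2, a3, -, -, -⟩ := htw _ hl1 hl2 hl3
    obtain ⟨b1, b2, b3, -, -, -⟩ := htw _ hm1 hm2 hm3
    rw [← a3, ← b3] at hF'
    have hc : ∀ ψ' : T → ℂ, Cfsg.Agent.Lib.Helper84.resFun N T hNT ψ' = φ →
        classInner (Cfsg.Agent.Lib.Helper84.resFun N T hNT ψ') φ ≠ 0 := by
      intro ψ' h
      rw [h, Cfsg.Agent.Lib.Helper83.irr_inner_self ⟨φ, hφirr⟩]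
      exact one_ne_zero
    have heq := Cfsg.Agent.Lib.Helper84.indFun_inertia_injective N T hNT hφirr hT a1 b1
      (hc _ a2) (hc _ b2) hF'
    have h1 := congrFun heq ⟨i, hi⟩
    have h2 : ψf ⟨i, hi⟩ * (l.1 : G → ℂ) i = ψf ⟨i, hi⟩ * (l'.1 : G → ℂ) i := h1
    have hne : ψf ⟨i, hi⟩ ≠ 0 := Units.ne_zero _
    exact mul_left_cancel₀ hne h2
  -- counting
  have : Finite (Cfsg.IrrCharacter G) := Cfsg.Agent.Lib.Helper04.irr_finite
  haveI : Fintype Λ := Fintype.ofFinite _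
  haveI : Fintype TT := Fintype.ofFinite _
  have hbound : ∀ l₀ : Λ, (Finset.univ.filter (fun l : Λ => F l = F l₀)).card ≤ T.index := by
    intro l₀
    rw [← Fintype.card_subtype]
    have := Cfsg.Agent.Lib.Helper33.RealInd.card_le_index_of_restrict_eq T
      (ι := {l : Λ // F l = F l₀}) (fun s => (s.1.1 : G → ℂ))
      (fun s t hst => Subtype.ext (Subtype.ext (Subtype.ext hst)))
      (fun s => (hΛ s.1).1) (fun s => (hΛ s.1).2.1)
      (fun s t i hi => by
        rw [hfib s.1 l₀ s.2 i hi, hfib t.1 l₀ t.2 i hi])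
    rwa [Nat.card_eq_fintype_card] at this
  have hmain := Finset.card_le_mul_card_image (f := F) (Finset.univ : Finset Λ) T.index (by
    intro a ha
    obtain ⟨l₀, -, rfl⟩ := Finset.mem_image.1 ha
    exact hbound l₀)
  show Nat.card Λ ≤ T.index * Nat.card TT
  rw [Nat.card_eq_fintype_card, Nat.card_eq_fintype_card]
  calc Fintype.card Λ = (Finset.univ : Finset Λ).card := Finset.card_univ.symm
    _ ≤ T.index * ((Finset.univ : Finset Λ).image F).card := hmain
    _ ≤ T.index * Fintype.card TT := Nat.mul_le_mul_left _ (Finset.card_le_univ _)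

end Main

end Cfsg.Agent.Lib.Helper85.StrongRealAvg
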