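import Mathlib

/-!
# Group-theoretic setup for `N ⋊ P` with `N` the unique minimal normal subgroup (helper85)

* `setup`: if `G = N P`, `N ∩ P = 1`, `N` abelian normal and contained in every nontrivial normal
  subgroup, `P ≠ 1` a `2`-group, then `G / N` is a `2`-group, and some involution `z` inverts `N`
  and is central modulo `N`.
* `avg_arith`: the arithmetic behind the average-degree bound.
-/

set_option autoImplicit false

namespace Cfsg.Agent.Lib.Helper85.StrongRealGrp

section Grp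

variable {G : Type*} [Group G] [Finite G]

theorem setup (N P : Subgroup G) (hN : N.Normal) (hNab : IsMulCommutative N)
    (hP : IsPGroup 2 P) (hP1 : P ≠ ⊥) (hdisj : N ⊓ P = ⊥) (hprod : N ⊔ P = ⊤)
    (hmin : N ≠ ⊥ ∧ ∀ M : Subgroup G, M.Normal → M ≠ ⊥ → N ≤ M) :
    (∃ k : ℕ, N.index = 2 ^ k ∧ ∀ g : G, g ^ (2 ^ k) ∈ N) ∧
    ∃ z : G, z * z = 1 ∧ (∀ n ∈ N, z * n * z⁻¹ = n⁻¹) ∧ (∀ g : G, z * g * z⁻¹ * g⁻¹ ∈ N) := by
  classical
  haveI := hN
  haveI : Fact (Nat.Prime 2) := ⟨Nat.prime_two⟩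
  -- decomposition
  have hdec : ∀ g : G, ∃ n ∈ N, ∃ p ∈ P, n * p = g := by
    intro g
    have h1 : g ∈ ((N ⊔ P : Subgroup G) : Set G) := by rw [hprod]; trivial
    rw [Subgroup.normal_mul] at h1
    obtain ⟨n, hn, p, hp, h⟩ := Set.mem_mul.1 h1
    exact ⟨n, hn, p, hp, h⟩
  -- commutativity in N
  have hcommN : ∀ a ∈ N, ∀ b ∈ N, a * b = b * a := by
    intro a ha b hb
    have := hNab.is_comm.comm (⟨a, ha⟩ : N) ⟨b, hb⟩
    simpa using congrArg Subtype.val this
  refine ⟨?_, ?_⟩
  · -- the quotient is a 2-group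
    have hsurj : Function.Surjective ((QuotientGroup.mk' N).comp P.subtype) := by
      intro x
      obtain ⟨g, rfl⟩ := QuotientGroup.mk'_surjective N x
      obtain ⟨n, hn, p, hp, rfl⟩ := hdec g
      refine ⟨⟨p, hp⟩, ?_⟩
      show (QuotientGroup.mk' N) p = (QuotientGroup.mk' N) (n * p)
      rw [map_mul]
      have : (QuotientGroup.mk' N) n = 1 := (QuotientGroup.eq_one_iff n).2 hn
      rw [this, one_mul]
    have hQ : IsPGroup 2 (G ⧸ N) := IsPGroup.of_surjective hP _ hsurj
    obtain ⟨k, hk⟩ := IsPGroup.iff_card.mp hQ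
    refine ⟨k, ?_, ?_⟩
    · rw [Subgroup.index_eq_card]; exact hk
    · intro g
      have h1 : ((g : G ⧸ N)) ^ (Nat.card (G ⧸ N)) = 1 := pow_card_eq_one'
      rw [hk] at h1
      have h2 : ((g ^ (2 ^ k) : G) : G ⧸ N) = 1 := by
        rw [QuotientGroup.mk_pow]; exact h1
      exact (QuotientGroup.eq_one_iff _).1 h2
  · -- the central involution
    haveI : Nontrivial P := (Subgroup.nontrivial_iff_ne_bot P).2 hP1
    haveI hc : Nontrivial (Subgroup.center P) := hP.center_nontrivial
    have hcP : IsPGroup 2 (Subgroup.center P) := hP.to_subgroup _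
    obtain ⟨m, hm⟩ := IsPGroup.iff_card.mp hcP
    have hm0 : m ≠ 0 := by
      intro h
      rw [h, pow_zero] at hm
      have := Finite.one_lt_card (α := Subgroup.center P)
      omega
    have h2dvd : 2 ∣ Nat.card (Subgroup.center P) := by
      rw [hm]; exact dvd_pow_self 2 hm0
    obtain ⟨zc, hzc⟩ := exists_prime_orderOf_dvd_card' 2 h2dvd
    set z : G := ((zc : P) : G) with hzdef
    have hz2 : z * z = 1 := by
      have h1 : zc ^ 2 = 1 := by rw [← hzc]; exact pow_orderOf_eq_one zc
      have h2 : ((zc ^ 2 : Subgroup.center P) : P) = 1 := by rw [h1]; rfl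
      have h3 : (((zc : P) ^ 2 : P) : G) = 1 := by
        rw [← Subgroup.coe_pow] at *
        rw [h2]; rfl
      rw [Subgroup.coe_pow, pow_two] at h3
      exact h3
    have hzne : z ≠ 1 := by
      intro h
      have h1 : (zc : P) = 1 := Subtype.ext h
      have h2 : zc = 1 := Subtype.ext h1
      rw [h2, orderOf_one] at hzc
      omega
    have hzP : z ∈ P := (zc : P).2
    have hzcomm : ∀ p ∈ P, z * p = p * z := by
      intro p hp
      have h1 := Subgroup.mem_center_iff.1 zc.2 ⟨p, hp⟩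
      have h2 : (((⟨p, hp⟩ : P) * (zc : P) : P) : G) = (((zc : P) * ⟨p, hp⟩ : P) : G) := by
        rw [h1]
      simp only [Subgroup.coe_mul] at h2
      exact h2.symm
    have hzinv : z⁻¹ = z := inv_eq_of_mul_eq_one_left hz2
    -- the fixed points of z in N
    let M : Subgroup G := N ⊓ Subgroup.centralizer {z}
    have hMmem : ∀ x : G, x ∈ M ↔ x ∈ N ∧ z * x = x * z := by
      intro x
      constructor
      · rintro ⟨h1, h2⟩
        exact ⟨h1, Subgroup.mem_centralizer_iff.1 h2 z rfl⟩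
      · rintro ⟨h1, h2⟩
        refine ⟨h1, Subgroup.mem_centralizer_iff.2 ?_⟩
        intro h hh
        rw [Set.mem_singleton_iff.1 hh]
        exact h2
    have hMnormal : M.Normal := by
      refine ⟨fun x hx g => ?_⟩
      obtain ⟨hxN, hxz⟩ := (hMmem x).1 hx
      obtain ⟨n, hn, p, hp, rfl⟩ := hdec g
      have hpx : p * x * p⁻¹ ∈ N := hN.conj_mem x hxN p
      have e1 : n * p * x * (n * p)⁻¹ = p * x * p⁻¹ := by
        have h1 : n * (p * x * p⁻¹) = (p * x * p⁻¹) * n := hcommN n hn _ hpx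
        have : n * p * x * (n * p)⁻¹ = n * (p * x * p⁻¹) * n⁻¹ := by group
        rw [this, h1, mul_inv_cancel_right]
      rw [e1, hMmem]
      refine ⟨hpx, ?_⟩
      have hzp := hzcomm p hp
      have hzp' : z * p⁻¹ = p⁻¹ * z := by
        have := congrArg (fun t => p⁻¹ * t * p⁻¹) hzp
        simp only [mul_assoc, inv_mul_cancel_left, mul_inv_cancel, mul_one] at this
        exact this.symm
      calc z * (p * x * p⁻¹) = (z * p) * x * p⁻¹ := by group
        _ = p * (z * x) * p⁻¹ := by rw [hzp]; group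
        _ = p * x * (z * p⁻¹) := by rw [hxz]; group
        _ = p * x * p⁻¹ * z := by rw [hzp']; group
    have hMbot : M = ⊥ := by
      by_contra hM
      have hNM := hmin.2 M hMnormal hM
      -- z is central in G
      have hzcent : ∀ g : G, g * z = z * g := by
        intro g
        obtain ⟨n, hn, p, hp, rfl⟩ := hdec g
        have h1 := ((hMmem n).1 (hNM hn)).2
        have h2 := hzcomm p hp
        calc n * p * z = n * (p * z) := by group
          _ = n * (z * p) := by rw [h2]
          _ = (n * z) * p := by group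
          _ = (z * n) * p := by rw [h1]
          _ = z * (n * p) := by group
      have hZnormal : (Subgroup.zpowers z).Normal := by
        refine ⟨fun x hx g => ?_⟩
        obtain ⟨i, rfl⟩ := Subgroup.mem_zpowers_iff.1 hx
        have hcz : z ∈ Subgroup.center G := Subgroup.mem_center_iff.2 hzcent
        have hci : z ^ i ∈ Subgroup.center G := Subgroup.zpow_mem _ hcz i
        have := Subgroup.mem_center_iff.1 hci g
        rw [this, mul_inv_cancel_right]
        exact Subgroup.zpow_mem_zpowers z i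
      have hZne : Subgroup.zpowers z ≠ ⊥ := by
        intro h
        apply hzne
        have : z ∈ Subgroup.zpowers z := Subgroup.mem_zpowers z
        rw [h, Subgroup.mem_bot] at this
        exact this
      have hNZ := hmin.2 _ hZnormal hZne
      have hZP : Subgroup.zpowers z ≤ P := (Subgroup.zpowers_le).2 hzP
      have : N ≤ N ⊓ P := le_inf le_rfl (hNZ.trans hZP)
      rw [hdisj] at this
      exact hmin.1 (le_bot_iff.1 this)
    have hzN : ∀ n ∈ N, z * n * z⁻¹ = n⁻¹ := by
      intro n hn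
      have hzn : z * n * z⁻¹ ∈ N := hN.conj_mem n hn z
      have hx : n * (z * n * z⁻¹) ∈ M := by
        rw [hMmem]
        refine ⟨N.mul_mem hn hzn, ?_⟩
        have hw : z * (z * n * z⁻¹) * z⁻¹ = n := by
          have : z * (z * n * z⁻¹) * z⁻¹ = (z * z) * n * (z * z)⁻¹ := by group
          rw [this, hz2]
          group
        have h2 : z * (n * (z * n * z⁻¹)) * z⁻¹ = n * (z * n * z⁻¹) := by
          calc z * (n * (z * n * z⁻¹)) * z⁻¹
              = (z * n * z⁻¹) * (z * (z * n * z⁻¹) * z⁻¹) := by group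
            _ = (z * n * z⁻¹) * n := by rw [hw]
            _ = n * (z * n * z⁻¹) := (hcommN n hn _ hzn).symm
        exact mul_inv_eq_iff_eq_mul.1 h2
      rw [hMbot, Subgroup.mem_bot] at hx
      exact eq_inv_of_mul_eq_one_right hx
    refine ⟨z, hz2, hzN, ?_⟩
    intro g
    obtain ⟨n, hn, p, hp, rfl⟩ := hdec g
    have hzp := hzcomm p hp
    have : z * (n * p) * z⁻¹ * (n * p)⁻¹ = (z * n * z⁻¹) * n⁻¹ := by
      have h1 : z * p * z⁻¹ = p := by rw [hzp, mul_inv_cancel_right]
      calc z * (n * p) * z⁻¹ * (n * p)⁻¹ = (z * n * z⁻¹) * (z * p * z⁻¹) * p⁻¹ * n⁻¹ := by group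
        _ = (z * n * z⁻¹) * n⁻¹ := by rw [h1]; group
    rw [this]
    exact N.mul_mem (hN.conj_mem n hn z) (N.inv_mem hn)

end Grp

section Arith

theorem avg_arith {ι : Type*} [Fintype ι] (deg : ι → ℕ) (fs : ι → Prop)
    (hpos : ∀ i, 0 < deg i) (d : ℕ) (hd : 2 ∣ d)
    (hle : Nat.card {i // deg i = 1 ∧ fs i} ≤ d * Nat.card {i // deg i = d ∧ fs i}) :
    4 * Nat.card {i // (deg i = 1 ∨ 2 ∣ deg i) ∧ fs i} ≤
      3 * ∑ᶠ i : {i // (deg i = 1 ∨ 2 ∣ deg i) ∧ fs i}, deg i.1 := by
  classical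
  set S : Finset ι := Finset.univ.filter (fun i => (deg i = 1 ∨ 2 ∣ deg i) ∧ fs i) with hS
  have hcardS : Nat.card {i // (deg i = 1 ∨ 2 ∣ deg i) ∧ fs i} = S.card := by
    rw [Nat.card_eq_fintype_card, Fintype.card_subtype]
  have hsumS : ∑ᶠ i : {i // (deg i = 1 ∨ 2 ∣ deg i) ∧ fs i}, deg i.1 = ∑ i ∈ S, deg i := by
    rw [finsum_eq_sum_of_fintype]
    exact (Finset.sum_subtype S (by intro x; simp [hS]) deg).symm
  have hA : Nat.card {i // deg i = 1 ∧ fs i} = (S.filter (fun i => deg i = 1)).card := by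
    rw [Nat.card_eq_fintype_card, Fintype.card_subtype, hS, Finset.filter_filter]
    congr 1
    ext i
    simp only [Finset.mem_filter, Finset.mem_univ, true_and]
    constructor
    · rintro ⟨h1, h2⟩; exact ⟨⟨Or.inl h1, h2⟩, h1⟩
    · rintro ⟨⟨-, h2⟩, h1⟩; exact ⟨h1, h2⟩
  have hB : Nat.card {i // deg i = d ∧ fs i} = (S.filter (fun i => deg i = d)).card := by
    rw [Nat.card_eq_fintype_card, Fintype.card_subtype, hS, Finset.filter_filter]
    congr 1
    ext i
    simp only [Finset.mem_filter, Finset.mem_univ, true_and]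
    constructor
    · rintro ⟨h1, h2⟩; exact ⟨⟨Or.inr (h1 ▸ hd), h2⟩, h1⟩
    · rintro ⟨⟨-, h2⟩, h1⟩; exact ⟨h1, h2⟩
  rw [hcardS, hsumS]
  rw [hA, hB] at hle
  set A := (S.filter (fun i => deg i = 1)).card with hAdef
  set B := (S.filter (fun i => deg i = d)).card with hBdef
  -- integer inequality
  have hd1 : d ≠ 1 := by
    intro h; rw [h] at hd; omega
  have hkey : ∑ i ∈ S, ((if deg i = d then (3 * (d : ℤ) - 4) else 0) -
      (if deg i = 1 then (1 : ℤ) else 0)) ≤ ∑ i ∈ S, (3 * (deg i : ℤ) - 4) := by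
    by_cases hd0 : d = 0
    · -- no element has degree d = 0
      apply Finset.sum_le_sum
      intro i hi
      have hne : deg i ≠ d := by rw [hd0]; exact (hpos i).ne'
      rw [if_neg hne]
      have hi' := (Finset.mem_filter.1 hi).2.1
      by_cases h1 : deg i = 1
      · rw [if_pos h1, h1]; norm_num
      · rw [if_neg h1]
        have h2 : 2 ∣ deg i := hi'.resolve_left h1
        have h3 : 2 ≤ deg i := Nat.le_of_dvd (hpos i) h2
        have : (2 : ℤ) ≤ (deg i : ℤ) := by exact_mod_cast h3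
        linarith
    · have hd2 : 2 ≤ d := Nat.le_of_dvd (Nat.pos_of_ne_zero hd0) hd
      apply Finset.sum_le_sum
      intro i hi
      have hi' := (Finset.mem_filter.1 hi).2.1
      by_cases h1 : deg i = 1
      · have hne : deg i ≠ d := by rw [h1]; exact Ne.symm hd1
        rw [if_neg hne, if_pos h1, h1]; norm_num
      · rw [if_neg h1]
        by_cases h2 : deg i = d
        · rw [if_pos h2, h2]; simp
        · rw [if_neg h2]
          have h2' : 2 ∣ deg i := hi'.resolve_left h1
          have h3 : 2 ≤ deg i := Nat.le_of_dvd (hpos i) h2'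
          have : (2 : ℤ) ≤ (deg i : ℤ) := by exact_mod_cast h3
          linarith
  have hlhs : ∑ i ∈ S, ((if deg i = d then (3 * (d : ℤ) - 4) else 0) -
      (if deg i = 1 then (1 : ℤ) else 0)) = (3 * (d : ℤ) - 4) * B - A := by
    rw [Finset.sum_sub_distrib, ← Finset.sum_filter, ← Finset.sum_filter, Finset.sum_const,
      Finset.sum_const, nsmul_eq_mul, nsmul_eq_mul, mul_one, mul_comm]
  have hrhs : ∑ i ∈ S, (3 * (deg i : ℤ) - 4) = 3 * ((∑ i ∈ S, deg i : ℕ) : ℤ) - 4 * S.card := by
    rw [Finset.sum_sub_distrib, ← Finset.mul_sum, Finset.sum_const, nsmul_eq_mul]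
    push_cast
    ring
  rw [hlhs, hrhs] at hkey
  have hleZ : (A : ℤ) ≤ (d : ℤ) * B := by exact_mod_cast hle
  have hfin : (0 : ℤ) ≤ 3 * ((∑ i ∈ S, deg i : ℕ) : ℤ) - 4 * S.card := by
    refine le_trans ?_ hkey
    by_cases hd0 : d = 0
    · rw [hd0] at hleZ ⊢
      have hB0 : B = 0 := by
        rw [hBdef, Finset.card_eq_zero, Finset.filter_eq_empty_iff]
        intro i _ h
        rw [hd0] at h
        exact (hpos i).ne' h
      rw [hB0] at hleZ ⊢
      simp at hleZ ⊢
      omega
    · have hd2 : 2 ≤ d := Nat.le_of_dvd (Nat.pos_of_ne_zero hd0) hd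
      have hd2' : (2 : ℤ) ≤ d := by exact_mod_cast hd2
      have hB0 : (0 : ℤ) ≤ B := by positivity
      nlinarith
  have : (4 * S.card : ℤ) ≤ 3 * ((∑ i ∈ S, deg i : ℕ) : ℤ) := by linarith
  exact_mod_cast this

end Arith

end Cfsg.Agent.Lib.Helper85.StrongRealGrp
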