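/-
Keystone K-TT68-F0 (555506) `exists_second_center_inverted` for S5559.  Architect: helper94.  Leaf by helper85.
Mathlib only.
-/
import Mathlib

set_option autoImplicit false

namespace Cfsg.Agent.Lib.Helper85.TT68

/-- in a 3-group an element equal to its inverse is trivial -/
theorem f0_eq_one_of_eq_inv {P : Type*} [Group P] (hP : IsPGroup 3 P) (x : P) (hx : x = x⁻¹) :
    x = 1 := by
  have h2 : x ^ 2 = 1 := by
    rw [pow_two]
    calc x * x = x * x⁻¹ := by rw [← hx]
      _ = 1 := mul_inv_cancel x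
  obtain ⟨k, hk⟩ := hP x
  have hc : Nat.gcd 2 (3 ^ k) = 1 := Nat.Coprime.pow_right k (by norm_num)
  have h3 : x ^ Nat.gcd 2 (3 ^ k) = 1 := pow_gcd_eq_one.2 ⟨h2, hk⟩
  rw [hc, pow_one] at h3
  exact h3

/-- abstract form of F0 for a 3-group `P` with an involutive endomorphism `σ` -/
theorem f0_abstract {P : Type*} [Group P] [Finite P] [Nontrivial P] (hP : IsPGroup 3 P)
    (σ : P →* P) (hσ : ∀ x, σ (σ x) = x)
    (hgen : Subgroup.closure {x : P | σ x = x⁻¹} = ⊤)
    (hZ : ∀ x, σ x = x⁻¹ → x ∈ Subgroup.center P → x = 1) :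
    (∀ z ∈ Subgroup.center P, σ z = z) ∧
    ∃ y, σ y = y⁻¹ ∧ y ∉ Subgroup.center P ∧
      ∀ g, y⁻¹ * g⁻¹ * y * g ∈ Subgroup.center P := by
  have : Fact (Nat.Prime 3) := ⟨Nat.prime_three⟩
  -- (1)
  have h1 : ∀ z ∈ Subgroup.center P, σ z = z := by
    intro z hz
    have hσz : σ z ∈ Subgroup.center P := by
      rw [Subgroup.mem_center_iff] at hz ⊢
      intro g
      have h := congrArg σ (hz (σ g))
      rw [map_mul, map_mul, hσ] at h
      exact h
    have hw : z⁻¹ * σ z ∈ Subgroup.center P := mul_mem (inv_mem hz) hσz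
    have hwi : σ (z⁻¹ * σ z) = (z⁻¹ * σ z)⁻¹ := by
      rw [map_mul, map_inv, hσ, mul_inv_rev, inv_inv]
    have h := hZ _ hwi hw
    exact (inv_mul_eq_one.1 h).symm
  refine ⟨h1, ?_⟩
  by_contra hcon
  have H : ∀ y, σ y = y⁻¹ → (∀ g, y⁻¹ * g⁻¹ * y * g ∈ Subgroup.center P) →
      y ∈ Subgroup.center P := by
    intro y hy hg
    by_contra hyc
    exact hcon ⟨y, hy, hyc, hg⟩
  have hZ2 : ∀ x, x ∈ Subgroup.upperCentralSeries P 2 ↔
      ∀ g, x * g * x⁻¹ * g⁻¹ ∈ Subgroup.center P := by
    intro x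
    rw [show (2 : ℕ) = 1 + 1 from rfl, Subgroup.mem_upperCentralSeries_succ_iff, Subgroup.upperCentralSeries_one]
    rfl
  -- Claim A
  have hA : ∀ x ∈ Subgroup.upperCentralSeries P 2, σ x = x := by
    intro x hx
    have hσx : σ x ∈ Subgroup.upperCentralSeries P 2 := by
      rw [hZ2] at hx ⊢
      intro g
      have h2 := hx (σ g)
      have h3 := h1 _ h2
      rw [map_mul, map_mul, map_mul, map_inv, map_inv, hσ] at h3
      rw [h3]
      exact h2
    have hw : x⁻¹ * σ x ∈ Subgroup.upperCentralSeries P 2 := mul_mem (inv_mem hx) hσx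
    have hwi : σ (x⁻¹ * σ x) = (x⁻¹ * σ x)⁻¹ := by
      rw [map_mul, map_inv, hσ, mul_inv_rev, inv_inv]
    have hwc : x⁻¹ * σ x ∈ Subgroup.center P := by
      apply H _ hwi
      intro g
      have h := (hZ2 _).1 (inv_mem hw) g⁻¹
      simp only [inv_inv] at h
      exact h
    have h := hZ _ hwi hwc
    exact (inv_mul_eq_one.1 h).symm
  -- Claim B
  have hB : ∀ x ∈ Subgroup.upperCentralSeries P 2, x ∈ Subgroup.center P := by
    intro x hx
    have hle : Subgroup.closure {g : P | σ g = g⁻¹} ≤ Subgroup.centralizer {x} := by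
      rw [Subgroup.closure_le]
      intro g hg
      have hg' : σ g = g⁻¹ := hg
      rw [SetLike.mem_coe, Subgroup.mem_centralizer_iff]
      intro h hh
      rw [Set.mem_singleton_iff] at hh
      subst hh
      have hc := (hZ2 h).1 hx g
      have hσc := h1 _ hc
      rw [map_mul, map_mul, map_mul, map_inv, map_inv, hA h hx, hg', inv_inv] at hσc
      have hcg : g⁻¹ * (h * g * h⁻¹ * g⁻¹) * g = h * g * h⁻¹ * g⁻¹ := by
        rw [Subgroup.mem_center_iff] at hc
        rw [mul_assoc, ← hc g, ← mul_assoc, inv_mul_cancel, one_mul]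
      have hinv : h * g * h⁻¹ * g⁻¹ = (h * g * h⁻¹ * g⁻¹)⁻¹ := by
        calc h * g * h⁻¹ * g⁻¹ = g⁻¹ * (h * g * h⁻¹ * g⁻¹) * g := hcg.symm
          _ = (h * g⁻¹ * h⁻¹ * g)⁻¹ := by group
          _ = (h * g * h⁻¹ * g⁻¹)⁻¹ := by rw [hσc]
      have hc1 := f0_eq_one_of_eq_inv hP _ hinv
      have h5 : h * g * h⁻¹ * g⁻¹ * g * h = g * h := by rw [hc1, one_mul]
      rw [← h5]; group
    rw [hgen] at hle
    rw [Subgroup.mem_center_iff]
    intro g
    have h := hle (Subgroup.mem_top g)
    rw [Subgroup.mem_centralizer_iff] at h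
    exact (h x rfl).symm
  -- the centre is not everything
  have hcne : Subgroup.center P ≠ ⊤ := by
    intro htop
    have hall : ∀ x : P, σ x = x⁻¹ → x = 1 := fun x hx =>
      hZ x hx (by rw [htop]; exact Subgroup.mem_top x)
    have hbot : Subgroup.closure {x : P | σ x = x⁻¹} = ⊥ := by
      rw [Subgroup.closure_eq_bot_iff]
      intro x hx
      exact hall x hx
    rw [hgen] at hbot
    exact top_ne_bot hbot
  have : Nontrivial (P ⧸ Subgroup.center P) := QuotientGroup.nontrivial_iff.2 hcne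
  have hPq : IsPGroup 3 (P ⧸ Subgroup.center P) := hP.to_quotient _
  have := hPq.center_nontrivial
  obtain ⟨⟨q, hq⟩, hq1⟩ := exists_ne (1 : Subgroup.center (P ⧸ Subgroup.center P))
  obtain ⟨x, rfl⟩ := QuotientGroup.mk_surjective q
  have hxZ2 : x ∈ Subgroup.upperCentralSeries P 2 := by
    rw [hZ2]
    intro g
    rw [← QuotientGroup.eq_one_iff]
    rw [Subgroup.mem_center_iff] at hq
    have h := hq (g : P ⧸ Subgroup.center P)
    simp only [QuotientGroup.mk_mul, QuotientGroup.mk_inv]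
    rw [← h]; group
  have hxc := hB x hxZ2
  apply hq1
  apply Subtype.ext
  show (x : P ⧸ Subgroup.center P) = 1
  rw [QuotientGroup.eq_one_iff]; exact hxc

/-- **K-TT68-F0.** -/
theorem exists_second_center_inverted {G : Type*} [Group G] [Finite G] (R : Subgroup G)
    (hR : IsPGroup 3 R) (a : G) (ha : a * a = 1) (haR : ∀ x ∈ R, a * x * a ∈ R)
    (hgen : R = Subgroup.closure {x : G | x ∈ R ∧ a * x * a = x⁻¹})
    (hZ : ∀ x ∈ R, a * x * a = x⁻¹ → (∀ g ∈ R, Commute x g) → x = 1)
    (hne : R ≠ ⊥) :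
    (∀ z ∈ R, (∀ g ∈ R, Commute z g) → a * z * a = z) ∧
    ∃ y ∈ R, a * y * a = y⁻¹ ∧ (∃ g ∈ R, ¬ Commute y g) ∧
      ∀ g ∈ R, ∀ h ∈ R, Commute (y⁻¹ * g⁻¹ * y * g) h := by
  have : Nontrivial R := (Subgroup.nontrivial_iff_ne_bot R).2 hne
  let σ : R →* R :=
    { toFun := fun x => ⟨a * x * a, haR x x.2⟩
      map_one' := by
        apply Subtype.ext
        show a * ((1 : R) : G) * a = ((1 : R) : G)
        rw [Subgroup.coe_one, mul_one, ha]
      map_mul' := by
        intro x y
        apply Subtype.ext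
        show a * ((x * y : R) : G) * a = (a * (x : G) * a) * (a * (y : G) * a)
        rw [Subgroup.coe_mul]
        calc a * ((x : G) * y) * a = a * x * 1 * y * a := by group
          _ = a * x * (a * a) * y * a := by rw [ha]
          _ = (a * (x : G) * a) * (a * (y : G) * a) := by group }
  have hσval : ∀ x : R, ((σ x : R) : G) = a * x * a := fun x => rfl
  have hσ : ∀ x, σ (σ x) = x := by
    intro x
    apply Subtype.ext
    rw [hσval, hσval]
    calc a * (a * (x : G) * a) * a = (a * a) * x * (a * a) := by group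
      _ = x := by rw [ha, one_mul, mul_one]
  have hcenter : ∀ x : R, x ∈ Subgroup.center R ↔ ∀ g ∈ R, Commute (x : G) g := by
    intro x
    rw [Subgroup.mem_center_iff]
    constructor
    · intro h g hg
      have h' := congrArg Subtype.val (h ⟨g, hg⟩)
      exact h'.symm
    · intro h g
      apply Subtype.ext
      exact (h g g.2).eq.symm
  have hgen' : Subgroup.closure {x : R | σ x = x⁻¹} = ⊤ := by
    apply Subgroup.map_injective R.subtype_injective
    rw [MonoidHom.map_closure, ← MonoidHom.range_eq_map, Subgroup.range_subtype]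
    have himg : (R.subtype '' {x : R | σ x = x⁻¹}) = {x : G | x ∈ R ∧ a * x * a = x⁻¹} := by
      ext y
      constructor
      · rintro ⟨x, hx, rfl⟩
        refine ⟨x.2, ?_⟩
        have hx' : σ x = x⁻¹ := hx
        have h := congrArg Subtype.val hx'
        rw [hσval, Subgroup.coe_inv] at h
        exact h
      · rintro ⟨hyR, hy⟩
        refine ⟨⟨y, hyR⟩, ?_, rfl⟩
        show σ ⟨y, hyR⟩ = (⟨y, hyR⟩ : R)⁻¹
        apply Subtype.ext
        rw [hσval, Subgroup.coe_inv]
        exact hy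
    rw [himg]
    exact hgen.symm
  have hZ' : ∀ x : R, σ x = x⁻¹ → x ∈ Subgroup.center R → x = 1 := by
    intro x hx hxc
    apply Subtype.ext
    rw [Subgroup.coe_one]
    apply hZ x x.2
    · have h := congrArg Subtype.val hx
      rw [hσval, Subgroup.coe_inv] at h
      exact h
    · exact (hcenter x).1 hxc
  obtain ⟨h1, y, hy, hyc, hyg⟩ := f0_abstract hR σ hσ hgen' hZ'
  refine ⟨?_, ?_⟩
  · intro z hz hzc
    have h := h1 ⟨z, hz⟩ ((hcenter ⟨z, hz⟩).2 hzc)
    have h' := congrArg Subtype.val h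
    exact h'
  · refine ⟨y, y.2, ?_, ?_, ?_⟩
    · have h := congrArg Subtype.val hy
      rw [hσval, Subgroup.coe_inv] at h
      exact h
    · by_contra hcon
      apply hyc
      rw [hcenter]
      intro g hg
      by_contra hc
      exact hcon ⟨g, hg, hc⟩
    · intro g hg h hh
      have h2 := (hcenter _).1 (hyg ⟨g, hg⟩) h hh
      exact h2

end Cfsg.Agent.Lib.Helper85.TT68
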